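import Cfsg.Agent.Char.Orthogonality

/-!
# A representation is determined by its character
-/

set_option autoImplicit false
set_option linter.style.haveILetI false

namespace CfsgLib.Char

open Module Representation

universe u v w

variable {G : Type u} [Group G]

theorem isIrreducible_of_no_sub {V : Type v} [AddCommGroup V] [Module ℂ V] [Nontrivial V]
    (ρ : Representation ℂ G V) (h : ∀ S : Subrepresentation ρ, S = ⊥ ∨ S = ⊤) :
    ρ.IsIrreducible := by
  haveI : Nontrivial (Subrepresentation ρ) :=
    ⟨⊥, ⊤, fun e => bot_ne_top (α := Submodule ℂ V) (congrArg Subrepresentation.toSubmodule e)⟩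
  exact ⟨h⟩

/-- Every nonzero representation has an irreducible subrepresentation. -/
theorem exists_irreducible_sub {V : Type v} [AddCommGroup V] [Module ℂ V] [FiniteDimensional ℂ V]
    [Nontrivial V] (ρ : Representation ℂ G V) :
    ∃ S : Subrepresentation ρ, S.toRepresentation.IsIrreducible := by
  classical
  have hex : ∃ n, ∃ S : Subrepresentation ρ, S ≠ ⊥ ∧ finrank ℂ S.toSubmodule = n :=
    ⟨_, ⊤, fun e => top_ne_bot (α := Submodule ℂ V) (congrArg Subrepresentation.toSubmodule e), rfl⟩
  obtain ⟨S, hS, hn⟩ := Nat.find_spec hex
  refine ⟨S, ?_⟩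
  haveI : Nontrivial S.toSubmodule :=
    Submodule.nontrivial_iff_ne_bot.2 fun e => hS (Subrepresentation.toSubmodule_injective e)
  refine isIrreducible_of_no_sub _ fun T => ?_
  let T' : Subrepresentation ρ := ⟨T.toSubmodule.map S.toSubmodule.subtype, by
    rintro g _ ⟨x, hx, rfl⟩
    exact ⟨S.toRepresentation g x, T.apply_mem_toSubmodule g hx, rfl⟩⟩
  by_cases hT : T' = ⊥
  · left
    apply Subrepresentation.toSubmodule_injective
    have := congrArg Subrepresentation.toSubmodule hT
    exact Submodule.map_injective_of_injective S.toSubmodule.subtype_injective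
      (this.trans (Submodule.map_bot _).symm)
  · right
    apply Subrepresentation.toSubmodule_injective
    have hmin := Nat.find_min' hex ⟨T', hT, rfl⟩
    have : finrank ℂ T'.toSubmodule = finrank ℂ T.toSubmodule :=
      (Submodule.equivMapOfInjective _ S.toSubmodule.subtype_injective T.toSubmodule).finrank_eq.symm
    have hle := Submodule.finrank_le T.toSubmodule
    exact Submodule.eq_top_of_finrank_eq (by omega)

/-- The equivalence given by a pair of complementary subrepresentations. -/
noncomputable def prodEquivOfCompl {V : Type v} [AddCommGroup V] [Module ℂ V]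
    {ρ : Representation ℂ G V} {S T : Subrepresentation ρ}
    (hc : IsCompl S.toSubmodule T.toSubmodule) :
    (S.toRepresentation.prod T.toRepresentation).Equiv ρ :=
  Representation.Equiv.mk (Submodule.prodEquivOfIsCompl _ _ hc) (fun g => by
    apply LinearMap.ext
    rintro ⟨x, y⟩
    simp [Subrepresentation.toRepresentation])

theorem exists_compl [Finite G] {V : Type v} [AddCommGroup V] [Module ℂ V]
    {ρ : Representation ℂ G V} (S : Subrepresentation ρ) :
    ∃ T : Subrepresentation ρ, IsCompl S.toSubmodule T.toSubmodule := by
  haveI : NeZero (Nat.card G : ℂ) := ⟨by exact_mod_cast Nat.card_pos.ne'⟩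
  obtain ⟨T, hT⟩ := ComplementedLattice.exists_isCompl S
  refine ⟨T, ?_⟩
  rw [isCompl_iff, disjoint_iff, codisjoint_iff]
  exact ⟨congrArg Subrepresentation.toSubmodule (disjoint_iff.1 hT.disjoint),
    congrArg Subrepresentation.toSubmodule (codisjoint_iff.1 hT.codisjoint)⟩

/-- A representation is determined, up to equivalence, by its character. -/
theorem equiv_of_character_eq [Finite G] {V : Type v} [AddCommGroup V] [Module ℂ V]
    [FiniteDimensional ℂ V] {W : Type w} [AddCommGroup W] [Module ℂ W] [FiniteDimensional ℂ W]
    (ρ : Representation ℂ G V) (σ : Representation ℂ G W) (h : ρ.character = σ.character) :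
    Nonempty (ρ.Equiv σ) := by
  induction hk : finrank ℂ V using Nat.strong_induction_on generalizing V W with
  | _ n ih =>
    have hdim : finrank ℂ V = finrank ℂ W := by
      have := congrFun h 1
      rw [ρ.char_one, σ.char_one] at this
      exact_mod_cast this
    rcases subsingleton_or_nontrivial V with hV | hV
    · have : Subsingleton W := Module.finrank_zero_iff.1 (by
        rw [← hdim]; exact Module.finrank_zero_of_subsingleton)
      exact ⟨Representation.Equiv.mk (LinearEquiv.ofSubsingleton V W)
        fun g => LinearMap.ext fun v => Subsingleton.elim _ _⟩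
    haveI := Fintype.ofFinite G
    haveI : Invertible (Nat.card G : ℂ) :=
      invertibleOfNonzero (by exact_mod_cast (Nat.card_pos (α := G)).ne')
    obtain ⟨S, hS⟩ := exists_irreducible_sub ρ
    haveI := hS
    obtain ⟨T, hT⟩ := exists_compl S
    -- a nonzero map from `S` to `σ`
    have h1 : finrank ℂ (IntertwiningMap S.toRepresentation σ) ≠ 0 := by
      intro h0
      have e1 := card_inv_mul_sum_char_mul_char_eq_finrank S.toRepresentation σ
      rw [h0, ← h] at e1
      simp_rw [IsCharacter.apply_inv (isCharacter_character S.toRepresentation)] at e1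
      rw [← classInner_def, ← char_iso (prodEquivOfCompl hT), character_prod,
        classInner_add_left, IsIrrCharacter.classInner_self (isIrrCharacter_character _)] at e1
      obtain ⟨m, hm⟩ := IsCharacter.exists_classInner_eq_natCast
        (isCharacter_character T.toRepresentation) (isIrrCharacter_character S.toRepresentation)
      rw [hm] at e1
      exact (Nat.one_add m ▸ Nat.succ_ne_zero m : 1 + m ≠ 0) (by exact_mod_cast e1)
    haveI : Nontrivial (IntertwiningMap S.toRepresentation σ) :=
      Module.nontrivial_of_finrank_pos (Nat.pos_of_ne_zero h1)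
    obtain ⟨f, hf⟩ := exists_ne (0 : IntertwiningMap S.toRepresentation σ)
    have hinj : Function.Injective f := (IsIrreducible.injective_or_eq_zero f).resolve_right hf
    let S' : Subrepresentation σ := f.range
    let e : S.toRepresentation.Equiv S'.toRepresentation :=
      Representation.Equiv.mk (LinearEquiv.ofInjective f.toLinearMap hinj) fun g => by
        ext x
        exact congrFun (congrArg DFunLike.coe (f.isIntertwining' g)) x
    obtain ⟨T', hT'⟩ := exists_compl S'
    have hchar : T.toRepresentation.character = T'.toRepresentation.character := by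
      have := h
      rw [← char_iso (prodEquivOfCompl hT), ← char_iso (prodEquivOfCompl hT'), character_prod,
        character_prod, char_iso e] at this
      exact add_left_cancel this
    have hlt : finrank ℂ T.toSubmodule < n := by
      have h2 := Submodule.finrank_add_eq_of_isCompl hT
      have h3 : finrank ℂ S.toSubmodule ≠ 0 := by
        intro h0
        have h4 := IsIrrCharacter.apply_one_ne_zero (isIrrCharacter_character S.toRepresentation)
        rw [S.toRepresentation.char_one, h0, Nat.cast_zero] at h4
        exact h4 rfl
      omega
    obtain ⟨e'⟩ := ih _ hlt T.toRepresentation T'.toRepresentation hchar rfl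
    exact ⟨(prodEquivOfCompl hT).symm.trans
      ((Representation.Equiv.mk (e.toLinearEquiv.prodCongr e'.toLinearEquiv) fun g => by
        apply LinearMap.ext
        rintro ⟨x, y⟩
        exact Prod.ext (congrFun (congrArg DFunLike.coe (e.isIntertwining' g)) x)
          (congrFun (congrArg DFunLike.coe (e'.isIntertwining' g)) y)).trans
        (prodEquivOfCompl hT'))⟩

theorem isIrreducible_iff_isIrrCharacter [Finite G] {V : Type v} [AddCommGroup V] [Module ℂ V]
    [FiniteDimensional ℂ V] (ρ : Representation ℂ G V) :
    ρ.IsIrreducible ↔ Cfsg.IsIrrCharacter G ρ.character := by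
  refine ⟨fun _ => isIrrCharacter_character ρ, ?_⟩
  rintro ⟨n, σ, hσ, hc⟩
  obtain ⟨e⟩ := equiv_of_character_eq σ ρ hc
  exact isIrreducible_of_equiv e

theorem isIrreducible_iff_classInner_self [Fintype G] {V : Type v} [AddCommGroup V] [Module ℂ V]
    [FiniteDimensional ℂ V] (ρ : Representation ℂ G V) :
    ρ.IsIrreducible ↔ Cfsg.classInner ρ.character ρ.character = 1 := by
  rw [isIrreducible_iff_isIrrCharacter]
  exact ⟨IsIrrCharacter.classInner_self,
    IsCharacter.isIrrCharacter_of_classInner_self (isCharacter_character ρ)⟩

end CfsgLib.Char
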