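import Cfsg.Agent.Char.Orthogonality
import Mathlib.GroupTheory.FiniteAbelian.Duality
import Mathlib.GroupTheory.Abelianization.Defs
import Mathlib.Analysis.Complex.Polynomial.Basic
import Mathlib.RingTheory.RootsOfUnity.AlgebraicallyClosed
import Mathlib.GroupTheory.Exponent

/-!
# Linear characters
-/

set_option autoImplicit false

namespace CfsgLib.Char

universe u

variable {G : Type u} [Group G]

/-- Linear characters and characters of degree one correspond bijectively. -/
noncomputable def linearCharEquiv [Finite G] :
    (G →* ℂˣ) ≃ {χ : Cfsg.IrrCharacter G // (χ : G → ℂ) 1 = 1} :=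
  Equiv.ofBijective (fun lam => ⟨⟨fun g => (lam g : ℂ), isIrrCharacter_ofHom lam⟩, by simp⟩)
    ⟨fun a b h => MonoidHom.ext fun g => Units.ext (congrFun (congrArg (fun x => (x.1 : G → ℂ)) h) g),
    fun χ => by
      obtain ⟨lam, hlam⟩ := IsCharacter.exists_hom (IsIrrCharacter.isCharacter χ.1.2) χ.2
      exact ⟨lam, Subtype.ext (Subtype.ext hlam.symm)⟩⟩

theorem card_hom_eq_index_commutator [Finite G] :
    Nat.card (G →* ℂˣ) = (commutator G).index := by
  have : Finite (Abelianization G) :=
    Finite.of_surjective (Abelianization.of (G := G)) QuotientGroup.mk_surjective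
  haveI : NeZero (Monoid.exponent (Abelianization G) : ℂ) :=
    ⟨Nat.cast_ne_zero.2 Monoid.exponent_ne_zero_of_finite⟩
  rw [Nat.card_congr Abelianization.lift,
    CommGroup.card_monoidHom_of_hasEnoughRootsOfUnity (Abelianization G) ℂ]
  rfl

/-- There are `[G : G']` characters of degree one. -/
theorem card_linear [Finite G] :
    Nat.card {χ : Cfsg.IrrCharacter G // (χ : G → ℂ) 1 = 1} = (commutator G).index := by
  rw [← Nat.card_congr linearCharEquiv, card_hom_eq_index_commutator]

/-- The linear characters of a finite abelian group separate its elements. -/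
theorem exists_hom_ne_one [Finite G] {g : G} (hg : g ∉ commutator G) :
    ∃ lam : G →* ℂˣ, lam g ≠ 1 := by
  have : Finite (Abelianization G) :=
    Finite.of_surjective (Abelianization.of (G := G)) QuotientGroup.mk_surjective
  haveI : NeZero (Monoid.exponent (Abelianization G) : ℂ) :=
    ⟨Nat.cast_ne_zero.2 Monoid.exponent_ne_zero_of_finite⟩
  obtain ⟨φ, hφ⟩ := CommGroup.exists_apply_ne_one_of_hasEnoughRootsOfUnity (Abelianization G) ℂ
    (a := Abelianization.of g) (fun h => hg (by
      have := (QuotientGroup.eq_one_iff (N := commutator G) g).1 h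
      exact this))
  exact ⟨φ.comp Abelianization.of, hφ⟩

/-- A finite group is abelian iff all its irreducible characters have degree one. -/
theorem abelian_iff_degree_one [Finite G] :
    (∀ a b : G, a * b = b * a) ↔ ∀ χ, Cfsg.IsIrrCharacter G χ → χ 1 = 1 := by
  refine ⟨fun h χ hχ => IsIrrCharacter.apply_one_eq_one hχ h, fun h a b => ?_⟩
  have key : IsConj (a * b * a⁻¹ * b⁻¹) 1 := by
    rw [isConj_iff_irr_eq]
    intro χ hχ
    obtain ⟨lam, rfl⟩ := IsCharacter.exists_hom (IsIrrCharacter.isCharacter hχ) (h χ hχ)
    simp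
  have h1 := isConj_one_left.1 key
  have : a * b = 1 * (b * a) := by
    rw [← h1]; group
  simpa using this

end CfsgLib.Char
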