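import Cfsg.Agent.Char.Central
import Cfsg.Agent.Char.Equivalence
import Cfsg.Agent.Char.Linear
import Mathlib.GroupTheory.Solvable
import Mathlib.GroupTheory.Sylow
import Mathlib.GroupTheory.Nilpotent
import Mathlib.GroupTheory.Subgroup.Simple
import Mathlib.GroupTheory.SpecificGroups.Cyclic

/-!
# Burnside's theorems on prime-power class sizes and on groups of order `p ^ a * q ^ b`
-/

set_option autoImplicit false
set_option linter.style.haveILetI false

namespace CfsgLib.Char

open Module Representation
open scoped ComplexConjugate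

universe u v

variable {G : Type u} [Group G]

/-- The elements that act by scalars in a representation. -/
def scalarSubgroup [Finite G] {V : Type v} [AddCommGroup V] [Module ℂ V]
    (ρ : Representation ℂ G V) : Subgroup G where
  carrier := {x | ∀ A : Module.End ℂ V, Commute (ρ x) A}
  one_mem' A := by rw [map_one]; exact Commute.one_left A
  mul_mem' {a b} ha hb A := by rw [map_mul]; exact (ha A).mul_left (hb A)
  inv_mem' {a} ha A := by
    have h := ha A
    have h1 : ρ a⁻¹ * ρ a = 1 := by rw [← map_mul, inv_mul_cancel, map_one]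
    have h2 : ρ a * ρ a⁻¹ = 1 := by rw [← map_mul, mul_inv_cancel, map_one]
    unfold Commute SemiconjBy
    calc ρ a⁻¹ * A = ρ a⁻¹ * (A * (ρ a * ρ a⁻¹)) := by rw [h2, mul_one]
      _ = ρ a⁻¹ * (ρ a * A * ρ a⁻¹) := by rw [h.eq, mul_assoc]
      _ = A * ρ a⁻¹ := by rw [← mul_assoc, ← mul_assoc, h1, one_mul]

instance scalarSubgroup_normal [Finite G] {V : Type v} [AddCommGroup V] [Module ℂ V]
    (ρ : Representation ℂ G V) : (scalarSubgroup ρ).Normal where
  conj_mem x hx g := by
    intro A
    have : ρ (g * x * g⁻¹) = ρ x := by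
      rw [map_mul, map_mul, ← (hx (ρ g)).eq, mul_assoc, ← map_mul, mul_inv_cancel, map_one,
        mul_one]
    rw [this]; exact hx A

/-- An irreducible character of a non-abelian simple group takes no value of absolute value equal
to its degree, except at the identity, or is principal. -/
theorem eq_one_of_norm_eq_of_simple [Finite G] [IsSimpleGroup G]
    (hna : ¬ ∀ a b : G, a * b = b * a) {V : Type v} [AddCommGroup V] [Module ℂ V]
    [FiniteDimensional ℂ V] (ρ : Representation ℂ G V) [ρ.IsIrreducible] {g : G} (hg : g ≠ 1)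
    (h : ‖ρ.character g‖ = (finrank ℂ V : ℝ)) : ρ.character = fun _ => 1 := by
  obtain ⟨ω, hω⟩ := (norm_character_eq_iff ρ g).1 h
  have hmem : g ∈ scalarSubgroup ρ := fun A => by
    rw [hω]; exact (Commute.one_left A).smul_left ω
  have htop : scalarSubgroup ρ = ⊤ := by
    refine ((scalarSubgroup_normal ρ).eq_bot_or_eq_top).resolve_left fun hb => hg ?_
    rw [hb, Subgroup.mem_bot] at hmem
    exact hmem
  have hker : ∀ a b : G, ρ (a * b) = ρ (b * a) := by
    intro a b
    have : a ∈ scalarSubgroup ρ := htop ▸ Subgroup.mem_top a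
    rw [map_mul, map_mul]; exact (this (ρ b)).eq
  -- so every commutator lies in the kernel, which must be everything
  push Not at hna
  obtain ⟨a, b, hab⟩ := hna
  have hk : ρ.asGroupHom.ker = ⊤ := by
    refine (MonoidHom.normal_ker ρ.asGroupHom).eq_bot_or_eq_top.resolve_left fun hb => hab ?_
    have hinj := (MonoidHom.ker_eq_bot_iff _).1 hb
    exact hinj (Units.ext (by simpa [asGroupHom_apply] using hker a b))
  have hone : ∀ x, ρ x = 1 := fun x => by
    have : x ∈ ρ.asGroupHom.ker := hk ▸ Subgroup.mem_top x
    have h' := congrArg Units.val (MonoidHom.mem_ker.1 this)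
    rwa [asGroupHom_apply] at h'
  haveI := Fintype.ofFinite G
  have hn : (finrank ℂ V : ℂ) * finrank ℂ V = 1 := by
    have := (isIrreducible_iff_classInner_self ρ).1 inferInstance
    simpa [classInner_def, Representation.character, hone] using this
  have hn' : finrank ℂ V = 1 := Nat.eq_one_of_mul_eq_one_right (by exact_mod_cast hn)
  funext x
  simp [Representation.character, hone, hn']

/-- Burnside: a simple group with a nontrivial class of prime-power size has prime order. -/
theorem prime_card_of_prime_pow_class [Finite G] [IsSimpleGroup G] {p k : ℕ} (hp : p.Prime)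
    {g : G} (hg : g ≠ 1) (hclass : (Subgroup.centralizer ({g} : Set G)).index = p ^ k) :
    (Nat.card G).Prime := by
  classical
  by_cases hab : ∀ a b : G, a * b = b * a
  · letI : CommGroup G := { ‹Group G› with mul_comm := hab }
    exact IsSimpleGroup.prime_card
  exfalso
  have hnc : ¬ IsConj g 1 := fun h => hg (isConj_one_left.1 h)
  have horth := sum_irr_mul_conj g 1
  rw [if_neg hnc, ← Finset.add_sum_erase _ _ (mem_irrFinset.2 (isIrrCharacter_one (G := G)))]
    at horth
  have hdiv : IsIntegral ℤ ((∑ χ ∈ (irrFinset G).erase fun _ => 1, χ g * conj (χ 1)) /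
      (p : ℂ)) := by
    rw [Finset.sum_div]
    refine IsIntegral.sum _ fun χ hχ => ?_
    rw [Finset.mem_erase, mem_irrFinset] at hχ
    obtain ⟨n, ρ, hρ, rfl⟩ := hχ.2
    rw [ρ.char_one, Complex.conj_natCast]
    by_cases hpn : p ∣ finrank ℂ (Fin n → ℂ)
    · obtain ⟨m, hm⟩ := hpn
      rw [hm, Nat.cast_mul, mul_div_assoc, mul_div_cancel_left₀ _ (by exact_mod_cast hp.ne_zero)]
      exact (IsCharacter.isIntegral (isCharacter_character ρ) g).mul
        (isIntegral_algebraMap (x := (m : ℤ)))
    · have hcop : Nat.Coprime (finrank ℂ (Fin n → ℂ))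
          (Subgroup.centralizer ({g} : Set G)).index := by
        rw [hclass]; exact ((hp.coprime_iff_not_dvd.2 hpn).symm).pow_right k
      rcases char_eq_zero_or_norm_eq ρ g hcop with h | h
      · simp [h, isIntegral_zero]
      · exact absurd (eq_one_of_norm_eq_of_simple hab ρ hg h) hχ.1
  rw [eq_neg_of_add_eq_zero_right horth] at hdiv
  have h1 : IsIntegral ℤ ((1 : ℕ) / (p : ℂ)) := by
    have := hdiv.neg
    simpa [neg_div] using this
  exact hp.not_dvd_one (dvd_of_isIntegral_div hp.ne_zero h1)

/-- A finite group of order `p ^ a * q ^ b` is solvable. -/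
theorem isSolvable_of_card_eq [Finite G] (p q a b : ℕ) (hp : p.Prime) (hq : q.Prime)
    (hcard : Nat.card G = p ^ a * q ^ b) : Group.IsSolvable G := by
  induction hn : Nat.card G using Nat.strong_induction_on generalizing G a b with
  | _ n ih =>
    haveI hpf := Fact.mk hp
    haveI hqf := Fact.mk hq
    rcases subsingleton_or_nontrivial G with hG | hG
    · infer_instance
    by_cases hb : b = 0
    · have hP : IsPGroup p G := IsPGroup.of_card (by simpa [hb] using hcard)
      haveI := hP.isNilpotent
      infer_instance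
    by_cases hpq : p = q
    · have hP : IsPGroup p G := IsPGroup.of_card (n := a + b) (by rw [hcard, ← hpq, pow_add])
      haveI := hP.isNilpotent
      infer_instance
    have hsub : ∀ m : ℕ, m ∣ p ^ a * q ^ b → ∃ i j, m = p ^ i * q ^ j := by
      intro m hm
      obtain ⟨x, y, hx, hy, rfl⟩ := (Nat.dvd_mul).1 hm
      obtain ⟨i, -, rfl⟩ := (Nat.dvd_prime_pow hp).1 hx
      obtain ⟨j, -, rfl⟩ := (Nat.dvd_prime_pow hq).1 hy
      exact ⟨i, j, rfl⟩
    by_cases hs : IsSimpleGroup G
    · haveI := hs
      obtain ⟨Q⟩ := (inferInstance : Nonempty (Sylow q G))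
      have hcop : Nat.Coprime q p := (Nat.coprime_primes hq hp).2 (Ne.symm hpq)
      have hQc : Nat.card (Q : Subgroup G) = q ^ b := by
        rw [Sylow.card_eq_multiplicity, hcard, Nat.factorization_mul (pow_ne_zero _ hp.ne_zero) (pow_ne_zero _ hq.ne_zero),
          hp.factorization_pow, hq.factorization_pow]
        simp [hpq]
      haveI : Nontrivial (Q : Subgroup G) := by
        rw [← Finite.one_lt_card_iff_nontrivial, hQc]
        exact Nat.one_lt_pow hb hq.one_lt
      haveI := (Q.isPGroup').center_nontrivial
      obtain ⟨z, hz⟩ := exists_ne (1 : Subgroup.center (Q : Subgroup G))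
      have hz1 : ((z : (Q : Subgroup G)) : G) ≠ 1 := fun h => hz (Subtype.ext (Subtype.ext h))
      have hle : (Q : Subgroup G) ≤
          Subgroup.centralizer ({((z : (Q : Subgroup G)) : G)} : Set G) := by
        intro x hx
        rw [Subgroup.mem_centralizer_singleton_iff]
        have := Subgroup.mem_center_iff.1 z.2 ⟨x, hx⟩
        exact congrArg Subtype.val this
      have hidx : (Q : Subgroup G).index = p ^ a := by
        have := (Q : Subgroup G).card_mul_index
        rw [hQc, hcard, mul_comm (p ^ a)] at this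
        exact Nat.eq_of_mul_eq_mul_left (pow_pos hq.pos b) this
      obtain ⟨k, -, hk⟩ := (Nat.dvd_prime_pow hp).1 (hidx ▸ Subgroup.index_dvd_of_le hle)
      have hprime := prime_card_of_prime_pow_class hp hz1 hk
      haveI : Fact (Nat.card G).Prime := ⟨hprime⟩
      haveI := isCyclic_of_prime_card (α := G) rfl
      letI := IsCyclic.commGroup (α := G)
      infer_instance
    · obtain ⟨N, hN, hN1, hN2⟩ : ∃ N : Subgroup G, N.Normal ∧ N ≠ ⊥ ∧ N ≠ ⊤ := by
        by_contra! h
        exact hs ⟨fun N hN => or_iff_not_imp_left.2 (h N hN)⟩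
      haveI := hN
      have hc1 : Nat.card N ∣ p ^ a * q ^ b := hcard ▸ Subgroup.card_subgroup_dvd_card N
      have hc2 : Nat.card (G ⧸ N) ∣ p ^ a * q ^ b := hcard ▸ Subgroup.card_quotient_dvd_card N
      have hlt1 : Nat.card N < n := hn ▸ lt_of_le_of_ne N.card_le_card_group
        (fun e => hN2 (Subgroup.eq_top_of_card_eq N e))
      have hlt2 : Nat.card (G ⧸ N) < n := by
        rw [← hn, N.card_eq_card_quotient_mul_card_subgroup]
        exact lt_mul_of_one_lt_right Nat.card_pos (N.one_lt_card_iff_ne_bot.2 hN1)
      obtain ⟨i, j, hij⟩ := hsub _ hc1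
      obtain ⟨i', j', hij'⟩ := hsub _ hc2
      haveI := ih _ hlt1 i j hij rfl
      haveI := ih _ hlt2 i' j' hij' rfl
      exact Group.isSolvable_of_ker_le_range N.subtype (QuotientGroup.mk' N)
        (by rw [QuotientGroup.ker_mk', Subgroup.range_subtype])

end CfsgLib.Char
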