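import Cfsg.Agent.Char.Generalized

/-!
# Constituents of characters
-/

set_option autoImplicit false
set_option linter.style.haveILetI false

namespace CfsgLib.Char

open scoped ComplexConjugate

universe u

variable {G : Type u} [Group G]

theorem IsCharacter.eq_zero_of_apply_one {χ : G → ℂ} (hχ : Cfsg.IsCharacter G χ)
    (h : χ 1 = 0) : χ = 0 := by
  obtain ⟨n, ρ, rfl⟩ := hχ
  rw [ρ.char_one, Module.finrank_fin_fun, Nat.cast_eq_zero] at h
  subst h
  funext g
  rw [Representation.character, Subsingleton.elim (ρ g) 0, map_zero]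
  rfl

theorem IsCharacter.sub_irr [Fintype G] {φ ψ : G → ℂ} (hφ : Cfsg.IsCharacter G φ)
    (hψ : Cfsg.IsIrrCharacter G ψ) (h : Cfsg.classInner φ ψ ≠ 0) :
    Cfsg.IsCharacter G (φ - ψ) := by
  classical
  refine isCharacter_of_classInner_nat (fun g x => by
    rw [Pi.sub_apply, Pi.sub_apply, IsCharacter.isClassFunction hφ g x,
      IsIrrCharacter.isClassFunction hψ g x]) fun χ hχ => ?_
  obtain ⟨n, hn⟩ := IsCharacter.exists_classInner_eq_natCast hφ hχ
  rw [classInner_sub_left, IsIrrCharacter.classInner_eq hψ hχ, hn]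
  by_cases he : ψ = χ
  · subst he
    rw [if_pos rfl]
    have : n ≠ 0 := fun h0 => h (by rw [hn, h0, Nat.cast_zero])
    exact ⟨n - 1, by rw [Nat.cast_sub (Nat.one_le_iff_ne_zero.2 this), Nat.cast_one]⟩
  · exact ⟨n, by rw [if_neg he, sub_zero]⟩

/-- A character whose degree is not above that of one of its irreducible constituents equals
it. -/
theorem IsCharacter.eq_of_constituent [Fintype G] {φ ψ : G → ℂ} (hφ : Cfsg.IsCharacter G φ)
    (hψ : Cfsg.IsIrrCharacter G ψ) (h : Cfsg.classInner φ ψ ≠ 0) (h1 : φ 1 = ψ 1) : φ = ψ :=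
  sub_eq_zero.1 (IsCharacter.eq_zero_of_apply_one (IsCharacter.sub_irr hφ hψ h)
    (by rw [Pi.sub_apply, h1, sub_self]))

/-- The degree of a character is at least that of each constituent. -/
theorem IsCharacter.re_constituent_le [Fintype G] {φ ψ : G → ℂ} (hφ : Cfsg.IsCharacter G φ)
    (hψ : Cfsg.IsIrrCharacter G ψ) (h : Cfsg.classInner φ ψ ≠ 0) : (ψ 1).re ≤ (φ 1).re := by
  obtain ⟨n, hn⟩ := IsCharacter.exists_degree (IsCharacter.sub_irr hφ hψ h)
  have h2 := congrArg Complex.re hn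
  rw [Pi.sub_apply, Complex.sub_re, Complex.natCast_re] at h2
  have : (0 : ℝ) ≤ n := Nat.cast_nonneg n
  linarith

theorem IsCharacter.exists_constituent [Fintype G] {φ : G → ℂ} (hφ : Cfsg.IsCharacter G φ)
    (h : φ ≠ 0) : ∃ ψ, Cfsg.IsIrrCharacter G ψ ∧ Cfsg.classInner φ ψ ≠ 0 := by
  by_contra! hall
  exact h (eq_zero_of_classInner_eq_zero (IsCharacter.isClassFunction hφ) hall)

/-- Two characters with a common constituent are not orthogonal. -/
theorem IsCharacter.classInner_ne_zero_of_common [Fintype G] {φ φ' χ : G → ℂ}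
    (hφ : Cfsg.IsCharacter G φ) (hφ' : Cfsg.IsCharacter G φ') (hχ : Cfsg.IsIrrCharacter G χ)
    (h : Cfsg.classInner φ χ ≠ 0) (h' : Cfsg.classInner φ' χ ≠ 0) :
    Cfsg.classInner φ φ' ≠ 0 := by
  classical
  have hm : ∀ ξ ∈ irrFinset G, ∃ n : ℕ,
      Cfsg.classInner φ ξ * conj (Cfsg.classInner φ' ξ) = n := fun ξ hξ => by
    obtain ⟨a, ha⟩ := IsCharacter.exists_classInner_eq_natCast hφ (mem_irrFinset.1 hξ)
    obtain ⟨b, hb⟩ := IsCharacter.exists_classInner_eq_natCast hφ' (mem_irrFinset.1 hξ)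
    exact ⟨a * b, by rw [ha, hb, Complex.conj_natCast, Nat.cast_mul]⟩
  choose! n hn using hm
  rw [classInner_eq_sum_irr (IsCharacter.isClassFunction hφ) φ', Finset.sum_congr rfl hn]
  have hpos : 0 < n χ := by
    refine Nat.pos_of_ne_zero fun h0 => ?_
    have := hn χ (mem_irrFinset.2 hχ)
    rw [h0, Nat.cast_zero, mul_eq_zero, map_eq_zero] at this
    exact this.elim h h'
  have : 0 < ∑ ξ ∈ irrFinset G, n ξ :=
    lt_of_lt_of_le hpos (Finset.single_le_sum (fun i _ => Nat.zero_le _) (mem_irrFinset.2 hχ))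
  rw [← Nat.cast_sum, Nat.cast_ne_zero]
  exact this.ne'

end CfsgLib.Char
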