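import Cfsg.Agent.Char.Induction
import Mathlib.GroupTheory.GroupAction.Quotient
import Mathlib.GroupTheory.Subgroup.Centralizer
import Mathlib.Tactic.Group

/-!
# Trivial intersection sets: induction and orbit counting
-/

namespace CfsgLib.Char

open scoped ComplexConjugate

universe u

variable {G : Type u} [Group G]

/-- Induction agrees with the original function at nontrivial elements of a TI set. -/
theorem indFun_apply_TI [Fintype G] {H : Subgroup G} {T : Set G}
    (hTI : ∀ g : G, g ∉ H → ∀ t ∈ T, g * t * g⁻¹ ∈ T → t = 1) {θ : H → ℂ}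
    (hθ : Cfsg.IsClassFunction H θ) (hθT : ∀ x : H, (x : G) ∉ T → θ x = 0) (t : H)
    (htT : (t : G) ∈ T) (ht1 : t ≠ 1) : Cfsg.indFun H θ t = θ t := by
  classical
  have key : ∀ x : G, Cfsg.extendByZero H θ (x⁻¹ * t * x) = if x ∈ H then θ t else 0 := by
    intro x
    by_cases hx : x ∈ H
    · rw [if_pos hx, extendByZero_of_mem θ (H.mul_mem (H.mul_mem (H.inv_mem hx) t.2) hx)]
      have := hθ t ⟨x⁻¹, H.inv_mem hx⟩
      rw [← this]
      congr 1
      ext; simp
    · rw [if_neg hx]
      by_cases hm : x⁻¹ * (t : G) * x ∈ H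
      · rw [extendByZero_of_mem θ hm]
        refine hθT _ fun hT => ht1 (Subtype.ext ?_)
        exact hTI x⁻¹ (fun h => hx (by simpa using H.inv_mem h)) t htT (by rw [inv_inv]; exact hT)
      · exact extendByZero_of_not_mem θ hm
  rw [indFun_def, Finset.sum_congr rfl fun x _ => key x, ← Finset.sum_filter, Finset.sum_const,
    nsmul_eq_mul, ← mul_assoc, show (Finset.univ.filter (· ∈ H)).card = Nat.card H by
      rw [Nat.card_eq_fintype_card, Fintype.card_subtype],
    inv_mul_cancel₀ (by exact_mod_cast (Nat.card_pos (α := H)).ne'), one_mul]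

/-- Induction from a TI set is an isometry on functions vanishing at the identity. -/
theorem classInner_indFun_TI [Fintype G] {H : Subgroup G} [Fintype H] {T : Set G}
    (hTI : ∀ g : G, g ∉ H → ∀ t ∈ T, g * t * g⁻¹ ∈ T → t = 1) {ψ θ : H → ℂ}
    (hθ : Cfsg.IsClassFunction H θ) (hψT : ∀ x : H, (x : G) ∉ T → ψ x = 0)
    (hθT : ∀ x : H, (x : G) ∉ T → θ x = 0) (hψ1 : ψ 1 = 0) :
    Cfsg.classInner (Cfsg.indFun H ψ) (Cfsg.indFun H θ) = Cfsg.classInner ψ θ := by
  rw [classInner_indFun ψ (isClassFunction_indFun H θ), classInner_def, classInner_def]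
  congr 1
  refine Finset.sum_congr rfl fun x _ => ?_
  by_cases hT : (x : G) ∈ T
  · by_cases h1 : x = 1
    · rw [h1, hψ1, zero_mul, zero_mul]
    · rw [indFun_apply_TI hTI hθ hθT x hT h1]
  · rw [hψT x hT, zero_mul, zero_mul]

/-- A subgroup equal to the centralizer of each of its nonidentity elements is TI. -/
theorem eq_one_of_centralizer_eq {A : Subgroup G}
    (hA : ∀ x ∈ A, x ≠ 1 → Subgroup.centralizer ({x} : Set G) = A) {g : G}
    (hg : g ∉ Subgroup.normalizer (A : Set G)) {x : G} (hx : x ∈ A) (hgx : g * x * g⁻¹ ∈ A) :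
    x = 1 := by
  by_contra h1
  refine hg (Subgroup.mem_normalizer_iff.2 fun y => ?_)
  have h1' : g * x * g⁻¹ ≠ 1 := fun h => h1 (by simpa using h)
  constructor
  · intro hy
    rw [← hA _ hgx h1', Subgroup.mem_centralizer_singleton_iff]
    rw [← hA x hx h1, Subgroup.mem_centralizer_singleton_iff] at hy
    calc g * y * g⁻¹ * (g * x * g⁻¹) = g * (y * x) * g⁻¹ := by group
      _ = g * x * g⁻¹ * (g * y * g⁻¹) := by rw [hy]; group
  · intro hy
    rw [← hA x hx h1, Subgroup.mem_centralizer_singleton_iff]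
    rw [← hA _ hgx h1', Subgroup.mem_centralizer_singleton_iff] at hy
    calc y * x = g⁻¹ * (g * y * g⁻¹ * (g * x * g⁻¹)) * g := by group
      _ = x * y := by rw [hy]; group

/-- The index in the normaliser of a subgroup containing the centralizers of its nonidentity
elements divides its order minus one. -/
theorem index_subgroupOf_dvd_card_sub_one [Finite G] {A N : Subgroup G} (hAN : A ≤ N)
    (hN : ∀ n ∈ N, ∀ a ∈ A, n * a * n⁻¹ ∈ A)
    (hC : ∀ x ∈ A, x ≠ 1 → Subgroup.centralizer ({x} : Set G) ≤ A) :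
    (A.subgroupOf N).index ∣ Nat.card A - 1 := by
  classical
  let X := {a : A // a ≠ 1}
  let _ : MulAction N X :=
    { smul := fun n a => ⟨⟨(n : G) * (a.1 : G) * (n : G)⁻¹, hN n n.2 _ a.1.2⟩, fun h => a.2 (by
        have h' : (n : G) * (a.1 : G) * (n : G)⁻¹ = 1 := congrArg Subtype.val h
        exact Subtype.ext (by simpa using h'))⟩
      one_smul := fun a => Subtype.ext (Subtype.ext (by change (1 : G) * _ * (1 : G)⁻¹ = _; group))
      mul_smul := fun m n a => Subtype.ext (Subtype.ext (by
        change ((m : G) * n) * _ * ((m : G) * n)⁻¹ = (m : G) * ((n : G) * _ * (n : G)⁻¹) * (m : G)⁻¹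
        group)) }
  have := Fintype.ofFinite A
  have hX : Nat.card X = Nat.card A - 1 := by
    rw [Nat.card_eq_fintype_card, Fintype.card_subtype_compl, Nat.card_eq_fintype_card,
      Fintype.card_subtype_eq]
  rw [← hX, Nat.card_congr (MulAction.selfEquivSigmaOrbits N X), Nat.card_sigma]
  refine Finset.dvd_sum fun q _ => ?_
  rw [Nat.card_coe_set_eq, ← MulAction.index_stabilizer]
  refine Subgroup.index_dvd_of_le fun n hn => ?_
  rw [Subgroup.mem_subgroupOf]
  refine hC _ q.out.1.2 (fun h => q.out.2 (Subtype.ext h)) ?_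
  rw [Subgroup.mem_centralizer_singleton_iff]
  have h' : (n : G) * (q.out.1 : G) * (n : G)⁻¹ = (q.out.1 : G) :=
    congrArg (fun a : X => (a.1 : G)) hn
  exact mul_inv_eq_iff_eq_mul.1 h'

/-- In the normaliser of a TI subgroup containing centralizers of its nonidentity elements, the
elements outside have no conjugates inside. -/
theorem conj_not_mem_of_centralizer_le [Finite G] {K : Subgroup G}
    (hC : ∀ k ∈ K, k ≠ 1 → Subgroup.centralizer ({k} : Set G) ≤ K) {x : G}
    (hx : x ∈ Subgroup.normalizer (K : Set G)) (hxK : x ∉ K) (g : G) : g * x * g⁻¹ ∉ K := by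
  intro hm
  set N := Subgroup.normalizer (K : Set G)
  have hKN : K ≤ N := Subgroup.le_normalizer
  have hn : (K.subgroupOf N).Normal := Subgroup.normal_in_normalizer
  have hdvd := index_subgroupOf_dvd_card_sub_one hKN
    (fun n hn a ha => (Subgroup.mem_normalizer_iff.1 hn a).1 ha) hC
  have h1 : orderOf (⟨x, hx⟩ : N) ∣ Nat.card K := by
    rw [Subgroup.orderOf_mk]
    have : orderOf x = orderOf (⟨g * x * g⁻¹, hm⟩ : K) := by
      rw [Subgroup.orderOf_mk]; exact ((MulAut.conj g).orderOf_eq x).symm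
    rw [this]; exact orderOf_dvd_natCard _
  have h2 : orderOf (QuotientGroup.mk' (K.subgroupOf N) ⟨x, hx⟩) ∣ 1 := by
    have hpos : 0 < Nat.card K := Nat.card_pos
    have hcop : Nat.Coprime (Nat.card K - 1) (Nat.card K) := by
      conv_rhs => rw [show Nat.card K = Nat.card K - 1 + 1 by omega]
      exact Nat.coprime_self_add_right.2 (Nat.coprime_one_right _)
    rw [Nat.dvd_one]
    exact Nat.eq_one_of_dvd_coprimes (hcop.coprime_dvd_left hdvd) (orderOf_dvd_natCard _)
      ((orderOf_map_dvd _ _).trans h1)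
  have h3 := orderOf_eq_one_iff.1 (Nat.dvd_one.1 h2)
  exact hxK (Subgroup.mem_subgroupOf.1 ((QuotientGroup.eq_one_iff _).1 h3))

end CfsgLib.Char
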