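import Cfsg.Agent.Char.Generalized
import Cfsg.Agent.Char.Constituents
import Cfsg.Agent.Char.TI

/-!
# Generalized characters of norm two and exceptional characters
-/

namespace CfsgLib.Char

open scoped ComplexConjugate

universe u

variable {G : Type u} [Group G] [Fintype G]

/-- A generalized character of norm two vanishing at `1` is a difference of two irreducibles. -/
theorem IsGeneralized.exists_sub {τ : G → ℂ} (hτ : Cfsg.IsGeneralizedCharacter G τ)
    (h2 : Cfsg.classInner τ τ = 2) (h1 : τ 1 = 0) :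
    ∃ μ ν : G → ℂ, Cfsg.IsIrrCharacter G μ ∧ Cfsg.IsIrrCharacter G ν ∧ μ ≠ ν ∧ τ = μ - ν := by
  classical
  have hτcl := IsGeneralized.isClassFunction hτ
  have hm : ∀ μ ∈ irrFinset G, ∃ n : ℤ, Cfsg.classInner τ μ = n := fun μ hμ =>
    IsGeneralized.exists_classInner_eq_int hτ
      (IsIrrCharacter.isGeneralized (mem_irrFinset.1 hμ))
  choose! n hn using hm
  have hsum : ∑ μ ∈ irrFinset G, n μ * n μ = 2 := by
    have h3 := classInner_eq_sum_irr hτcl τ
    rw [h2] at h3
    have h4 : ((2 : ℤ) : ℂ) = ((∑ μ ∈ irrFinset G, n μ * n μ : ℤ) : ℂ) := by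
      push_cast
      rw [h3]
      exact Finset.sum_congr rfl fun μ hμ => by rw [hn μ hμ]; simp
    exact_mod_cast h4.symm
  have hle1 : ∀ μ ∈ irrFinset G, n μ * n μ ≤ 1 := fun μ hμ => by
    have h := Finset.single_le_sum (fun ν _ => mul_self_nonneg (n ν)) hμ
    rw [hsum] at h
    have h' : n μ ≤ 1 ∧ -1 ≤ n μ := by constructor <;> nlinarith
    obtain ⟨ha, hb⟩ := h'
    interval_cases h'' : n μ <;> norm_num
  set s := (irrFinset G).filter fun μ => n μ ≠ 0 with hs
  have hcard : s.card = 2 := by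
    have h : (s.card : ℤ) = ∑ μ ∈ irrFinset G, n μ * n μ := by
      rw [Finset.card_filter, Nat.cast_sum]
      refine Finset.sum_congr rfl fun μ hμ => ?_
      split_ifs with h0
      · have := mul_self_pos.2 h0
        have := hle1 μ hμ
        push_cast; omega
      · push Not at h0; simp [h0]
    rw [hsum] at h
    exact_mod_cast h
  obtain ⟨μ, ν, hne, hs2⟩ := Finset.card_eq_two.1 hcard
  have hμ : μ ∈ s := hs2 ▸ Finset.mem_insert_self μ _
  have hν : ν ∈ s := hs2 ▸ Finset.mem_insert_of_mem (Finset.mem_singleton_self ν)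
  rw [hs, Finset.mem_filter] at hμ hν
  have hexp : τ = (n μ : ℂ) • μ + (n ν : ℂ) • ν := by
    conv_lhs => rw [eq_sum_irr hτcl]
    rw [Finset.sum_eq_add μ ν hne (fun x hx hxn => ?_) (fun h => absurd hμ.1 h)
      (fun h => absurd hν.1 h), hn μ hμ.1, hn ν hν.1]
    have : n x = 0 := by
      by_contra h
      have hxs : x ∈ s := Finset.mem_filter.2 ⟨hx, h⟩
      rw [hs2] at hxs
      simp [hxn.1, hxn.2] at hxs
    rw [hn x hx, this, Int.cast_zero, zero_smul]
  have hμi := mem_irrFinset.1 hμ.1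
  have hνi := mem_irrFinset.1 hν.1
  obtain ⟨a, ha0, ha⟩ := IsIrrCharacter.exists_degree hμi
  obtain ⟨b, hb0, hb⟩ := IsIrrCharacter.exists_degree hνi
  have hdeg : n μ * a + n ν * b = 0 := by
    have h := congrFun hexp 1
    rw [h1] at h
    simp only [Pi.add_apply, Pi.smul_apply, smul_eq_mul, ha, hb] at h
    exact_mod_cast h.symm
  have hμ1 : n μ = 1 ∨ n μ = -1 := by
    have h1' := hle1 μ hμ.1
    have h2' := mul_self_pos.2 hμ.2
    exact mul_self_eq_one_iff.1 (by omega)
  have hν1 : n ν = 1 ∨ n ν = -1 := by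
    have h1' := hle1 ν hν.1
    have h2' := mul_self_pos.2 hν.2
    exact mul_self_eq_one_iff.1 (by omega)
  rcases hμ1 with h | h <;> rcases hν1 with h' | h' <;> rw [h, h'] at hdeg
  · omega
  · exact ⟨μ, ν, hμi, hνi, hne, by rw [hexp, h, h']; simp [sub_eq_add_neg]⟩
  · exact ⟨ν, μ, hνi, hμi, hne.symm, by rw [hexp, h, h']; simp [sub_eq_add_neg, add_comm]⟩
  · omega

theorem classInner_irr_sub_sub {a b c d : G → ℂ} (ha : Cfsg.IsIrrCharacter G a)
    (hb : Cfsg.IsIrrCharacter G b) (hc : Cfsg.IsIrrCharacter G c) (hd : Cfsg.IsIrrCharacter G d)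
    [Decidable (a = c)] [Decidable (a = d)] [Decidable (b = c)] [Decidable (b = d)] :
    Cfsg.classInner (a - b) (c - d) = (((if a = c then (1 : ℤ) else 0) + (if b = d then 1 else 0) -
      (if a = d then 1 else 0) - (if b = c then 1 else 0) : ℤ) : ℂ) := by
  rw [classInner_sub_left, classInner_sub_right, classInner_sub_right,
    IsIrrCharacter.classInner_eq ha hc, IsIrrCharacter.classInner_eq ha hd,
    IsIrrCharacter.classInner_eq hb hc, IsIrrCharacter.classInner_eq hb hd]
  split_ifs <;> push_cast <;> ring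

/-- The isometry lemma behind exceptional characters. -/
theorem exists_sign_family {ι : Type*} (i₀ : ι) {τ : ι → G → ℂ} [DecidableEq ι] (h0 : τ i₀ = 0)
    (hgen : ∀ i, Cfsg.IsGeneralizedCharacter G (τ i)) (hone : ∀ i, τ i 1 = 0)
    (hgram : ∀ i j, i ≠ i₀ → j ≠ i₀ →
      Cfsg.classInner (τ i) (τ j) = if i = j then 2 else 1) :
    ∃ ε : ℂ, (ε = 1 ∨ ε = -1) ∧ ∃ μ : ι → G → ℂ,
      (∀ i, Cfsg.IsIrrCharacter G (μ i)) ∧ Function.Injective μ ∧
      ∀ i, τ i = ε • (μ i - μ i₀) := by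
  classical
  have hdec : ∀ i : {i : ι // i ≠ i₀}, ∃ p q : G → ℂ, Cfsg.IsIrrCharacter G p ∧
      Cfsg.IsIrrCharacter G q ∧ p ≠ q ∧ τ i = p - q := fun i =>
    IsGeneralized.exists_sub (hgen i) (by simpa using hgram i i i.2 i.2) (hone i)
  choose a b ha hb hab hτ using hdec
  have hne : ∀ i j : {i : ι // i ≠ i₀}, i ≠ j → τ i ≠ τ j := fun i j hij h => by
    have h1 := hgram i j i.2 j.2
    rw [if_neg (fun e => hij (Subtype.ext e)), ← h] at h1
    have h2 := hgram i i i.2 i.2
    rw [if_pos rfl, h1] at h2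
    norm_num at h2
  have hshare : ∀ i j : {i : ι // i ≠ i₀}, i ≠ j →
      a i = a j ∧ b i ≠ b j ∨ a i ≠ a j ∧ b i = b j := by
    intro i j hij
    have h1 := hgram i j i.2 j.2
    rw [if_neg (fun e => hij (Subtype.ext e)), hτ i, hτ j,
      classInner_irr_sub_sub (ha i) (hb i) (ha j) (hb j)] at h1
    by_cases e1 : a i = a j <;> by_cases e2 : b i = b j
    · exact absurd (by rw [hτ i, hτ j, e1, e2]) (hne i j hij)
    · exact Or.inl ⟨e1, e2⟩
    · exact Or.inr ⟨e1, e2⟩
    · rw [if_neg e1, if_neg e2] at h1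
      exfalso
      split_ifs at h1 <;> norm_num at h1
  have hside : (∀ i j, a i = a j) ∨ (∀ i j, b i = b j) := by
    by_contra hc
    rw [not_or] at hc
    push Not at hc
    obtain ⟨⟨i, j, hij⟩, k, l, hkl⟩ := hc
    have hbij : b i = b j := ((hshare i j fun e => hij (e ▸ rfl)).resolve_left
      fun h => hij h.1).2
    have hakl : a k = a l := ((hshare k l fun e => hkl (e ▸ rfl)).resolve_right
      fun h => hkl h.2).1
    have tri : ∀ x y z : {i : ι // i ≠ i₀}, a x = a y → b x ≠ b y → b x = b z → x ≠ z → y ≠ z →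
        False := by
      intro x y z hxy hbxy hxz nxz nyz
      have haxz : a x ≠ a z := by
        rcases hshare x z nxz with ⟨-, h⟩ | ⟨h, -⟩
        · exact absurd hxz h
        · exact h
      rcases hshare y z nyz with ⟨h, -⟩ | ⟨-, h⟩
      · exact haxz (hxy.trans h)
      · exact hbxy (hxz.trans h.symm)
    have hex : ∀ x : {i : ι // i ≠ i₀}, ∀ z₁ z₂ : {i : ι // i ≠ i₀}, a z₁ ≠ a z₂ → b z₁ = b z₂ →
        x ≠ z₁ → x ≠ z₂ → b x = b z₁ := by
      intro x z₁ z₂ hz hb' n1 n2
      rcases hshare x z₁ n1 with ⟨h, -⟩ | ⟨-, h⟩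
      · exfalso
        exact tri z₁ x z₂ h.symm (fun e => by
          rcases hshare x z₁ n1 with ⟨-, h'⟩ | ⟨h', -⟩
          · exact h' e.symm
          · exact h' h) hb' (fun e => hz (e ▸ rfl)) n2
      · exact h
    have hb_all : ∀ x, b x = b i := fun x => by
      by_cases n1 : x = i
      · rw [n1]
      by_cases n2 : x = j
      · rw [n2, hbij]
      exact hex x i j hij hbij n1 n2
    exact hkl (by rw [hb_all k, hb_all l])
  by_cases hemp : IsEmpty {i : ι // i ≠ i₀}
  · have hall : ∀ i, i = i₀ := fun i => by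
      by_contra h; exact hemp.false ⟨i, h⟩
    exact ⟨1, Or.inl rfl, fun _ _ => 1, fun _ => isIrrCharacter_one,
      fun i j _ => (hall i).trans (hall j).symm, fun i => by rw [hall i, h0]; simp⟩
  rw [not_isEmpty_iff] at hemp
  obtain ⟨i₁⟩ := hemp
  rcases hside with hs | hs
  · refine ⟨-1, Or.inr rfl, fun i => if h : i = i₀ then a i₁ else b ⟨i, h⟩, fun i => ?_, ?_, ?_⟩
    · dsimp only; split_ifs
      · exact ha i₁
      · exact hb _
    · intro i j h
      dsimp only at h
      split_ifs at h with h1 h2 h2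
      · rw [h1, h2]
      · exact absurd ((hs ⟨j, h2⟩ i₁).trans h) (hab _)
      · exact absurd ((hs ⟨i, h1⟩ i₁).trans h.symm) (hab _)
      · by_contra hij
        have := hshare ⟨i, h1⟩ ⟨j, h2⟩ fun e => hij (congrArg Subtype.val e)
        rcases this with ⟨-, h'⟩ | ⟨h', -⟩
        · exact h' h
        · exact h' (hs _ _)
    · intro i
      by_cases h : i = i₀
      · subst h; simp [h0]
      · dsimp only
        rw [dif_neg h, dif_pos rfl, hτ ⟨i, h⟩, hs ⟨i, h⟩ i₁, neg_one_smul, neg_sub]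
  · refine ⟨1, Or.inl rfl, fun i => if h : i = i₀ then b i₁ else a ⟨i, h⟩, fun i => ?_, ?_, ?_⟩
    · dsimp only; split_ifs
      · exact hb i₁
      · exact ha _
    · intro i j h
      dsimp only at h
      split_ifs at h with h1 h2 h2
      · rw [h1, h2]
      · exact absurd ((hs ⟨j, h2⟩ i₁).trans h).symm (hab _)
      · exact absurd (h.trans (hs ⟨i, h1⟩ i₁).symm) (hab _)
      · by_contra hij
        have := hshare ⟨i, h1⟩ ⟨j, h2⟩ fun e => hij (congrArg Subtype.val e)
        rcases this with ⟨-, h'⟩ | ⟨h', -⟩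
        · exact h' (hs _ _)
        · exact h' h
    · intro i
      by_cases h : i = i₀
      · subst h; simp [h0]
      · dsimp only
        rw [dif_neg h, dif_pos rfl, hτ ⟨i, h⟩, hs ⟨i, h⟩ i₁, one_smul]

/-- Exceptional characters. -/
theorem exists_exceptional {S : Set G} {H : Subgroup G} [Fintype H]
    (hTI : ∀ g : G, g ∉ H → ∀ s ∈ S, g * s * g⁻¹ ∈ S → s = 1) {n : ℕ} (hn : 2 ≤ n)
    {χ : Fin n → H → ℂ} (hirr : ∀ i, Cfsg.IsIrrCharacter H (χ i)) (hinj : Function.Injective χ)
    (hvan : ∀ i, ∀ x : H, (x : G) ∉ S → χ i x = 0) (hdeg : ∀ i j, χ i 1 = χ j 1) :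
    ∃ ε : ℂ, (ε = 1 ∨ ε = -1) ∧ ∃ θ : Fin n → G → ℂ, (∀ i, Cfsg.IsIrrCharacter G (θ i)) ∧
      Function.Injective θ ∧
      ∀ i j, Cfsg.indFun H (χ i) - Cfsg.indFun H (χ j) = ε • (θ i - θ j) := by
  classical
  let i₀ : Fin n := ⟨0, by omega⟩
  let τ : Fin n → G → ℂ := fun i => Cfsg.indFun H (χ i - χ i₀)
  have hcl : ∀ i, Cfsg.IsClassFunction H (χ i - χ i₀) := fun i g h => by
    rw [Pi.sub_apply, Pi.sub_apply, IsIrrCharacter.isClassFunction (hirr i) g h,
      IsIrrCharacter.isClassFunction (hirr i₀) g h]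
  have hvan' : ∀ i, ∀ x : H, (x : G) ∉ S → (χ i - χ i₀) x = 0 := fun i x hx => by
    rw [Pi.sub_apply, hvan i x hx, hvan i₀ x hx, sub_zero]
  have hone : ∀ i, (χ i - χ i₀) 1 = 0 := fun i => by rw [Pi.sub_apply, hdeg i i₀, sub_self]
  obtain ⟨ε, hε, θ, hθ, hθi, he⟩ := exists_sign_family i₀ (τ := τ)
    (by simp only [τ, sub_self, indFun_zero])
    (fun i => IsGeneralized.indFun (IsGeneralized.sub (IsIrrCharacter.isGeneralized (hirr i))
      (IsIrrCharacter.isGeneralized (hirr i₀))))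
    (fun i => by simp only [τ, indFun_one, hone i, mul_zero])
    (fun i j hi hj => by
      rw [classInner_indFun_TI hTI (hcl j) (hvan' i) (hvan' j) (hone i), classInner_sub_left,
        classInner_sub_right, classInner_sub_right, IsIrrCharacter.classInner_eq (hirr i) (hirr j),
        IsIrrCharacter.classInner_of_ne (hirr i) (hirr i₀) (hinj.ne hi),
        IsIrrCharacter.classInner_of_ne (hirr i₀) (hirr j) (hinj.ne (Ne.symm hj)),
        IsIrrCharacter.classInner_self (hirr i₀)]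
      by_cases h : i = j
      · subst h; simp; norm_num
      · rw [if_neg h, if_neg (hinj.ne h)]; ring)
  refine ⟨ε, hε, θ, hθ, hθi, fun i j => ?_⟩
  have h1 : Cfsg.indFun H (χ i) - Cfsg.indFun H (χ j) = τ i - τ j := by
    simp only [τ, indFun_sub]; abel
  rw [h1, he i, he j, ← smul_sub, sub_sub_sub_cancel_right]

end CfsgLib.Char
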