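import Cfsg.Agent.Char.CoherenceExt
import Cfsg.Agent.Char.NormTwo

/-!
# Coherence of equal-degree sets of irreducible characters, and of subsets
-/

set_option autoImplicit false
set_option linter.style.haveILetI false

namespace CfsgLib.Char

universe u v

variable {L : Type u} [Group L] [Fintype L] {G : Type v} [Group G] [Fintype G]

theorem zspanOn_subset_zspanOn {X : Type u} {S T : Set (X → ℂ)} (h : S ⊆ T) (A : Set X) :
    Cfsg.zspanOn S A ⊆ Cfsg.zspanOn T A := fun _ hx => ⟨zspan_mono h hx.1, hx.2⟩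

theorem isometryOn_subset {E F : Set (L → ℂ)} (h : E ⊆ F) {τ : (L → ℂ) → G → ℂ}
    (hτ : Cfsg.IsLinearIsometryOn F τ) : Cfsg.IsLinearIsometryOn E τ :=
  ⟨fun a ha b hb => hτ.1 a (h ha) b (h hb), fun a ha n => hτ.2.1 a (h ha) n,
    fun a ha b hb => hτ.2.2.1 a (h ha) b (h hb), fun a ha => hτ.2.2.2 a (h ha)⟩

/-- A subset with a non-zero combination vanishing off `A` of a coherent set is coherent. -/
theorem isCoherent_subset {S T : Set (L → ℂ)} (h : S ⊆ T) {A : Set L} {τ : (L → ℂ) → G → ℂ}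
    (hT : Cfsg.IsCoherent T A τ) (hne : ∃ α ∈ Cfsg.zspanOn S A, α ≠ 0) :
    Cfsg.IsCoherent S A τ := by
  obtain ⟨-, τ₁, hτ₁, hag⟩ := hT
  exact ⟨hne, τ₁, isometryOn_subset (zspan_mono h) hτ₁,
    fun α hα => hag α (zspanOn_subset_zspanOn h A hα)⟩

/-- At least two irreducible characters of one degree form a coherent set. -/
theorem isCoherent_equal_irr [DecidableEq (L → ℂ)] (s : Finset (L → ℂ))
    (hirr : ∀ φ ∈ s, Cfsg.IsIrrCharacter L φ) (hdeg : ∀ φ ∈ s, ∀ ψ ∈ s, φ 1 = ψ 1) (h2 : 1 < s.card)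
    {τ : (L → ℂ) → G → ℂ}
    (hτ : Cfsg.IsLinearIsometryOn (Cfsg.zspanOn (↑s : Set (L → ℂ)) ({1}ᶜ : Set L)) τ)
    (hτ1 : ∀ α ∈ Cfsg.zspanOn (↑s : Set (L → ℂ)) ({1}ᶜ : Set L), τ α 1 = 0) :
    Cfsg.IsCoherent (↑s : Set (L → ℂ)) ({1}ᶜ : Set L) τ := by
  classical
  obtain ⟨φ₀, hφ₀, φ₁, hφ₁, hne⟩ := Finset.one_lt_card.1 h2
  have hdiff : ∀ φ ∈ s, φ - φ₀ ∈ Cfsg.zspanOn (↑s : Set (L → ℂ)) ({1}ᶜ : Set L) := fun φ hφ =>
    mem_zspanOn_one.2 ⟨Submodule.sub_mem _ (subset_zspan hφ) (subset_zspan hφ₀), by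
      rw [Pi.sub_apply, hdeg φ hφ φ₀ hφ₀, sub_self]⟩
  refine ⟨⟨_, hdiff φ₁ hφ₁, sub_ne_zero.2 (Ne.symm hne)⟩, ?_⟩
  obtain ⟨ε, hε, μ, hμ, hμi, he⟩ := exists_sign_family (ι := {φ // φ ∈ s}) ⟨φ₀, hφ₀⟩
    (τ := fun φ => τ (φ.1 - φ₀))
    (by
      show τ (φ₀ - φ₀) = 0
      rw [sub_self]
      exact isometry_map_zero (M := zspanOnSub (↑s : Set (L → ℂ)) ({1}ᶜ : Set L)) hτ)
    (fun φ => hτ.2.2.2 _ (hdiff φ.1 φ.2)) (fun φ => hτ1 _ (hdiff φ.1 φ.2))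
    (fun i j hi hj => by
      have hi' : i.1 ≠ φ₀ := fun h => hi (Subtype.ext h)
      have hj' : j.1 ≠ φ₀ := fun h => hj (Subtype.ext h)
      rw [hτ.2.2.1 _ (hdiff i.1 i.2) _ (hdiff j.1 j.2), classInner_sub_left, classInner_sub_right,
        classInner_sub_right, IsIrrCharacter.classInner_eq (hirr _ i.2) (hirr _ j.2),
        IsIrrCharacter.classInner_of_ne (hirr _ i.2) (hirr _ hφ₀) hi',
        IsIrrCharacter.classInner_of_ne (hirr _ hφ₀) (hirr _ j.2) (Ne.symm hj'),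
        IsIrrCharacter.classInner_self (hirr _ hφ₀)]
      by_cases h : i = j
      · rw [if_pos h, if_pos (congrArg Subtype.val h)]; norm_num
      · rw [if_neg h, if_neg fun h' => h (Subtype.ext h')]; ring)
  let T : (L → ℂ) → G → ℂ := fun φ => if h : φ ∈ s then ε • μ ⟨φ, h⟩ else 0
  have hT : ∀ φ (hφ : φ ∈ s), T φ = ε • μ ⟨φ, hφ⟩ := fun φ hφ => dif_pos hφ
  have horth : ∀ φ ∈ s, ∀ ψ ∈ s, φ ≠ ψ → Cfsg.classInner φ ψ = 0 := fun φ hφ ψ hψ =>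
    IsIrrCharacter.classInner_of_ne (hirr φ hφ) (hirr ψ hψ)
  have hne0 : ∀ φ ∈ s, φ ≠ 0 := fun φ hφ => IsIrrCharacter.ne_zero (hirr φ hφ)
  refine ⟨orthExt s T, orthExt_isometry horth hne0 (fun φ hφ => ?_) (fun φ hφ ψ hψ => ?_), fun α hα =>
    orthExt_eq_of_base hτ subset_rfl horth hne0 hφ₀ (IsIrrCharacter.apply_one_ne_zero (hirr φ₀ hφ₀))
      (fun _ => 1) (fun φ hφ => by rw [one_smul, hdeg φ hφ φ₀ hφ₀])
      (fun φ hφ => by rw [one_smul, one_smul, hT φ hφ, hT φ₀ hφ₀, ← smul_sub]; exact he ⟨φ, hφ⟩) hα⟩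
  · rw [hT φ hφ]
    rcases hε with rfl | rfl
    · rw [one_smul]; exact IsIrrCharacter.isGeneralized (hμ _)
    · rw [neg_one_smul]; exact IsGeneralized.neg (IsIrrCharacter.isGeneralized (hμ _))
  · rw [hT φ hφ, hT ψ hψ, classInner_smul_left, classInner_smul_right,
      IsIrrCharacter.classInner_eq (hμ _) (hμ _), IsIrrCharacter.classInner_eq (hirr φ hφ) (hirr ψ hψ),
      ← mul_assoc, show ε * starRingEnd ℂ ε = 1 by rcases hε with rfl | rfl <;> simp, one_mul]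
    by_cases h : φ = ψ
    · subst h; simp
    · rw [if_neg h, if_neg fun h' => h (congrArg Subtype.val (hμi h'))]

end CfsgLib.Char
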