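import Mathlib.NumberTheory.NumberField.InfinitePlace.Embeddings
import Mathlib.FieldTheory.IntermediateField.Adjoin.Basic
import Mathlib.RingTheory.Algebraic.Integral

/-!
# Averages of roots of unity that are algebraic integers
-/

set_option autoImplicit false
set_option linter.style.haveILetI false

namespace CfsgLib.Char

theorem isIntegral_of_pow_eq_one {z : ℂ} {m : ℕ} (hm : 0 < m) (hz : z ^ m = 1) :
    IsIntegral ℤ z :=
  IsIntegral.of_pow hm (by rw [hz]; exact isIntegral_one)

theorem exists_int_of_isIntegral_rat {z : ℂ} (q : ℚ) (h : IsIntegral ℤ z) (hz : z = (q : ℂ)) :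
    ∃ n : ℤ, z = n ∧ q = n := by
  subst hz
  have h' : IsIntegral ℤ q := by
    have h1 : IsIntegral ℤ (algebraMap ℚ ℂ q) := by simpa using h
    exact (isIntegral_algebraMap_iff (algebraMap ℚ ℂ).injective).1 h1
  obtain ⟨n, hn⟩ := IsIntegrallyClosed.isIntegral_iff.1 h'
  exact ⟨n, by rw [← hn]; simp, by rw [← hn]; simp⟩

theorem dvd_of_isIntegral_div {a b : ℕ} (hb : b ≠ 0) (h : IsIntegral ℤ ((a : ℂ) / (b : ℂ))) :
    b ∣ a := by
  obtain ⟨n, hn, -⟩ := exists_int_of_isIntegral_rat ((a : ℚ) / (b : ℚ)) h (by simp)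
  rw [div_eq_iff (by exact_mod_cast hb)] at hn
  have : (a : ℤ) = n * b := by exact_mod_cast hn
  exact Int.natCast_dvd_natCast.1 ⟨n, by rw [this]; ring⟩

/-- An algebraic integer that is an average of roots of unity is zero or of absolute value one. -/
theorem eq_zero_or_norm_eq_one_of_average (s : Multiset ℂ)
    (hs : ∀ z ∈ s, ∃ m : ℕ, 0 < m ∧ z ^ m = 1)
    (hint : IsIntegral ℤ (s.sum / (Multiset.card s : ℂ))) :
    s.sum / (Multiset.card s : ℂ) = 0 ∨ ‖s.sum / (Multiset.card s : ℂ)‖ = 1 := by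
  classical
  let S : Set ℂ := ↑s.toFinset
  haveI : Finite S := s.toFinset.finite_toSet.to_subtype
  have hint' : ∀ z ∈ S, IsIntegral ℚ z := fun z hz => by
    obtain ⟨m, hm, hm'⟩ := hs z (Multiset.mem_toFinset.1 hz)
    exact (isIntegral_of_pow_eq_one hm hm').tower_top
  let K := IntermediateField.adjoin ℚ S
  haveI : FiniteDimensional ℚ K := IntermediateField.finiteDimensional_adjoin hint'
  haveI : NumberField K := ⟨⟩
  set a := s.sum / (Multiset.card s : ℂ) with ha
  refine or_iff_not_imp_left.2 fun h0 => ?_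
  let t : Multiset K := s.attach.map fun z =>
    ⟨z.1, IntermediateField.subset_adjoin ℚ S (Multiset.mem_toFinset.2 z.2)⟩
  have htval : t.map (algebraMap K ℂ) = s := by
    simp only [t, Multiset.map_map]
    exact Multiset.attach_map_val s
  have htcard : Multiset.card t = Multiset.card s := by simp [t]
  let x : K := t.sum / (Multiset.card t : K)
  have hx : algebraMap K ℂ x = a := by
    rw [map_div₀, map_multiset_sum, htval, map_natCast, htcard]
  have hx0 : x ≠ 0 := fun e => h0 (by rw [← hx, e, map_zero])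
  have hxi : IsIntegral ℤ x := by
    rw [← hx] at hint
    exact (isIntegral_algebraMap_iff (algebraMap K ℂ).injective).1 hint
  have hle : ∀ φ : K →+* ℂ, ‖φ x‖ ≤ 1 := by
    intro φ
    rw [map_div₀, map_multiset_sum, map_natCast, norm_div, Complex.norm_natCast]
    refine div_le_one_of_le₀ ((norm_multiset_sum_le _).trans (le_of_eq ?_)) (Nat.cast_nonneg _)
    rw [Multiset.map_map, Multiset.map_congr rfl (g := fun _ => (1 : ℝ))]
    · simp
    · intro z hz
      obtain ⟨w, -, rfl⟩ := Multiset.mem_map.1 hz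
      obtain ⟨m, hm, hm'⟩ := hs w.1 w.2
      refine Complex.norm_eq_one_of_pow_eq_one (n := m) ?_ hm.ne'
      rw [← map_pow]
      have : (⟨w.1, IntermediateField.subset_adjoin ℚ S (Multiset.mem_toFinset.2 w.2)⟩ : K) ^ m
          = 1 := Subtype.ext hm'
      rw [this, map_one]
  obtain ⟨n, hn, hxn⟩ := NumberField.Embeddings.pow_eq_one_of_norm_le_one K ℂ hx0 hxi hle
  rw [← hx]
  exact Complex.norm_eq_one_of_pow_eq_one (by rw [← map_pow, hxn, map_one]) (by omega)

end CfsgLib.Char
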