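import Cfsg.Agent.Char.Values
import Mathlib.LinearAlgebra.Trace
import Mathlib.Algebra.Algebra.Basic

/-!
# Kernel and centre of a representation, read off the character
-/

set_option autoImplicit false

namespace CfsgLib.Char

open Module Representation
open scoped ComplexConjugate

universe u v

/-- An endomorphism of finite order all whose powers have the trace of the identity is the
identity. -/
theorem eq_one_of_trace_pow_eq {V : Type v} [AddCommGroup V] [Module ℂ V] [FiniteDimensional ℂ V]
    (A : Module.End ℂ V) {m : ℕ} (hm : 0 < m) (hA : A ^ m = 1)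
    (h : ∀ k < m, LinearMap.trace ℂ V (A ^ k) = (finrank ℂ V : ℂ)) : A = 1 := by
  let U : Submodule ℂ V := LinearMap.ker (A - 1)
  let P : Module.End ℂ V := (m : ℂ)⁻¹ • ∑ k ∈ Finset.range m, A ^ k
  have hm0 : (m : ℂ) ≠ 0 := by exact_mod_cast hm.ne'
  have hU : ∀ v, v ∈ U ↔ A v = v := fun v => by
    simp [U, LinearMap.mem_ker, sub_eq_zero]
  have hproj : LinearMap.IsProj U P := by
    constructor
    · intro v
      rw [hU]
      have h1 : A * ∑ k ∈ Finset.range m, A ^ k = ∑ k ∈ Finset.range m, A ^ k := by
        have h2 := mul_geom_sum A m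
        rw [hA, sub_self, sub_mul, one_mul, sub_eq_zero] at h2
        exact h2
      change A (P v) = P v
      rw [← Module.End.mul_apply]
      simp only [P, mul_smul_comm, h1]
    · intro v hv
      rw [hU] at hv
      have : ∀ k : ℕ, (A ^ k) v = v := by
        intro k
        induction k with
        | zero => simp
        | succ k ih => rw [pow_succ, Module.End.mul_apply, hv, ih]
      simp only [P, LinearMap.smul_apply, LinearMap.sum_apply, this, Finset.sum_const,
        Finset.card_range]
      rw [← Nat.cast_smul_eq_nsmul ℂ m v, smul_smul, inv_mul_cancel₀ hm0, one_smul]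
  have ht := hproj.trace
  rw [map_smul, map_sum, Finset.sum_congr rfl fun k hk => h k (Finset.mem_range.1 hk),
    Finset.sum_const, Finset.card_range, nsmul_eq_mul, smul_eq_mul, inv_mul_cancel_left₀ hm0] at ht
  have hU' : U = ⊤ := Submodule.eq_top_of_finrank_eq (by exact_mod_cast ht.symm)
  ext v
  exact (hU v).1 (hU' ▸ Submodule.mem_top)

variable {G : Type u} [Group G] [Finite G]
  {V : Type v} [AddCommGroup V] [Module ℂ V] [FiniteDimensional ℂ V]

theorem apply_eq_one_of_character_eq (ρ : Representation ℂ G V) {g : G}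
    (h : ρ.character g = (finrank ℂ V : ℂ)) : ρ g = 1 := by
  refine eq_one_of_trace_pow_eq _ (orderOf_pos g)
    (by rw [← map_pow, pow_orderOf_eq_one, map_one]) fun k _ => ?_
  rw [← map_pow]
  have := IsCharacter.apply_pow_eq_degree (isCharacter_character ρ) (g := g)
    (by rw [h, ρ.char_one]) k
  rwa [ρ.char_one] at this

theorem character_eq_iff (ρ : Representation ℂ G V) (g : G) :
    ρ.character g = (finrank ℂ V : ℂ) ↔ ρ g = 1 :=
  ⟨apply_eq_one_of_character_eq ρ, fun h => by
    rw [Representation.character, h, LinearMap.trace_one]⟩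

theorem norm_character_le (ρ : Representation ℂ G V) (g : G) :
    ‖ρ.character g‖ ≤ (finrank ℂ V : ℝ) := by
  have := IsCharacter.norm_apply_le (isCharacter_character ρ) g
  rwa [ρ.char_one, Complex.natCast_re] at this

theorem norm_character_eq_iff (ρ : Representation ℂ G V) (g : G) :
    ‖ρ.character g‖ = (finrank ℂ V : ℝ) ↔ ∃ ω : ℂ, ρ g = ω • (LinearMap.id : V →ₗ[ℂ] V) := by
  obtain ⟨s, hcard, hs, hk⟩ := IsCharacter.exists_roots (isCharacter_character ρ) g
  have h1 : ρ.character g = s.sum := by simpa using hk 1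
  rw [ρ.char_one] at hcard
  have hcard' : Multiset.card s = finrank ℂ V := by exact_mod_cast hcard
  by_cases hn : finrank ℂ V = 0
  · have : Subsingleton V := Module.finrank_zero_iff.1 hn
    refine ⟨fun _ => ⟨0, LinearMap.ext fun v => Subsingleton.elim _ _⟩, fun _ => ?_⟩
    rw [hn, Nat.cast_zero, norm_eq_zero, h1,
      Multiset.card_eq_zero.1 (hcard'.trans hn), Multiset.sum_zero]
  constructor
  · intro h
    set S := s.sum with hS
    have hS0 : S ≠ 0 := by
      intro h0
      rw [h1, h0, norm_zero] at h
      exact hn (by exact_mod_cast h.symm)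
    set c : ℂ := conj S / (‖S‖ : ℂ) with hc
    have hnS : (‖S‖ : ℂ) ≠ 0 := by exact_mod_cast norm_ne_zero_iff.2 hS0
    have hc1 : ‖c‖ = 1 := by
      rw [hc, norm_div, RCLike.norm_conj, Complex.norm_real, norm_norm,
        div_self (norm_ne_zero_iff.2 hS0)]
    have hcS : c * S = (‖S‖ : ℂ) := by
      rw [hc, div_mul_eq_mul_div, Complex.conj_mul', sq, mul_div_assoc, div_self hnS, mul_one]
    have key : ∀ z ∈ s, c * z = 1 := by
      intro z hz
      obtain ⟨t, rfl⟩ := Multiset.exists_cons_of_mem hz
      have hw : ∀ w ∈ z ::ₘ t, ‖w‖ = 1 := fun w hw =>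
        Complex.norm_eq_one_of_pow_eq_one (hs w hw) (orderOf_pos g).ne'
      have ht : (c * t.sum).re ≤ Multiset.card t := by
        refine (Complex.re_le_norm _).trans ?_
        rw [norm_mul, hc1, one_mul]
        refine (norm_multiset_sum_le t).trans (le_of_eq ?_)
        rw [Multiset.map_congr rfl fun w hwt => hw w (Multiset.mem_cons_of_mem hwt)]
        simp
      have hre := congrArg Complex.re hcS
      rw [hS, Multiset.sum_cons, mul_add, Complex.add_re, Complex.ofReal_re] at hre
      rw [h1, hS, ← hcard', Multiset.card_cons, Nat.cast_succ, Multiset.sum_cons] at h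
      have hz1 : ‖c * z‖ = 1 := by rw [norm_mul, hc1, hw z (Multiset.mem_cons_self z t), one_mul]
      have hzre : (c * z).re = 1 :=
        le_antisymm (by linarith [Complex.re_le_norm (c * z)]) (by linarith)
      have hzim : (c * z).im = 0 := by
        have := Complex.sq_norm (c * z)
        rw [hz1, Complex.normSq_apply, hzre] at this
        nlinarith
      exact Complex.ext hzre hzim
    have hc0 : c ≠ 0 := norm_ne_zero_iff.1 (by rw [hc1]; exact one_ne_zero)
    have hcm : c ^ orderOf g = 1 := by
      obtain ⟨z, hz⟩ := Multiset.exists_mem_of_ne_zero (s := s)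
        (fun e => hn (by rw [← hcard', e, Multiset.card_zero]))
      have h2 : (c * z) ^ orderOf g = 1 := by rw [key z hz, one_pow]
      rwa [mul_pow, hs z hz, mul_one] at h2
    have hA : c • ρ g = 1 := by
      refine eq_one_of_trace_pow_eq _ (orderOf_pos g) ?_ fun k _ => ?_
      · rw [smul_pow, ← map_pow, pow_orderOf_eq_one, map_one, hcm, one_smul]
      · rw [smul_pow, map_smul, ← map_pow, smul_eq_mul]
        change c ^ k * ρ.character (g ^ k) = _
        rw [hk, ← Multiset.sum_map_mul_left,
          Multiset.map_congr rfl fun z hz => by rw [← mul_pow, key z hz, one_pow]]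
        simp [hcard']
    exact ⟨c⁻¹, by rw [← Module.End.one_eq_id, ← hA, smul_smul, inv_mul_cancel₀ hc0, one_smul]⟩
  · rintro ⟨ω, hω⟩
    have hval : ρ.character g = ω * finrank ℂ V := by
      rw [Representation.character, hω, map_smul, LinearMap.trace_id, smul_eq_mul]
    have hpow : (ω ^ orderOf g) • (1 : Module.End ℂ V) = 1 := by
      conv_rhs => rw [← map_one ρ, ← pow_orderOf_eq_one g, map_pow, hω]
      rw [← Module.End.one_eq_id, smul_pow, one_pow]
    have hω1 : ω ^ orderOf g = 1 := by
      have h2 := congrArg (LinearMap.trace ℂ V) hpow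
      rw [map_smul, LinearMap.trace_one, smul_eq_mul] at h2
      have : (finrank ℂ V : ℂ) ≠ 0 := by exact_mod_cast hn
      exact (mul_left_eq_self₀.1 h2).resolve_right this
    rw [hval, norm_mul, Complex.norm_eq_one_of_pow_eq_one hω1 (orderOf_pos g).ne', one_mul,
      Complex.norm_natCast]

theorem IsCharacter.apply_mul_of_apply_eq {χ : G → ℂ} (hχ : Cfsg.IsCharacter G χ) {g : G}
    (hg : χ g = χ 1) (h : G) : χ (g * h) = χ h := by
  obtain ⟨n, ρ, rfl⟩ := hχ
  have h1 : ρ g = 1 := apply_eq_one_of_character_eq ρ (by rw [hg, ρ.char_one])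
  simp only [Representation.character, map_mul, h1, one_mul]

/-- The kernel of a character, as a subgroup. -/
def kerSubgroup {χ : G → ℂ} (hχ : Cfsg.IsCharacter G χ) : Subgroup G where
  carrier := {g | χ g = χ 1}
  one_mem' := rfl
  mul_mem' {a b} ha hb := (IsCharacter.apply_mul_of_apply_eq hχ ha b).trans hb
  inv_mem' {a} ha := by
    change χ a⁻¹ = χ 1
    rw [← IsCharacter.apply_mul_of_apply_eq hχ ha a⁻¹, mul_inv_cancel]

@[simp]
theorem mem_kerSubgroup {χ : G → ℂ} (hχ : Cfsg.IsCharacter G χ) (g : G) :
    g ∈ kerSubgroup hχ ↔ χ g = χ 1 := Iff.rfl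

theorem kerSubgroup_normal {χ : G → ℂ} (hχ : Cfsg.IsCharacter G χ) :
    (kerSubgroup hχ).Normal :=
  ⟨fun a ha g => (IsCharacter.isClassFunction hχ a g).trans ha⟩

end CfsgLib.Char
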