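import Cfsg.Agent.Char.Orthogonality
import Cfsg.Agent.Char.AlgInt
import Cfsg.Agent.Char.Kernel
import Mathlib.RingTheory.IntegralClosure.Algebra.Basic

/-!
# Central characters, class sums, degrees dividing the group order
-/

set_option autoImplicit false
set_option linter.style.haveILetI false

namespace CfsgLib.Char

open Module Representation
open scoped ComplexConjugate

universe u v

variable {G : Type u} [Group G] {V : Type v} [AddCommGroup V] [Module ℂ V]
  [FiniteDimensional ℂ V]

theorem finrank_pos_of_isIrreducible (ρ : Representation ℂ G V) [ρ.IsIrreducible] :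
    0 < finrank ℂ V := by
  obtain ⟨n, hn, hn'⟩ := IsIrrCharacter.exists_degree (isIrrCharacter_character ρ)
  rw [ρ.char_one] at hn'
  have h : finrank ℂ V = n := by exact_mod_cast hn'
  omega

/-- Schur's lemma: a map commuting with an irreducible representation is scalar. -/
theorem eq_smul_one_of_commute (ρ : Representation ℂ G V) [ρ.IsIrreducible]
    (A : Module.End ℂ V) (hA : ∀ g, ρ g * A = A * ρ g) :
    A = (LinearMap.trace ℂ V A / (finrank ℂ V : ℂ)) • (1 : Module.End ℂ V) := by
  let f : IntertwiningMap ρ ρ := ⟨A, fun x => (hA x).symm⟩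
  obtain ⟨c, hc⟩ := (IsIrreducible.algebraMap_intertwiningMap_bijective_of_isAlgClosed (ρ := ρ)).2 f
  have h1 : A = c • (1 : Module.End ℂ V) := by
    refine (congrArg IntertwiningMap.toLinearMap hc).symm.trans ?_
    ext v
    simp [Algebra.algebraMap_eq_smul_one]
  have hn : (finrank ℂ V : ℂ) ≠ 0 := by exact_mod_cast (finrank_pos_of_isIrreducible ρ).ne'
  have h2 : c = LinearMap.trace ℂ V A / (finrank ℂ V : ℂ) := by
    rw [h1, map_smul, LinearMap.trace_one, smul_eq_mul, mul_div_cancel_right₀ c hn]
  rw [← h2]; exact h1

/-- A class function gives a scalar in an irreducible representation. -/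
theorem sum_smul_eq_smul_one [Fintype G] (ρ : Representation ℂ G V) [ρ.IsIrreducible]
    {θ : G → ℂ} (hθ : Cfsg.IsClassFunction G θ) :
    ∑ g, θ g • ρ g =
      ((∑ g, θ g * ρ.character g) / (finrank ℂ V : ℂ)) • (1 : Module.End ℂ V) := by
  have h := eq_smul_one_of_commute ρ (∑ g, θ g • ρ g) fun x => by
    rw [Finset.mul_sum, Finset.sum_mul]
    refine Fintype.sum_equiv (MulAut.conj x).toEquiv _ _ fun g => ?_
    have : (MulAut.conj x).toEquiv g = x * g * x⁻¹ := rfl
    rw [this, hθ g x, smul_mul_assoc, mul_smul_comm, ← map_mul, ← map_mul, inv_mul_cancel_right]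
  rw [h]
  simp [map_sum, Representation.character]

/-- The sum of a conjugacy class acts as the central character. -/
theorem classSum_eq_smul_one [Fintype G] (ρ : Representation ℂ G V) [ρ.IsIrreducible] (g : G)
    [DecidablePred fun x : G => IsConj g x] :
    (∑ x ∈ Finset.univ.filter (fun x => IsConj g x), ρ x) =
      ((Nat.card {x : G // IsConj g x} : ℂ) * ρ.character g / (finrank ℂ V : ℂ)) •
        (1 : Module.End ℂ V) := by
  have hθ : Cfsg.IsClassFunction G (fun x => if IsConj g x then (1 : ℂ) else 0) := by
    intro x y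
    have : IsConj x (y * x * y⁻¹) := isConj_iff.2 ⟨y, rfl⟩
    exact if_congr ⟨fun a => a.trans this.symm, fun a => a.trans this⟩ rfl rfl
  have h := sum_smul_eq_smul_one ρ hθ
  simp only [ite_smul, one_smul, zero_smul, ite_mul, one_mul, zero_mul, ← Finset.sum_filter] at h
  rw [h, Finset.sum_congr rfl (fun x hx => by
    rw [← IsClassFunction.apply_eq_of_isConj (IsCharacter.isClassFunction
      (isCharacter_character ρ)) (Finset.mem_filter.1 hx).2]),
    Finset.sum_const, nsmul_eq_mul, ← Nat.card_eq_finsetCard]
  simp

/-- The values of the central character are algebraic integers. -/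
theorem isIntegral_class_mul_char_div [Finite G] (ρ : Representation ℂ G V) [ρ.IsIrreducible]
    (g : G) :
    IsIntegral ℤ
      ((Nat.card {x : G // IsConj g x} : ℂ) * ρ.character g / (finrank ℂ V : ℂ)) := by
  classical
  haveI := Fintype.ofFinite G
  set ω := (Nat.card {x : G // IsConj g x} : ℂ) * ρ.character g / (finrank ℂ V : ℂ)
  let F : MonoidAlgebra ℤ G →ₐ[ℤ] Module.End ℂ V := MonoidAlgebra.lift ℤ _ G ρ
  let s : MonoidAlgebra ℤ G :=
    ∑ x ∈ Finset.univ.filter (fun x => IsConj g x), MonoidAlgebra.single x 1
  have hs : F s = algebraMap ℂ (Module.End ℂ V) ω := by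
    rw [Algebra.algebraMap_eq_smul_one, ← classSum_eq_smul_one ρ g, map_sum]
    exact Finset.sum_congr rfl fun x _ => by simp [F]
  haveI : Module.Finite ℤ (MonoidAlgebra ℤ G) :=
    Module.Finite.of_basis (MonoidAlgebra.basis G ℤ)
  have h1 : IsIntegral ℤ (F s) := (IsIntegral.of_finite ℤ s).map F
  rw [hs] at h1
  haveI : Nontrivial V := Module.nontrivial_of_finrank_pos (finrank_pos_of_isIrreducible ρ)
  exact (isIntegral_algebraMap_iff (algebraMap ℂ (Module.End ℂ V)).injective).1 h1

/-- The degree of an irreducible representation divides the order of the group. -/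
theorem finrank_dvd_card [Finite G] (ρ : Representation ℂ G V) [ρ.IsIrreducible] :
    finrank ℂ V ∣ Nat.card G := by
  classical
  haveI := Fintype.ofFinite G
  have hn := (finrank_pos_of_isIrreducible ρ).ne'
  refine dvd_of_isIntegral_div hn ?_
  have h := sum_eq_card_mul_classInner ρ.character ρ.character
  rw [IsIrrCharacter.classInner_self (isIrrCharacter_character ρ), mul_one] at h
  rw [← h, Finset.sum_div,
    ← Finset.sum_fiberwise_of_maps_to (t := Finset.univ.image ConjClasses.mk)
      (g := ConjClasses.mk) (fun x _ => Finset.mem_image_of_mem _ (Finset.mem_univ x))]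
  refine IsIntegral.sum _ fun C hC => ?_
  obtain ⟨g, -, rfl⟩ := Finset.mem_image.1 hC
  have hcl := IsCharacter.isClassFunction (isCharacter_character ρ)
  rw [Finset.sum_congr rfl fun x hx => by
    rw [← IsClassFunction.apply_eq_of_isConj hcl
      (ConjClasses.mk_eq_mk_iff_isConj.1 (Finset.mem_filter.1 hx).2.symm)],
    Finset.sum_const, nsmul_eq_mul]
  have hcard : (Finset.univ.filter fun x => ConjClasses.mk x = ConjClasses.mk g).card =
      Nat.card {x : G // IsConj g x} := by
    rw [← Nat.card_eq_finsetCard]
    exact Nat.card_congr (Equiv.subtypeEquivRight fun x => by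
      simp only [Finset.mem_filter, Finset.mem_univ, true_and, ConjClasses.mk_eq_mk_iff_isConj]
      exact isConj_comm)
  rw [hcard, show (Nat.card {x : G // IsConj g x} : ℂ) *
      (ρ.character g * conj (ρ.character g) / (finrank ℂ V : ℂ)) =
      (Nat.card {x : G // IsConj g x} : ℂ) * ρ.character g / (finrank ℂ V : ℂ) *
        conj (ρ.character g) by ring]
  refine (isIntegral_class_mul_char_div ρ g).mul ?_
  rw [← IsCharacter.apply_inv (isCharacter_character ρ)]
  exact IsCharacter.isIntegral (isCharacter_character ρ) _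

/-- The central character value is an algebraic integer, with the class size as an index. -/
theorem isIntegral_index_mul_char_div [Finite G] (ρ : Representation ℂ G V) [ρ.IsIrreducible]
    (g : G) :
    IsIntegral ℤ (((Subgroup.centralizer ({g} : Set G)).index : ℂ) * ρ.character g /
      (finrank ℂ V : ℂ)) := by
  rw [← card_conj_class]; exact isIntegral_class_mul_char_div ρ g

/-- Burnside: degree coprime to class size forces a zero value or a scalar. -/
theorem char_eq_zero_or_norm_eq [Finite G] (ρ : Representation ℂ G V) [ρ.IsIrreducible] (g : G)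
    (hcop : Nat.Coprime (finrank ℂ V) (Subgroup.centralizer ({g} : Set G)).index) :
    ρ.character g = 0 ∨ ‖ρ.character g‖ = (finrank ℂ V : ℝ) := by
  obtain ⟨s, hcard, hs, hk⟩ := IsCharacter.exists_roots (isCharacter_character ρ) g
  have h1 : ρ.character g = s.sum := by simpa using hk 1
  rw [ρ.char_one] at hcard
  have hn0 : (finrank ℂ V : ℂ) ≠ 0 := by exact_mod_cast (finrank_pos_of_isIrreducible ρ).ne'
  have hint : IsIntegral ℤ (ρ.character g / (finrank ℂ V : ℂ)) := by
    have hb : (1 : ℤ) = (finrank ℂ V : ℤ) *
          Nat.gcdA (finrank ℂ V) (Subgroup.centralizer ({g} : Set G)).index +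
        ((Subgroup.centralizer ({g} : Set G)).index : ℤ) *
          Nat.gcdB (finrank ℂ V) (Subgroup.centralizer ({g} : Set G)).index := by
      rw [← Nat.gcd_eq_gcd_ab, hcop.gcd_eq_one, Nat.cast_one]
    have hb' := congrArg (Int.cast (R := ℂ)) hb
    push_cast at hb'
    have key : ρ.character g / (finrank ℂ V : ℂ) =
        (Nat.gcdA (finrank ℂ V) (Subgroup.centralizer ({g} : Set G)).index : ℂ) * ρ.character g +
        (Nat.gcdB (finrank ℂ V) (Subgroup.centralizer ({g} : Set G)).index : ℂ) *
          (((Subgroup.centralizer ({g} : Set G)).index : ℂ) * ρ.character g /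
            (finrank ℂ V : ℂ)) := by
      field_simp
      linear_combination (ρ.character g) * hb'
    rw [key]
    have hi : ∀ z : ℤ, IsIntegral ℤ (z : ℂ) := fun z => isIntegral_algebraMap (x := z)
    exact ((hi _).mul (IsCharacter.isIntegral (isCharacter_character ρ) g)).add
      ((hi _).mul (isIntegral_index_mul_char_div ρ g))
  rw [h1, ← hcard] at hint
  rcases eq_zero_or_norm_eq_one_of_average s
    (fun z hz => ⟨orderOf g, orderOf_pos g, hs z hz⟩) hint with h | h
  · left
    rw [hcard, div_eq_zero_iff] at h
    rw [h1]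
    exact h.resolve_right hn0
  · right
    rw [hcard, norm_div, Complex.norm_natCast, div_eq_one_iff_eq (by exact_mod_cast
      (finrank_pos_of_isIrreducible ρ).ne')] at h
    rw [h1, h]

/-- The central character value is an algebraic integer, for irreducible characters. -/
theorem IsIrrCharacter.isIntegral_class_mul_div [Finite G] {χ : G → ℂ}
    (hχ : Cfsg.IsIrrCharacter G χ) (g : G) :
    IsIntegral ℤ (((Subgroup.centralizer ({g} : Set G)).index : ℂ) * χ g / χ 1) := by
  obtain ⟨n, ρ, hρ, rfl⟩ := hχ
  rw [ρ.char_one]
  exact isIntegral_index_mul_char_div ρ g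

/-- The degree of an irreducible character divides the group order. -/
theorem IsIrrCharacter.degree_dvd_card [Finite G] {χ : G → ℂ} (hχ : Cfsg.IsIrrCharacter G χ)
    {d : ℕ} (hd : χ 1 = d) : d ∣ Nat.card G := by
  obtain ⟨n, ρ, hρ, rfl⟩ := hχ
  rw [ρ.char_one] at hd
  have : finrank ℂ (Fin n → ℂ) = d := by exact_mod_cast hd
  rw [← this]; exact finrank_dvd_card ρ

end CfsgLib.Char
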