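import Cfsg.Agent.Char.Orthogonality

/-!
# Brauer's permutation lemma
-/

set_option autoImplicit false
set_option linter.style.haveILetI false

namespace CfsgLib.Char

open scoped ComplexConjugate

universe u

variable {G : Type u} [Group G]

theorem card_conj_class_fiber [Finite G] (C : ConjClasses G) :
    Nat.card {g : G // ConjClasses.mk g = C} *
      Nat.card (Subgroup.centralizer ({C.out} : Set G)) = Nat.card G := by
  rw [← card_conj_class_mul_card_centralizer C.out]
  congr 1
  refine Nat.card_congr (Equiv.subtypeEquivRight fun g => ?_)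
  have hC : ConjClasses.mk C.out = C := Quotient.out_eq C
  rw [isConj_comm, ← ConjClasses.mk_eq_mk_iff_isConj, hC]

/-- Brauer's permutation lemma: a map of the irreducible characters compatible with a map of the
conjugacy classes fixes as many characters as the latter fixes classes. -/
theorem card_fixed_irr_eq_card_fixed_class [Finite G] (π : Cfsg.IrrCharacter G → Cfsg.IrrCharacter G)
    (f : ConjClasses G → ConjClasses G)
    (hcompat : ∀ (χ : Cfsg.IrrCharacter G) (g : G),
      (π χ : G → ℂ) g = (χ : G → ℂ) (f (ConjClasses.mk g)).out) :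
    Nat.card {χ : Cfsg.IrrCharacter G // π χ = χ} = Nat.card {C : ConjClasses G // f C = C} := by
  classical
  haveI := Fintype.ofFinite G
  haveI := Fintype.ofFinite (Cfsg.IrrCharacter G)
  haveI := Fintype.ofFinite (ConjClasses G)
  have hG : (Nat.card G : ℂ) ≠ 0 := by exact_mod_cast (Nat.card_pos (α := G)).ne'
  have h1 : (Nat.card {χ : Cfsg.IrrCharacter G // π χ = χ} : ℂ) =
      ∑ χ : Cfsg.IrrCharacter G, Cfsg.classInner (π χ : G → ℂ) χ := by
    have : ∀ χ : Cfsg.IrrCharacter G, Cfsg.classInner (π χ : G → ℂ) χ =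
        if π χ = χ then 1 else 0 := fun χ => by
      rw [IsIrrCharacter.classInner_eq (π χ).2 χ.2]
      exact if_congr Subtype.ext_iff.symm rfl rfl
    rw [Finset.sum_congr rfl fun χ _ => this χ, Finset.sum_boole, Nat.card_eq_fintype_card,
      Fintype.card_subtype]
  have h2 : (Nat.card G : ℂ) * ∑ χ : Cfsg.IrrCharacter G, Cfsg.classInner (π χ : G → ℂ) χ =
      ∑ g : G, if f (ConjClasses.mk g) = ConjClasses.mk g then
        (Nat.card (Subgroup.centralizer ({(f (ConjClasses.mk g)).out} : Set G)) : ℂ) else 0 := by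
    rw [Finset.mul_sum]
    simp only [← sum_eq_card_mul_classInner, hcompat]
    rw [Finset.sum_comm]
    refine Finset.sum_congr rfl fun g _ => ?_
    rw [← (Finset.sum_subtype (irrFinset G) (fun χ => mem_irrFinset)
      (fun χ => χ (f (ConjClasses.mk g)).out * conj (χ g))), sum_irr_mul_conj]
    refine if_congr ?_ rfl rfl
    rw [← ConjClasses.mk_eq_mk_iff_isConj, show ConjClasses.mk (f (ConjClasses.mk g)).out =
      f (ConjClasses.mk g) from Quotient.out_eq _]
  have h3 : (∑ g : G, if f (ConjClasses.mk g) = ConjClasses.mk g then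
        (Nat.card (Subgroup.centralizer ({(f (ConjClasses.mk g)).out} : Set G)) : ℂ) else 0) =
      (Nat.card G : ℂ) * Nat.card {C : ConjClasses G // f C = C} := by
    rw [← Finset.sum_fiberwise Finset.univ ConjClasses.mk, Nat.card_eq_fintype_card (α := {C // _}),
      Fintype.card_subtype, mul_comm, ← nsmul_eq_mul, ← Finset.sum_const, Finset.sum_filter]
    refine Finset.sum_congr rfl fun C _ => ?_
    rw [Finset.sum_congr rfl fun g hg => by rw [(Finset.mem_filter.1 hg).2], Finset.sum_const]
    split_ifs with hC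
    · rw [nsmul_eq_mul, hC, ← Nat.cast_mul, ← Nat.card_eq_finsetCard,
        ← card_conj_class_fiber C]
      congr 2
      exact Nat.card_congr (Equiv.subtypeEquivRight fun g => by simp)
    · simp
  have h4 := h2.trans h3
  rw [← h1] at h4
  exact_mod_cast mul_left_cancel₀ hG h4

/-- Brauer's permutation lemma for an automorphism. -/
theorem card_fixed_irr_aut [Finite G] (α : G ≃* G) :
    Nat.card {C : ConjClasses G // ConjClasses.map α.toMonoidHom C = C} =
      Nat.card {χ : Cfsg.IrrCharacter G // (χ : G → ℂ) ∘ α = (χ : G → ℂ)} := by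
  let π : Cfsg.IrrCharacter G → Cfsg.IrrCharacter G := fun χ =>
    ⟨fun g => (χ : G → ℂ) (α g),
      IsIrrCharacter.comp_surjective χ.2 α.toMonoidHom α.surjective⟩
  rw [← card_fixed_irr_eq_card_fixed_class π (ConjClasses.map α.toMonoidHom) fun χ g => ?_]
  · exact Nat.card_congr (Equiv.subtypeEquivRight fun χ => Subtype.ext_iff)
  · change (χ : G → ℂ) (α g) = _
    exact IsClassFunction.apply_eq_of_isConj (IsIrrCharacter.isClassFunction χ.2)
      (ConjClasses.mk_eq_mk_iff_isConj.1 (Quotient.out_eq _).symm)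

/-- Complex conjugation fixes as many irreducible characters as inversion fixes classes. -/
theorem card_real_irr [Finite G] :
    Nat.card {χ : Cfsg.IrrCharacter G // ∀ g : G, ((χ : G → ℂ) g).im = 0} =
      Nat.card {C : ConjClasses G // ∀ g : G, ConjClasses.mk g = C → IsConj g g⁻¹} := by
  let π : Cfsg.IrrCharacter G → Cfsg.IrrCharacter G := fun χ =>
    ⟨fun g => conj ((χ : G → ℂ) g), IsIrrCharacter.conj χ.2⟩
  let f : ConjClasses G → ConjClasses G :=
    Quotient.map (fun g => g⁻¹) (fun a b (h : IsConj a b) => by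
      obtain ⟨c, rfl⟩ := isConj_iff.1 h
      exact isConj_iff.2 ⟨c, by group⟩)
  have hf : ∀ g, f (ConjClasses.mk g) = ConjClasses.mk g⁻¹ := fun g => rfl
  have key := card_fixed_irr_eq_card_fixed_class π f fun χ g => by
    rw [hf]
    change conj ((χ : G → ℂ) g) = _
    rw [← IsIrrCharacter.apply_inv χ.2]
    exact IsClassFunction.apply_eq_of_isConj (IsIrrCharacter.isClassFunction χ.2)
      (ConjClasses.mk_eq_mk_iff_isConj.1 (Quotient.out_eq _).symm)
  refine Eq.trans (Nat.card_congr (Equiv.subtypeEquivRight fun χ => ?_)) (key.trans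
    (Nat.card_congr (Equiv.subtypeEquivRight fun C => ?_)))
  · rw [Subtype.ext_iff, funext_iff]
    exact forall_congr' fun g => Complex.conj_eq_iff_im.symm
  · constructor
    · rintro hC g rfl
      rw [hf, ConjClasses.mk_eq_mk_iff_isConj] at hC
      exact hC.symm
    · intro hC
      obtain ⟨g, rfl⟩ := ConjClasses.mk_surjective C
      rw [hf, ConjClasses.mk_eq_mk_iff_isConj]
      exact (hC g rfl).symm

/-- In a group of odd order, the principal character is the only real irreducible character. -/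
theorem eq_one_of_real_of_odd [Finite G] (hodd : Odd (Nat.card G)) {χ : G → ℂ}
    (hχ : Cfsg.IsIrrCharacter G χ) (hreal : ∀ g : G, (χ g).im = 0) : χ = fun _ => 1 := by
  classical
  have hone : ∀ g : G, IsConj g g⁻¹ → g = 1 := by
    intro g hg
    obtain ⟨c, hc⟩ := isConj_iff.1 hg
    have h2 : c ^ 2 * g = g * c ^ 2 := by
      have e : c ^ 2 * g * (c ^ 2)⁻¹ = g := by
        calc c ^ 2 * g * (c ^ 2)⁻¹ = c * (c * g * c⁻¹) * c⁻¹ := by rw [pow_two]; group
          _ = (c * g * c⁻¹)⁻¹ := by rw [show (c * g * c⁻¹)⁻¹ = c * g⁻¹ * c⁻¹ by group, hc]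
          _ = g := by rw [hc, inv_inv]
      calc c ^ 2 * g = c ^ 2 * g * (c ^ 2)⁻¹ * c ^ 2 := by group
        _ = g * c ^ 2 := by rw [e]
    have hcomm : Commute c g := by
      have hk : c ∈ Subgroup.zpowers (c ^ 2) := by
        obtain ⟨m, hm⟩ := hodd.of_dvd_nat (orderOf_dvd_natCard c)
        refine Subgroup.mem_zpowers_iff.2 ⟨(m + 1 : ℕ), ?_⟩
        rw [zpow_natCast, ← pow_mul, show 2 * (m + 1) = orderOf c + 1 by omega, pow_succ,
          pow_orderOf_eq_one, one_mul]
      obtain ⟨z, hz⟩ := Subgroup.mem_zpowers_iff.1 hk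
      rw [← hz]
      exact (show Commute (c ^ 2) g from h2).zpow_left z
    rw [hcomm.eq, mul_inv_cancel_right] at hc
    have : g ^ 2 = 1 := by rw [pow_two]; nth_rw 2 [hc]; exact mul_inv_cancel g
    rcases (Nat.dvd_prime Nat.prime_two).1 (orderOf_dvd_of_pow_eq_one this) with h | h
    · exact orderOf_eq_one_iff.1 h
    · exact absurd (h ▸ orderOf_dvd_natCard g) (Nat.two_dvd_ne_zero.2 (Nat.odd_iff.1 hodd))
  have key := card_real_irr (G := G)
  haveI : Subsingleton {C : ConjClasses G // ∀ g : G, ConjClasses.mk g = C → IsConj g g⁻¹} := by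
    refine ⟨fun C D => Subtype.ext ?_⟩
    obtain ⟨c, hc⟩ := ConjClasses.mk_surjective C.1
    obtain ⟨d, hd⟩ := ConjClasses.mk_surjective D.1
    rw [← hc, ← hd, hone c (C.2 c hc), hone d (D.2 d hd)]
  have hle : Nat.card {χ : Cfsg.IrrCharacter G // ∀ g : G, ((χ : G → ℂ) g).im = 0} ≤ 1 := by
    rw [key]; exact Finite.card_le_one_iff_subsingleton.2 inferInstance
  haveI := Finite.card_le_one_iff_subsingleton.1 hle
  exact congrArg (fun x => (x.1 : G → ℂ)) (Subsingleton.elim
    (α := {χ : Cfsg.IrrCharacter G // ∀ g : G, ((χ : G → ℂ) g).im = 0})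
    ⟨⟨χ, hχ⟩, hreal⟩ ⟨⟨_, isIrrCharacter_one⟩, fun _ => Complex.one_im⟩)

end CfsgLib.Char
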