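import Mathlib.GroupTheory.Index
import Mathlib.GroupTheory.OrderOfElement
import Mathlib.GroupTheory.Subgroup.Centralizer
import Mathlib.Data.Nat.ChineseRemainder
import Mathlib.Tactic.Group
import Mathlib.Tactic.Linarith

/-!
# Conjugacy in a coset of a subgroup normalised by an element of coprime order
-/

set_option autoImplicit false
set_option linter.style.haveILetI false

namespace CfsgLib.Char

universe u

variable {G : Type u} [Group G]

theorem exists_pow_eq_self_and_one [Finite G] {H : Subgroup G} {g : G}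
    (hcop : Nat.Coprime (orderOf g) (Nat.card H)) :
    ∃ k : ℕ, g ^ k = g ∧ ∀ c ∈ H, c ^ k = 1 := by
  obtain ⟨k, hk1, hk2⟩ := Nat.chineseRemainder hcop 1 0
  refine ⟨k, ?_, fun c hc => ?_⟩
  · conv_rhs => rw [← pow_one g]
    exact pow_eq_pow_iff_modEq.2 hk1
  · have h1 : orderOf c ∣ Nat.card H := by
      have := orderOf_dvd_natCard (⟨c, hc⟩ : H)
      rwa [Subgroup.orderOf_mk] at this
    exact orderOf_dvd_iff_pow_eq_one.1 (h1.trans (Nat.modEq_zero_iff_dvd.1 hk2))

/-- Every element of the coset `H g` is conjugate under `H` to an element of `C_H(g) g`, when `g`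
normalises `H` and has order coprime to that of `H`. -/
theorem exists_conj_mem_centralizer_mul [Finite G] (H : Subgroup G) (g : G)
    (hg : ∀ h ∈ H, g * h * g⁻¹ ∈ H) (hcop : Nat.Coprime (orderOf g) (Nat.card H)) (h : G)
    (hh : h ∈ H) : ∃ x ∈ H, ∃ c ∈ H, c * g = g * c ∧ x * (h * g) * x⁻¹ = c * g := by
  classical
  obtain ⟨k, hk, hk'⟩ := exists_pow_eq_self_and_one hcop
  let C : Subgroup H := (Subgroup.centralizer ({g} : Set G)).comap H.subtype
  have hC : ∀ c : H, c ∈ C ↔ (c : G) * g = g * c := fun c => by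
    change (c : G) ∈ Subgroup.centralizer ({g} : Set G) ↔ _
    exact Subgroup.mem_centralizer_singleton_iff
  let F : (H ⧸ C) × C → H := fun q =>
    ⟨(q.1.out : G) * ((q.2 : H) : G) * (g * (q.1.out : G)⁻¹ * g⁻¹),
      H.mul_mem (H.mul_mem q.1.out.2 (q.2 : H).2) (hg _ (H.inv_mem q.1.out.2))⟩
  have hF : ∀ q : (H ⧸ C) × C, (F q : G) * g =
      (q.1.out : G) * (((q.2 : H) : G) * g) * (q.1.out : G)⁻¹ := fun q => by
    simp only [F]; group
  have hinj : Function.Injective F := by
    intro p q hpq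
    have h1 : (p.1.out : G) * (((p.2 : H) : G) * g) * (p.1.out : G)⁻¹ =
        (q.1.out : G) * (((q.2 : H) : G) * g) * (q.1.out : G)⁻¹ := by rw [← hF, ← hF, hpq]
    have hpow : ∀ r : (H ⧸ C) × C,
        ((r.1.out : G) * (((r.2 : H) : G) * g) * (r.1.out : G)⁻¹) ^ k =
          (r.1.out : G) * g * (r.1.out : G)⁻¹ := fun r => by
      rw [conj_pow, (show Commute ((r.2 : H) : G) g from (hC r.2).1 r.2.2).mul_pow, hk,
        hk' _ (r.2 : H).2, one_mul]
    have h2 := congrArg (· ^ k) h1
    simp only [hpow] at h2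
    have hmem : (q.1.out)⁻¹ * p.1.out ∈ C := by
      rw [hC]
      simp only [Subgroup.coe_mul, Subgroup.coe_inv]
      calc (q.1.out : G)⁻¹ * p.1.out * g
          = (q.1.out : G)⁻¹ * ((p.1.out : G) * g * (p.1.out : G)⁻¹) * p.1.out := by group
        _ = g * ((q.1.out : G)⁻¹ * p.1.out) := by rw [h2]; group
    have hpq1 : p.1 = q.1 := by
      rw [← QuotientGroup.out_eq' p.1, ← QuotientGroup.out_eq' q.1, eq_comm, QuotientGroup.eq]
      exact hmem
    refine Prod.ext hpq1 (Subtype.ext (Subtype.ext ?_))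
    rw [hpq1] at h1
    exact mul_right_cancel (mul_left_cancel (mul_right_cancel h1))
  have hsurj := (hinj.bijective_of_nat_card_le (by
    rw [Nat.card_prod, ← C.card_eq_card_quotient_mul_card_subgroup])).2
  obtain ⟨q, hq⟩ := hsurj ⟨h, hh⟩
  have h3 : h * g = (q.1.out : G) * (((q.2 : H) : G) * g) * (q.1.out : G)⁻¹ := by
    rw [← hF, hq]
  exact ⟨(q.1.out : G)⁻¹, H.inv_mem q.1.out.2, ((q.2 : H) : G), (q.2 : H).2, (hC _).1 q.2.2,
    by rw [h3]; group⟩

end CfsgLib.Char
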