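import Cfsg.Agent.Char.CliffordCorrespondence
import Cfsg.Agent.Char.BrauerPerm
import Cfsg.Agent.Char.CosetConj

/-!
# Characters of Frobenius groups; fixed characters under coprime conjugation
-/

set_option autoImplicit false
set_option linter.style.haveILetI false

namespace CfsgLib.Char

open scoped ComplexConjugate

universe u

variable {G : Type u} [Group G]

/-- An element fixing a nonprincipal character of `N` fixes a nontrivial class of `N`, and
conversely. -/
theorem exists_fixed_irr_iff [Finite G] {N : Subgroup G} [hN : N.Normal] (x : G) :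
    (∃ θ : N → ℂ, Cfsg.IsIrrCharacter N θ ∧ θ ≠ (fun _ => 1) ∧ conjOn x θ = θ) ↔
      ∃ n : N, n ≠ 1 ∧ IsConj n (MulAut.conjNormal x n) := by
  classical
  have key := card_fixed_irr_aut (G := N) (MulAut.conjNormal x)
  let one₀ : {χ : Cfsg.IrrCharacter N // (χ : N → ℂ) ∘ (MulAut.conjNormal x : N ≃* N) = χ} :=
    ⟨⟨fun _ => 1, isIrrCharacter_one⟩, rfl⟩
  let cls₀ : {C : ConjClasses N //
      ConjClasses.map (MulAut.conjNormal x : N ≃* N).toMonoidHom C = C} :=
    ⟨ConjClasses.mk 1, by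
      change ConjClasses.mk ((MulAut.conjNormal x : N ≃* N).toMonoidHom 1) = _
      rw [map_one]⟩
  have hiff : (¬ Subsingleton {χ : Cfsg.IrrCharacter N //
      (χ : N → ℂ) ∘ (MulAut.conjNormal x : N ≃* N) = χ}) ↔
      ¬ Subsingleton {C : ConjClasses N //
        ConjClasses.map (MulAut.conjNormal x : N ≃* N).toMonoidHom C = C} := by
    rw [← Finite.card_le_one_iff_subsingleton, ← Finite.card_le_one_iff_subsingleton, key]
  constructor
  · rintro ⟨θ, hθ, hne, hfix⟩
    have h1 := hiff.1 fun h => hne (congrArg (fun y => (y.1 : N → ℂ))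
      (@Subsingleton.elim _ h ⟨⟨θ, hθ⟩, (conjOn_eq_comp x θ).symm.trans hfix⟩ one₀))
    by_contra! hall
    refine h1 ⟨fun C D => ?_⟩
    have : ∀ E : {C : ConjClasses N //
        ConjClasses.map (MulAut.conjNormal x : N ≃* N).toMonoidHom C = C}, E = cls₀ := by
      intro E
      obtain ⟨n, hn⟩ := ConjClasses.mk_surjective E.1
      apply Subtype.ext
      by_cases h0 : n = 1
      · rw [← hn, h0]
      · have h2 := E.2
        rw [← hn] at h2
        exact absurd (ConjClasses.mk_eq_mk_iff_isConj.1 h2).symm (hall n h0)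
    rw [this C, this D]
  · rintro ⟨n, hn, hc⟩
    have h1 := hiff.2 fun h => hn (isConj_one_left.1 (ConjClasses.mk_eq_mk_iff_isConj.1
      (congrArg Subtype.val (@Subsingleton.elim _ h ⟨ConjClasses.mk n,
        ConjClasses.mk_eq_mk_iff_isConj.2 hc.symm⟩ cls₀))))
    by_contra! hall
    refine h1 ⟨fun χ ψ => ?_⟩
    have : ∀ ξ : {χ : Cfsg.IrrCharacter N //
        (χ : N → ℂ) ∘ (MulAut.conjNormal x : N ≃* N) = χ}, ξ = one₀ := fun ξ => by
      apply Subtype.ext; apply Subtype.ext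
      by_contra h0
      exact hall ξ.1 ξ.1.2 h0 ((conjOn_eq_comp x ξ.1.1).trans ξ.2)
    rw [this χ, this ψ]

/-- For a normal subgroup containing the centralizers of its nontrivial elements, the inertia
group of a nonprincipal irreducible character is the subgroup. -/
theorem inertia_le_of_centralizer_le [Finite G] {N : Subgroup G} [hN : N.Normal]
    (hC : ∀ n ∈ N, n ≠ 1 → Subgroup.centralizer ({n} : Set G) ≤ N) {θ : N → ℂ}
    (hθ : Cfsg.IsIrrCharacter N θ) (h1 : θ ≠ fun _ => 1) : inertia θ ≤ N := by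
  intro x hx
  obtain ⟨n, hn, hc⟩ := (exists_fixed_irr_iff x).1 ⟨θ, hθ, h1, hx⟩
  obtain ⟨m, hm⟩ := isConj_iff.1 hc
  have h2 : (m : G) * n * (m : G)⁻¹ = x * n * x⁻¹ := by
    have := congrArg Subtype.val hm
    simpa using this
  have h3 : (m : G)⁻¹ * x ∈ Subgroup.centralizer ({(n : G)} : Set G) := by
    rw [Subgroup.mem_centralizer_singleton_iff]
    calc (m : G)⁻¹ * x * n = (m : G)⁻¹ * (x * n * x⁻¹) * x := by group
      _ = n * ((m : G)⁻¹ * x) := by rw [← h2]; group
  have h4 := hC n n.2 (fun h => hn (Subtype.ext h)) h3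
  have h5 := N.mul_mem m.2 h4
  rwa [mul_inv_cancel_left] at h5

theorem isIrrCharacter_indFun_of_centralizer_le [Fintype G] {N : Subgroup G} [hN : N.Normal]
    (hC : ∀ n ∈ N, n ≠ 1 → Subgroup.centralizer ({n} : Set G) ≤ N) {θ : N → ℂ}
    (hθ : Cfsg.IsIrrCharacter N θ) (h1 : θ ≠ fun _ => 1) :
    Cfsg.IsIrrCharacter G (Cfsg.indFun N θ) :=
  isIrrCharacter_indFun_of_inertia_le hθ (inertia_le_of_centralizer_le hC hθ h1)

/-- The characters of a Frobenius group not trivial on the kernel are induced from it. -/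
theorem exists_indFun_eq_of_centralizer_le [Fintype G] {N : Subgroup G} [hN : N.Normal]
    (hC : ∀ n ∈ N, n ≠ 1 → Subgroup.centralizer ({n} : Set G) ≤ N) {χ : G → ℂ}
    (hχ : Cfsg.IsIrrCharacter G χ) (hker : ∃ n ∈ N, χ n ≠ χ 1) :
    ∃ φ : N → ℂ, Cfsg.IsIrrCharacter N φ ∧ φ ≠ (fun _ => 1) ∧ χ = Cfsg.indFun N φ := by
  classical
  obtain ⟨θ, hθ, hc⟩ := exists_constituent_restrict (N := N) hχ
  have hne : θ ≠ fun _ => 1 := by
    rintro rfl
    obtain ⟨n, hn, hne⟩ := hker
    have h1 := restrict_eq_smul_sum hχ hθ hc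
    have horb : conjOrbit (fun _ : N => (1 : ℂ)) = {fun _ => 1} := by
      refine Finset.eq_singleton_iff_unique_mem.2 ⟨self_mem_conjOrbit _, fun φ hφ => ?_⟩
      obtain ⟨g, rfl⟩ := mem_conjOrbit.1 hφ
      rfl
    rw [horb, Finset.sum_singleton] at h1
    have e1 := congrFun h1 ⟨n, hn⟩
    have e2 := congrFun h1 1
    simp only [Pi.smul_apply, OneMemClass.coe_one] at e1 e2
    exact hne (e1.trans e2.symm)
  have hirr := isIrrCharacter_indFun_of_centralizer_le hC hθ hne
  refine ⟨θ, hθ, hne, ?_⟩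
  by_contra hh
  refine hc ?_
  rw [← classInner_indFun_right (IsIrrCharacter.isClassFunction hχ),
    IsIrrCharacter.classInner_of_ne hχ hirr hh]

/-- In a Frobenius group given by kernel and complement, centralizers lie in the kernel. -/
theorem centralizer_le_of_fpf [Finite G] {K H : Subgroup G} [K.Normal] (hKH' : K ⊔ H = ⊤)
    (hfpf : ∀ h ∈ H, h ≠ 1 → ∀ k ∈ K, h * k = k * h → k = 1) :
    ∀ n ∈ K, n ≠ 1 → Subgroup.centralizer ({n} : Set G) ≤ K := by
  intro n hn hn1 g hg
  obtain ⟨k, hk, h, hh, rfl⟩ : ∃ k ∈ K, ∃ h ∈ H, k * h = g := by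
    have : g ∈ ((K ⊔ H : Subgroup G) : Set G) := by rw [hKH']; trivial
    rw [Subgroup.normal_mul K H] at this
    exact Set.mem_mul.1 this
  by_cases h1 : h = 1
  · rwa [h1, mul_one]
  exfalso
  let F : K → K := fun u => ⟨(u : G) * (h * (u : G)⁻¹ * h⁻¹),
    K.mul_mem u.2 (Subgroup.Normal.conj_mem inferInstance _ (K.inv_mem u.2) h)⟩
  have hF : Function.Injective F := fun u v huv => by
    have e : (u : G) * (h * (u : G)⁻¹ * h⁻¹) = (v : G) * (h * (v : G)⁻¹ * h⁻¹) :=
      congrArg Subtype.val huv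
    have e2 : h * ((v : G)⁻¹ * u) = ((v : G)⁻¹ * u) * h := by
      calc h * ((v : G)⁻¹ * u) = (v : G)⁻¹ * ((v : G) * (h * (v : G)⁻¹ * h⁻¹)) * h * u := by group
        _ = ((v : G)⁻¹ * u) * h := by rw [← e]; group
    exact Subtype.ext (inv_mul_eq_one.1 (hfpf h hh h1 _ (K.mul_mem (K.inv_mem v.2) u.2) e2)).symm
  obtain ⟨u, hu⟩ := (Finite.injective_iff_surjective.1 hF) ⟨k, hk⟩
  have hu' : (u : G) * (h * (u : G)⁻¹ * h⁻¹) = k := congrArg Subtype.val hu
  have hg' := Subgroup.mem_centralizer_singleton_iff.1 hg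
  rw [← hu'] at hg'
  have hm : (u : G)⁻¹ * n * u ∈ K := K.mul_mem (K.mul_mem (K.inv_mem u.2) hn) u.2
  have := hfpf h hh h1 _ hm (by
    calc h * ((u : G)⁻¹ * n * u)
        = (u : G)⁻¹ * ((u : G) * (h * (u : G)⁻¹ * h⁻¹) * h * n) * u := by group
      _ = (u : G)⁻¹ * n * u * h := by rw [hg']; group)
  apply hn1
  calc n = (u : G) * ((u : G)⁻¹ * n * u) * (u : G)⁻¹ := by group
    _ = 1 := by rw [this]; group

/-- In a group of odd order an induced nonprincipal character is orthogonal to its conjugate. -/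
theorem classInner_conj_indFun_eq_zero [Fintype G] (hodd : Odd (Nat.card G)) {N : Subgroup G}
    [hN : N.Normal] {θ : N → ℂ} (hθ : Cfsg.IsIrrCharacter N θ) (h1 : θ ≠ fun _ => 1) :
    Cfsg.classInner (fun g => conj (Cfsg.indFun N θ g)) (Cfsg.indFun N θ) = 0 := by
  classical
  have hind : (fun g => conj (Cfsg.indFun N θ g)) = Cfsg.indFun N (fun n => conj (θ n)) := by
    funext g
    rw [indFun_def, indFun_def, map_mul, map_inv₀, Complex.conj_natCast, map_sum]
    congr 1
    refine Finset.sum_congr rfl fun x _ => ?_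
    rw [extendByZero_eq, extendByZero_eq]
    split_ifs <;> simp
  rw [hind, classInner_indFun_indFun (IsIrrCharacter.conj hθ) hθ, if_neg]
  rw [mem_conjOrbit]
  rintro ⟨g, hg⟩
  have h2 : g ^ 2 ∈ inertia θ := by
    rw [mem_inertia, pow_two, ← conjOn_conjOn, ← hg]
    funext n
    rw [conjOn_apply]
    have := congrFun hg n
    rw [conjOn_apply] at this
    rw [← this, Complex.conj_conj]
  have h3 : g ∈ inertia θ := by
    obtain ⟨m, hm⟩ := hodd.of_dvd_nat (orderOf_dvd_natCard g)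
    have h4 := (inertia θ).pow_mem h2 (m + 1)
    rwa [← pow_mul, show 2 * (m + 1) = orderOf g + 1 by omega, pow_succ, pow_orderOf_eq_one,
      one_mul] at h4
  rw [(mem_inertia θ g).1 h3] at hg
  exact h1 (eq_one_of_real_of_odd (hodd.of_dvd_nat N.card_subgroup_dvd_card) hθ
    fun n => Complex.conj_eq_iff_im.1 (congrFun hg n))

end CfsgLib.Char
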