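import Cfsg.Agent.Char.CliffordCorrespondence
import Cfsg.Agent.Char.FrobeniusChars
import Cfsg.Agent.Char.Kernel

/-!
# Consequences of Clifford theory
-/

set_option autoImplicit false
set_option linter.style.haveILetI false

namespace CfsgLib.Char

open scoped ComplexConjugate

universe u

variable {G : Type u} [Group G] {N : Subgroup G} [hN : N.Normal]

theorem finsum_conjSet [Finite G] (θ : N → ℂ) :
    ∑ᶠ ψ ∈ {ψ : N → ℂ | ∃ g : G, ψ = fun n : N => θ ⟨g * n * g⁻¹, hN.conj_mem n n.2 g⟩}, ψ =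
      ∑ ψ ∈ conjOrbit θ, ψ := by
  have hset : {ψ : N → ℂ | ∃ g : G, ψ = fun n : N => θ ⟨g * n * g⁻¹, hN.conj_mem n n.2 g⟩} =
      ↑(conjOrbit θ) := by
    ext ψ
    rw [Finset.mem_coe, mem_conjOrbit]
    rfl
  rw [hset]
  exact finsum_mem_coe_finset _ _

theorem card_inertia_subtype (θ : N → ℂ) :
    Nat.card {g : G // ∀ h : N, θ ⟨g * h * g⁻¹, hN.conj_mem h h.2 g⟩ = θ h} =
      Nat.card (inertia θ) :=
  Nat.card_congr (Equiv.subtypeEquivRight fun g => (mem_inertia_iff θ g).symm)

/-- Kernels and induction from a normal subgroup. -/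
theorem apply_eq_iff_indFun_eq [Fintype G] {A : Subgroup G} [A.Normal] (hA : A ≤ N) {θ : N → ℂ}
    (hθ : Cfsg.IsIrrCharacter N θ) :
    (∀ a : N, (a : G) ∈ A → θ a = θ 1) ↔
      ∀ a : G, a ∈ A → Cfsg.indFun N θ a = Cfsg.indFun N θ 1 := by
  classical
  constructor
  · intro h a ha
    have e1 : a = ((⟨a, hA ha⟩ : N) : G) := rfl
    have hv : ∀ x : G, θ ⟨x * ((⟨a, hA ha⟩ : N) : G) * x⁻¹, hN.conj_mem a (hA ha) x⟩ = θ 1 :=
      fun x => h _ (Subgroup.Normal.conj_mem inferInstance a ha x)
    rw [e1, indFun_apply_normal, Finset.sum_congr rfl fun x _ => hv x, indFun_one, Finset.sum_const,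
      Finset.card_univ, nsmul_eq_mul, ← Nat.card_eq_fintype_card,
      ← card_div_card_subgroup (H := N)]
    ring
  · intro h a ha
    have hI := IsCharacter.indFun (G := G) (IsIrrCharacter.isCharacter hθ)
    have hres := IsCharacter.restrict hI N
    have hne : Cfsg.classInner (fun n : N => Cfsg.indFun N θ n) θ ≠ 0 := by
      rw [← classInner_indFun_right (isClassFunction_indFun N θ), classInner_indFun_self hθ]
      exact div_ne_zero (by exact_mod_cast Nat.card_pos.ne') (by exact_mod_cast Nat.card_pos.ne')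
    have hr := IsCharacter.sub_irr hres hθ hne
    have hR : ∀ b : N, (((fun n : N => Cfsg.indFun N θ n) - θ) b).re ≤
        (((fun n : N => Cfsg.indFun N θ n) - θ) 1).re :=
      fun b => (Complex.re_le_norm _).trans (IsCharacter.norm_apply_le hr b)
    have h1 := hR a
    have h2 := h a ha
    simp only [Pi.sub_apply, OneMemClass.coe_one, Complex.sub_re] at h1
    rw [h2] at h1
    have hle : ‖θ a‖ ≤ (θ 1).re := IsCharacter.norm_apply_le (IsIrrCharacter.isCharacter hθ) a
    have hre : (θ a).re = (θ 1).re :=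
      le_antisymm ((Complex.re_le_norm _).trans hle) (by linarith)
    obtain ⟨d, hd, hd'⟩ := IsIrrCharacter.exists_degree hθ
    have him : (θ a).im = 0 := by
      have h4 := Complex.sq_norm (θ a)
      rw [Complex.normSq_apply] at h4
      have h5 : ‖θ a‖ ^ 2 ≤ (θ a).re ^ 2 :=
        pow_le_pow_left₀ (norm_nonneg _) (hre ▸ hle) 2
      nlinarith
    exact Complex.ext hre (by rw [him, hd', Complex.natCast_im])

end CfsgLib.Char
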