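import Cfsg.Agent.Char.Orthogonality

/-!
# Class functions with natural or integral multiplicities; generalized characters
-/

set_option autoImplicit false
set_option linter.style.haveILetI false

namespace CfsgLib.Char

open scoped ComplexConjugate

universe u v

variable {G : Type u} [Group G]

/-- A class function whose multiplicities are natural numbers is a character. -/
theorem isCharacter_of_classInner_nat [Fintype G] {φ : G → ℂ} (hφ : Cfsg.IsClassFunction G φ)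
    (h : ∀ χ, Cfsg.IsIrrCharacter G χ → ∃ n : ℕ, Cfsg.classInner φ χ = n) :
    Cfsg.IsCharacter G φ := by
  rw [eq_sum_irr hφ]
  refine isCharacter_sum _ fun χ hχ => ?_
  obtain ⟨n, hn⟩ := h χ (mem_irrFinset.1 hχ)
  rw [hn]
  exact IsCharacter.natCast_smul (IsIrrCharacter.isCharacter (mem_irrFinset.1 hχ)) n

theorem IsCharacter.isGeneralized {χ : G → ℂ} (h : Cfsg.IsCharacter G χ) :
    Cfsg.IsGeneralizedCharacter G χ := ⟨χ, 0, h, isCharacter_zero, (sub_zero χ).symm⟩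

theorem IsIrrCharacter.isGeneralized {χ : G → ℂ} (h : Cfsg.IsIrrCharacter G χ) :
    Cfsg.IsGeneralizedCharacter G χ :=
  IsCharacter.isGeneralized (IsIrrCharacter.isCharacter h)

theorem isGeneralized_zero : Cfsg.IsGeneralizedCharacter G (0 : G → ℂ) :=
  IsCharacter.isGeneralized isCharacter_zero

theorem isGeneralized_one : Cfsg.IsGeneralizedCharacter G (fun _ => (1 : ℂ)) :=
  IsCharacter.isGeneralized isCharacter_one

theorem IsGeneralized.add {φ ψ : G → ℂ} (h₁ : Cfsg.IsGeneralizedCharacter G φ)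
    (h₂ : Cfsg.IsGeneralizedCharacter G ψ) : Cfsg.IsGeneralizedCharacter G (φ + ψ) := by
  obtain ⟨a, b, ha, hb, rfl⟩ := h₁
  obtain ⟨c, d, hc, hd, rfl⟩ := h₂
  exact ⟨a + c, b + d, IsCharacter.add ha hc, IsCharacter.add hb hd, by abel⟩

theorem IsGeneralized.neg {φ : G → ℂ} (h : Cfsg.IsGeneralizedCharacter G φ) :
    Cfsg.IsGeneralizedCharacter G (-φ) := by
  obtain ⟨a, b, ha, hb, rfl⟩ := h
  exact ⟨b, a, hb, ha, neg_sub a b⟩

theorem IsGeneralized.sub {φ ψ : G → ℂ} (h₁ : Cfsg.IsGeneralizedCharacter G φ)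
    (h₂ : Cfsg.IsGeneralizedCharacter G ψ) : Cfsg.IsGeneralizedCharacter G (φ - ψ) := by
  rw [sub_eq_add_neg]; exact IsGeneralized.add h₁ (IsGeneralized.neg h₂)

theorem IsGeneralized.mul {φ ψ : G → ℂ} (h₁ : Cfsg.IsGeneralizedCharacter G φ)
    (h₂ : Cfsg.IsGeneralizedCharacter G ψ) : Cfsg.IsGeneralizedCharacter G (φ * ψ) := by
  obtain ⟨a, b, ha, hb, rfl⟩ := h₁
  obtain ⟨c, d, hc, hd, rfl⟩ := h₂
  exact ⟨a * c + b * d, a * d + b * c, IsCharacter.add (IsCharacter.mul ha hc)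
    (IsCharacter.mul hb hd), IsCharacter.add (IsCharacter.mul ha hd) (IsCharacter.mul hb hc),
    by ring⟩

theorem IsGeneralized.intCast_smul {φ : G → ℂ} (h : Cfsg.IsGeneralizedCharacter G φ) (n : ℤ) :
    Cfsg.IsGeneralizedCharacter G ((n : ℂ) • φ) := by
  have hnat : ∀ k : ℕ, Cfsg.IsGeneralizedCharacter G ((k : ℂ) • φ) := by
    intro k
    obtain ⟨a, b, ha, hb, rfl⟩ := h
    exact ⟨_, _, IsCharacter.natCast_smul ha k, IsCharacter.natCast_smul hb k, smul_sub _ a b⟩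
  obtain ⟨k, rfl | rfl⟩ := Int.eq_nat_or_neg n
  · simpa using hnat k
  · simpa using IsGeneralized.neg (hnat k)

theorem IsGeneralized.zsmul {φ : G → ℂ} (h : Cfsg.IsGeneralizedCharacter G φ) (n : ℤ) :
    Cfsg.IsGeneralizedCharacter G (n • φ) := by
  rw [← Int.cast_smul_eq_zsmul ℂ n φ]; exact IsGeneralized.intCast_smul h n

theorem isGeneralized_sum {ι : Type*} (s : Finset ι) {f : ι → G → ℂ}
    (h : ∀ i ∈ s, Cfsg.IsGeneralizedCharacter G (f i)) :
    Cfsg.IsGeneralizedCharacter G (∑ i ∈ s, f i) :=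
  Finset.sum_induction f _ (fun _ _ => IsGeneralized.add) isGeneralized_zero h

theorem IsGeneralized.isClassFunction {φ : G → ℂ} (h : Cfsg.IsGeneralizedCharacter G φ) :
    Cfsg.IsClassFunction G φ := by
  obtain ⟨a, b, ha, hb, rfl⟩ := h
  intro g x
  rw [Pi.sub_apply, Pi.sub_apply, IsCharacter.isClassFunction ha g x,
    IsCharacter.isClassFunction hb g x]

theorem IsGeneralized.comp {H : Type v} [Group H] {φ : G → ℂ}
    (h : Cfsg.IsGeneralizedCharacter G φ) (f : H →* G) :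
    Cfsg.IsGeneralizedCharacter H (fun x => φ (f x)) := by
  obtain ⟨a, b, ha, hb, rfl⟩ := h
  exact ⟨_, _, IsCharacter.comp ha f, IsCharacter.comp hb f, rfl⟩

theorem IsGeneralized.restrict {φ : G → ℂ} (h : Cfsg.IsGeneralizedCharacter G φ)
    (H : Subgroup G) : Cfsg.IsGeneralizedCharacter H (fun x : H => φ x) :=
  IsGeneralized.comp h H.subtype

theorem IsGeneralized.conj [Finite G] {φ : G → ℂ} (h : Cfsg.IsGeneralizedCharacter G φ) :
    Cfsg.IsGeneralizedCharacter G (fun g => conj (φ g)) := by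
  obtain ⟨a, b, ha, hb, rfl⟩ := h
  exact ⟨_, _, IsCharacter.conj ha, IsCharacter.conj hb, funext fun g => map_sub _ (a g) (b g)⟩

theorem IsGeneralized.apply_inv [Finite G] {φ : G → ℂ} (h : Cfsg.IsGeneralizedCharacter G φ)
    (g : G) : φ g⁻¹ = starRingEnd ℂ (φ g) := by
  obtain ⟨a, b, ha, hb, rfl⟩ := h
  rw [Pi.sub_apply, Pi.sub_apply, map_sub, IsCharacter.apply_inv ha, IsCharacter.apply_inv hb]

theorem IsGeneralized.isIntegral [Finite G] {φ : G → ℂ} (h : Cfsg.IsGeneralizedCharacter G φ)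
    (g : G) : IsIntegral ℤ (φ g) := by
  obtain ⟨a, b, ha, hb, rfl⟩ := h
  exact (IsCharacter.isIntegral ha g).sub (IsCharacter.isIntegral hb g)

theorem IsGeneralized.exists_apply_one {φ : G → ℂ} (h : Cfsg.IsGeneralizedCharacter G φ) :
    ∃ n : ℤ, φ 1 = n := by
  obtain ⟨a, b, ha, hb, rfl⟩ := h
  obtain ⟨m, hm⟩ := IsCharacter.exists_degree ha
  obtain ⟨n, hn⟩ := IsCharacter.exists_degree hb
  exact ⟨(m : ℤ) - n, by simp [hm, hn]⟩

/-- Inner products of generalized characters are integers. -/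
theorem IsGeneralized.exists_classInner_eq_int [Fintype G] {φ ψ : G → ℂ}
    (hφ : Cfsg.IsGeneralizedCharacter G φ) (hψ : Cfsg.IsGeneralizedCharacter G ψ) :
    ∃ n : ℤ, Cfsg.classInner φ ψ = n := by
  obtain ⟨a, b, ha, hb, rfl⟩ := hφ
  obtain ⟨c, d, hc, hd, rfl⟩ := hψ
  obtain ⟨k₁, e₁⟩ := IsCharacter.exists_classInner_eq_natCast' ha hc
  obtain ⟨k₂, e₂⟩ := IsCharacter.exists_classInner_eq_natCast' ha hd
  obtain ⟨k₃, e₃⟩ := IsCharacter.exists_classInner_eq_natCast' hb hc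
  obtain ⟨k₄, e₄⟩ := IsCharacter.exists_classInner_eq_natCast' hb hd
  exact ⟨(k₁ : ℤ) - k₂ - (k₃ - k₄), by
    simp [classInner_sub_left, classInner_sub_right, e₁, e₂, e₃, e₄]; ring⟩

/-- A class function whose multiplicities are integers is a generalized character. -/
theorem isGeneralized_of_classInner_int [Fintype G] {φ : G → ℂ} (hφ : Cfsg.IsClassFunction G φ)
    (h : ∀ χ, Cfsg.IsIrrCharacter G χ → ∃ n : ℤ, Cfsg.classInner φ χ = n) :
    Cfsg.IsGeneralizedCharacter G φ := by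
  rw [eq_sum_irr hφ]
  refine isGeneralized_sum _ fun χ hχ => ?_
  obtain ⟨n, hn⟩ := h χ (mem_irrFinset.1 hχ)
  rw [hn]
  exact IsGeneralized.intCast_smul (IsIrrCharacter.isGeneralized (mem_irrFinset.1 hχ)) n

/-- A generalized character of norm one with positive degree is an irreducible character. -/
theorem IsGeneralized.isIrr_or_neg [Fintype G] {φ : G → ℂ}
    (hφ : Cfsg.IsGeneralizedCharacter G φ) (h1 : Cfsg.classInner φ φ = 1) :
    Cfsg.IsIrrCharacter G φ ∨ Cfsg.IsIrrCharacter G (-φ) := by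
  classical
  have hm : ∀ χ ∈ irrFinset G, ∃ n : ℤ, Cfsg.classInner φ χ = n := fun χ hχ =>
    IsGeneralized.exists_classInner_eq_int hφ
      (IsIrrCharacter.isGeneralized (mem_irrFinset.1 hχ))
  choose! n hn using hm
  have hcf := IsGeneralized.isClassFunction hφ
  have hsum : ∑ χ ∈ irrFinset G, n χ * n χ = 1 := by
    have h2 := classInner_eq_sum_irr hcf φ
    rw [h1] at h2
    have h3 : (1 : ℂ) = ∑ χ ∈ irrFinset G, ((n χ * n χ : ℤ) : ℂ) := by
      rw [h2]
      exact Finset.sum_congr rfl fun χ hχ => by rw [hn χ hχ]; simp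
    exact_mod_cast h3.symm
  obtain ⟨χ₀, hχ₀, hne⟩ : ∃ χ ∈ irrFinset G, n χ ≠ 0 := by
    by_contra! hall
    rw [Finset.sum_eq_zero (fun χ hχ => by rw [hall χ hχ, mul_zero])] at hsum
    exact zero_ne_one hsum
  rw [← Finset.add_sum_erase _ _ hχ₀] at hsum
  have hpos : 1 ≤ n χ₀ * n χ₀ := mul_self_pos.2 hne
  have hrest0 : ∀ χ ∈ (irrFinset G).erase χ₀, 0 ≤ n χ * n χ := fun χ _ => mul_self_nonneg _
  have hrest := Finset.sum_nonneg hrest0
  have hzero : ∀ χ ∈ irrFinset G, χ ≠ χ₀ → n χ = 0 := fun χ hχ hne' =>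
    mul_self_eq_zero.1 ((Finset.sum_eq_zero_iff_of_nonneg hrest0).1 (by omega) χ
      (Finset.mem_erase.2 ⟨hne', hχ⟩))
  have hphi : φ = (n χ₀ : ℂ) • χ₀ := by
    conv_lhs => rw [eq_sum_irr hcf]
    rw [Finset.sum_eq_single χ₀ (fun χ hχ hne' => by
      rw [hn χ hχ, hzero χ hχ hne', Int.cast_zero, zero_smul]) (fun h => absurd hχ₀ h), hn χ₀ hχ₀]
  rcases mul_self_eq_one_iff.1 (by omega : n χ₀ * n χ₀ = 1) with h | h
  · left; rw [hphi, h]; simpa using mem_irrFinset.1 hχ₀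
  · right; rw [hphi, h]; simpa using mem_irrFinset.1 hχ₀

end CfsgLib.Char
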