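import Cfsg.Agent.Char.GaloisTwist
import Cfsg.Agent.Char.AlgInt
import Cfsg.Agent.Char.Generalized
import Mathlib.RingTheory.RootsOfUnity.Lemmas
import Mathlib.Data.Nat.ChineseRemainder
import Mathlib.Analysis.SpecialFunctions.Log.Basic

/-!
# Consequences of the Galois action on character values
-/

namespace CfsgLib.Char

open scoped ComplexConjugate

universe u

/-- An automorphism of the complex field acts on `n`-th roots of unity as a power prime to `n`. -/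
theorem exists_pow_of_ringEquiv {n : ℕ} (hn : 0 < n) (σ : ℂ ≃+* ℂ) :
    ∃ t : ℕ, t.Coprime n ∧ ∀ z : ℂ, z ^ n = 1 → σ z = z ^ t := by
  have : NeZero n := ⟨hn.ne'⟩
  have hζ := Complex.isPrimitiveRoot_exp n hn.ne'
  set ζ := Complex.exp (2 * Real.pi * Complex.I / n)
  have hσζ : IsPrimitiveRoot (σ ζ) n := hζ.map_of_injective (f := σ) σ.injective
  obtain ⟨t, -, ht, htζ⟩ := hζ.isPrimitiveRoot_iff.1 hσζ
  refine ⟨t, ht, fun z hz => ?_⟩
  obtain ⟨i, -, rfl⟩ := hζ.eq_pow_of_pow_eq_one hz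
  rw [map_pow, ← htζ, ← pow_mul, ← pow_mul, mul_comm]

variable {G : Type u} [Group G] [Finite G]

theorem IsCharacter.map_eq_pow_card {χ : G → ℂ} (hχ : Cfsg.IsCharacter G χ) (σ : ℂ ≃+* ℂ) {t : ℕ}
    (hσ : ∀ z : ℂ, z ^ Nat.card G = 1 → σ z = z ^ t) (g : G) : σ (χ g) = χ (g ^ t) :=
  IsCharacter.map_ringEquiv_eq_pow hχ σ fun z hz => hσ z <| by
    obtain ⟨c, hc⟩ := orderOf_dvd_natCard g
    rw [hc, pow_mul, hz, one_pow]

theorem IsCharacter.exists_map_eq_pow {χ : G → ℂ} (hχ : Cfsg.IsCharacter G χ) (σ : ℂ ≃+* ℂ) :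
    ∃ t : ℕ, t.Coprime (Nat.card G) ∧ ∀ g : G, σ (χ g) = χ (g ^ t) := by
  obtain ⟨t, ht, hσ⟩ := exists_pow_of_ringEquiv (Nat.card_pos (α := G)) σ
  exact ⟨t, ht, IsCharacter.map_eq_pow_card hχ σ hσ⟩

/-- A character value fixed by all powers prime to the group order is a rational integer. -/
theorem IsCharacter.exists_int_apply {χ : G → ℂ} (hχ : Cfsg.IsCharacter G χ) {g : G}
    (h : ∀ t : ℕ, t.Coprime (Nat.card G) → χ (g ^ t) = χ g) : ∃ m : ℤ, χ g = m :=
  exists_int_of_fixed (IsCharacter.isIntegral hχ g) fun σ => by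
    obtain ⟨t, ht, hσ⟩ := IsCharacter.exists_map_eq_pow hχ σ
    rw [hσ g, h t ht]

/-- All irreducible characters are rational iff every element is conjugate to its powers prime
to the group order. -/
theorem rational_iff :
    (∀ χ : Cfsg.IrrCharacter G, ∀ g : G, ∃ q : ℚ, (χ : G → ℂ) g = (q : ℂ)) ↔
      ∀ m : ℕ, m.Coprime (Nat.card G) → ∀ g : G, IsConj g (g ^ m) := by
  refine ⟨fun h m hm g => (isConj_iff_irr_eq g _).2 fun χ hχ => ?_, fun h χ g => ?_⟩
  · obtain ⟨σ, hσ⟩ := exists_ringEquiv_pow (Nat.card_pos (α := G)) hm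
    obtain ⟨q, hq⟩ := h ⟨χ, hχ⟩ g
    rw [← IsCharacter.map_eq_pow_card (IsIrrCharacter.isCharacter hχ) σ hσ g]
    rw [show χ g = (q : ℂ) from hq, map_ratCast]
  · have hc := IsIrrCharacter.isCharacter χ.2
    obtain ⟨m, hm⟩ := IsCharacter.exists_int_apply hc fun t ht =>
      (IsClassFunction.apply_eq_of_isConj (IsCharacter.isClassFunction hc) (h t ht g)).symm
    exact ⟨m, by rw [hm, Rat.cast_intCast]⟩

/-- Burnside: an irreducible character of degree at least two has a zero. -/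
theorem IsIrrCharacter.exists_apply_eq_zero {χ : G → ℂ} (hχ : Cfsg.IsIrrCharacter G χ)
    (hdeg : χ 1 ≠ 1) : ∃ g : G, χ g = 0 := by
  classical
  have := Fintype.ofFinite G
  by_contra! hne
  have hc := IsIrrCharacter.isCharacter hχ
  obtain ⟨d, hd0, hd⟩ := IsIrrCharacter.exists_degree hχ
  set s : Finset G := Finset.univ.erase 1
  have hint : IsIntegral ℤ (∏ g ∈ s, χ g) :=
    IsIntegral.prod _ fun g _ => IsCharacter.isIntegral hc g
  obtain ⟨m, hm⟩ := exists_int_of_fixed hint fun σ => by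
    obtain ⟨t, ht, hσ⟩ := IsCharacter.exists_map_eq_pow hc σ
    rw [map_prod]
    simp only [hσ]
    have hbij : Function.Bijective fun g : G => g ^ t := (powCoprime (Nat.coprime_comm.1 ht)).bijective
    refine Finset.prod_bij (fun g _ => g ^ t) (fun g hg => ?_) (fun a _ b _ hab => hbij.1 hab)
      (fun b hb => ?_) fun g _ => rfl
    · simp only [s, Finset.mem_erase, Finset.mem_univ, and_true] at hg ⊢
      exact fun h => hg (hbij.1 (h.trans (one_pow t).symm))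
    · obtain ⟨a, rfl⟩ := hbij.2 b
      simp only [s, Finset.mem_erase, Finset.mem_univ, and_true] at hb
      exact ⟨a, by simp only [s, Finset.mem_erase, Finset.mem_univ, and_true]; exact fun h => hb (by rw [h]; exact one_pow t), rfl⟩
  have hm1 : (1 : ℝ) ≤ ∏ g ∈ s, ‖χ g‖ := by
    rw [← norm_prod, hm, Complex.norm_intCast]
    have : m ≠ 0 := fun h0 => by
      rw [h0, Int.cast_zero, Finset.prod_eq_zero_iff] at hm
      obtain ⟨g, -, hg⟩ := hm
      exact hne g hg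
    exact_mod_cast Int.one_le_abs this
  have hsum : (s.card : ℝ) ≤ ∑ g ∈ s, ‖χ g‖ ^ 2 := by
    have h1 : 0 ≤ ∑ g ∈ s, Real.log (‖χ g‖ ^ 2) := by
      rw [← Real.log_prod (fun g _ => pow_ne_zero 2 (norm_ne_zero_iff.2 (hne g))), Finset.prod_pow]
      exact Real.log_nonneg (one_le_pow₀ hm1)
    have h2 : ∑ g ∈ s, Real.log (‖χ g‖ ^ 2) ≤ ∑ g ∈ s, (‖χ g‖ ^ 2 - 1) :=
      Finset.sum_le_sum fun g _ =>
        Real.log_le_sub_one_of_pos (pow_pos (norm_pos_iff.2 (hne g)) 2)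
    simp only [Finset.sum_sub_distrib, Finset.sum_const, nsmul_eq_mul, mul_one] at h2
    linarith
  have htot : ∑ g : G, ‖χ g‖ ^ 2 = (Nat.card G : ℝ) := by
    have := IsIrrCharacter.classInner_self hχ
    rw [CfsgLib.Char.classInner_self, Complex.ofReal_eq_one, inv_mul_eq_one₀ (by exact_mod_cast Nat.card_pos.ne')] at this
    exact this.symm
  have hscard : (s.card : ℝ) + 1 = (Nat.card G : ℝ) := by
    rw [Nat.card_eq_fintype_card, ← Finset.card_univ]
    exact_mod_cast Finset.card_erase_add_one (Finset.mem_univ (1 : G))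
  rw [← Finset.sum_erase_add _ _ (Finset.mem_univ (1 : G)), hd, Complex.norm_natCast] at htot
  have hd1 : (d : ℝ) ^ 2 ≤ 1 := by linarith
  have hd2 : d ^ 2 ≤ 1 := by exact_mod_cast hd1
  have : d = 1 := by nlinarith
  exact hdeg (by rw [hd, this, Nat.cast_one])

/-- Galois twist on the elements of order dividing one of two coprime factors of the order. -/
theorem exists_partial_twist {a b k : ℕ} (hab : Nat.card G = a * b) (hcop : Nat.Coprime a b)
    (hk : Nat.Coprime k a) {χ : G → ℂ} (hχ : Cfsg.IsCharacter G χ) :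
    ∃ χ' : G → ℂ, Cfsg.IsCharacter G χ' ∧
      (Cfsg.IsIrrCharacter G χ → Cfsg.IsIrrCharacter G χ') ∧
      (∀ g : G, orderOf g ∣ a → χ' g = χ (g ^ k)) ∧
      (∀ g : G, Nat.Coprime (orderOf g) a → χ' g = χ g) := by
  obtain ⟨t, hta, htb⟩ := Nat.chineseRemainder hcop k 1
  have hcard : t.Coprime (Nat.card G) := by
    rw [hab, Nat.coprime_mul_iff_right]
    constructor
    · rw [Nat.Coprime, Nat.ModEq.gcd_eq hta]; exact hk
    · rw [Nat.Coprime, Nat.ModEq.gcd_eq htb]; exact Nat.gcd_one_left b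
  obtain ⟨σ, hσ⟩ := exists_ringEquiv_pow (Nat.card_pos (α := G)) hcard
  refine ⟨fun g => σ (χ g), IsCharacter.map_ringEquiv hχ σ,
    fun h => IsIrrCharacter.map_ringEquiv h σ, fun g hg => ?_, fun g hg => ?_⟩
  · simp only [IsCharacter.map_eq_pow_card hχ σ hσ g]
    exact congrArg χ (pow_eq_pow_iff_modEq.2 (hta.of_dvd hg))
  · simp only [IsCharacter.map_eq_pow_card hχ σ hσ g]
    have hb : orderOf g ∣ b := hg.dvd_of_dvd_mul_left (hab ▸ orderOf_dvd_natCard g)
    exact congrArg χ ((pow_eq_pow_iff_modEq.2 (htb.of_dvd hb)).trans (pow_one g))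

/-- The difference `1 - z ^ j` is an algebraic integer multiple of `1 - z`. -/
theorem exists_one_sub_pow_eq_mul {z : ℂ} (hz : IsIntegral ℤ z) (j : ℕ) :
    ∃ w : ℂ, IsIntegral ℤ w ∧ 1 - z ^ j = (1 - z) * w :=
  ⟨∑ i ∈ Finset.range j, z ^ i, IsIntegral.sum _ fun i _ => hz.pow i,
    (mul_neg_geom_sum z j).symm⟩

/-- An integer multiple of `1 - ε` in the algebraic integers is divisible by `p`. -/
theorem int_dvd_of_one_sub_mul {p : ℕ} (hp : p.Prime) {ε : ℂ} (hε : IsPrimitiveRoot ε p) {n : ℤ}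
    {ω : ℂ} (hω : IsIntegral ℤ ω) (h : (n : ℂ) = (1 - ε) * ω) : (p : ℤ) ∣ n := by
  have hεint : IsIntegral ℤ ε := isIntegral_of_pow_eq_one hp.pos hε.pow_eq_one
  have key : ∀ i ∈ Finset.range (p - 1), ∃ c : ℂ, IsIntegral ℤ c ∧
      1 - ε = (1 - ε ^ (i + 1)) * c := by
    intro i hi
    have hcop : (i + 1).Coprime p := by
      refine (Nat.coprime_comm.1 (hp.coprime_iff_not_dvd.2 fun hd => ?_))
      have := Nat.le_of_dvd i.succ_pos hd
      have := Finset.mem_range.1 hi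
      omega
    have : NeZero p := ⟨hp.ne_zero⟩
    obtain ⟨j, -, hj⟩ := (hε.pow_of_coprime _ hcop).eq_pow_of_pow_eq_one hε.pow_eq_one
    obtain ⟨c, hc, hcj⟩ := exists_one_sub_pow_eq_mul (hεint.pow (i + 1)) j
    rw [hj] at hcj
    exact ⟨c, hc, hcj⟩
  choose! c hc hcε using key
  have hpp : ((p - 1) + 1 : ℕ) = p := Nat.sub_add_cancel hp.one_le
  have hprod : (1 - ε) ^ (p - 1) = (p : ℂ) * ∏ i ∈ Finset.range (p - 1), c i := by
    have hprimitive : IsPrimitiveRoot ε ((p - 1) + 1) := by rw [hpp]; exact hε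
    have h2 := hprimitive.prod_one_sub_pow_eq_order
    rw [show (((p - 1 : ℕ)) : ℂ) + 1 = (p : ℂ) by exact_mod_cast congrArg (Nat.cast : ℕ → ℂ) hpp] at h2
    calc (1 - ε) ^ (p - 1) = ∏ i ∈ Finset.range (p - 1), ((1 - ε ^ (i + 1)) * c i) := by
          rw [← Finset.prod_congr rfl hcε, Finset.prod_const, Finset.card_range]
      _ = _ := by rw [Finset.prod_mul_distrib, h2]
  have hn : ((n ^ (p - 1) : ℤ) : ℂ) =
      (p : ℂ) * ((∏ i ∈ Finset.range (p - 1), c i) * ω ^ (p - 1)) := by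
    rw [Int.cast_pow, h, mul_pow, hprod]; ring
  have hint : IsIntegral ℤ ((((n ^ (p - 1) : ℤ) : ℚ) / (p : ℚ) : ℚ) : ℂ) := by
    push_cast at hn ⊢
    rw [hn, mul_div_cancel_left₀ _ (by exact_mod_cast hp.ne_zero)]
    exact (IsIntegral.prod _ hc).mul (hω.pow _)
  obtain ⟨k, -, hk⟩ := exists_int_of_isIntegral_rat _ hint rfl
  have : (p : ℤ) ∣ n ^ (p - 1) := ⟨k, by
    rw [div_eq_iff (by exact_mod_cast hp.ne_zero)] at hk
    rw [mul_comm]; exact_mod_cast hk⟩
  exact (Nat.prime_iff_prime_int.1 hp).dvd_of_dvd_pow this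

/-- For `x` of prime order commuting with `y`, `χ (x * y) - χ y` is divisible by `1 - ε`. -/
theorem IsGeneralized.exists_apply_mul_sub {χ : G → ℂ} (hχ : Cfsg.IsGeneralizedCharacter G χ)
    {p : ℕ} (hp : p.Prime) {ε : ℂ} (hε : IsPrimitiveRoot ε p) {x y : G} (hx : x ^ p = 1)
    (hxy : x * y = y * x) :
    ∃ ω : ℂ, IsIntegral ℤ ω ∧ χ (x * y) - χ y = (1 - ε) * ω := by
  have hεint : IsIntegral ℤ ε := isIntegral_of_pow_eq_one hp.pos hε.pow_eq_one
  have : NeZero p := ⟨hp.ne_zero⟩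
  set A := Subgroup.closure ({x, y} : Set G)
  have hA : ∀ a b : A, a * b = b * a := by
    have := Subgroup.isMulCommutative_closure (k := ({x, y} : Set G)) (by
      rintro a (rfl | rfl) b (rfl | rfl) <;> first | rfl | exact hxy | exact hxy.symm)
    exact fun a b => mul_comm' a b
  have hxA : x ∈ A := Subgroup.subset_closure (by simp)
  have hyA : y ∈ A := Subgroup.subset_closure (by simp)
  have main : ∀ φ : A → ℂ, Cfsg.IsCharacter A φ → ∃ ω : ℂ, IsIntegral ℤ ω ∧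
      φ (⟨x, hxA⟩ * ⟨y, hyA⟩) - φ ⟨y, hyA⟩ = (1 - ε) * ω := by
    intro φ hφ
    refine IsCharacter.induction_irr (P := fun φ : A → ℂ => ∃ ω : ℂ, IsIntegral ℤ ω ∧
      φ (⟨x, hxA⟩ * ⟨y, hyA⟩) - φ ⟨y, hyA⟩ = (1 - ε) * ω) ?_ ?_ ?_ hφ
    · exact ⟨0, isIntegral_zero, by simp⟩
    · rintro φ₁ φ₂ ⟨a, ha, h1⟩ ⟨b, hb, h2⟩
      exact ⟨a + b, ha.add hb, by simp only [Pi.add_apply]; linear_combination h1 + h2⟩
    · intro φ hφ
      obtain ⟨lam, rfl⟩ := IsCharacter.exists_hom (IsIrrCharacter.isCharacter hφ)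
        (IsIrrCharacter.apply_one_eq_one hφ hA)
      have hlx : ((lam ⟨x, hxA⟩ : ℂˣ) : ℂ) ^ p = 1 := by
        rw [← Units.val_pow_eq_pow_val, ← map_pow, show (⟨x, hxA⟩ : A) ^ p = 1 from Subtype.ext hx,
          map_one, Units.val_one]
      obtain ⟨j, -, hj⟩ := hε.eq_pow_of_pow_eq_one hlx
      obtain ⟨w, hw, hwj⟩ := exists_one_sub_pow_eq_mul hεint j
      refine ⟨-(w * (lam ⟨y, hyA⟩ : ℂ)), (hw.mul ?_).neg, ?_⟩
      · exact IsCharacter.isIntegral (isCharacter_ofHom lam) _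
      · simp only [map_mul, Units.val_mul, ← hj]
        linear_combination (-(lam ⟨y, hyA⟩ : ℂ)) * hwj
  obtain ⟨a, b, ha, hb, rfl⟩ := hχ
  obtain ⟨u, hu, h1⟩ := main _ (IsCharacter.restrict ha A)
  obtain ⟨v, hv, h2⟩ := main _ (IsCharacter.restrict hb A)
  exact ⟨u - v, hu.sub hv, by
    simp only [Pi.sub_apply, Subgroup.coe_mul] at *
    linear_combination h1 - h2⟩

end CfsgLib.Char
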