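import Cfsg.Agent.Char.Signed
import Cfsg.Agent.Char.Galois

/-!
# Linear isometries on integer spans of orthogonal families
-/

namespace CfsgLib.Char

open scoped ComplexConjugate

universe u v

variable {L : Type u} [Group L] [Fintype L] {G : Type v} [Group G] [Fintype G]

/-- `zspanOn` as a submodule. -/
def zspanOnSub {X : Type u} (S : Set (X → ℂ)) (A : Set X) : Submodule ℤ (X → ℂ) where
  carrier := Cfsg.zspanOn S A
  add_mem' {a b} ha hb := ⟨Submodule.add_mem _ ha.1 hb.1, fun x hx => by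
    rw [Pi.add_apply, ha.2 x hx, hb.2 x hx, add_zero]⟩
  zero_mem' := ⟨Submodule.zero_mem _, fun _ _ => rfl⟩
  smul_mem' n a ha := ⟨Submodule.smul_mem _ n ha.1, fun x hx => by
    rw [Pi.smul_apply, ha.2 x hx, smul_zero]⟩

theorem coe_zspanOnSub {X : Type u} (S : Set (X → ℂ)) (A : Set X) :
    (zspanOnSub S A : Set (X → ℂ)) = Cfsg.zspanOn S A := rfl

theorem mem_zspanOn_one {X : Type u} [One X] {S : Set (X → ℂ)} {α : X → ℂ} :
    α ∈ Cfsg.zspanOn S ({1}ᶜ : Set X) ↔ α ∈ Cfsg.zspan S ∧ α 1 = 0 := by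
  constructor
  · rintro ⟨h, h1⟩; exact ⟨h, h1 1 (by simp)⟩
  · rintro ⟨h, h1⟩
    exact ⟨h, fun x hx => by
      rw [Set.mem_compl_iff, Set.mem_singleton_iff, not_not] at hx; rw [hx, h1]⟩

theorem zspan_mono {X : Type u} {S T : Set (X → ℂ)} (h : S ⊆ T) : Cfsg.zspan S ⊆ Cfsg.zspan T :=
  fun _ hx => Submodule.span_mono h hx

section Isometry

variable {M : Submodule ℤ (L → ℂ)} {τ : (L → ℂ) → G → ℂ}
  (hτ : Cfsg.IsLinearIsometryOn (M : Set (L → ℂ)) τ)
include hτ

theorem isometry_map_zero : τ 0 = 0 := by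
  have := hτ.2.1 0 M.zero_mem 0
  simpa using this

theorem isometry_map_sub {a b : L → ℂ} (ha : a ∈ M) (hb : b ∈ M) : τ (a - b) = τ a - τ b := by
  have h1 := hτ.1 (a - b) (M.sub_mem ha hb) b hb
  rw [sub_add_cancel] at h1
  rw [h1, add_sub_cancel_right]

theorem isometry_map_sum {ι : Type*} (s : Finset ι) (c : ι → ℤ) {f : ι → L → ℂ}
    (hf : ∀ i ∈ s, f i ∈ M) : τ (∑ i ∈ s, c i • f i) = ∑ i ∈ s, c i • τ (f i) := by
  classical
  induction s using Finset.induction_on with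
  | empty => simpa using isometry_map_zero hτ
  | insert a t ha ih =>
    rw [Finset.sum_insert ha, Finset.sum_insert ha,
      hτ.1 _ (M.smul_mem _ (hf a (Finset.mem_insert_self a t))) _
        (M.sum_mem fun i hi => M.smul_mem _ (hf i (Finset.mem_insert_of_mem hi))),
      hτ.2.1 _ (hf a (Finset.mem_insert_self a t)) (c a),
      ih fun i hi => hf i (Finset.mem_insert_of_mem hi)]

end Isometry

/-- The linear extension of `T` from the orthogonal family `s`. -/
noncomputable def orthExt (s : Finset (L → ℂ)) (T : (L → ℂ) → G → ℂ) (α : L → ℂ) : G → ℂ :=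
  ∑ φ ∈ s, (Cfsg.classInner α φ / Cfsg.classInner φ φ) • T φ

omit [Group G] [Fintype G] in
theorem orthExt_add (s : Finset (L → ℂ)) (T : (L → ℂ) → G → ℂ) (a b : L → ℂ) :
    orthExt s T (a + b) = orthExt s T a + orthExt s T b := by
  simp only [orthExt, classInner_add_left, add_div, add_smul, Finset.sum_add_distrib]

omit [Group G] [Fintype G] in
theorem orthExt_smul (s : Finset (L → ℂ)) (T : (L → ℂ) → G → ℂ) (c : ℂ) (a : L → ℂ) :
    orthExt s T (c • a) = c • orthExt s T a := by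
  simp only [orthExt, classInner_smul_left, Finset.smul_sum, smul_smul]
  exact Finset.sum_congr rfl fun φ _ => by rw [mul_div_assoc]

omit [Group G] [Fintype G] in
theorem orthExt_zsmul (s : Finset (L → ℂ)) (T : (L → ℂ) → G → ℂ) (n : ℤ) (a : L → ℂ) :
    orthExt s T (n • a) = n • orthExt s T a := by
  rw [← Int.cast_smul_eq_zsmul ℂ, orthExt_smul, Int.cast_smul_eq_zsmul]

omit [Group G] [Fintype G] in
theorem orthExt_self {s : Finset (L → ℂ)} {T : (L → ℂ) → G → ℂ}
    (horth : ∀ φ ∈ s, ∀ ψ ∈ s, φ ≠ ψ → Cfsg.classInner φ ψ = 0) (hne : ∀ φ ∈ s, φ ≠ 0)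
    {φ : L → ℂ} (hφ : φ ∈ s) : orthExt s T φ = T φ := by
  rw [orthExt, Finset.sum_eq_single φ (fun ψ hψ hn => by
    rw [horth φ hφ ψ hψ (Ne.symm hn), zero_div, zero_smul]) (fun h => absurd hφ h),
    div_self (fun h => hne φ hφ (classInner_self_eq_zero h)), one_smul]

theorem orthExt_isometry {s : Finset (L → ℂ)} {T : (L → ℂ) → G → ℂ}
    (horth : ∀ φ ∈ s, ∀ ψ ∈ s, φ ≠ ψ → Cfsg.classInner φ ψ = 0) (hne : ∀ φ ∈ s, φ ≠ 0)
    (hgen : ∀ φ ∈ s, Cfsg.IsGeneralizedCharacter G (T φ))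
    (hinner : ∀ φ ∈ s, ∀ ψ ∈ s, Cfsg.classInner (T φ) (T ψ) = Cfsg.classInner φ ψ) :
    Cfsg.IsLinearIsometryOn (Cfsg.zspan (↑s : Set (L → ℂ))) (orthExt s T) := by
  have hgen' : ∀ α ∈ Cfsg.zspan (↑s : Set (L → ℂ)),
      Cfsg.IsGeneralizedCharacter G (orthExt s T α) := by
    intro α hα
    induction hα using Submodule.span_induction with
    | mem φ hφ => rw [orthExt_self horth hne hφ]; exact hgen φ hφ
    | zero => simp [orthExt, isGeneralized_zero]
    | add a b _ _ h1 h2 => rw [orthExt_add]; exact IsGeneralized.add h1 h2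
    | smul n a _ h => rw [orthExt_zsmul]; exact IsGeneralized.zsmul h n
  have h1 : ∀ α ∈ Cfsg.zspan (↑s : Set (L → ℂ)), ∀ ψ ∈ s,
      Cfsg.classInner (orthExt s T α) (T ψ) = Cfsg.classInner α ψ := by
    intro α hα ψ hψ
    induction hα using Submodule.span_induction with
    | mem φ hφ => rw [orthExt_self horth hne hφ]; exact hinner φ hφ ψ hψ
    | zero => simp [orthExt]
    | add a b _ _ h1 h2 => rw [orthExt_add, classInner_add_left, classInner_add_left, h1, h2]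
    | smul n a _ h =>
      rw [orthExt_zsmul, ← Int.cast_smul_eq_zsmul ℂ, ← Int.cast_smul_eq_zsmul ℂ n a,
        classInner_smul_left, classInner_smul_left, h]
  refine ⟨fun a _ b _ => orthExt_add s T a b, fun a _ n => orthExt_zsmul s T n a,
    fun α hα β hβ => ?_, hgen'⟩
  induction hβ using Submodule.span_induction with
  | mem φ hφ => rw [orthExt_self horth hne hφ]; exact h1 α hα φ hφ
  | zero => simp [orthExt]
  | add a b _ _ h1 h2 => rw [orthExt_add, classInner_add_right, classInner_add_right, h1, h2]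
  | smul n a _ h =>
    rw [orthExt_zsmul, ← Int.cast_smul_eq_zsmul ℂ, ← Int.cast_smul_eq_zsmul ℂ n a,
      classInner_smul_right, classInner_smul_right, h]

/-- Agreement of an extension with an isometry on the part vanishing at `1`, from generators. -/
theorem orthExt_eq_of_base {s : Finset (L → ℂ)} {T τ : (L → ℂ) → G → ℂ} {U : Set (L → ℂ)}
    (hτ : Cfsg.IsLinearIsometryOn (Cfsg.zspanOn U {1}ᶜ) τ) (hU : (↑s : Set (L → ℂ)) ⊆ U)
    (horth : ∀ φ ∈ s, ∀ ψ ∈ s, φ ≠ ψ → Cfsg.classInner φ ψ = 0) (hne : ∀ φ ∈ s, φ ≠ 0)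
    {χ₁ : L → ℂ} (hχ₁ : χ₁ ∈ s) (h1 : χ₁ 1 ≠ 0) (m : (L → ℂ) → ℤ)
    (hm : ∀ φ ∈ s, φ 1 = m φ • χ₁ 1) (hT : ∀ φ ∈ s, τ (φ - m φ • χ₁) = T φ - m φ • T χ₁)
    {α : L → ℂ} (hα : α ∈ Cfsg.zspanOn (↑s : Set (L → ℂ)) {1}ᶜ) : orthExt s T α = τ α := by
  obtain ⟨hspan, hα1⟩ := mem_zspanOn_one.1 hα
  obtain ⟨c, hc⟩ := Submodule.mem_span_finset'.1 hspan
  have hzero : ∑ φ : s, c φ * m φ = 0 := by
    have h := congrFun hc 1
    rw [hα1] at h
    simp only [Finset.sum_apply, Pi.smul_apply] at h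
    simp only [zsmul_eq_mul] at h
    rw [Finset.sum_congr rfl fun φ _ => by rw [hm φ φ.2, zsmul_eq_mul, ← mul_assoc],
      ← Finset.sum_mul, mul_eq_zero] at h
    have h' := h.resolve_right h1
    exact_mod_cast h'
  have hα' : α = ∑ φ : s, c φ • ((φ : L → ℂ) - m φ • χ₁) := by
    simp only [smul_sub, Finset.sum_sub_distrib, smul_smul, ← Finset.sum_smul, hzero, zero_smul,
      sub_zero, hc]
  have hmem : ∀ φ : s, ((φ : L → ℂ) - m φ • χ₁) ∈ zspanOnSub U ({1}ᶜ : Set L) := fun φ =>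
    mem_zspanOn_one.2 ⟨Submodule.sub_mem _ (subset_zspan (hU φ.2))
      (Submodule.smul_mem _ _ (subset_zspan (hU hχ₁))), by
      rw [Pi.sub_apply, Pi.smul_apply, hm φ φ.2, sub_self]⟩
  have hlin : ∀ a b : L → ℂ, orthExt s T (a - b) = orthExt s T a - orthExt s T b := fun a b => by
    rw [sub_eq_add_neg, orthExt_add, ← neg_one_zsmul b, orthExt_zsmul, neg_one_zsmul,
      ← sub_eq_add_neg]
  have hsum : ∀ f : s → L → ℂ, orthExt s T (∑ φ : s, f φ) = ∑ φ : s, orthExt s T (f φ) := fun f =>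
    map_sum (AddMonoidHom.mk' (orthExt s T) (orthExt_add s T)) f Finset.univ
  rw [hα', isometry_map_sum (M := zspanOnSub U {1}ᶜ) hτ Finset.univ c fun φ _ => hmem φ, hsum]
  refine Finset.sum_congr rfl fun φ _ => ?_
  rw [orthExt_zsmul, hlin, orthExt_zsmul, orthExt_self horth hne φ.2, orthExt_self horth hne hχ₁,
    hT φ φ.2]

end CfsgLib.Char
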