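import Cfsg.Agent.Char.Generalized
import Cfsg.Agent.Char.Linear
import Cfsg.Prelude.Def_OddOrderChar

/-!
# Characters up to sign, isometries on spans of irreducible characters
-/

namespace CfsgLib.Char

open scoped ComplexConjugate

universe u v

variable {X : Type u} [Group X] [Fintype X]

/-- `α` is an irreducible character or the negative of one. -/
def IsSignedIrr {Y : Type u} [Group Y] (α : Y → ℂ) : Prop :=
  Cfsg.IsIrrCharacter Y α ∨ Cfsg.IsIrrCharacter Y (-α)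

omit [Fintype X] in
theorem IsSignedIrr.exists_smul {α : X → ℂ} (h : IsSignedIrr α) :
    ∃ (e : ℂ) (χ : X → ℂ), (e = 1 ∨ e = -1) ∧ Cfsg.IsIrrCharacter X χ ∧ α = e • χ := by
  rcases h with h | h
  · exact ⟨1, α, Or.inl rfl, h, (one_smul ℂ α).symm⟩
  · exact ⟨-1, -α, Or.inr rfl, h, by simp⟩

omit [Fintype X] in
theorem IsSignedIrr.apply_one_ne_zero {α : X → ℂ} (h : IsSignedIrr α) : α 1 ≠ 0 := by
  rcases h with h | h
  · exact IsIrrCharacter.apply_one_ne_zero h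
  · exact fun h0 => IsIrrCharacter.apply_one_ne_zero h (by simp [h0])

theorem IsSignedIrr.classInner_self {α : X → ℂ} (h : IsSignedIrr α) :
    Cfsg.classInner α α = 1 := by
  rcases h with h | h
  · exact IsIrrCharacter.classInner_self h
  · simpa [classInner_neg_left, classInner_neg_right] using IsIrrCharacter.classInner_self h

theorem IsSignedIrr.eq_smul_of_classInner_ne {α β : X → ℂ} (hα : IsSignedIrr α)
    (hβ : IsSignedIrr β) (h : Cfsg.classInner α β ≠ 0) :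
    ∃ s : ℂ, (s = 1 ∨ s = -1) ∧ β = s • α ∧ Cfsg.classInner α β = s := by
  classical
  obtain ⟨e, χ, he, hχ, rfl⟩ := IsSignedIrr.exists_smul hα
  obtain ⟨f, ψ, hf, hψ, rfl⟩ := IsSignedIrr.exists_smul hβ
  by_cases hχψ : χ = ψ
  · subst hχψ
    refine ⟨f * e, ?_, ?_, ?_⟩
    · rcases he with rfl | rfl <;> rcases hf with rfl | rfl <;> simp
    · rw [smul_smul]
      rcases he with rfl | rfl <;> simp
    · rw [classInner_smul_left, classInner_smul_right, IsIrrCharacter.classInner_self hχ]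
      rcases he with rfl | rfl <;> rcases hf with rfl | rfl <;> simp
  · exfalso
    apply h
    rw [classInner_smul_left, classInner_smul_right, IsIrrCharacter.classInner_of_ne hχ hψ hχψ]
    simp

/-- The four signed characters lemma. -/
theorem classInner_eq_zero_of_pairs {α β γ δ : X → ℂ} (hα : IsSignedIrr α) (hβ : IsSignedIrr β)
    (hγ : IsSignedIrr γ) (hδ : IsSignedIrr δ) {u v : ℝ} (hu : u ≠ 0)
    (hab : Cfsg.classInner α β = 0) (hcd : Cfsg.classInner γ δ = 0)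
    (hmix : Cfsg.classInner (α - β) ((u : ℂ) • γ - (v : ℂ) • δ) = 0) (h1 : α 1 = β 1)
    (h2 : (u : ℂ) * γ 1 = (v : ℂ) * δ 1) : Cfsg.classInner α γ = 0 := by
  by_contra hne
  obtain ⟨s, hs, rfl, hsv⟩ := IsSignedIrr.eq_smul_of_classInner_ne hα hγ hne
  have hs0 : s ≠ 0 := by rcases hs with rfl | rfl <;> norm_num
  have hδα : Cfsg.classInner α δ = 0 := by
    rw [classInner_smul_left, mul_eq_zero] at hcd
    exact hcd.resolve_left hs0
  have hβγ : Cfsg.classInner β (s • α) = 0 := by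
    rw [classInner_smul_right, ← classInner_conj, hab, map_zero, mul_zero]
  rw [classInner_sub_left, classInner_sub_right, classInner_sub_right,
    classInner_smul_right (u : ℂ), classInner_smul_right (v : ℂ), classInner_smul_right (u : ℂ),
    classInner_smul_right (v : ℂ), hδα, hβγ, hsv,
    Complex.conj_ofReal, Complex.conj_ofReal] at hmix
  have hβδ : Cfsg.classInner β δ ≠ 0 := fun h0 => by
    rw [h0] at hmix
    simp only [mul_zero, sub_zero] at hmix
    exact mul_ne_zero (by exact_mod_cast hu) hs0 hmix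
  obtain ⟨t, ht, rfl, htv⟩ := IsSignedIrr.eq_smul_of_classInner_ne hβ hδ hβδ
  rw [htv] at hmix
  simp only [Pi.smul_apply, smul_eq_mul, ← h1] at h2
  have h3 : ((u : ℂ) * s - (v : ℂ) * t) = 0 := by
    have h4 : ((u : ℂ) * s - (v : ℂ) * t) * α 1 = 0 := by linear_combination h2
    exact (mul_eq_zero.1 h4).resolve_right (IsSignedIrr.apply_one_ne_zero hα)
  exact mul_ne_zero (Complex.ofReal_ne_zero.2 hu) hs0 (by linear_combination (hmix + h3) / 2)

theorem four_signed {α β γ δ : X → ℂ} (hα : IsSignedIrr α) (hβ : IsSignedIrr β) (hγ : IsSignedIrr γ)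
    (hδ : IsSignedIrr δ) {u v : ℝ} (hu : u ≠ 0) (hv : v ≠ 0)
    (hab : Cfsg.classInner α β = 0) (hcd : Cfsg.classInner γ δ = 0)
    (hmix : Cfsg.classInner (α - β) ((u : ℂ) • γ - (v : ℂ) • δ) = 0) (h1 : α 1 = β 1)
    (h2 : (u : ℂ) * γ 1 = (v : ℂ) * δ 1) :
    Cfsg.classInner α γ = 0 ∧ Cfsg.classInner α δ = 0 ∧
      Cfsg.classInner β γ = 0 ∧ Cfsg.classInner β δ = 0 := by
  have hba : Cfsg.classInner β α = 0 := by rw [← classInner_conj, hab, map_zero]
  have hdc : Cfsg.classInner δ γ = 0 := by rw [← classInner_conj, hcd, map_zero]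
  have m1 : Cfsg.classInner (α - β) ((v : ℂ) • δ - (u : ℂ) • γ) = 0 := by
    rw [← neg_sub ((u : ℂ) • γ), classInner_neg_right, hmix, neg_zero]
  have m2 : Cfsg.classInner (β - α) ((u : ℂ) • γ - (v : ℂ) • δ) = 0 := by
    rw [← neg_sub α, classInner_neg_left, hmix, neg_zero]
  have m3 : Cfsg.classInner (β - α) ((v : ℂ) • δ - (u : ℂ) • γ) = 0 := by
    rw [← neg_sub α, classInner_neg_left, m1, neg_zero]
  exact ⟨classInner_eq_zero_of_pairs hα hβ hγ hδ hu hab hcd hmix h1 h2,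
    classInner_eq_zero_of_pairs hα hβ hδ hγ hv hab hdc m1 h1 h2.symm,
    classInner_eq_zero_of_pairs hβ hα hγ hδ hu hba hcd m2 h1.symm h2,
    classInner_eq_zero_of_pairs hβ hα hδ hγ hv hba hdc m3 h1.symm h2.symm⟩

theorem zsmul_mem_zspan {Y : Type u} {S : Set (Y → ℂ)} {α : Y → ℂ} (h : α ∈ Cfsg.zspan S) (n : ℤ) :
    n • α ∈ Cfsg.zspan S := Submodule.smul_mem _ n h

theorem subset_zspan {Y : Type u} {S : Set (Y → ℂ)} : S ⊆ Cfsg.zspan S := Submodule.subset_span

/-- An isometry on the span of irreducible characters preserving degree zero has constant sign. -/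
theorem exists_sign_of_isometry {G : Type v} [Group G] [Fintype G] (S : Set (X → ℂ))
    (hirr : ∀ χ ∈ S, Cfsg.IsIrrCharacter X χ) (htwo : ∃ χ ∈ S, ∃ ψ ∈ S, χ ≠ ψ)
    {τ : (X → ℂ) → (G → ℂ)} (hτ : Cfsg.IsLinearIsometryOn (Cfsg.zspan S) τ)
    (h0 : ∀ α ∈ Cfsg.zspan S, α 1 = 0 → τ α 1 = 0) :
    ∃ ε : ℂ, (ε = 1 ∨ ε = -1) ∧ (∀ χ ∈ S, Cfsg.IsIrrCharacter G (ε • τ χ)) ∧
      (∀ χ ∈ S, ∀ ψ ∈ S, τ χ = τ ψ → χ = ψ) := by
  classical
  obtain ⟨hadd, hsmul, hiso, hgen⟩ := hτ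
  have hsub : S ⊆ Cfsg.zspan S := subset_zspan
  have hsig : ∀ χ ∈ S, IsSignedIrr (τ χ) := fun χ hχ =>
    IsGeneralized.isIrr_or_neg (hgen χ (hsub hχ))
      (by rw [hiso χ (hsub hχ) χ (hsub hχ), IsIrrCharacter.classInner_self (hirr χ hχ)])
  have hinj : ∀ χ ∈ S, ∀ ψ ∈ S, τ χ = τ ψ → χ = ψ := by
    intro χ hχ ψ hψ h
    by_contra hne
    have := hiso χ (hsub hχ) ψ (hsub hψ)
    rw [h, hiso ψ (hsub hψ) ψ (hsub hψ), IsIrrCharacter.classInner_self (hirr ψ hψ),
      IsIrrCharacter.classInner_of_ne (hirr χ hχ) (hirr ψ hψ) hne] at this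
    exact one_ne_zero this
  obtain ⟨χ₀, hχ₀, -, -, -⟩ := htwo
  obtain ⟨ε, θ₀, hε, hθ₀, hτ₀⟩ := IsSignedIrr.exists_smul (hsig χ₀ hχ₀)
  refine ⟨ε, hε, fun ψ hψ => ?_, hinj⟩
  obtain ⟨f, θ, hf, hθ, hτψ⟩ := IsSignedIrr.exists_smul (hsig ψ hψ)
  obtain ⟨c, hc0, hc⟩ := IsIrrCharacter.exists_degree (hirr χ₀ hχ₀)
  obtain ⟨d, hd0, hd⟩ := IsIrrCharacter.exists_degree (hirr ψ hψ)
  obtain ⟨a, ha0, ha⟩ := IsIrrCharacter.exists_degree hθ₀
  obtain ⟨b, hb0, hb⟩ := IsIrrCharacter.exists_degree hθ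
  have hm1 := zsmul_mem_zspan (hsub hχ₀) (d : ℤ)
  have hm2 := zsmul_mem_zspan (hsub hψ) (-(c : ℤ))
  have hz := h0 _ (Submodule.add_mem _ hm1 hm2) (by
    simp only [Pi.add_apply, Pi.smul_apply]; simp only [zsmul_eq_mul, hc, hd]; push_cast; ring)
  rw [hadd _ hm1 _ hm2, hsmul _ (hsub hχ₀), hsmul _ (hsub hψ), hτ₀, hτψ] at hz
  simp only [Pi.add_apply, Pi.smul_apply] at hz
  simp only [zsmul_eq_mul, smul_eq_mul, ha, hb] at hz
  push_cast at hz
  have hpos : ((d : ℂ) * a) + (c : ℂ) * b ≠ 0 := by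
    have : 0 < d * a + c * b := by positivity
    exact_mod_cast this.ne'
  have hef : f = ε := by
    rcases hε with rfl | rfl <;> rcases hf with rfl | rfl
    · rfl
    · exact absurd (by linear_combination hz) hpos
    · exact absurd (by linear_combination -hz) hpos
    · rfl
  rw [hτψ, hef, smul_smul]
  rcases hε with rfl | rfl <;> simpa using hθ

end CfsgLib.Char
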