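import Cfsg.Agent.Char.TI
import Cfsg.Agent.Char.FrobeniusChars
import Cfsg.Agent.Char.IsometryExt
import Cfsg.Agent.Char.Signed
import Cfsg.Agent.Char.Central
import Cfsg.Agent.Char.CliffordApps

/-!
# Characters at a TI subgroup with Frobenius normaliser

Here `N` is a subgroup of `G` and `A` a normal subgroup of `N` containing the centralisers in `N` of
its nonidentity elements, whose image in `G` meets its conjugates by elements outside `N` trivially.
-/

set_option autoImplicit false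
set_option linter.style.haveILetI false

namespace CfsgLib.Char

open scoped ComplexConjugate

universe u

variable {G : Type u} [Group G] {N : Subgroup G} {A : Subgroup N} [hA : A.Normal]

/-- The irreducible characters of `N` not trivial on `A`. -/
def relevantChars (A : Subgroup N) : Set (N → ℂ) :=
  {χ | Cfsg.IsIrrCharacter N χ ∧ ∃ k ∈ A, χ k ≠ χ 1}

theorem apply_eq_one_of_not_relevant {β : N → ℂ} (hβ : Cfsg.IsIrrCharacter N β)
    (h : β ∉ relevantChars A) {k : N} (hk : k ∈ A) : β k = β 1 := by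
  by_contra hne
  exact h ⟨hβ, k, hk, hne⟩

variable [Fintype G] [Fintype N]

theorem relevant_apply_eq_zero (hC : ∀ a ∈ A, a ≠ 1 → Subgroup.centralizer ({a} : Set N) ≤ A)
    {χ : N → ℂ} (hχ : χ ∈ relevantChars A) {x : N} (hx : x ∉ A) : χ x = 0 := by
  obtain ⟨φ, -, -, rfl⟩ := exists_indFun_eq_of_centralizer_le hC hχ.1 hχ.2
  exact indFun_eq_zero_of_normal φ hx

/-- A class function on `N` supported on the nonidentity elements of `A` is unchanged there by
induction. -/
theorem indFun_apply_frobTI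
    (hTI : ∀ g : G, g ∉ N → ∀ t ∈ A.map N.subtype, g * t * g⁻¹ ∈ A.map N.subtype → t = 1)
    {α : N → ℂ} (hα : Cfsg.IsClassFunction N α) (hαA : ∀ x : N, x ∉ A → α x = 0) {k : N}
    (hk : k ∈ A) (hk1 : k ≠ 1) : Cfsg.indFun N α k = α k :=
  indFun_apply_TI (T := (A.map N.subtype : Set G)) hTI hα
    (fun x hx => hαA x fun h => hx (Subgroup.mem_map_of_mem _ h)) k
    (Subgroup.mem_map_of_mem _ hk) hk1

section Star

variable (star : (N → ℂ) → G → ℂ)
  (hstar : Cfsg.IsLinearIsometryOn (Cfsg.zspan (relevantChars A)) star)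
  (hext : ∀ α ∈ Cfsg.zspanOn (relevantChars A) ({1}ᶜ : Set N), star α = Cfsg.indFun N α)

omit [Fintype G] in
theorem pair_mem_zspanOn {χ ξ : N → ℂ} (hχ : χ ∈ relevantChars A) (hξ : ξ ∈ relevantChars A)
    {a b : ℕ} (ha : χ 1 = a) (hb : ξ 1 = b) :
    (b : ℤ) • χ - (a : ℤ) • ξ ∈ Cfsg.zspanOn (relevantChars A) ({1}ᶜ : Set N) := by
  rw [mem_zspanOn_one]
  refine ⟨Submodule.sub_mem _ (zsmul_mem_zspan (subset_zspan hχ) _)
    (zsmul_mem_zspan (subset_zspan hξ) _), ?_⟩
  simp only [Pi.sub_apply, Pi.smul_apply]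
  simp only [zsmul_eq_mul, ha, hb]
  push_cast
  ring

include hstar hext in
theorem indFun_pair {χ ξ : N → ℂ} (hχ : χ ∈ relevantChars A) (hξ : ξ ∈ relevantChars A)
    {a b : ℕ} (ha : χ 1 = a) (hb : ξ 1 = b) :
    Cfsg.indFun N ((b : ℂ) • χ - (a : ℂ) • ξ) = (b : ℂ) • star χ - (a : ℂ) • star ξ := by
  have h := hext _ (pair_mem_zspanOn hχ hξ ha hb)
  have hM : Cfsg.IsLinearIsometryOn
      ((Submodule.span ℤ (relevantChars A) : Submodule ℤ (N → ℂ)) : Set (N → ℂ)) star := hstar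
  rw [isometry_map_sub hM (zsmul_mem_zspan (subset_zspan hχ) _)
      (zsmul_mem_zspan (subset_zspan hξ) _), hstar.2.1 _ (subset_zspan hχ),
    hstar.2.1 _ (subset_zspan hξ)] at h
  simp only [← Int.cast_smul_eq_zsmul ℂ, Int.cast_natCast] at h
  exact h.symm

include hstar hext in
/-- The differences `χ⋆ − χ` on the nonidentity elements of `A` are proportional to the degrees. -/
theorem star_sub_proportional
    (hC : ∀ a ∈ A, a ≠ 1 → Subgroup.centralizer ({a} : Set N) ≤ A)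
    (hTI : ∀ g : G, g ∉ N → ∀ t ∈ A.map N.subtype, g * t * g⁻¹ ∈ A.map N.subtype → t = 1)
    {χ ξ : N → ℂ} (hχ : χ ∈ relevantChars A) (hξ : ξ ∈ relevantChars A) {k : N} (hk : k ∈ A)
    (hk1 : k ≠ 1) : ξ 1 * (star χ k - χ k) = χ 1 * (star ξ k - ξ k) := by
  obtain ⟨a, -, ha⟩ := IsIrrCharacter.exists_degree hχ.1
  obtain ⟨b, -, hb⟩ := IsIrrCharacter.exists_degree hξ.1
  have h := indFun_apply_frobTI hTI (α := (b : ℂ) • χ - (a : ℂ) • ξ)
    (fun x y => by
      simp only [Pi.sub_apply, Pi.smul_apply, IsIrrCharacter.isClassFunction hχ.1 x y,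
        IsIrrCharacter.isClassFunction hξ.1 x y])
    (fun x hx => by
      simp [relevant_apply_eq_zero hC hχ hx, relevant_apply_eq_zero hC hξ hx]) hk hk1
  rw [indFun_pair star hstar hext hχ hξ ha hb] at h
  simp only [Pi.sub_apply, Pi.smul_apply, smul_eq_mul] at h
  rw [ha, hb]
  linear_combination h

include hstar hext in
/-- Expansion of the restriction of a class function of `G` to the nonidentity elements of `A`. -/
theorem exists_const_expansion {ξ₀ : N → ℂ} (hξ₀ : ξ₀ ∈ relevantChars A) {Φ : G → ℂ}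
    (hΦ : Cfsg.IsClassFunction G Φ) {S : Finset (N → ℂ)}
    (hS : ∀ η, η ∈ S ↔ η ∈ relevantChars A) :
    ∃ c : ℂ, ∀ k : N, k ∈ A → k ≠ 1 →
      Φ k = ∑ η ∈ S, Cfsg.classInner Φ (star η) * η k + c := by
  classical
  obtain ⟨b, hb0, hb⟩ := IsIrrCharacter.exists_degree hξ₀.1
  have hres : Cfsg.IsClassFunction N (fun n : N => Φ n) := fun x y => hΦ x y
  have hκ : ∀ η ∈ S, Cfsg.classInner (fun n : N => Φ n) η = Cfsg.classInner Φ (star η) +
      ((Cfsg.classInner (fun n : N => Φ n) ξ₀ - Cfsg.classInner Φ (star ξ₀)) / b) * η 1 := by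
    intro η hη
    obtain ⟨a, -, ha⟩ := IsIrrCharacter.exists_degree ((hS η).1 hη).1
    have h := classInner_indFun_right hΦ ((b : ℂ) • η - (a : ℂ) • ξ₀)
    rw [indFun_pair star hstar hext ((hS η).1 hη) hξ₀ ha hb] at h
    simp only [classInner_sub_right, classInner_smul_right, Complex.conj_natCast] at h
    have hb' : (b : ℂ) ≠ 0 := Nat.cast_ne_zero.2 hb0.ne'
    rw [ha]
    field_simp
    linear_combination -h
  obtain ⟨κ, hκdef⟩ : ∃ κ, κ =
      (Cfsg.classInner (fun n : N => Φ n) ξ₀ - Cfsg.classInner Φ (star ξ₀)) / (b : ℂ) := ⟨_, rfl⟩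
  rw [← hκdef] at hκ
  refine ⟨∑ β ∈ irrFinset N \ S,
    (Cfsg.classInner (fun n : N => Φ n) β - κ * β 1) * β 1, fun k hk hk1 => ?_⟩
  have hsub : S ⊆ irrFinset N := fun η hη => mem_irrFinset.2 ((hS η).1 hη).1
  have hreg : ∑ β ∈ irrFinset N, β 1 * β k = 0 := by
    have h := congrFun (leftRegular_eq_sum (G := N)) k
    rw [leftRegular_character, if_neg hk1, Finset.sum_apply] at h
    exact h.symm
  have hexp := congrFun (eq_sum_irr hres) k
  simp only [Finset.sum_apply, Pi.smul_apply, smul_eq_mul] at hexp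
  rw [hexp, ← Finset.sum_sdiff hsub]
  rw [← Finset.sum_sdiff hsub] at hreg
  have htriv : ∀ β ∈ irrFinset N \ S, β k = β 1 := fun β hβ =>
    apply_eq_one_of_not_relevant (mem_irrFinset.1 (Finset.mem_sdiff.1 hβ).1)
      (fun h => (Finset.mem_sdiff.1 hβ).2 ((hS β).2 h)) hk
  rw [Finset.sum_congr (s₁ := S) rfl fun η hη => by rw [hκ η hη, add_mul, mul_assoc],
    Finset.sum_add_distrib, ← Finset.mul_sum, eq_neg_of_add_eq_zero_right hreg,
    Finset.sum_congr (s₁ := irrFinset N \ S)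
      (f := fun β => Cfsg.classInner (fun n : N => Φ n) β * β k)
      (g := fun β => Cfsg.classInner (fun n : N => Φ n) β * β 1) rfl
      fun β hβ => by rw [htriv β hβ],
    Finset.sum_congr (s₁ := irrFinset N \ S) rfl
      fun β hβ => show (Cfsg.classInner (fun n : N => Φ n) β - κ * β 1) * β 1 =
        Cfsg.classInner (fun n : N => Φ n) β * β 1 - κ * (β 1 * β k) by rw [htriv β hβ]; ring,
    Finset.sum_sub_distrib, ← Finset.mul_sum]
  ring

include hstar hext in
/-- The irreducible characters of `G` among the images are those not constant on `A`. -/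
theorem eq_star_iff_not_const
    (hC : ∀ a ∈ A, a ≠ 1 → Subgroup.centralizer ({a} : Set N) ≤ A)
    (htwo : ∃ χ ∈ relevantChars A, ∃ ξ ∈ relevantChars A, χ ≠ ξ) {ψ : G → ℂ}
    (hψ : Cfsg.IsIrrCharacter G ψ) :
    (∃ χ ∈ relevantChars A, ψ = star χ ∨ ψ = -star χ) ↔
      ∃ a ∈ A, ∃ b ∈ A, a ≠ 1 ∧ b ≠ 1 ∧ ψ a ≠ ψ b := by
  classical
  obtain ⟨ξ₀, hξ₀, ξ₁, hξ₁, hne01⟩ := htwo
  obtain ⟨S, hS⟩ : ∃ S : Finset (N → ℂ), ∀ η, η ∈ S ↔ η ∈ relevantChars A :=
    ⟨(irrFinset N).filter (fun η => η ∈ relevantChars A), fun η => by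
      simp only [Finset.mem_filter, mem_irrFinset]
      exact ⟨And.right, fun h => ⟨h.1, h⟩⟩⟩
  obtain ⟨c, hc⟩ := exists_const_expansion star hstar hext hξ₀
    (IsIrrCharacter.isClassFunction hψ) hS
  constructor
  · rintro ⟨χ, hχ, hor⟩
    obtain ⟨s, hs, hψs⟩ : ∃ s : ℂ, (s = 1 ∨ s = -1) ∧ ψ = s • star χ := by
      rcases hor with h | h
      · exact ⟨1, Or.inl rfl, by rw [one_smul, h]⟩
      · exact ⟨-1, Or.inr rfl, by rw [neg_one_smul, h]⟩
    have hval : ∀ k ∈ A, k ≠ 1 → ψ (k : G) = s * χ k + c := fun k hk hk1 => by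
      rw [hc k hk hk1, Finset.sum_eq_single χ (fun η hη hne => ?_) (fun h => absurd ((hS χ).2 hχ) h),
        hψs, classInner_smul_left, hstar.2.2.1 χ (subset_zspan hχ) χ (subset_zspan hχ),
        IsIrrCharacter.classInner_self hχ.1, mul_one]
      rw [hψs, classInner_smul_left,
        hstar.2.2.1 χ (subset_zspan hχ) η (subset_zspan ((hS η).1 hη)),
        IsIrrCharacter.classInner_of_ne hχ.1 ((hS η).1 hη).1 (Ne.symm hne), mul_zero, zero_mul]
    by_contra! hconst
    have hs0 : s ≠ 0 := by rcases hs with rfl | rfl <;> norm_num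
    obtain ⟨k₀, hk₀, hk₀ne⟩ := hχ.2
    have hk₀1 : k₀ ≠ 1 := fun h => hk₀ne (by rw [h])
    have hχc : ∀ k ∈ A, k ≠ 1 → χ k = χ k₀ := fun k hk hk1 => by
      have h := hconst k hk k₀ hk₀ hk1 hk₀1
      rw [hval k hk hk1, hval k₀ hk₀ hk₀1] at h
      exact mul_left_cancel₀ hs0 (add_right_cancel h)
    obtain ⟨η, hη, hηne⟩ : ∃ η ∈ relevantChars A, η ≠ χ := by
      by_cases h : ξ₀ = χ
      · exact ⟨ξ₁, hξ₁, fun h' => hne01 (h.trans h'.symm)⟩
      · exact ⟨ξ₀, hξ₀, h⟩
    have hone : η ≠ fun _ => 1 := by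
      rintro rfl
      obtain ⟨x, -, hx⟩ := hη.2
      exact hx rfl
    have e1 := IsIrrCharacter.classInner_of_ne hη.1 hχ.1 hηne
    have e2 := IsIrrCharacter.classInner_of_ne hη.1 isIrrCharacter_one hone
    rw [classInner_def, mul_eq_zero] at e1 e2
    have e1' := e1.resolve_left (inv_ne_zero (by exact_mod_cast Nat.card_pos.ne'))
    have e2' := e2.resolve_left (inv_ne_zero (by exact_mod_cast Nat.card_pos.ne'))
    simp only [map_one, mul_one] at e2'
    have hsplit : ∀ x : N, η x * conj (χ x) =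
        conj (χ k₀) * η x + (conj (χ 1) - conj (χ k₀)) * (if x = 1 then η x else 0) := by
      intro x
      by_cases hx : x ∈ A
      · by_cases hx1 : x = 1
        · subst hx1; rw [if_pos rfl]; ring
        · rw [if_neg hx1, hχc x hx hx1]; ring
      · rw [relevant_apply_eq_zero hC hη hx]; simp
    rw [Finset.sum_congr rfl fun x _ => hsplit x, Finset.sum_add_distrib, ← Finset.mul_sum, e2',
      ← Finset.mul_sum, Finset.sum_ite_eq' Finset.univ (1 : N) η, if_pos (Finset.mem_univ _),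
      mul_zero, zero_add, mul_eq_zero, sub_eq_zero] at e1'
    exact hk₀ne ((starRingEnd ℂ).injective (e1'.resolve_right
      (IsIrrCharacter.apply_one_ne_zero hη.1))).symm
  · rintro ⟨a, ha, b, hb, ha1, hb1, hne⟩
    by_contra hno
    push Not at hno
    refine hne ?_
    rw [hc a ha ha1, hc b hb hb1]
    have h0 : ∀ η ∈ S, Cfsg.classInner ψ (star η) = 0 := fun η hη => by
      have hη' := (hS η).1 hη
      obtain ⟨h1, h2⟩ := hno η hη'
      rcases IsGeneralized.isIrr_or_neg (hstar.2.2.2 η (subset_zspan hη'))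
        (by rw [hstar.2.2.1 η (subset_zspan hη') η (subset_zspan hη'),
          IsIrrCharacter.classInner_self hη'.1]) with h | h
      · exact IsIrrCharacter.classInner_of_ne hψ h h1
      · rw [← neg_neg (star η), classInner_neg_right,
          IsIrrCharacter.classInner_of_ne hψ h h2, neg_zero]
    rw [Finset.sum_eq_zero fun η hη => by rw [h0 η hη, zero_mul],
      Finset.sum_eq_zero fun η hη => by rw [h0 η hη, zero_mul]]

include hstar hext in
/-- The integer relating the images to the originals on `A`. -/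
theorem exists_int_star_sub
    (hC : ∀ a ∈ A, a ≠ 1 → Subgroup.centralizer ({a} : Set N) ≤ A)
    (hTI : ∀ g : G, g ∉ N → ∀ t ∈ A.map N.subtype, g * t * g⁻¹ ∈ A.map N.subtype → t = 1)
    {ξ₀ : N → ℂ} (hξ₀ : ξ₀ ∈ relevantChars A) :
    ∃ m : ℤ, ∀ χ ∈ relevantChars A, ∀ k ∈ A, k ≠ 1 →
      star χ k - χ k = (m : ℂ) * χ 1 / (A.index : ℂ) := by
  classical
  obtain ⟨S, hS⟩ : ∃ S : Finset (N → ℂ), ∀ η, η ∈ S ↔ η ∈ relevantChars A :=
    ⟨(irrFinset N).filter (fun η => η ∈ relevantChars A), fun η => by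
      simp only [Finset.mem_filter, mem_irrFinset]
      exact ⟨And.right, fun h => ⟨h.1, h⟩⟩⟩
  have hi : (A.index : ℂ) ≠ 0 := by exact_mod_cast A.index_ne_zero_of_finite
  have hgen : ∀ χ ∈ relevantChars A, Cfsg.IsGeneralizedCharacter G (star χ) := fun χ hχ =>
    hstar.2.2.2 χ (subset_zspan hχ)
  have hconst : ∀ χ ∈ relevantChars A, ∃ c : ℂ, ∀ k : N, k ∈ A → k ≠ 1 →
      star χ k - χ k = c := by
    intro χ hχ
    obtain ⟨c, hc⟩ := exists_const_expansion star hstar hext hξ₀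
      (IsGeneralized.isClassFunction (hgen χ hχ)) hS
    refine ⟨c, fun k hk hk1 => ?_⟩
    rw [hc k hk hk1, Finset.sum_eq_single χ (fun η hη hne => ?_)
      (fun h => absurd ((hS χ).2 hχ) h),
      hstar.2.2.1 χ (subset_zspan hχ) χ (subset_zspan hχ), IsIrrCharacter.classInner_self hχ.1]
    · ring
    · rw [hstar.2.2.1 χ (subset_zspan hχ) η (subset_zspan ((hS η).1 hη)),
        IsIrrCharacter.classInner_of_ne hχ.1 ((hS η).1 hη).1 (Ne.symm hne), zero_mul]
  choose! c hc using hconst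
  obtain ⟨k₀, hk₀, hk₀ne⟩ := hξ₀.2
  have hk₀1 : k₀ ≠ 1 := fun h => hk₀ne (by rw [h])
  have hAone : ∃ x : A, x ≠ 1 := ⟨⟨k₀, hk₀⟩, fun h => hk₀1 (congrArg Subtype.val h)⟩
  -- an integrality criterion
  obtain ⟨T, hT⟩ : ∃ T, T = (irrFinset A).erase (fun _ => 1) := ⟨_, rfl⟩
  have hdeg : ∀ θ ∈ T, ∃ d : ℕ, θ 1 = d ∧ d ∣ Nat.card A := fun θ hθ => by
    rw [hT, Finset.mem_erase, mem_irrFinset] at hθ
    obtain ⟨d, -, hd⟩ := IsIrrCharacter.exists_degree hθ.2
    exact ⟨d, hd, IsIrrCharacter.degree_dvd_card hθ.2 hd⟩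
  have hTne : T.Nonempty := by
    obtain ⟨x, hx⟩ := hAone
    by_contra hemp
    rw [Finset.not_nonempty_iff_eq_empty, hT] at hemp
    refine hx (isConj_one_left.1 ((isConj_iff_irr_eq x 1).2 fun θ hθ => ?_))
    by_cases h1 : θ = fun _ => 1
    · rw [h1]
    · exact absurd (Finset.mem_erase.2 ⟨h1, mem_irrFinset.2 hθ⟩) (hemp ▸ Finset.notMem_empty θ)
  have hint : ∀ x : ℂ, (∀ θ ∈ T, ∃ z : ℤ, x * θ 1 = z) → ∃ z : ℤ, x = z := by
    intro x hx
    obtain ⟨θ₀, hθ₀⟩ := hTne
    obtain ⟨d, hd, e, he⟩ := hdeg θ₀ hθ₀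
    obtain ⟨z₀, hz₀⟩ := hx θ₀ hθ₀
    choose! z hz using hx
    choose! dd hdd hdvd using hdeg
    have hsum := sum_degree_sq (G := A)
    rw [← Finset.add_sum_erase _ _ (mem_irrFinset.2 isIrrCharacter_one), ← hT, one_pow] at hsum
    refine ⟨z₀ * e - ∑ θ ∈ T, z θ * dd θ, ?_⟩
    have h3 : x * (Nat.card A : ℂ) = (z₀ : ℂ) * e := by
      rw [he, Nat.cast_mul, ← mul_assoc, ← hd, hz₀]
    have h4 : x * ((Nat.card A : ℂ) - 1) = ∑ θ ∈ T, ((z θ : ℂ) * dd θ) := by
      rw [← hsum, add_sub_cancel_left, Finset.mul_sum]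
      exact Finset.sum_congr rfl fun θ hθ => by
        rw [sq, ← mul_assoc, hz θ hθ, hdd θ hθ]
    push_cast
    linear_combination h3 - h4
  -- the constants are integers
  have hZ : ∀ χ ∈ relevantChars A, ∃ z : ℤ, c χ = z := by
    intro χ hχ
    have hgA : Cfsg.IsGeneralizedCharacter A (fun a : A => star χ ((a : N) : G) - χ a) :=
      IsGeneralized.sub (IsGeneralized.restrict (IsGeneralized.restrict (hgen χ hχ) N) A)
        (IsGeneralized.restrict (IsIrrCharacter.isGeneralized hχ.1) A)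
    obtain ⟨D, hD⟩ : ∃ D : ℂ, D = star χ 1 - χ 1 - c χ := ⟨_, rfl⟩
    have hval : (fun a : A => star χ ((a : N) : G) - χ a) =
        c χ • (fun _ => (1 : ℂ)) + D • (fun a : A => if a = 1 then (1 : ℂ) else 0) := by
      funext a
      simp only [Pi.add_apply, Pi.smul_apply, smul_eq_mul, mul_one]
      by_cases ha : a = 1
      · subst ha; simp [hD]
      · rw [if_neg ha, hc χ hχ a a.2 (fun h => ha (Subtype.ext h))]; simp
    have hδ : ∀ θ : A → ℂ, Cfsg.classInner (fun a : A => if a = 1 then (1 : ℂ) else 0) θ =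
        conj (θ 1) / (Nat.card A : ℂ) := fun θ => by
      rw [classInner_def, Finset.sum_eq_single (1 : A) (fun b _ hb => by simp [hb])
        (fun h => absurd (Finset.mem_univ _) h), if_pos rfl]
      ring
    obtain ⟨zD, hzD⟩ := hint (D / (Nat.card A : ℂ)) fun θ hθ => by
      rw [hT, Finset.mem_erase, mem_irrFinset] at hθ
      obtain ⟨z, hz⟩ :=
        IsGeneralized.exists_classInner_eq_int hgA (IsIrrCharacter.isGeneralized hθ.2)
      refine ⟨z, ?_⟩
      rw [← hz, hval, classInner_add_left, classInner_smul_left, classInner_smul_left,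
        IsIrrCharacter.classInner_of_ne isIrrCharacter_one hθ.2 (Ne.symm hθ.1), hδ]
      obtain ⟨d, -, hd⟩ := IsIrrCharacter.exists_degree hθ.2
      rw [hd, Complex.conj_natCast]
      ring
    obtain ⟨z1, hz1⟩ := IsGeneralized.exists_classInner_eq_int hgA isGeneralized_one
    rw [hval, classInner_add_left, classInner_smul_left, classInner_smul_left,
      classInner_one_one, hδ, map_one, mul_one, ← mul_div_assoc, mul_one, hzD] at hz1
    exact ⟨z1 - zD, by push_cast; linear_combination hz1⟩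
  obtain ⟨r, hr⟩ : ∃ r : ℂ, r = c ξ₀ * A.index / ξ₀ 1 := ⟨_, rfl⟩
  have hξ1 := IsIrrCharacter.apply_one_ne_zero hξ₀.1
  have hprop : ∀ χ ∈ relevantChars A, c χ = r * χ 1 / A.index := by
    intro χ hχ
    have h := star_sub_proportional star hstar hext hC hTI hχ hξ₀ hk₀ hk₀1
    rw [hc χ hχ k₀ hk₀ hk₀1, hc ξ₀ hξ₀ k₀ hk₀ hk₀1] at h
    rw [hr]
    field_simp
    linear_combination h
  obtain ⟨m, hm⟩ := hint r fun θ hθ => by
    rw [hT, Finset.mem_erase, mem_irrFinset] at hθ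
    have hirr := isIrrCharacter_indFun_of_centralizer_le hC hθ.2 hθ.1
    have hmem : Cfsg.indFun A θ ∈ relevantChars A := by
      refine ⟨hirr, ?_⟩
      by_contra! h
      have h2 := (apply_eq_iff_indFun_eq le_rfl hθ.2).2 h
      obtain ⟨d, hd0, hd⟩ := IsIrrCharacter.exists_degree hθ.2
      have hn := IsIrrCharacter.classInner_of_ne hθ.2 isIrrCharacter_one hθ.1
      rw [show θ = θ 1 • fun _ => (1 : ℂ) from funext fun a => by simp [h2 a a.2],
        classInner_smul_left, classInner_one_one, mul_one, hd, Nat.cast_eq_zero] at hn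
      omega
    obtain ⟨z, hz⟩ := hZ _ hmem
    refine ⟨z, ?_⟩
    have h := hprop _ hmem
    rw [hz, indFun_one] at h
    field_simp at h
    linear_combination -h
  exact ⟨m, fun χ hχ k hk hk1 => by rw [hc χ hχ k hk hk1, hprop χ hχ, hm]⟩

end Star

section Normalizer

omit [Fintype G] [Fintype N] hA in
theorem centralizer_subgroupOf_le {K N : Subgroup G}
    (hC : ∀ k ∈ K, k ≠ 1 → Subgroup.centralizer ({k} : Set G) ≤ K) :
    ∀ a ∈ K.subgroupOf N, a ≠ 1 →
      Subgroup.centralizer ({a} : Set N) ≤ K.subgroupOf N := fun a ha ha1 x hx => by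
  rw [Subgroup.mem_subgroupOf] at ha ⊢
  refine hC _ ha (fun h => ha1 (Subtype.ext h)) ?_
  rw [Subgroup.mem_centralizer_singleton_iff] at hx ⊢
  exact congrArg Subtype.val hx

omit [Fintype G] [Fintype N] hA in
theorem tI_map_subgroupOf {K N : Subgroup G}
    (hTI : ∀ g : G, g ∉ N → ∀ k ∈ K, g * k * g⁻¹ ∈ K → k = 1) :
    ∀ g : G, g ∉ N → ∀ t ∈ (K.subgroupOf N).map N.subtype,
      g * t * g⁻¹ ∈ (K.subgroupOf N).map N.subtype → t = 1 := fun g hg t ht hgt => by
  rw [Subgroup.subgroupOf_map_subtype] at ht hgt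
  exact hTI g hg t ht.1 hgt.1

end Normalizer

end CfsgLib.Char
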