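import Cfsg.Agent.Char.CoherenceOddKernel

/-!
# Coherence of the characters non-trivial on a central subgroup of a nilpotent kernel
-/

set_option autoImplicit false
set_option linter.style.haveILetI false

namespace CfsgLib.Char

universe u v

theorem card_conjOrbit_of_isIrr_indFun {L : Type u} [Group L] [Fintype L] {K : Subgroup L}
    [K.Normal] {θ : K → ℂ} (hθ : Cfsg.IsIrrCharacter K θ)
    (h : Cfsg.IsIrrCharacter L (Cfsg.indFun K θ)) : (conjOrbit θ).card = K.index := by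
  classical
  have hn := classInner_indFun_self hθ
  rw [IsIrrCharacter.classInner_self h, eq_div_iff (Nat.cast_ne_zero.2 Nat.card_pos.ne'), one_mul,
    Nat.cast_inj] at hn
  rw [card_conjOrbit, ← Nat.mul_left_cancel_iff (Nat.card_pos (α := K)), Subgroup.card_mul_index,
    hn, Subgroup.card_mul_index]

theorem indFun_relevant_iff {L : Type u} [Group L] [Fintype L] {K Z : Subgroup L} [K.Normal] [Fintype K]
    [hZn : Z.Normal] (hZK : Z ≤ K) {θ : K → ℂ} (hθ : Cfsg.IsIrrCharacter K θ) {χ : L → ℂ}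
    (hχ : Cfsg.IsIrrCharacter L χ) (hc : Cfsg.classInner (fun n : K => χ n) θ ≠ 0) :
    (∀ z ∈ Z, χ z = χ 1) ↔ ∀ a : K, (a : L) ∈ Z → θ a = θ 1 := by
  classical
  constructor
  · intro h a ha
    have hres := IsCharacter.restrict (IsIrrCharacter.isCharacter hχ) K
    refine IsCharacter.apply_eq_of_add (IsIrrCharacter.isCharacter hθ)
      (IsCharacter.sub_irr hres hθ hc) ?_
    simp only [add_sub_cancel, OneMemClass.coe_one]
    exact h a ha
  · intro h z hz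
    have hr := restrict_eq_smul_sum hχ hθ hc
    have e1 := congrFun hr ⟨z, hZK hz⟩
    have e2 := congrFun hr 1
    simp only [Pi.smul_apply, Finset.sum_apply, OneMemClass.coe_one] at e1 e2
    rw [e1, e2]
    congr 1
    refine Finset.sum_congr rfl fun ψ hψ => ?_
    obtain ⟨g, rfl⟩ := mem_conjOrbit.1 hψ
    rw [conjOn_apply, conjOn_apply_one]
    exact h _ (hZn.conj_mem z hz g)

variable {L : Type u} [Group L] [Fintype L] {G : Type v} [Group G] [Fintype G]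
  {K : Subgroup L} [hK : K.Normal] {τ : (L → ℂ) → (G → ℂ)} {R : (L → ℂ) → Finset (G → ℂ)}

/-- The members of `S` outside `S(Z)`, when they are irreducible. -/
theorem inducedIrrAbove_sdiff_eq {Z : Subgroup L} [Z.Normal] (hZK : Z ≤ K)
    (hirr : ∀ χ ∈ Cfsg.inducedIrrAbove K ⊥ \ Cfsg.inducedIrrAbove K Z, Cfsg.IsIrrCharacter L χ) :
    Cfsg.inducedIrrAbove K ⊥ \ Cfsg.inducedIrrAbove K Z =
      {χ | Cfsg.IsIrrCharacter L χ ∧ ∃ z ∈ Z, χ z ≠ χ 1} := by
  classical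
  ext φ
  constructor
  · rintro ⟨⟨θ, hθ, h1, -, rfl⟩, hnot⟩
    have hi := hirr _ ⟨⟨θ, hθ, h1, fun a ha => by
      rw [show a = 1 from Subtype.ext (Subgroup.mem_bot.1 ha)], rfl⟩, hnot⟩
    refine ⟨hi, ?_⟩
    by_contra hall
    push Not at hall
    refine hnot ⟨θ, hθ, h1, (indFun_relevant_iff hZK hθ hi ?_).1 hall, rfl⟩
    rw [← classInner_conj, ← classInner_indFun θ (IsIrrCharacter.isClassFunction hi),
      IsIrrCharacter.classInner_self hi, map_one]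
    exact one_ne_zero
  · rintro ⟨hχ, hz⟩
    obtain ⟨θ, hθ, hc⟩ := exists_constituent_restrict hχ (N := K)
    have hker : ¬ ∀ a : K, (a : L) ∈ Z → θ a = θ 1 := fun h => by
      obtain ⟨z, hzZ, hne⟩ := hz
      exact hne ((indFun_relevant_iff hZK hθ hχ hc).2 h z hzZ)
    have h1 : θ ≠ fun _ => 1 := fun h => hker fun a _ => by rw [h]
    have hbot : ∀ a : K, (a : L) ∈ (⊥ : Subgroup L) → θ a = θ 1 := fun a ha => by
      rw [show a = 1 from Subtype.ext (Subgroup.mem_bot.1 ha)]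
    have hnot : Cfsg.indFun K θ ∉ Cfsg.inducedIrrAbove K Z := by
      rintro ⟨θ', hθ', -, hker', he⟩
      have hmem : θ ∈ conjOrbit θ' := by
        by_contra hne
        have h2 := classInner_indFun_indFun hθ hθ'
        rw [if_neg hne, he, classInner_indFun_self hθ', div_eq_zero_iff] at h2
        rcases h2 with h2 | h2 <;> exact Nat.card_pos.ne' (Nat.cast_eq_zero.1 h2)
      obtain ⟨g, rfl⟩ := mem_conjOrbit.1 hmem
      refine hker fun a ha => ?_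
      rw [conjOn_apply, conjOn_apply_one]
      exact hker' _ (Subgroup.Normal.conj_mem inferInstance _ ha g)
    have hi := hirr _ ⟨⟨θ, hθ, h1, hbot, rfl⟩, hnot⟩
    have hEq : Cfsg.indFun K θ = φ := by
      by_contra hne
      exact (classInner_indFun_ne_zero_iff (IsIrrCharacter.isClassFunction hχ) θ).2 hc
        (IsIrrCharacter.classInner_of_ne hi hχ hne)
    exact hEq ▸ ⟨⟨θ, hθ, h1, hbot, rfl⟩, hnot⟩

theorem coherent_nontrivial_central (hsolv : Group.IsSolvable K)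
    (hS : Cfsg.IsCoherenceSystem (Cfsg.inducedIrrAbove K ⊥) τ R) (hodd : Odd (Nat.card L))
    (hnil : Group.IsNilpotent K) (hH₁K : ⁅K, K⁆ < K) (hKL : K < ⊤)
    (hfrob : ∀ k ∈ K, k ∉ ⁅K, K⁆ → ∀ x : L, x * k * x⁻¹ * k⁻¹ ∈ ⁅K, K⁆ → x ∈ K)
    (Z : Subgroup L) [Z.Normal] (hZ1 : Z ≠ ⊥) (hZK : Z ≤ K)
    (hZc : ∀ z ∈ Z, ∀ k ∈ K, z * k = k * z)
    (hirr : ∀ χ ∈ Cfsg.inducedIrrAbove K ⊥ \ Cfsg.inducedIrrAbove K Z, Cfsg.IsIrrCharacter L χ) :
    Cfsg.IsCoherent (Cfsg.inducedIrrAbove K ⊥ \ Cfsg.inducedIrrAbove K Z) {1}ᶜ τ := by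
  classical
  haveI := hnil
  set X := Cfsg.inducedIrrAbove K ⊥ \ Cfsg.inducedIrrAbove K Z with hX
  have hXS : X ⊆ Cfsg.inducedIrrAbove K ⊥ := Set.sdiff_subset
  have hXc : ∀ φ ∈ X, Cfsg.conjFun φ ∈ X := fun φ hφ =>
    ⟨conjFun_mem_inducedIrrAbove hφ.1, fun h => hφ.2 (by
      simpa [conjFun_conjFun] using conjFun_mem_inducedIrrAbove h)⟩
  have hXne : X.Nonempty := by
    obtain ⟨z, hz, hz1⟩ := (Subgroup.ne_bot_iff_exists_ne_one.1 hZ1).elim fun z hz =>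
      (⟨z.1, z.2, fun e => hz (Subtype.ext e)⟩ : ∃ z, z ∈ Z ∧ z ≠ 1)
    have hsep : ∃ χ, Cfsg.IsIrrCharacter L χ ∧ χ z ≠ χ 1 := by
      by_contra h
      push Not at h
      exact hz1 (isConj_one_left.1 ((isConj_iff_irr_eq z 1).2 h))
    obtain ⟨χ, hχ, hne⟩ := hsep
    exact ⟨χ, by rw [hX, inducedIrrAbove_sdiff_eq hZK hirr]; exact ⟨hχ, z, hz, hne⟩⟩
  by_cases hnp : ∃ p m : ℕ, p.Prime ∧ (⊥ : Subgroup L).relIndex K = p ^ m
  swap
  · haveI : Group.IsNilpotent (↥K ⧸ (⊥ : Subgroup L).subgroupOf K) := inferInstance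
    have hH1 : ⁅K, K⁆ = ⁅K, K⁆ ⊔ ⊥ := sup_bot_eq _ |>.symm
    have hall := coherent_odd_nilpotent hsolv hS hodd ⊥ bot_le inferInstance ⁅K, K⁆ hH1 hH₁K hKL hfrob
      (Or.inr (Or.inr (Or.inl hnp)))
    exact isCoherent_subset hXS hall (system_exists_ne_zero hS hXS hXc hXne)
  obtain ⟨p, j, hp, hpj⟩ := hnp
  rw [Subgroup.relIndex_bot_left] at hpj
  haveI : Fact p.Prime := ⟨hp⟩
  have hpg : IsPGroup p K := IsPGroup.of_card hpj
  set l := K.index with hl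
  have hl0 : 0 < l := Nat.pos_of_ne_zero K.index_ne_zero_of_finite
  -- `p` is odd and prime to `l`
  have hj : j ≠ 0 := by
    rintro rfl
    rw [pow_zero, Subgroup.card_eq_one] at hpj
    exact hH₁K.ne (le_antisymm hH₁K.le (hpj ▸ bot_le))
  have hp2 : p ≠ 2 := by
    rintro rfl
    have h2 : Odd (Nat.card K) := hodd.of_dvd_nat (Subgroup.card_subgroup_dvd_card K)
    rw [hpj, Nat.odd_pow_iff hj] at h2
    exact absurd h2 (by decide)
  have hp3 : 3 ≤ p := by have := hp.two_le; omega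
  have hcop : Nat.Coprime l p := by
    haveI : (K.map (QuotientGroup.mk' ⁅K, K⁆)).Normal :=
      Subgroup.Normal.map hK _ (QuotientGroup.mk'_surjective _)
    have h := index_dvd_card_sub_one_of_le (K.map (QuotientGroup.mk' ⁅K, K⁆))
      (K.map (QuotientGroup.mk' ⁅K, K⁆)) (by
        rintro _ ⟨k, hk, rfl⟩ hk1 y hy
        obtain ⟨g, rfl⟩ := QuotientGroup.mk'_surjective ⁅K, K⁆ y
        rw [Subgroup.mem_centralizer_singleton_iff] at hy
        refine ⟨g, hfrob k hk (fun h => hk1 ((QuotientGroup.eq_one_iff k).2 h)) g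
          ((QuotientGroup.eq_one_iff _).1 ?_), rfl⟩
        show QuotientGroup.mk' ⁅K, K⁆ (g * k * g⁻¹ * k⁻¹) = 1
        rw [map_mul, map_mul, map_mul, map_inv, map_inv]
        calc QuotientGroup.mk' ⁅K, K⁆ g * QuotientGroup.mk' ⁅K, K⁆ k * (QuotientGroup.mk' ⁅K, K⁆ g)⁻¹ *
            (QuotientGroup.mk' ⁅K, K⁆ k)⁻¹ = QuotientGroup.mk' ⁅K, K⁆ k * QuotientGroup.mk' ⁅K, K⁆ g *
            (QuotientGroup.mk' ⁅K, K⁆ g)⁻¹ * (QuotientGroup.mk' ⁅K, K⁆ k)⁻¹ := by rw [hy]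
          _ = 1 := by group)
    rw [Subgroup.index_map_eq K (QuotientGroup.mk'_surjective _) (by
      rw [QuotientGroup.ker_mk']; exact hH₁K.le), card_map_quotient] at h
    obtain ⟨i, -, hi⟩ := (Nat.dvd_prime_pow hp).1
      (hpj ▸ (Subgroup.index_dvd_card (⁅K, K⁆.subgroupOf K)) : (⁅K, K⁆ : Subgroup L).relIndex K ∣ p ^ j)
    refine Nat.coprime_of_dvd fun r hr hrl hrp => ?_
    rw [(Nat.prime_dvd_prime_iff_eq hr hp).1 hrp] at hrl
    have hi0 : i ≠ 0 := fun h0 => hH₁K.not_ge (Subgroup.relIndex_eq_one.1 (hi.trans (by rw [h0, pow_zero])))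
    have h3 : p ∣ p ^ i - 1 := hi ▸ hrl.trans h
    exact hp.one_lt.ne' (Nat.dvd_one.1 ((Nat.dvd_add_right h3).1 (by
      rw [Nat.sub_add_cancel (Nat.one_le_pow _ _ hp.pos)]; exact dvd_pow_self p hi0)))
  -- the characters not trivial on `Z`
  set T : Finset (K → ℂ) :=
    (irrFinset K).filter fun θ => ¬ ∀ a : K, (a : L) ∈ Z → θ a = θ 1 with hT
  have hmemT : ∀ θ, θ ∈ T ↔ Cfsg.IsIrrCharacter K θ ∧ ¬ ∀ a : K, (a : L) ∈ Z → θ a = θ 1 := fun θ => by
    simp only [hT, Finset.mem_filter, mem_irrFinset]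
  have hTind : ∀ θ ∈ T, Cfsg.indFun K θ ∈ X := by
    intro θ hθ
    obtain ⟨h1, h2⟩ := (hmemT θ).1 hθ
    refine ⟨⟨θ, h1, fun h => h2 fun a _ => by rw [h], fun a ha => by
      rw [show a = 1 from Subtype.ext (Subgroup.mem_bot.1 ha)], rfl⟩, ?_⟩
    rintro ⟨θ', hθ', -, hker', he⟩
    have hmem : θ ∈ conjOrbit θ' := by
      by_contra hne
      have h3 := classInner_indFun_indFun h1 hθ'
      rw [if_neg hne, he, classInner_indFun_self hθ', div_eq_zero_iff] at h3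
      rcases h3 with h3 | h3 <;> exact Nat.card_pos.ne' (Nat.cast_eq_zero.1 h3)
    obtain ⟨g, rfl⟩ := mem_conjOrbit.1 hmem
    refine h2 fun a ha => ?_
    rw [conjOn_apply, conjOn_apply_one]
    exact hker' _ (Subgroup.Normal.conj_mem inferInstance _ ha g)
  have hXT : ∀ φ ∈ X, ∃ θ ∈ T, φ = Cfsg.indFun K θ := by
    rintro φ ⟨⟨θ, h1, h2, -, rfl⟩, hnot⟩
    exact ⟨θ, (hmemT θ).2 ⟨h1, fun h => hnot ⟨θ, h1, h2, h, rfl⟩⟩, rfl⟩
  have hTconj : ∀ θ ∈ T, ∀ g : L, conjOn g θ ∈ T := by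
    intro θ hθ g
    obtain ⟨h1, h2⟩ := (hmemT θ).1 hθ
    refine (hmemT _).2 ⟨isIrrCharacter_conjOn h1 g, fun h => h2 fun a ha => ?_⟩
    have h3 := h ⟨g⁻¹ * (a : L) * g, by simpa using hK.conj_mem _ a.2 g⁻¹⟩
      (by simpa using Subgroup.Normal.conj_mem inferInstance _ ha g⁻¹)
    rw [conjOn_apply, conjOn_apply_one] at h3
    convert h3 using 2
    exact Subtype.ext (by group)
  -- degrees
  have hcard : ∀ θ ∈ T, cdeg θ ^ 2 ∣ Nat.card K ∧ cdeg θ ^ 2 ∣ (Z.subgroupOf K).index ∧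
      ∃ i, cdeg θ = p ^ i := by
    intro θ hθ
    have h1 := ((hmemT θ).1 hθ).1
    obtain ⟨i, -, hi⟩ := (Nat.dvd_prime_pow hp).1
      (hpj ▸ (cdeg_dvd_index_center h1).trans (Subgroup.index_dvd_card _))
    obtain ⟨c, -, hc⟩ := (Nat.dvd_prime_pow hp).1 (hpj ▸ Subgroup.index_dvd_card (Z.subgroupOf K))
    have hle : cdeg θ ^ 2 ≤ (Z.subgroupOf K).index := (cdeg_sq_le_index_center h1).trans
      (Nat.le_of_dvd (Nat.pos_of_ne_zero Subgroup.index_ne_zero_of_finite)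
        (Subgroup.index_dvd_of_le fun a ha => Subgroup.mem_center_iff.2 fun b =>
          Subtype.ext (hZc a ha b b.2).symm))
    rw [hi, hc, ← pow_mul] at hle
    refine ⟨?_, ?_, i, hi⟩ <;> rw [hi, ← pow_mul]
    · rw [hpj]
      exact pow_dvd_pow p (((Nat.pow_le_pow_iff_right hp.one_lt).1 hle).trans
        ((Nat.pow_le_pow_iff_right hp.one_lt).1 (hc ▸ hpj ▸
          Nat.le_of_dvd Nat.card_pos (Subgroup.index_dvd_card _))))
    · rw [hc]
      exact pow_dvd_pow p ((Nat.pow_le_pow_iff_right hp.one_lt).1 hle)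
  let Y : ℕ → Finset (L → ℂ) := fun n => (T.filter fun θ => cdeg θ ≤ n).image (Cfsg.indFun K)
  have hYX : ∀ n, ↑(Y n) ⊆ X := fun n φ hφ => by
    obtain ⟨θ, hθ, rfl⟩ := Finset.mem_image.1 (Finset.mem_coe.1 hφ)
    exact hTind θ (Finset.mem_filter.1 hθ).1
  have hYmem : ∀ n φ, φ ∈ Y n ↔ φ ∈ X ∧ cdeg φ ≤ l * n := by
    intro n φ
    constructor
    · intro h
      refine ⟨hYX n h, ?_⟩
      obtain ⟨θ, hθ, rfl⟩ := Finset.mem_image.1 h
      obtain ⟨h1, h2⟩ := Finset.mem_filter.1 hθ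
      rw [cdeg_indFun ((hmemT θ).1 h1).1]
      exact Nat.mul_le_mul_left _ h2
    · rintro ⟨h1, h2⟩
      obtain ⟨θ, hθ, rfl⟩ := hXT φ h1
      rw [cdeg_indFun ((hmemT θ).1 hθ).1] at h2
      exact Finset.mem_image_of_mem _ (Finset.mem_filter.2 ⟨hθ, Nat.le_of_mul_le_mul_left h2 hl0⟩)
  have hYc : ∀ n, ∀ φ ∈ Y n, Cfsg.conjFun φ ∈ Y n := fun n φ hφ => by
    rw [hYmem] at hφ ⊢
    refine ⟨hXc φ hφ.1, le_of_eq_of_le (cdeg_eq_of_apply_one ?_) hφ.2⟩
    rw [Cfsg.conjFun, apply_one_eq_cdeg (hS.isCharacter φ (hXS hφ.1)), map_natCast]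
  have hne : (T.image cdeg).Nonempty := by
    obtain ⟨φ, hφ⟩ := hXne
    obtain ⟨θ, hθ, -⟩ := hXT φ hφ
    exact ⟨_, Finset.mem_image_of_mem _ hθ⟩
  set d₁ := (T.image cdeg).min' hne with hd₁
  obtain ⟨θ₁, hθ₁, hθ₁d⟩ := Finset.mem_image.1 ((T.image cdeg).min'_mem hne)
  rw [← hd₁] at hθ₁d
  have hmin : ∀ θ ∈ T, d₁ ≤ cdeg θ := fun θ hθ =>
    Finset.min'_le _ _ (Finset.mem_image_of_mem _ hθ)
  have hbase : Cfsg.IsCoherent (↑(Y d₁) : Set (L → ℂ)) ({1}ᶜ : Set L) τ := by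
    refine isCoherent_of_equal_degree (coherenceSystem_subset hS ((hYX d₁).trans hXS)
      ⟨_, Finset.mem_coe.2 (Finset.mem_image_of_mem _ (Finset.mem_filter.2 ⟨hθ₁, hθ₁d.le⟩))⟩
      fun φ hφ => hYc d₁ φ hφ) fun φ hφ φ' hφ' => ?_
    have key : ∀ φ ∈ Y d₁, φ 1 = ((l * d₁ : ℕ) : ℂ) := by
      intro φ hφ
      obtain ⟨θ, hθ, rfl⟩ := Finset.mem_image.1 hφ
      obtain ⟨h1, h2⟩ := Finset.mem_filter.1 hθ
      rw [indFun_one, irr_apply_one_eq_cdeg ((hmemT θ).1 h1).1, le_antisymm h2 (hmin θ h1), Nat.cast_mul]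
    rw [key φ hφ, key φ' hφ']
  have hmain : ∀ n, d₁ ≤ n → Cfsg.IsCoherent (↑(Y n) : Set (L → ℂ)) ({1}ᶜ : Set L) τ := by
    intro n hn
    induction n, hn using Nat.le_induction with
    | base => exact hbase
    | succ n hn ih =>
      have hψ : Cfsg.indFun K θ₁ ∈ Y n :=
        Finset.mem_image_of_mem _ (Finset.mem_filter.2 ⟨hθ₁, hθ₁d.le.trans hn⟩)
      refine coherent_grow hS (Y n) (Y (n + 1))
        (fun φ hφ => (hYmem _ φ).2 ⟨((hYmem n φ).1 hφ).1,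
          ((hYmem n φ).1 hφ).2.trans (Nat.mul_le_mul_left _ n.le_succ)⟩)
        ((hYX _).trans hXS) (hYc n) (hYc _) ih hψ fun χ hχ hχn => ?_
      obtain ⟨θ, hθ, rfl⟩ := Finset.mem_image.1 hχ
      obtain ⟨hθT, hθn⟩ := Finset.mem_filter.1 hθ
      have hdeg : cdeg θ = n + 1 := by
        refine le_antisymm hθn (Nat.succ_le_iff.2 ?_)
        by_contra hle
        exact hχn (Finset.mem_image_of_mem _ (Finset.mem_filter.2 ⟨hθT, not_lt.1 hle⟩))
      obtain ⟨-, -, i, hi⟩ := hcard θ hθT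
      obtain ⟨-, -, i₁, hi₁⟩ := hcard θ₁ hθ₁
      have hlt : i₁ < i := by
        have : p ^ i₁ < p ^ i := by rw [← hi, ← hi₁, hθ₁d, hdeg]; omega
        exact (Nat.pow_lt_pow_iff_right hp.one_lt).1 this
      rw [cdeg_indFun ((hmemT θ).1 hθT).1, cdeg_indFun ((hmemT θ₁).1 hθ₁).1]
      refine ⟨Nat.mul_dvd_mul_left _ (by rw [hi, hi₁]; exact pow_dvd_pow p hlt.le), ?_⟩
      set s := ∑ ψ ∈ T.filter (fun ψ => cdeg ψ ≤ n), cdeg ψ ^ 2 with hs
      have hsum : ∑ φ ∈ Y n, cdeg φ ^ 2 = l * s := by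
        have h := sum_sq_indFun (T.filter fun ψ => cdeg ψ ≤ n)
          (fun ψ hψ => ((hmemT ψ).1 (Finset.mem_filter.1 hψ).1).1) (fun ψ hψ g => by
            rw [Finset.mem_filter] at hψ ⊢
            exact ⟨hTconj ψ hψ.1 g, by rw [cdeg_eq_of_apply_one (conjOn_apply_one g ψ)]; exact hψ.2⟩)
        rw [Finset.sum_congr rfl (g := fun φ => ((cdeg φ ^ 2 : ℕ) : ℂ))] at h
        · exact_mod_cast h
        intro φ hφ
        have hφX := hYX n (Finset.mem_coe.2 hφ)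
        rw [IsIrrCharacter.classInner_self (hirr φ hφX), div_one,
          irr_apply_one_eq_cdeg (hirr φ hφX), Nat.cast_pow]
      have hls : l ∣ s := by
        refine Nat.dvd_of_mul_dvd_mul_left hl0 ?_
        rw [← hsum]
        refine Finset.dvd_sum fun φ hφ => ?_
        obtain ⟨ψ, hψ, rfl⟩ := Finset.mem_image.1 hφ
        rw [cdeg_indFun ((hmemT ψ).1 (Finset.mem_filter.1 hψ).1).1, mul_pow, ← sq]
        exact dvd_mul_right _ _
      have hps : cdeg θ ^ 2 ∣ s := by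
        have htot : s + ∑ ψ ∈ T.filter (fun ψ => ¬ cdeg ψ ≤ n), cdeg ψ ^ 2 +
            (Z.subgroupOf K).index = Nat.card K := by
          rw [hs, Finset.sum_filter_add_sum_filter_not, ← sum_cdeg_sq_kernel (Z.subgroupOf K),
            ← sum_cdeg_sq (G := K), hT]
          rw [add_comm]
          exact Finset.sum_filter_add_sum_filter_not _ _ _
        obtain ⟨h1, h2, -⟩ := hcard θ hθT
        have h3 : cdeg θ ^ 2 ∣ ∑ ψ ∈ T.filter (fun ψ => ¬ cdeg ψ ≤ n), cdeg ψ ^ 2 :=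
          Finset.dvd_sum fun ψ hψ => by
            obtain ⟨h4, h5⟩ := Finset.mem_filter.1 hψ
            obtain ⟨-, -, i', hi'⟩ := hcard ψ h4
            rw [hi, hi']
            refine pow_dvd_pow_of_dvd (pow_dvd_pow p ((Nat.pow_le_pow_iff_right hp.one_lt).1 ?_)) 2
            rw [← hi, ← hi', hdeg]
            omega
        rw [← htot] at h1
        exact (Nat.dvd_add_left h3).1 ((Nat.dvd_add_left h2).1 h1)
      have hs0 : 0 < s := Nat.pos_of_ne_zero fun h0 => by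
        have h := Finset.single_le_sum (f := fun ψ : K → ℂ => cdeg ψ ^ 2)
          (s := T.filter fun ψ => cdeg ψ ≤ n) (fun _ _ => Nat.zero_le _)
          (Finset.mem_filter.2 ⟨hθ₁, hθ₁d.le.trans hn⟩)
        rw [← hs, h0] at h
        have := pow_pos (cdeg_pos ((hmemT θ₁).1 hθ₁).1) 2
        omega
      have hge : l * cdeg θ ^ 2 ≤ s := Nat.le_of_dvd hs0
        (Nat.Coprime.mul_dvd_of_dvd_of_dvd (by rw [hi, ← pow_mul]; exact hcop.pow_right _) hls hps)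
      have h3 : 3 * cdeg θ₁ ≤ cdeg θ := by
        rw [hi, hi₁]
        calc 3 * p ^ i₁ ≤ p * p ^ i₁ := Nat.mul_le_mul_right _ hp3
          _ = p ^ (i₁ + 1) := by rw [pow_succ, mul_comm]
          _ ≤ p ^ i := Nat.pow_le_pow_right hp.pos hlt
      have hfin : 2 * (l * cdeg θ) * (l * cdeg θ₁) < l * s := by
        have h4 := Nat.mul_le_mul_left (l * (l * cdeg θ)) h3
        have h5 := Nat.mul_le_mul_left l hge
        have h6 : 0 < l * (l * cdeg θ) * cdeg θ₁ :=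
          Nat.mul_pos (Nat.mul_pos hl0 (Nat.mul_pos hl0 (cdeg_pos ((hmemT θ).1 hθT).1)))
            (cdeg_pos ((hmemT θ₁).1 hθ₁).1)
        nlinarith
      rw [← hsum] at hfin
      calc ((2 * (l * cdeg θ : ℕ) * (l * cdeg θ₁ : ℕ) : ℝ)) < ((∑ φ ∈ Y n, cdeg φ ^ 2 : ℕ) : ℝ) := by
            exact_mod_cast hfin
        _ = ∑ φ ∈ Y n, (cdeg φ : ℝ) ^ 2 / (cnorm φ : ℝ) := by
          push_cast
          refine Finset.sum_congr rfl fun φ hφ => ?_
          have hn1 : cnorm φ = 1 := by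
            rw [cnorm, IsIrrCharacter.classInner_self (hirr φ (hYX n (Finset.mem_coe.2 hφ)))]
            simp
          rw [hn1, Nat.cast_one, div_one]
  have hfinal := hmain (max d₁ (Nat.card K)) (le_max_left _ _)
  have hEq : (↑(Y (max d₁ (Nat.card K))) : Set (L → ℂ)) = X := by
    refine Set.Subset.antisymm (hYX _) fun φ hφ => Finset.mem_coe.2 ?_
    obtain ⟨θ, hθ, rfl⟩ := hXT φ hφ
    refine Finset.mem_image_of_mem _ (Finset.mem_filter.2 ⟨hθ, le_trans ?_ (le_max_right _ _)⟩)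
    exact Nat.le_of_dvd Nat.card_pos ((dvd_pow_self _ two_ne_zero).trans (hcard θ hθ).1)
  rwa [hEq] at hfinal

end CfsgLib.Char
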