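import Cfsg.Agent.Char.Induction
import Cfsg.Agent.Char.Constituents
import Mathlib.GroupTheory.GroupAction.ConjAct

/-!
# Conjugate characters of a normal subgroup and Clifford's theorem
-/

set_option autoImplicit false
set_option linter.style.haveILetI false

namespace CfsgLib.Char

open scoped ComplexConjugate

universe u

variable {G : Type u} [Group G] {N : Subgroup G} [hN : N.Normal]

/-- The conjugate of a function on a normal subgroup. -/
def conjOn (g : G) (θ : N → ℂ) : N → ℂ := fun n => θ ⟨g * n * g⁻¹, hN.conj_mem n n.2 g⟩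

theorem conjOn_apply (g : G) (θ : N → ℂ) (n : N) :
    conjOn g θ n = θ ⟨g * n * g⁻¹, hN.conj_mem n n.2 g⟩ := rfl

theorem conjOn_conjOn (a b : G) (θ : N → ℂ) : conjOn b (conjOn a θ) = conjOn (a * b) θ := by
  funext n
  simp only [conjOn_apply]
  congr 1
  ext
  simp [mul_assoc]

@[simp]
theorem conjOn_one (θ : N → ℂ) : conjOn (1 : G) θ = θ := by
  funext n
  simp [conjOn_apply]

theorem conjOn_eq_comp (g : G) (θ : N → ℂ) :
    conjOn g θ = fun n => θ (MulAut.conjNormal g n) := by
  funext n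
  rw [conjOn_apply]
  congr 1

theorem isIrrCharacter_conjOn {θ : N → ℂ} (hθ : Cfsg.IsIrrCharacter N θ) (g : G) :
    Cfsg.IsIrrCharacter N (conjOn g θ) := by
  rw [conjOn_eq_comp]
  exact IsIrrCharacter.comp_surjective hθ (MulAut.conjNormal g).toMonoidHom
    (MulAut.conjNormal g).surjective

theorem conjOn_restrict {χ : G → ℂ} (hχ : Cfsg.IsClassFunction G χ) (g : G) :
    conjOn g (fun n : N => χ n) = fun n : N => χ n := funext fun n => hχ n g

theorem conjOn_apply_one (g : G) (θ : N → ℂ) : conjOn g θ 1 = θ 1 := by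
  rw [conjOn_apply]; congr 1; ext; simp

theorem classInner_conjOn [Fintype N] (g : G) (φ ψ : N → ℂ) :
    Cfsg.classInner (conjOn g φ) (conjOn g ψ) = Cfsg.classInner φ ψ := by
  rw [conjOn_eq_comp, conjOn_eq_comp, classInner_def, classInner_def]
  congr 1
  exact Fintype.sum_equiv (MulAut.conjNormal g).toEquiv _ _ fun n => rfl

/-- The inertia group of a function on a normal subgroup. -/
def inertia (θ : N → ℂ) : Subgroup G where
  carrier := {g | conjOn g θ = θ}
  one_mem' := conjOn_one θ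
  mul_mem' {a b} ha hb := by
    change conjOn (a * b) θ = θ
    rw [← conjOn_conjOn, show conjOn a θ = θ from ha, show conjOn b θ = θ from hb]
  inv_mem' {a} ha := by
    change conjOn a⁻¹ θ = θ
    conv_lhs => rw [← show conjOn a θ = θ from ha]
    rw [conjOn_conjOn, mul_inv_cancel, conjOn_one]

theorem mem_inertia (θ : N → ℂ) (g : G) : g ∈ inertia θ ↔ conjOn g θ = θ := Iff.rfl

theorem mem_inertia_iff (θ : N → ℂ) (g : G) :
    g ∈ inertia θ ↔ ∀ n : N, θ ⟨g * n * g⁻¹, hN.conj_mem n n.2 g⟩ = θ n :=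
  funext_iff

theorem le_inertia {θ : N → ℂ} (hθ : Cfsg.IsClassFunction N θ) : N ≤ inertia θ := fun g hg =>
  (mem_inertia_iff θ g).2 fun n => hθ n ⟨g, hg⟩

theorem conjOn_mul_of_mem {θ : N → ℂ} {i : G} (hi : i ∈ inertia θ) (g : G) :
    conjOn (i * g) θ = conjOn g θ := by
  rw [← conjOn_conjOn, (mem_inertia θ i).1 hi]

/-- The set of conjugates of a function on a normal subgroup. -/
noncomputable def conjOrbit [Finite G] (θ : N → ℂ) : Finset (N → ℂ) :=
  (Set.finite_range fun g : G => conjOn g θ).toFinset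

@[simp]
theorem mem_conjOrbit [Finite G] {θ ψ : N → ℂ} : ψ ∈ conjOrbit θ ↔ ∃ g : G, ψ = conjOn g θ := by
  simp [conjOrbit, eq_comm]

theorem self_mem_conjOrbit [Finite G] (θ : N → ℂ) : θ ∈ conjOrbit θ :=
  mem_conjOrbit.2 ⟨1, (conjOn_one θ).symm⟩

variable [Fintype G]

theorem card_fiber_conjOn (θ : N → ℂ) (g : G) [DecidableEq (N → ℂ)] :
    (Finset.univ.filter fun x : G => conjOn x θ = conjOn g θ).card =
      Nat.card (inertia θ) := by
  rw [← Nat.card_eq_finsetCard]
  refine Nat.card_congr ((Equiv.mulRight g⁻¹).subtypeEquiv fun x => ?_)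
  simp only [Finset.mem_filter, Finset.mem_univ, true_and, Equiv.coe_mulRight]
  refine ⟨fun h => ?_, fun h => ?_⟩
  · rw [mem_inertia, ← conjOn_conjOn, h, conjOn_conjOn, mul_inv_cancel, conjOn_one]
  · conv_lhs => rw [← inv_mul_cancel_right x g]
    rw [conjOn_mul_of_mem h]

theorem sum_conjOn {M : Type*} [AddCommMonoid M] (θ : N → ℂ) (F : (N → ℂ) → M) :
    ∑ g : G, F (conjOn g θ) = Nat.card (inertia θ) • ∑ ψ ∈ conjOrbit θ, F ψ := by
  classical
  rw [← Finset.sum_fiberwise_of_maps_to (t := conjOrbit θ) (g := fun g : G => conjOn g θ)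
    (fun g _ => mem_conjOrbit.2 ⟨g, rfl⟩), Finset.smul_sum]
  refine Finset.sum_congr rfl fun ψ hψ => ?_
  obtain ⟨g, rfl⟩ := mem_conjOrbit.1 hψ
  rw [Finset.sum_congr rfl fun x hx => by rw [(Finset.mem_filter.1 hx).2], Finset.sum_const,
    card_fiber_conjOn]

theorem card_conjOrbit (θ : N → ℂ) : (conjOrbit θ).card = (inertia θ).index := by
  have h := sum_conjOn θ (fun _ => (1 : ℕ))
  simp only [Finset.sum_const, Finset.card_univ, smul_eq_mul, mul_one] at h
  rw [← Nat.card_eq_fintype_card, ← (inertia θ).card_mul_index] at h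
  exact (Nat.eq_of_mul_eq_mul_left Nat.card_pos h).symm

/-- The induced function, restricted to the normal subgroup. -/
theorem indFun_restrict (θ : N → ℂ) :
    (fun n : N => Cfsg.indFun N θ n) =
      ((Nat.card (inertia θ) : ℂ) / Nat.card N) • ∑ ψ ∈ conjOrbit θ, ψ := by
  funext n
  rw [indFun_apply_normal, Pi.smul_apply, Finset.sum_apply, smul_eq_mul]
  have := sum_conjOn θ (fun ψ => ψ n)
  simp only [conjOn_apply, nsmul_eq_mul] at this
  rw [this]; ring

theorem indFun_conjOn (g : G) (θ : N → ℂ) :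
    Cfsg.indFun N (conjOn g θ) = Cfsg.indFun N θ := by
  funext x
  by_cases hx : x ∈ N
  · rw [show x = ((⟨x, hx⟩ : N) : G) from rfl, indFun_apply_normal, indFun_apply_normal]
    congr 1
    refine Fintype.sum_equiv (Equiv.mulLeft g) _ _ fun y => ?_
    rw [conjOn_apply]
    congr 1
    ext
    simp [mul_assoc]
  · rw [indFun_eq_zero_of_normal _ hx, indFun_eq_zero_of_normal _ hx]

theorem classInner_indFun_indFun [Fintype N] {θ φ : N → ℂ} [Decidable (θ ∈ conjOrbit φ)]
    (hθ : Cfsg.IsIrrCharacter N θ) (hφ : Cfsg.IsIrrCharacter N φ) :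
    Cfsg.classInner (Cfsg.indFun N θ) (Cfsg.indFun N φ) =
      if θ ∈ conjOrbit φ then (Nat.card (inertia φ) : ℂ) / Nat.card N else 0 := by
  classical
  rw [classInner_indFun θ (isClassFunction_indFun N φ), indFun_restrict, classInner_smul_right,
    classInner_sum_right, map_div₀, Complex.conj_natCast, Complex.conj_natCast]
  by_cases h : θ ∈ conjOrbit φ
  · rw [if_pos h, Finset.sum_eq_single θ (fun ψ hψ hne => ?_) (fun h' => absurd h h'),
      IsIrrCharacter.classInner_self hθ, mul_one]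
    obtain ⟨g, rfl⟩ := mem_conjOrbit.1 hψ
    exact IsIrrCharacter.classInner_of_ne hθ (isIrrCharacter_conjOn hφ g) (Ne.symm hne)
  · rw [if_neg h, Finset.sum_eq_zero fun ψ hψ => ?_, mul_zero]
    obtain ⟨g, rfl⟩ := mem_conjOrbit.1 hψ
    exact IsIrrCharacter.classInner_of_ne hθ (isIrrCharacter_conjOn hφ g) fun he => h (he ▸ hψ)

theorem classInner_indFun_self [Fintype N] {θ : N → ℂ} (hθ : Cfsg.IsIrrCharacter N θ) :
    Cfsg.classInner (Cfsg.indFun N θ) (Cfsg.indFun N θ) =
      (Nat.card (inertia θ) : ℂ) / Nat.card N := by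
  classical rw [classInner_indFun_indFun hθ hθ, if_pos (self_mem_conjOrbit θ)]

/-- Induction from a normal subgroup is irreducible when the inertia group is the subgroup. -/
theorem isIrrCharacter_indFun_of_inertia_le {θ : N → ℂ} (hθ : Cfsg.IsIrrCharacter N θ)
    (h : inertia θ ≤ N) : Cfsg.IsIrrCharacter G (Cfsg.indFun N θ) := by
  classical
  refine IsCharacter.isIrrCharacter_of_classInner_self
    (IsCharacter.indFun (IsIrrCharacter.isCharacter hθ)) ?_
  rw [classInner_indFun_self hθ,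
    le_antisymm h (le_inertia (IsIrrCharacter.isClassFunction hθ)),
    div_self (by exact_mod_cast Nat.card_pos.ne')]

theorem classInner_restrict_conjOn [Fintype N] {χ : G → ℂ} (hχ : Cfsg.IsClassFunction G χ)
    (θ : N → ℂ) (g : G) :
    Cfsg.classInner (fun n : N => χ n) (conjOn g θ) = Cfsg.classInner (fun n : N => χ n) θ := by
  conv_lhs => rw [← conjOn_restrict hχ g]
  exact classInner_conjOn g _ θ

/-- All constituents of the restriction of an irreducible character are conjugate. -/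
theorem mem_conjOrbit_of_constituent [Fintype N] {χ : G → ℂ} (hχ : Cfsg.IsIrrCharacter G χ)
    {θ ψ : N → ℂ} (hθ : Cfsg.IsIrrCharacter N θ) (hψ : Cfsg.IsIrrCharacter N ψ)
    (h : Cfsg.classInner (fun n : N => χ n) θ ≠ 0)
    (h' : Cfsg.classInner (fun n : N => χ n) ψ ≠ 0) : ψ ∈ conjOrbit θ := by
  classical
  have hc := IsIrrCharacter.isClassFunction hχ
  have key : ∀ φ : N → ℂ, Cfsg.classInner (fun n : N => χ n) φ ≠ 0 →
      Cfsg.classInner (Cfsg.indFun N φ) χ ≠ 0 := fun φ hφ h0 => hφ <| by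
    rw [← classInner_indFun_right hc, ← classInner_conj, h0, map_zero]
  have := IsCharacter.classInner_ne_zero_of_common
    (IsCharacter.indFun (IsIrrCharacter.isCharacter hψ))
    (IsCharacter.indFun (IsIrrCharacter.isCharacter hθ)) hχ (key ψ h') (key θ h)
  rw [classInner_indFun_indFun hψ hθ] at this
  by_contra hn
  exact this (if_neg hn)

/-- Clifford's theorem. -/
theorem restrict_eq_smul_sum [Fintype N] {χ : G → ℂ} (hχ : Cfsg.IsIrrCharacter G χ)
    {θ : N → ℂ} (hθ : Cfsg.IsIrrCharacter N θ)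
    (h : Cfsg.classInner (fun n : N => χ n) θ ≠ 0) :
    (fun n : N => χ n) = Cfsg.classInner (fun n : N => χ n) θ • ∑ ψ ∈ conjOrbit θ, ψ := by
  classical
  have hcl := IsIrrCharacter.isClassFunction hχ
  have hsub : conjOrbit θ ⊆ irrFinset N := fun ψ hψ => by
    obtain ⟨g, rfl⟩ := mem_conjOrbit.1 hψ
    exact mem_irrFinset.2 (isIrrCharacter_conjOn hθ g)
  conv_lhs => rw [eq_sum_irr (IsCharacter.isClassFunction
    (IsCharacter.restrict (IsIrrCharacter.isCharacter hχ) N))]
  rw [← Finset.sum_subset hsub (fun ψ hψ hn => ?_), Finset.smul_sum]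
  · refine Finset.sum_congr rfl fun ψ hψ => ?_
    obtain ⟨g, rfl⟩ := mem_conjOrbit.1 hψ
    rw [classInner_restrict_conjOn hcl]
  · by_cases h0 : Cfsg.classInner (fun n : N => χ n) ψ = 0
    · rw [h0, zero_smul]
    · exact absurd (mem_conjOrbit_of_constituent hχ hθ (mem_irrFinset.1 hψ) h h0) hn

theorem degree_eq_mul [Fintype N] {χ : G → ℂ} (hχ : Cfsg.IsIrrCharacter G χ)
    {θ : N → ℂ} (hθ : Cfsg.IsIrrCharacter N θ)
    (h : Cfsg.classInner (fun n : N => χ n) θ ≠ 0) :
    χ 1 = Cfsg.classInner (fun n : N => χ n) θ * (inertia θ).index * θ 1 := by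
  have h1 := congrFun (restrict_eq_smul_sum hχ hθ h) 1
  simp only [OneMemClass.coe_one, Pi.smul_apply, Finset.sum_apply, smul_eq_mul] at h1
  have h2 : ∀ ψ ∈ conjOrbit θ, ψ 1 = θ 1 := fun ψ hψ => by
    obtain ⟨g, rfl⟩ := mem_conjOrbit.1 hψ
    rw [conjOn_apply_one]
  rw [h1, Finset.sum_congr rfl h2, Finset.sum_const, card_conjOrbit, nsmul_eq_mul]
  ring

/-- Every irreducible character lies over some irreducible character of a normal subgroup. -/
theorem exists_constituent_restrict [Fintype N] {χ : G → ℂ} (hχ : Cfsg.IsIrrCharacter G χ) :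
    ∃ θ : N → ℂ, Cfsg.IsIrrCharacter N θ ∧ Cfsg.classInner (fun n : N => χ n) θ ≠ 0 :=
  IsCharacter.exists_constituent (IsCharacter.restrict (IsIrrCharacter.isCharacter hχ) N)
    fun h0 => IsIrrCharacter.apply_one_ne_zero hχ (by simpa using congrFun h0 1)

end CfsgLib.Char
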