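import Cfsg.Agent.Char.Misc

/-!
# Degree bounds from central sections
-/

namespace CfsgLib.Char

universe u

variable {G : Type u} [Group G]

/-- A constituent takes its degree wherever the character does. -/
theorem IsCharacter.apply_eq_of_add [Finite G] {φ ψ : G → ℂ} (hφ : Cfsg.IsCharacter G φ)
    (hψ : Cfsg.IsCharacter G ψ) {g : G} (h : (φ + ψ) g = (φ + ψ) 1) : φ g = φ 1 := by
  obtain ⟨a, ha⟩ := IsCharacter.exists_degree hφ
  have h1 := IsCharacter.norm_apply_le hφ g
  have h2 := (Complex.re_le_norm _).trans (IsCharacter.norm_apply_le hψ g)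
  have h3 := congrArg Complex.re h
  simp only [Pi.add_apply, Complex.add_re] at h3
  have h4 : (φ g).re = (φ 1).re := le_antisymm ((Complex.re_le_norm _).trans h1) (by linarith)
  have h5 : (φ g).im = 0 := by
    have e := Complex.sq_norm (φ g)
    rw [Complex.normSq_apply] at e
    have := pow_le_pow_left₀ (norm_nonneg _) (h1.trans h4.ge) 2
    nlinarith
  exact Complex.ext h4 (by rw [h5, ha, Complex.natCast_im])

/-- If `D / B` is central in `C / B` and `B` lies in the kernel, `ψ(1)² |C| |D| ≤ |G|²`. -/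
theorem IsIrrCharacter.degree_sq_mul_le [Finite G] {ψ : G → ℂ} (hψ : Cfsg.IsIrrCharacter G ψ)
    {B C D : Subgroup G} (hDC : D ≤ C)
    (hcent : ∀ d ∈ D, ∀ c ∈ C, d * c * d⁻¹ * c⁻¹ ∈ B) (hker : ∀ b ∈ B, ψ b = ψ 1) :
    ‖ψ 1‖ ^ 2 * (Nat.card C : ℝ) * (Nat.card D : ℝ) ≤ (Nat.card G : ℝ) ^ 2 := by
  classical
  have := Fintype.ofFinite G
  have hres := IsCharacter.restrict (IsIrrCharacter.isCharacter hψ) C
  obtain ⟨θ, hθ, hc⟩ := IsCharacter.exists_constituent hres fun h =>
    IsIrrCharacter.apply_one_ne_zero hψ (congrFun h 1)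
  have hBker : ∀ b : C, (b : G) ∈ B → θ b = θ 1 := fun b hb =>
    IsCharacter.apply_eq_of_add (IsIrrCharacter.isCharacter hθ)
      (IsCharacter.sub_irr hres hθ hc) (by
        simp only [add_sub_cancel, OneMemClass.coe_one]; exact hker b hb)
  have hc' : Cfsg.classInner (Cfsg.indFun C θ) ψ ≠ 0 := by
    rw [classInner_indFun θ (IsIrrCharacter.isClassFunction hψ), ← classInner_conj]
    simpa using hc
  have hdeg := IsCharacter.re_constituent_le
    (IsCharacter.indFun (G := G) (IsIrrCharacter.isCharacter hθ)) hψ hc'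
  obtain ⟨p, -, hp⟩ := IsIrrCharacter.exists_degree hψ
  obtain ⟨t, -, ht⟩ := IsIrrCharacter.exists_degree hθ
  rw [indFun_one, ht, hp, ← Nat.cast_mul, Complex.natCast_re, Complex.natCast_re,
    Nat.cast_le] at hdeg
  obtain ⟨m, σ, hσ, hσθ⟩ := id hθ
  have hnorm : ∀ d : C, (d : G) ∈ D → ‖θ d‖ = (t : ℝ) := by
    intro d hd
    have hm : (Module.finrank ℂ (Fin m → ℂ) : ℂ) = t := by rw [← ht, ← hσθ, σ.char_one]
    rw [← hσθ, (norm_character_eq_iff σ d).2 ⟨_, eq_smul_one_of_commute σ (σ d) fun c => ?_⟩]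
    · exact_mod_cast hm
    · have hb : θ (d * c * d⁻¹ * c⁻¹) = θ 1 := hBker _ (hcent d hd c c.2)
      rw [← hσθ, σ.char_one, character_eq_iff] at hb
      calc σ c * σ d = σ (d * c * d⁻¹ * c⁻¹) * (σ c * σ d) := by rw [hb, one_mul]
        _ = σ d * σ c := by rw [← map_mul, ← map_mul, ← map_mul]; congr 1; group
  have hkey : (t : ℝ) ^ 2 * Nat.card D ≤ Nat.card C := by
    have h1 := IsIrrCharacter.classInner_self hθ
    rw [CfsgLib.Char.classInner_self, Complex.ofReal_eq_one,
      inv_mul_eq_one₀ (by exact_mod_cast Nat.card_pos.ne')] at h1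
    rw [h1]
    refine le_trans (le_of_eq ?_) (Finset.sum_le_sum_of_subset_of_nonneg
      (Finset.subset_univ (Finset.univ.filter fun x : C => (x : G) ∈ D)) fun x _ _ => sq_nonneg _)
    rw [Finset.sum_congr rfl fun x hx => by rw [hnorm x (Finset.mem_filter.1 hx).2],
      Finset.sum_const, nsmul_eq_mul, mul_comm]
    congr 1
    rw [← Fintype.card_subtype, ← Nat.card_eq_fintype_card]
    exact_mod_cast Nat.card_congr (Subgroup.subgroupOfEquivOfLe hDC).symm.toEquiv
  have hG : (Nat.card G : ℝ) = Nat.card C * C.index := by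
    rw [← Nat.cast_mul, C.card_mul_index]
  have hp' : (p : ℝ) ≤ C.index * t := by exact_mod_cast hdeg
  rw [hp, Complex.norm_natCast, hG]
  have hB : (0 : ℝ) ≤ Nat.card C * Nat.card D := by positivity
  calc (p : ℝ) ^ 2 * Nat.card C * Nat.card D ≤ (C.index * t : ℝ) ^ 2 * Nat.card C * Nat.card D := by
        gcongr
    _ = (C.index : ℝ) ^ 2 * Nat.card C * ((t : ℝ) ^ 2 * Nat.card D) := by ring
    _ ≤ (C.index : ℝ) ^ 2 * Nat.card C * Nat.card C := by gcongr
    _ = _ := by ring

end CfsgLib.Char
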