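import Cfsg.Agent.Char.Projective

/-!
# The degree ratio theorem and Itô's theorem
-/

set_option autoImplicit false
set_option linter.style.haveILetI false

namespace CfsgLib.Char

open Module Representation
open scoped ComplexConjugate

universe u v

variable {G : Type u} [Group G]

/-- If `θ` is a constituent of the restriction of `χ` to a normal subgroup, `χ 1 / θ 1` is an
integer dividing the index. -/
theorem exists_degree_ratio [Fintype G] {N : Subgroup G} [hN : N.Normal] [Fintype N] {χ : G → ℂ}
    (hχ : Cfsg.IsIrrCharacter G χ) {θ : N → ℂ} (hθ : Cfsg.IsIrrCharacter N θ)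
    (hc : Cfsg.classInner (fun n : N => χ n) θ ≠ 0) :
    ∃ k : ℕ, k ∣ N.index ∧ χ 1 = (k : ℂ) * θ 1 := by
  classical
  obtain ⟨T, hT⟩ : ∃ T : Subgroup G, inertia θ = T := ⟨_, rfl⟩
  have hNT : N ≤ T := hT ▸ le_inertia (IsIrrCharacter.isClassFunction hθ)
  obtain ⟨ψ, hψ, hind, hmul⟩ := exists_indFun_eq_of_inertia hNT hθ hT hχ hc
  have hc' : Cfsg.classInner (fun n : N => ψ (Subgroup.inclusion hNT n)) θ ≠ 0 := hmul ▸ hc
  obtain ⟨e, he⟩ := IsCharacter.exists_classInner_eq_natCast
    (IsCharacter.comp (IsIrrCharacter.isCharacter hψ) (Subgroup.inclusion hNT)) hθ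
  have he0 : e ≠ 0 := fun h0 => hc' (by rw [he, h0, Nat.cast_zero])
  have hres : Cfsg.classInner (fun x : N.subgroupOf T => ψ x) (pullBack (T := T) θ) = e := by
    rw [← he, ← classInner_pullBack hNT]
    rfl
  have hinv : ∀ t : T, conjOn t (pullBack (T := T) θ) = pullBack θ := fun t => by
    funext x
    have := congrFun ((mem_inertia θ (t : G)).1 (hT ▸ t.2))
      ⟨((x : T) : G), Subgroup.mem_subgroupOf.mp x.2⟩
    simp only [conjOn_apply] at this
    simp only [pullBack, conjOn_apply]
    exact this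
  have hdvd := dvd_index_of_invariant hψ (isIrrCharacter_pullBack hNT hθ) hinv hres he0
  refine ⟨T.index * e, ?_, ?_⟩
  · rw [← Subgroup.relIndex_mul_index hNT, mul_comm T.index e]
    exact Nat.mul_dvd_mul_right hdvd _
  · have h1 := congrFun (restrict_inertia_eq hNT hθ hT.ge hψ hc') 1
    rw [he] at h1
    simp only [map_one, Pi.smul_apply, smul_eq_mul] at h1
    rw [← hind, indFun_one, h1, Nat.cast_mul, mul_assoc]

/-- Itô: the degree divides the index of an abelian normal subgroup. -/
theorem finrank_dvd_index_of_abelian [Finite G] {V : Type v} [AddCommGroup V] [Module ℂ V]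
    [FiniteDimensional ℂ V] (ρ : Representation ℂ G V) [ρ.IsIrreducible] (A : Subgroup G)
    [A.Normal] (hA : ∀ a ∈ A, ∀ b ∈ A, a * b = b * a) : finrank ℂ V ∣ A.index := by
  haveI := Fintype.ofFinite G
  haveI := Fintype.ofFinite A
  have hχ := isIrrCharacter_character ρ
  obtain ⟨θ, hθ, hc⟩ := exists_constituent_restrict (N := A) hχ
  obtain ⟨k, hk, hk1⟩ := exists_degree_ratio hχ hθ hc
  have hθ1 : θ 1 = 1 :=
    IsIrrCharacter.apply_one_eq_one hθ fun a b => Subtype.ext (hA a a.2 b b.2)
  rw [ρ.char_one, hθ1, mul_one] at hk1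
  have : finrank ℂ V = k := by exact_mod_cast hk1
  rw [this]; exact hk

/-- The degree divides the index of the centre. -/
theorem finrank_dvd_index_center [Finite G] {V : Type v} [AddCommGroup V] [Module ℂ V]
    [FiniteDimensional ℂ V] (ρ : Representation ℂ G V) [ρ.IsIrreducible] :
    finrank ℂ V ∣ (Subgroup.center G).index :=
  (finrank_dvd_index_scalarSubgroup ρ).trans
    (Subgroup.index_dvd_of_le (center_le_scalarSubgroup ρ))

end CfsgLib.Char
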