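import Cfsg.Agent.Char.NormalSub
import Cfsg.Agent.Char.DegreeRatio
import Cfsg.Agent.Char.DegreeBounds
import Cfsg.Agent.Char.Linear
import Cfsg.Agent.Char.Clifford
import Mathlib.GroupTheory.PGroup

/-!
# Degrees of irreducible characters and sums of their squares
-/

set_option autoImplicit false
set_option linter.style.haveILetI false

namespace CfsgLib.Char

universe u

open scoped ComplexConjugate

variable {G : Type u} [Group G]

/-- The degree of a character, as a natural number. -/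
noncomputable def cdeg (χ : G → ℂ) : ℕ := ⌊(χ 1).re⌋₊

theorem apply_one_eq_cdeg {χ : G → ℂ} (h : Cfsg.IsCharacter G χ) : χ 1 = (cdeg χ : ℂ) := by
  obtain ⟨d, hd⟩ := IsCharacter.exists_degree h
  rw [cdeg, hd, Complex.natCast_re, Nat.floor_natCast]

theorem irr_apply_one_eq_cdeg {χ : G → ℂ} (h : Cfsg.IsIrrCharacter G χ) : χ 1 = (cdeg χ : ℂ) :=
  apply_one_eq_cdeg (IsIrrCharacter.isCharacter h)

theorem cdeg_pos {χ : G → ℂ} (h : Cfsg.IsIrrCharacter G χ) : 0 < cdeg χ :=
  Nat.pos_of_ne_zero fun h0 => IsIrrCharacter.apply_one_ne_zero h (by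
    rw [irr_apply_one_eq_cdeg h, h0, Nat.cast_zero])

theorem cdeg_eq_of_apply_one {χ ψ : G → ℂ} (h : χ 1 = ψ 1) : cdeg χ = cdeg ψ := by
  rw [cdeg, cdeg, h]

/-- The squared degree times the order of the centre is at most the order of the group. -/
theorem cdeg_sq_mul_card_center_le [Finite G] {χ : G → ℂ} (h : Cfsg.IsIrrCharacter G χ) :
    cdeg χ ^ 2 * Nat.card (Subgroup.center G) ≤ Nat.card G := by
  have hle := IsIrrCharacter.degree_sq_mul_le h (B := ⊥) (C := ⊤) (D := Subgroup.center G) le_top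
    (fun d hd c _ => by
      rw [Subgroup.mem_bot, ← Subgroup.mem_center_iff.1 hd c]; group)
    (fun b hb => by rw [Subgroup.mem_bot.1 hb])
  rw [irr_apply_one_eq_cdeg h, Complex.norm_natCast, Subgroup.card_top] at hle
  have hle' : cdeg χ ^ 2 * Nat.card G * Nat.card (Subgroup.center G) ≤ Nat.card G ^ 2 := by
    exact_mod_cast hle
  exact Nat.le_of_mul_le_mul_left
    (le_of_eq_of_le (by ring) (hle'.trans_eq (sq (Nat.card G)))) Nat.card_pos

theorem cdeg_sq_le_index_center [Finite G] {χ : G → ℂ} (h : Cfsg.IsIrrCharacter G χ) :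
    cdeg χ ^ 2 ≤ (Subgroup.center G).index := by
  refine Nat.le_of_mul_le_mul_right ?_ (Nat.card_pos (α := Subgroup.center G))
  exact (cdeg_sq_mul_card_center_le h).trans_eq (Subgroup.index_mul_card _).symm

theorem cdeg_dvd_index_center [Finite G] {χ : G → ℂ} (h : Cfsg.IsIrrCharacter G χ) :
    cdeg χ ∣ (Subgroup.center G).index := by
  obtain ⟨n, ρ, hρ, rfl⟩ := id h
  haveI := hρ
  have h2 := finrank_dvd_index_center ρ
  have h1 : cdeg ρ.character = Module.finrank ℂ (Fin n → ℂ) := by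
    rw [cdeg, ρ.char_one, Complex.natCast_re, Nat.floor_natCast]
  rwa [h1]

/-- The squared degrees of the characters with `N` in their kernel add up to the index of `N`. -/
theorem sum_cdeg_sq_kernel [Finite G] (N : Subgroup G) [N.Normal]
    [DecidablePred fun θ : G → ℂ => ∀ n ∈ N, θ n = θ 1] :
    ∑ θ ∈ (irrFinset G).filter (fun θ => ∀ n ∈ N, θ n = θ 1), cdeg θ ^ 2 = N.index := by
  classical
  have := Fintype.ofFinite G
  have h := congrFun (eq_sum_irr (isClassFunction_indFun N fun _ => (1 : ℂ))) 1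
  have h1 : Cfsg.indFun N (fun _ => (1 : ℂ)) (1 : G) = (N.index : ℂ) := by rw [indFun_one, mul_one]
  rw [h1, Finset.sum_apply] at h
  have h2 : ∀ θ ∈ irrFinset G,
      (Cfsg.classInner (Cfsg.indFun N fun _ => 1) θ • θ) 1 =
        (((if ∀ n ∈ N, θ n = θ 1 then cdeg θ ^ 2 else 0 : ℕ)) : ℂ) := by
    intro θ hθ
    have hθ' := mem_irrFinset.1 hθ
    rw [Pi.smul_apply, smul_eq_mul]
    split_ifs with hk
    · rw [classInner_indFun _ (IsIrrCharacter.isClassFunction hθ'), classInner_def,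
        Finset.sum_congr rfl (g := fun _ => ((cdeg θ : ℕ) : ℂ)) fun x _ => by
          rw [hk x x.2, one_mul, irr_apply_one_eq_cdeg hθ', map_natCast],
        Finset.sum_const, Finset.card_univ, nsmul_eq_mul, irr_apply_one_eq_cdeg hθ',
        ← Nat.card_eq_fintype_card, inv_mul_cancel_left₀ (Nat.cast_ne_zero.2 Nat.card_pos.ne')]
      push_cast
      ring
    · have h3 : Cfsg.classInner (Cfsg.indFun N fun _ => 1) θ = 0 := by
        by_contra hne
        exact hk ((classInner_indFun_one_ne_zero_iff hθ').1 hne)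
      rw [h3, zero_mul, Nat.cast_zero]
  rw [Finset.sum_congr rfl h2, ← Nat.cast_sum, Nat.cast_inj, ← Finset.sum_filter] at h
  exact h.symm

theorem sum_cdeg_sq [Finite G] : ∑ θ ∈ irrFinset G, cdeg θ ^ 2 = Nat.card G := by
  classical
  rw [← Subgroup.index_bot, ← sum_cdeg_sq_kernel (⊥ : Subgroup G), Finset.filter_true_of_mem]
  intro θ _ n hn
  rw [Subgroup.mem_bot.1 hn]

theorem card_filter_cdeg_one [Finite G] :
    ((irrFinset G).filter fun θ => cdeg θ = 1).card = (commutator G).index := by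
  classical
  rw [← card_linear, ← Fintype.card_coe, ← Nat.card_eq_fintype_card]
  refine Nat.card_congr
    { toFun := fun θ => ⟨⟨θ.1, mem_irrFinset.1 (Finset.mem_filter.1 θ.2).1⟩, by
        rw [irr_apply_one_eq_cdeg (mem_irrFinset.1 (Finset.mem_filter.1 θ.2).1),
          (Finset.mem_filter.1 θ.2).2, Nat.cast_one]⟩
      invFun := fun θ => ⟨θ.1.1, Finset.mem_filter.2 ⟨mem_irrFinset.2 θ.1.2, by
        have h := θ.2
        rw [irr_apply_one_eq_cdeg θ.1.2] at h
        exact_mod_cast h⟩⟩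
      left_inv := fun _ => rfl
      right_inv := fun _ => rfl }

/-- In a `p`-group the squared degrees below a given degree add up to a multiple of its square. -/
theorem sq_cdeg_dvd_sum_lt [Finite G] {p : ℕ} [Fact p.Prime] (hG : IsPGroup p G) {θ : G → ℂ}
    (hθ : Cfsg.IsIrrCharacter G θ) :
    cdeg θ ^ 2 ∣ ∑ ψ ∈ (irrFinset G).filter (fun ψ => cdeg ψ < cdeg θ), cdeg ψ ^ 2 := by
  obtain ⟨j, hj⟩ := hG.exists_card_eq
  have hpp : p.Prime := Fact.out
  have hpow : ∀ ψ : G → ℂ, Cfsg.IsIrrCharacter G ψ → ∃ i, cdeg ψ = p ^ i ∧ 2 * i ≤ j := by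
    intro ψ hψ
    obtain ⟨i, -, hi⟩ := (Nat.dvd_prime_pow hpp).1
      (hj ▸ (cdeg_dvd_index_center hψ).trans (Subgroup.index_dvd_card _))
    refine ⟨i, hi, ?_⟩
    have h := (cdeg_sq_le_index_center hψ).trans
      (Nat.le_of_dvd Nat.card_pos (Subgroup.index_dvd_card _))
    rw [hi, hj, ← pow_mul, mul_comm] at h
    exact (Nat.pow_le_pow_iff_right hpp.one_lt).1 h
  obtain ⟨a, ha, haj⟩ := hpow θ hθ
  have htot := sum_cdeg_sq (G := G)
  rw [← Finset.sum_filter_add_sum_filter_not _ (fun ψ => cdeg ψ < cdeg θ), hj] at htot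
  have hsplit : cdeg θ ^ 2 ∣
      ∑ ψ ∈ (irrFinset G).filter (fun ψ => ¬ cdeg ψ < cdeg θ), cdeg ψ ^ 2 → cdeg θ ^ 2 ∣
      ∑ ψ ∈ (irrFinset G).filter (fun ψ => cdeg ψ < cdeg θ), cdeg ψ ^ 2 := fun h => by
    refine (Nat.dvd_add_left h).1 ?_
    rw [htot, ha, ← pow_mul, mul_comm]
    exact pow_dvd_pow p haj
  refine hsplit (Finset.dvd_sum fun ψ hψ => ?_)
  obtain ⟨hψ1, hψ2⟩ := Finset.mem_filter.1 hψ
  obtain ⟨b, hb, -⟩ := hpow ψ (mem_irrFinset.1 hψ1)
  rw [ha, hb] at hψ2 ⊢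
  exact pow_dvd_pow_of_dvd
    (pow_dvd_pow p ((Nat.pow_le_pow_iff_right hpp.one_lt).1 (not_lt.1 hψ2))) 2

/-- Degree sum of a family of induced characters, normalised by the norms. -/
theorem sum_sq_indFun [Fintype G] {N : Subgroup G} [hN : N.Normal] (T : Finset (N → ℂ))
    [DecidableEq (G → ℂ)] (hT : ∀ θ ∈ T, Cfsg.IsIrrCharacter N θ)
    (hconj : ∀ θ ∈ T, ∀ g : G, conjOn g θ ∈ T) :
    ∑ φ ∈ T.image (Cfsg.indFun N), φ 1 ^ 2 / Cfsg.classInner φ φ =
      (N.index : ℂ) * ((∑ θ ∈ T, cdeg θ ^ 2 : ℕ) : ℂ) := by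
  classical
  rw [Nat.cast_sum, Finset.mul_sum,
    ← Finset.sum_fiberwise_of_maps_to (g := Cfsg.indFun N) (t := T.image (Cfsg.indFun N))
      fun θ hθ => Finset.mem_image_of_mem _ hθ]
  refine Finset.sum_congr rfl fun φ hφ => ?_
  obtain ⟨θ, hθT, rfl⟩ := Finset.mem_image.1 hφ
  have hfib : T.filter (fun ψ => Cfsg.indFun N ψ = Cfsg.indFun N θ) = conjOrbit θ := by
    ext ψ
    rw [Finset.mem_filter, mem_conjOrbit]
    constructor
    · rintro ⟨hψ, he⟩
      refine mem_conjOrbit.1 ?_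
      by_contra hne
      have h := classInner_indFun_indFun (hT ψ hψ) (hT θ hθT)
      rw [if_neg hne, he, classInner_indFun_self (hT θ hθT), div_eq_zero_iff] at h
      rcases h with h | h <;> exact Nat.card_pos.ne' (Nat.cast_eq_zero.1 h)
    · rintro ⟨g, rfl⟩
      exact ⟨hconj θ hθT g, indFun_conjOn g θ⟩
  rw [hfib, Finset.sum_congr rfl (g := fun _ => (N.index : ℂ) * ((cdeg θ ^ 2 : ℕ) : ℂ)),
    Finset.sum_const, card_conjOrbit, nsmul_eq_mul, indFun_one, irr_apply_one_eq_cdeg (hT θ hθT),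
    classInner_indFun_self (hT θ hθT)]
  · have hI := congrArg (Nat.cast : ℕ → ℂ)
      ((inertia θ).card_mul_index.trans N.card_mul_index.symm)
    push_cast at hI ⊢
    have hN0 : (Nat.card N : ℂ) ≠ 0 := Nat.cast_ne_zero.2 Nat.card_pos.ne'
    have hI0 : (Nat.card (inertia θ) : ℂ) ≠ 0 := Nat.cast_ne_zero.2 Nat.card_pos.ne'
    rw [div_div_eq_mul_div, div_eq_iff hI0]
    linear_combination (-(N.index : ℂ) * (cdeg θ : ℂ) ^ 2) * hI
  · intro ψ hψ
    obtain ⟨g, rfl⟩ := mem_conjOrbit.1 hψ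
    rw [cdeg_eq_of_apply_one (conjOn_apply_one g θ)]

end CfsgLib.Char
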