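import Cfsg.Agent.Char.Orthogonality

/-!
# Irreducible characters of a direct product
-/

namespace CfsgLib.Char

open scoped ComplexConjugate

universe u v

variable {G : Type u} [Group G] {H : Type v} [Group H]

theorem classInner_prod [Fintype G] [Fintype H] (a a' : G → ℂ) (b b' : H → ℂ) :
    Cfsg.classInner (fun x : G × H => a x.1 * b x.2) (fun x => a' x.1 * b' x.2) =
      Cfsg.classInner a a' * Cfsg.classInner b b' := by
  simp only [classInner_def, Nat.card_prod, Fintype.sum_prod_type, Nat.cast_mul, mul_inv, map_mul,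
    Finset.mul_sum, Finset.sum_mul]
  rw [Finset.sum_comm]
  exact Finset.sum_congr rfl fun g _ => Finset.sum_congr rfl fun h _ => by ring

theorem isIrrCharacter_prod [Finite G] [Finite H] {φ : G → ℂ} {ψ : H → ℂ}
    (hφ : Cfsg.IsIrrCharacter G φ) (hψ : Cfsg.IsIrrCharacter H ψ) :
    Cfsg.IsIrrCharacter (G × H) (fun x => φ x.1 * ψ x.2) := by
  have := Fintype.ofFinite G
  have := Fintype.ofFinite H
  refine IsCharacter.isIrrCharacter_of_classInner_self
    (IsCharacter.mul (IsCharacter.comp (IsIrrCharacter.isCharacter hφ) (MonoidHom.fst G H))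
      (IsCharacter.comp (IsIrrCharacter.isCharacter hψ) (MonoidHom.snd G H))) ?_
  exact (classInner_prod φ φ ψ ψ).trans
    (by rw [IsIrrCharacter.classInner_self hφ, IsIrrCharacter.classInner_self hψ, one_mul])

theorem isIrrCharacter_prod_iff [Finite G] [Finite H] (θ : G × H → ℂ) :
    Cfsg.IsIrrCharacter (G × H) θ ↔ ∃ (φ : G → ℂ) (ψ : H → ℂ),
      Cfsg.IsIrrCharacter G φ ∧ Cfsg.IsIrrCharacter H ψ ∧ θ = fun x => φ x.1 * ψ x.2 := by
  classical
  refine ⟨fun hθ => ?_, fun ⟨φ, ψ, hφ, hψ, h⟩ => h ▸ isIrrCharacter_prod hφ hψ⟩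
  have := Fintype.ofFinite G
  have := Fintype.ofFinite H
  by_contra hno
  push Not at hno
  refine IsIrrCharacter.ne_zero hθ ?_
  have hcl := IsIrrCharacter.isClassFunction hθ
  have key : ∀ φ, Cfsg.IsIrrCharacter G φ →
      (fun h : H => ∑ g : G, θ (g, h) * conj (φ g)) = 0 := by
    intro φ hφ
    refine eq_zero_of_classInner_eq_zero (fun h k => Finset.sum_congr rfl fun g _ => ?_)
      fun ψ hψ => ?_
    · have := hcl (g, h) (1, k)
      simp only [Prod.mk_mul_mk, Prod.inv_mk, one_mul, inv_one, mul_one] at this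
      rw [this]
    · have h0 := IsIrrCharacter.classInner_of_ne hθ (isIrrCharacter_prod hφ hψ) (hno φ ψ hφ hψ)
      rw [classInner_def, mul_eq_zero, Fintype.sum_prod_type] at h0
      rw [classInner_def, mul_eq_zero]
      right
      rw [← h0.resolve_left (by simp), Finset.sum_comm]
      refine Finset.sum_congr rfl fun h _ => ?_
      rw [Finset.sum_mul]
      exact Finset.sum_congr rfl fun g _ => by rw [map_mul]; ring
  funext x
  refine congrFun (eq_zero_of_classInner_eq_zero (θ := fun g : G => θ (g, x.2)) (fun g k => ?_)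
    fun φ hφ => ?_) x.1
  · have := hcl (g, x.2) (k, 1)
    simp only [Prod.mk_mul_mk, Prod.inv_mk, one_mul, inv_one, mul_one] at this
    exact this
  · rw [classInner_def, show ∑ g, θ (g, x.2) * conj (φ g) = 0 from congrFun (key φ hφ) x.2, mul_zero]

end CfsgLib.Char
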