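import Cfsg.Agent.FGSA.Nilpotent
import Cfsg.Agent.Char.Products
import Cfsg.Agent.Char.DegreeSums
import Mathlib.GroupTheory.SchurZassenhaus
import Mathlib.GroupTheory.NoncommCoprod

/-!
# Splitting off a Sylow subgroup of a nilpotent group
-/

set_option autoImplicit false
set_option linter.style.haveILetI false

namespace CfsgLib.Char

universe u

/-- A finite nilpotent group is the product of a Sylow `r`-subgroup and a complement, compatibly
with all automorphisms. -/
theorem exists_nilpotent_split {H : Type u} [Group H] [Finite H] [Group.IsNilpotent H] (r : ℕ)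
    [Fact r.Prime] :
    ∃ (R C : Subgroup H) (f : R × C ≃* H), IsPGroup r R ∧ ¬ r ∣ Nat.card C ∧
      (∀ x : R, f (x, 1) = (x : H)) ∧ (∀ c : C, f (1, c) = (c : H)) ∧
      ∀ σ : MulAut H, (∀ x ∈ R, σ x ∈ R) ∧ ∀ c ∈ C, σ c ∈ C := by
  classical
  have hr : r.Prime := Fact.out
  obtain ⟨P⟩ := (inferInstance : Nonempty (Sylow r H))
  haveI hPn : (P : Subgroup H).Normal :=
    Sylow.normal_of_normalizerCondition Group.normalizerCondition_of_isNilpotent P
  obtain ⟨C, hC⟩ := Subgroup.exists_right_complement'_of_coprime (N := (P : Subgroup H))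
    P.card_coprime_index
  have hCc : Nat.card C = (P : Subgroup H).index := hC.symm.index_eq_card.symm
  have hndvd : ¬ r ∣ Nat.card C := hCc ▸ P.not_dvd_index
  obtain ⟨j, hj⟩ := P.isPGroup'.exists_card_eq
  have hcopC : ∀ c ∈ C, (orderOf c).Coprime r := fun c hc =>
    ((hr.coprime_iff_not_dvd.2 hndvd).coprime_dvd_right (Subgroup.orderOf_dvd_natCard C hc)).symm
  have hcomm : ∀ (x : (P : Subgroup H)) (c : C), Commute (x : H) (c : H) := fun x c => by
    refine CfsgLib.FGSA.commute_of_coprime_orderOf _ _ ?_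
    refine Nat.Coprime.coprime_dvd_left ?_ ((hcopC c c.2).pow_right j).symm
    rw [← hj]
    exact Subgroup.orderOf_dvd_natCard _ x.2
  let φ : ↥(P : Subgroup H) × ↥C →* H :=
    MonoidHom.noncommCoprod (P : Subgroup H).subtype C.subtype hcomm
  have hφ : ∀ x : ↥(P : Subgroup H) × ↥C, φ x = (x.1 : H) * (x.2 : H) := fun x => rfl
  have hbij : Function.Bijective φ := by
    refine (Nat.bijective_iff_injective_and_card φ).2 ⟨fun x y hxy => ?_, ?_⟩
    · have := hC.1 (a₁ := (x.1, x.2)) (a₂ := (y.1, y.2)) (by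
        simp only [hφ] at hxy
        exact hxy)
      exact this
    · rw [Nat.card_prod, hCc, Subgroup.card_mul_index]
  refine ⟨P, C, MulEquiv.ofBijective φ hbij, P.isPGroup', hndvd, fun x => ?_, fun c => ?_, fun σ =>
    ⟨fun x hx => ?_, fun c hc => ?_⟩⟩
  · show φ (x, 1) = _
    rw [hφ]; simp
  · show φ (1, c) = _
    rw [hφ]; simp
  · obtain ⟨⟨a, b⟩, hab⟩ := hbij.2 (σ x)
    rw [hφ] at hab
    have hb : (b : H) = 1 := by
      have h1 : orderOf (σ x) ∣ r ^ j := by
        rw [MulEquiv.orderOf_eq, ← hj]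
        exact Subgroup.orderOf_dvd_natCard _ hx
      have h2 : (σ x) ^ (r ^ j) = 1 := orderOf_dvd_iff_pow_eq_one.1 h1
      rw [← hab, (hcomm a b).mul_pow, show (a : H) ^ (r ^ j) = 1 from
        orderOf_dvd_iff_pow_eq_one.1 (hj ▸ Subgroup.orderOf_dvd_natCard _ a.2), one_mul] at h2
      exact orderOf_eq_one_iff.1 (Nat.eq_one_of_dvd_coprimes ((hcopC b b.2).pow_right j) dvd_rfl
        (orderOf_dvd_of_pow_eq_one h2))
    rw [← hab, hb, mul_one]
    exact a.2
  · obtain ⟨⟨a, b⟩, hab⟩ := hbij.2 (σ c)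
    rw [hφ] at hab
    have ha : (a : H) = 1 := by
      have h1 : orderOf (σ c) ∣ Nat.card C := by
        rw [MulEquiv.orderOf_eq]
        exact Subgroup.orderOf_dvd_natCard _ hc
      have h2 : (σ c) ^ Nat.card C = 1 := orderOf_dvd_iff_pow_eq_one.1 h1
      rw [← hab, (hcomm a b).mul_pow, show (b : H) ^ Nat.card C = 1 from
        orderOf_dvd_iff_pow_eq_one.1 (Subgroup.orderOf_dvd_natCard _ b.2), mul_one] at h2
      exact orderOf_eq_one_iff.1 (Nat.eq_one_of_dvd_coprimes
        ((hr.coprime_iff_not_dvd.2 hndvd).pow_left j) (hj ▸ Subgroup.orderOf_dvd_natCard _ a.2)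
        (orderOf_dvd_of_pow_eq_one h2))
    rw [← hab, ha, one_mul]
    exact b.2

variable {A B H : Type u} [Group A] [Group B] [Group H]

/-- The character of `H` built from characters of the two factors. -/
def splitChar (f : A × B ≃* H) (α : A → ℂ) (β : B → ℂ) : H → ℂ :=
  fun h => α (f.symm h).1 * β (f.symm h).2

theorem splitChar_apply (f : A × B ≃* H) (α : A → ℂ) (β : B → ℂ) (a : A) (b : B) :
    splitChar f α β (f (a, b)) = α a * β b := by
  simp [splitChar]

theorem splitChar_one (f : A × B ≃* H) (α : A → ℂ) (β : B → ℂ) :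
    splitChar f α β 1 = α 1 * β 1 := by
  simp [splitChar]

theorem isIrr_splitChar [Finite A] [Finite B] (f : A × B ≃* H) {α : A → ℂ} {β : B → ℂ}
    (hα : Cfsg.IsIrrCharacter A α) (hβ : Cfsg.IsIrrCharacter B β) :
    Cfsg.IsIrrCharacter H (splitChar f α β) :=
  IsIrrCharacter.comp_surjective (isIrrCharacter_prod hα hβ) f.symm.toMonoidHom f.symm.surjective

theorem exists_splitChar [Finite A] [Finite B] (f : A × B ≃* H) {θ : H → ℂ}
    (hθ : Cfsg.IsIrrCharacter H θ) :
    ∃ (α : A → ℂ) (β : B → ℂ), Cfsg.IsIrrCharacter A α ∧ Cfsg.IsIrrCharacter B β ∧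
      θ = splitChar f α β := by
  obtain ⟨α, β, hα, hβ, h⟩ := (isIrrCharacter_prod_iff _).1
    (IsIrrCharacter.comp_surjective hθ f.toMonoidHom f.surjective)
  refine ⟨α, β, hα, hβ, funext fun x => ?_⟩
  have := congrFun h (f.symm x)
  simpa [splitChar] using this

theorem cdeg_splitChar [Finite A] [Finite B] (f : A × B ≃* H) {α : A → ℂ} {β : B → ℂ}
    (hα : Cfsg.IsIrrCharacter A α) (hβ : Cfsg.IsIrrCharacter B β) :
    cdeg (splitChar f α β) = cdeg α * cdeg β := by
  rw [cdeg, splitChar_one, irr_apply_one_eq_cdeg hα, irr_apply_one_eq_cdeg hβ, ← Nat.cast_mul,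
    Complex.natCast_re, Nat.floor_natCast]

theorem splitChar_injective [Finite A] [Finite B] (f : A × B ≃* H) {α α' : A → ℂ} {β β' : B → ℂ}
    (hα : Cfsg.IsIrrCharacter A α) (hβ : Cfsg.IsIrrCharacter B β)
    (hα' : Cfsg.IsIrrCharacter A α') (hβ' : Cfsg.IsIrrCharacter B β')
    (h : splitChar f α β = splitChar f α' β') : α = α' ∧ β = β' := by
  haveI := Fintype.ofFinite A
  haveI := Fintype.ofFinite B
  have h' : (fun x : A × B => α x.1 * β x.2) = fun x => α' x.1 * β' x.2 := funext fun x => by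
    have := congrFun h (f x)
    rwa [splitChar_apply, splitChar_apply] at this
  have h1 := classInner_prod α α' β β'
  rw [h', classInner_prod, IsIrrCharacter.classInner_self hα', IsIrrCharacter.classInner_self hβ',
    one_mul] at h1
  constructor
  · by_contra hne
    rw [IsIrrCharacter.classInner_of_ne hα hα' hne, zero_mul] at h1
    exact one_ne_zero h1
  · by_contra hne
    rw [IsIrrCharacter.classInner_of_ne hβ hβ' hne, mul_zero] at h1
    exact one_ne_zero h1

end CfsgLib.Char
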