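import Cfsg.Agent.Char.CoherenceEqual
import Cfsg.Agent.Char.NilpotentSplit
import Cfsg.Agent.Char.FrobeniusChars
import Cfsg.Agent.Char.TI
import Cfsg.Agent.FGSA.ThompsonNil

/-!
# Feit's coherence theorem for Frobenius groups
-/

set_option autoImplicit false
set_option linter.style.haveILetI false

namespace CfsgLib.Char

universe u v

variable {N : Type u} [Group N]

theorem frob_card_coprime_index [Finite N] {H : Subgroup N} [hH : H.Normal]
    (hC : ∀ h ∈ H, h ≠ 1 → Subgroup.centralizer ({h} : Set N) ≤ H) :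
    H.index ∣ Nat.card H - 1 ∧ Nat.Coprime (Nat.card H) H.index := by
  have h1 : (H.subgroupOf ⊤).index ∣ Nat.card H - 1 :=
    index_subgroupOf_dvd_card_sub_one le_top (fun n _ a ha => hH.conj_mem a ha n) hC
  rw [show (H.subgroupOf ⊤).index = H.relIndex ⊤ from rfl, Subgroup.relIndex_top_right] at h1
  refine ⟨h1, Nat.coprime_of_dvd fun k hk hk1 hk2 => hk.one_lt.ne' ?_⟩
  refine Nat.dvd_one.1 ((Nat.dvd_add_right (hk2.trans h1)).1 ?_)
  rwa [Nat.sub_add_cancel (Nat.card_pos (α := H))]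

/-- The kernel of a Frobenius group is nilpotent. -/
theorem frob_kernel_nilpotent [Finite N] {H : Subgroup N} [hH : H.Normal] (hH2 : H ≠ ⊤)
    (hC : ∀ h ∈ H, h ≠ 1 → Subgroup.centralizer ({h} : Set N) ≤ H) : Group.IsNilpotent H := by
  obtain ⟨q, hq, hqd⟩ := Nat.exists_prime_and_dvd (fun h => hH2 (Subgroup.index_eq_one.1 h))
  haveI : Fact q.Prime := ⟨hq⟩
  obtain ⟨x, hx⟩ := exists_prime_orderOf_dvd_card' (G := N) q (hqd.trans (Subgroup.index_dvd_card _))
  have hxH : x ∉ H := fun hxH => hq.one_lt.ne' <| by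
    have h1 : q ∣ Nat.card H := hx ▸ Subgroup.orderOf_dvd_natCard H hxH
    exact Nat.eq_one_of_dvd_coprimes (frob_card_coprime_index hC).2 h1 hqd
  refine CfsgLib.ThompsonNil.isNilpotent hq (MulAut.conjNormal x) ?_ fun u hu => ?_
  · rw [← map_pow, ← hx, pow_orderOf_eq_one, map_one]
  · by_contra hu1
    refine hxH (hC u u.2 (fun h => hu1 (Subtype.ext h)) ?_)
    rw [Subgroup.mem_centralizer_singleton_iff]
    have e := congrArg Subtype.val hu
    rw [MulAut.conjNormal_apply] at e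
    exact mul_inv_eq_iff_eq_mul.1 e

variable [Fintype N] {H : Subgroup N} [hH : H.Normal]

theorem frob_card_conjOrbit (hC : ∀ h ∈ H, h ≠ 1 → Subgroup.centralizer ({h} : Set N) ≤ H)
    {θ : H → ℂ} (hθ : Cfsg.IsIrrCharacter H θ) (h1 : θ ≠ fun _ => 1) :
    (conjOrbit θ).card = H.index := by
  rw [card_conjOrbit, le_antisymm (inertia_le_of_centralizer_le hC hθ h1)
    (le_inertia (IsIrrCharacter.isClassFunction hθ))]

theorem irr_eq_one_of_const {K : Type u} [Group K] [Fintype K] {θ : K → ℂ}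
    (hθ : Cfsg.IsIrrCharacter K θ) (h : ∀ x, θ x = θ 1) : θ = fun _ => 1 := by
  by_contra hne
  have h0 := IsIrrCharacter.classInner_of_ne hθ isIrrCharacter_one hne
  simp only [classInner_def, map_one, mul_one] at h0
  rw [Finset.sum_congr rfl fun x _ => h x, Finset.sum_const, Finset.card_univ, nsmul_eq_mul,
    ← Nat.card_eq_fintype_card, inv_mul_cancel_left₀ (Nat.cast_ne_zero.2 Nat.card_pos.ne')] at h0
  exact IsIrrCharacter.apply_one_ne_zero hθ h0

theorem frob_indFun_relevant {θ : H → ℂ} (hC : ∀ h ∈ H, h ≠ 1 → Subgroup.centralizer ({h} : Set N) ≤ H)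
    (hθ : Cfsg.IsIrrCharacter H θ) (h1 : θ ≠ fun _ => 1) :
    ∃ h ∈ H, Cfsg.indFun H θ h ≠ Cfsg.indFun H θ 1 := by
  classical
  by_contra hcon
  push Not at hcon
  have hirr := isIrrCharacter_indFun_of_centralizer_le hC hθ h1
  have hr : Cfsg.classInner (fun n : H => Cfsg.indFun H θ n) θ = 1 := by
    rw [← classInner_conj, ← classInner_indFun θ (IsIrrCharacter.isClassFunction hirr),
      IsIrrCharacter.classInner_self hirr, map_one]
  have hc : (fun n : H => Cfsg.indFun H θ n) = Cfsg.indFun H θ 1 • fun _ => (1 : ℂ) :=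
    funext fun n => by rw [Pi.smul_apply, smul_eq_mul, mul_one]; exact hcon n n.2
  rw [hc, classInner_smul_left, IsIrrCharacter.classInner_of_ne isIrrCharacter_one hθ (Ne.symm h1),
    mul_zero] at hr
  exact zero_ne_one hr

/-- A lower bound for the squared degrees below `d` through a split factor. -/
theorem frob_split_bound (hC : ∀ h ∈ H, h ≠ 1 → Subgroup.centralizer ({h} : Set N) ≤ H)
    [Group.IsNilpotent H] (hnp : ∀ (p : ℕ), p.Prime → ∀ m : ℕ, Nat.card H ≠ p ^ m) {θ : H → ℂ}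
    (hθ : Cfsg.IsIrrCharacter H θ) (hd : 2 ≤ cdeg θ) :
    2 * H.index * cdeg θ + 1 < ∑ ψ ∈ (irrFinset H).filter (fun ψ => cdeg ψ < cdeg θ), cdeg ψ ^ 2 := by
  classical
  obtain ⟨r, hr, hrd⟩ := Nat.exists_prime_and_dvd (show cdeg θ ≠ 1 by omega)
  haveI : Fact r.Prime := ⟨hr⟩
  obtain ⟨R, C, f, hR, hrC, hfR, -, hσ⟩ := exists_nilpotent_split (H := H) r
  obtain ⟨α, β, hα, hβ, rfl⟩ := exists_splitChar f hθ
  rw [cdeg_splitChar f hα hβ] at hrd hd ⊢
  haveI := Fintype.ofFinite R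
  haveI := Fintype.ofFinite C
  set a := cdeg α with ha
  set b := cdeg β with hb
  have hrb : ¬ r ∣ b := fun h =>
    hrC (h.trans ((cdeg_dvd_index_center hβ).trans (Subgroup.index_dvd_card _)))
  have hra : r ∣ a := (hr.dvd_mul.1 hrd).resolve_right hrb
  have ha2 : 2 ≤ a := hr.two_le.trans (Nat.le_of_dvd (cdeg_pos hα) hra)
  set e := H.index with he
  set B := (irrFinset C).filter (fun β' => cdeg β' = b) with hB
  -- conjugates of a character of the second factor
  have horbit : ∀ β₁ : C → ℂ, Cfsg.IsIrrCharacter C β₁ → β₁ ≠ (fun _ => 1) →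
      ∃ O : Finset (C → ℂ), O.card = e ∧
        ∀ β' ∈ O, Cfsg.IsIrrCharacter C β' ∧ cdeg β' = cdeg β₁ ∧ β' ≠ fun _ => 1 := by
    intro β₁ hβ₁ hne
    set θ₁ := splitChar f (fun _ => 1) β₁ with hθ₁
    have hirr := isIrr_splitChar f isIrrCharacter_one hβ₁
    have hne₁ : θ₁ ≠ fun _ => 1 := fun h => hne (funext fun c => by
      have := congrFun h (f (1, c))
      rwa [hθ₁, splitChar_apply, one_mul] at this)
    have hform : ∀ ψ ∈ conjOrbit θ₁, ∃ β', Cfsg.IsIrrCharacter C β' ∧ cdeg β' = cdeg β₁ ∧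
        (β' ≠ fun _ => 1) ∧ ψ = splitChar f (fun _ => 1) β' := by
      intro ψ hψ
      obtain ⟨g, rfl⟩ := mem_conjOrbit.1 hψ
      obtain ⟨α', β', hα', hβ', he'⟩ := exists_splitChar f (isIrrCharacter_conjOn hirr g)
      obtain ⟨hgR, -⟩ := hσ (MulAut.conjNormal g)
      have hconst : ∀ x : R, conjOn g θ₁ (f (x, 1)) = β₁ 1 := by
        intro x
        rw [conjOn_eq_comp]
        obtain ⟨y, hy⟩ : ∃ y : R, MulAut.conjNormal g (f (x, 1)) = f (y, 1) :=
          ⟨⟨_, hgR _ x.2⟩, by rw [hfR, hfR]⟩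
        show θ₁ (MulAut.conjNormal g (f (x, 1))) = _
        rw [hy, hθ₁, splitChar_apply, one_mul]
      have hα1 : α' = fun _ => 1 := by
        refine irr_eq_one_of_const hα' fun x => ?_
        have h1 := hconst x
        have h2 := hconst 1
        rw [he', splitChar_apply] at h1 h2
        exact mul_right_cancel₀ (IsIrrCharacter.apply_one_ne_zero hβ') (h1.trans h2.symm)
      subst hα1
      refine ⟨β', hβ', ?_, fun h => ?_, he'⟩
      · have hd1 := cdeg_splitChar f isIrrCharacter_one hβ'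
        have hd2 := cdeg_splitChar f (isIrrCharacter_one (G := R)) hβ₁
        rw [← he', cdeg_eq_of_apply_one (conjOn_apply_one g θ₁), hθ₁, hd2] at hd1
        have h1 : cdeg (fun _ : R => (1 : ℂ)) = 1 := by simp [cdeg]
        rw [h1, one_mul, one_mul] at hd1
        exact hd1.symm
      · subst h
        refine hne₁ (funext fun x => ?_)
        have := congrFun he' (MulAut.conjNormal g⁻¹ x)
        rw [conjOn_eq_comp] at this
        simp only [splitChar, one_mul] at this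
        rw [← this]
        simp [hθ₁, splitChar]
    choose! F hF using hform
    refine ⟨(conjOrbit θ₁).image F, ?_, ?_⟩
    · rw [Finset.card_image_of_injOn, frob_card_conjOrbit hC hirr hne₁]
      intro ψ hψ ψ' hψ' hFF
      rw [(hF ψ hψ).2.2.2, (hF ψ' hψ').2.2.2, hFF]
    · intro β' hβ'
      obtain ⟨ψ, hψ, rfl⟩ := Finset.mem_image.1 hβ'
      exact ⟨(hF ψ hψ).1, (hF ψ hψ).2.1, (hF ψ hψ).2.2.1⟩
  have hBcard : e ≤ B.card ∧ (b = 1 → e + 1 ≤ B.card) := by
    have hb1 : b = 1 → e + 1 ≤ B.card := by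
      intro hb1
      haveI : Nontrivial C := by
        rw [Subgroup.nontrivial_iff_ne_bot]
        rintro rfl
        obtain ⟨m, hm⟩ := hR.exists_card_eq
        refine hnp r hr m ?_
        rw [Nat.card_congr f.toEquiv.symm, Nat.card_prod, hm, Subgroup.card_bot, mul_one]
      have hCnil : Group.IsNilpotent C := Subgroup.isNilpotent C
      haveI : Group.IsSolvable C := inferInstance
      obtain ⟨g, hg⟩ : ∃ g : C, g ∉ commutator C := by
        by_contra h
        push Not at h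
        exact (Group.IsSolvable.commutator_lt_top_of_nontrivial C).ne (eq_top_iff.2 fun g _ => h g)
      obtain ⟨lam, hlam⟩ := exists_hom_ne_one hg
      obtain ⟨O, hOc, hO⟩ := horbit _ (isIrrCharacter_ofHom lam) fun h => hlam (Units.ext (congrFun h g))
      have hsub : insert (fun _ : C => (1 : ℂ)) O ⊆ B := by
        intro β' hβ'
        rw [hB, Finset.mem_filter, mem_irrFinset]
        rcases Finset.mem_insert.1 hβ' with rfl | hβ'
        · exact ⟨isIrrCharacter_one, by rw [hb1]; simp [cdeg]⟩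
        · exact ⟨(hO _ hβ').1, by rw [(hO _ hβ').2.1, hb1]; simp [cdeg]⟩
      have := Finset.card_le_card hsub
      rwa [Finset.card_insert_of_notMem fun h => (hO _ h).2.2 rfl, hOc] at this
    refine ⟨?_, hb1⟩
    by_cases h1 : β = fun _ => 1
    · have : b = 1 := by rw [hb, h1]; simp [cdeg]
      have := hb1 this
      omega
    · obtain ⟨O, hOc, hO⟩ := horbit β hβ h1
      rw [← hOc]
      exact Finset.card_le_card fun β' hβ' =>
        Finset.mem_filter.2 ⟨mem_irrFinset.2 (hO β' hβ').1, (hO β' hβ').2.1⟩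
  set A := (irrFinset R).filter (fun α' => cdeg α' < a) with hA
  have hAsum : a ^ 2 ≤ ∑ α' ∈ A, cdeg α' ^ 2 := by
    refine Nat.le_of_dvd ?_ (sq_cdeg_dvd_sum_lt hR hα)
    refine lt_of_lt_of_le (show 0 < cdeg (fun _ : R => (1 : ℂ)) ^ 2 by simp [cdeg])
      (Finset.single_le_sum (f := fun α' => cdeg α' ^ 2) (fun _ _ => Nat.zero_le _) ?_)
    rw [hA, Finset.mem_filter, mem_irrFinset]
    refine ⟨isIrrCharacter_one, ?_⟩
    simp only [cdeg, Complex.one_re, Nat.floor_one]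
    omega
  have hmain : (∑ α' ∈ A, cdeg α' ^ 2) * (B.card * b ^ 2) ≤
      ∑ ψ ∈ (irrFinset H).filter (fun ψ => cdeg ψ < a * b), cdeg ψ ^ 2 := by
    refine le_trans (le_of_eq ?_) (Finset.sum_le_sum_of_subset
      (s := (A ×ˢ B).image fun p => splitChar f p.1 p.2) ?_)
    · rw [Finset.sum_image, Finset.sum_product, Finset.sum_mul]
      · refine Finset.sum_congr rfl fun α' hα' => ?_
        rw [Finset.sum_congr rfl (g := fun _ => cdeg α' ^ 2 * b ^ 2), Finset.sum_const, smul_eq_mul]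
        · ring
        intro β' hβ'
        rw [cdeg_splitChar f (mem_irrFinset.1 (Finset.mem_filter.1 hα').1)
          (mem_irrFinset.1 (Finset.mem_filter.1 hβ').1), (Finset.mem_filter.1 hβ').2, mul_pow]
      · intro p hp q hq hpq
        simp only [Finset.mem_coe, Finset.mem_product, hA, hB, Finset.mem_filter, mem_irrFinset] at hp hq
        obtain ⟨h1, h2⟩ := splitChar_injective f hp.1.1 hp.2.1 hq.1.1 hq.2.1 hpq
        exact Prod.ext h1 h2
    · intro ψ hψ
      obtain ⟨p, hp, rfl⟩ := Finset.mem_image.1 hψ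
      simp only [Finset.mem_product, hA, hB, Finset.mem_filter, mem_irrFinset] at hp
      rw [Finset.mem_filter, mem_irrFinset, cdeg_splitChar f hp.1.1 hp.2.1, hp.2.2]
      exact ⟨isIrr_splitChar f hp.1.1 hp.2.1, Nat.mul_lt_mul_of_pos_right hp.1.2 (cdeg_pos hβ)⟩
  have hb0 : 0 < b := cdeg_pos hβ
  have he0 : 0 < e := Nat.pos_of_ne_zero H.index_ne_zero_of_finite
  refine lt_of_lt_of_le ?_ ((Nat.mul_le_mul_right _ hAsum).trans hmain)
  obtain ⟨hBe, hB1⟩ := hBcard
  rcases Nat.lt_or_ge b 2 with hb2 | hb2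
  · have hb1' : b = 1 := by omega
    rw [hb1']
    have := hB1 hb1'
    have h5 := Nat.mul_le_mul_left (a ^ 2) this
    have h6 := Nat.mul_le_mul ha2 (le_refl (a * e))
    have h7 : 4 ≤ a * a := Nat.mul_le_mul ha2 ha2
    nlinarith
  · have h4 : 4 ≤ a * b := Nat.mul_le_mul ha2 hb2
    have h5 : a ^ 2 * (e * b ^ 2) ≤ a ^ 2 * (B.card * b ^ 2) := by gcongr
    nlinarith [Nat.mul_le_mul h4 (le_refl (e * (a * b)))]

/-- The number of linear characters of a kernel with two non-conjugate non-principal ones. -/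
theorem frob_two_linear_orbits (hC : ∀ h ∈ H, h ≠ 1 → Subgroup.centralizer ({h} : Set N) ≤ H)
    [Group.IsNilpotent H] (hnp : ∀ (p : ℕ), p.Prime → ∀ m : ℕ, Nat.card H ≠ p ^ m) :
    ∃ θ θ' : H → ℂ, Cfsg.IsIrrCharacter H θ ∧ Cfsg.IsIrrCharacter H θ' ∧ (θ ≠ fun _ => 1) ∧
      (θ' ≠ fun _ => 1) ∧ θ 1 = 1 ∧ θ' 1 = 1 ∧ Cfsg.indFun H θ ≠ Cfsg.indFun H θ' := by
  classical
  have hH1 : Nat.card H ≠ 1 := fun h => hnp 2 Nat.prime_two 0 (by rw [h, pow_zero])
  obtain ⟨r, hr, hrd⟩ := Nat.exists_prime_and_dvd hH1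
  haveI : Fact r.Prime := ⟨hr⟩
  obtain ⟨R, C, f, hR, hrC, hfR, -, hσ⟩ := exists_nilpotent_split (H := H) r
  haveI := Fintype.ofFinite R
  haveI := Fintype.ofFinite C
  have hcard : Nat.card H = Nat.card R * Nat.card C := by
    rw [Nat.card_congr f.toEquiv.symm, Nat.card_prod]
  obtain ⟨m, hm⟩ := hR.exists_card_eq
  haveI : Nontrivial C := by
    refine Finite.one_lt_card_iff_nontrivial.1 (Nat.lt_of_le_of_ne Nat.card_pos fun h => ?_)
    exact hnp r hr m (by rw [hcard, hm, ← h, mul_one])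
  haveI : Nontrivial R := by
    refine Finite.one_lt_card_iff_nontrivial.1 (Nat.lt_of_le_of_ne Nat.card_pos fun h => hrC ?_)
    rw [hcard, ← h, one_mul] at hrd
    exact hrd
  have hlin : ∀ (K : Subgroup H), Nontrivial K → ∃ lam : K →* ℂˣ, lam ≠ 1 := by
    intro K hK
    haveI := hK
    haveI : Group.IsNilpotent K := Subgroup.isNilpotent K
    haveI : Group.IsSolvable K := inferInstance
    obtain ⟨g, hg⟩ : ∃ g : K, g ∉ commutator K := by
      by_contra h
      push Not at h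
      exact (Group.IsSolvable.commutator_lt_top_of_nontrivial K).ne (eq_top_iff.2 fun g _ => h g)
    obtain ⟨lam, hlam⟩ := exists_hom_ne_one hg
    exact ⟨lam, fun h => hlam (by rw [h]; rfl)⟩
  obtain ⟨l₁, hl₁⟩ := hlin R inferInstance
  obtain ⟨l₂, hl₂⟩ := hlin C inferInstance
  set θ := splitChar f (fun x => (l₁ x : ℂ)) (fun _ => 1) with hθ
  set θ' := splitChar f (fun _ => 1) (fun x => (l₂ x : ℂ)) with hθ'
  have hi := isIrr_splitChar f (isIrrCharacter_ofHom l₁) (isIrrCharacter_one (G := C))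
  have hi' := isIrr_splitChar f (isIrrCharacter_one (G := R)) (isIrrCharacter_ofHom l₂)
  obtain ⟨x, hx⟩ : ∃ x, l₁ x ≠ 1 := by
    by_contra h; push Not at h; exact hl₁ (MonoidHom.ext h)
  obtain ⟨y, hy⟩ : ∃ y, l₂ y ≠ 1 := by
    by_contra h; push Not at h; exact hl₂ (MonoidHom.ext h)
  refine ⟨θ, θ', hi, hi', fun h => hx (Units.ext ?_), fun h => hy (Units.ext ?_), ?_, ?_, fun h => ?_⟩
  · have := congrFun h (f (x, 1))
    rwa [hθ, splitChar_apply, mul_one] at this
  · have := congrFun h (f (1, y))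
    rwa [hθ', splitChar_apply, one_mul] at this
  · rw [hθ, splitChar_one]; simp
  · rw [hθ', splitChar_one]; simp
  · have hmem : θ ∈ conjOrbit θ' := by
      by_contra hne
      have h2 := classInner_indFun_indFun hi hi'
      rw [if_neg hne, ← hθ, ← hθ', h, classInner_indFun_self hi', div_eq_zero_iff] at h2
      rcases h2 with h2 | h2 <;> exact Nat.card_pos.ne' (Nat.cast_eq_zero.1 h2)
    obtain ⟨g, hg⟩ := mem_conjOrbit.1 hmem
    obtain ⟨hgR, -⟩ := hσ (MulAut.conjNormal g)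
    refine hx (Units.ext ?_)
    have := congrFun hg (f (x, 1))
    rw [hθ, splitChar_apply, mul_one, conjOn_eq_comp] at this
    rw [this]
    show θ' (MulAut.conjNormal g (f (x, 1))) = _
    rw [hfR, show MulAut.conjNormal g (x : H) = f (⟨_, hgR _ x.2⟩, 1) from (hfR ⟨_, hgR _ x.2⟩).symm,
      hθ', splitChar_apply]
    simp

omit hH in
theorem sum_cdeg_sq_insert {K : Type u} [Group K] [Finite K] (P : (K → ℂ) → Prop) [DecidablePred P]
    [DecidableEq (K → ℂ)] (h1 : P fun _ => 1) :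
    ∑ θ ∈ (irrFinset K).filter P, cdeg θ ^ 2 =
      (∑ θ ∈ ((irrFinset K).filter P).erase (fun _ => 1), cdeg θ ^ 2) + 1 := by
  rw [← Finset.sum_erase_add _ _ (show (fun _ => (1 : ℂ)) ∈ (irrFinset K).filter P from
    Finset.mem_filter.2 ⟨mem_irrFinset.2 isIrrCharacter_one, h1⟩)]
  simp [cdeg]

variable {G : Type v} [Group G] [Fintype G]

/-- Feit's coherence theorem. -/
theorem feit_coherence (hH1 : H ≠ ⊥) (hH2 : H ≠ ⊤)
    (hC : ∀ h ∈ H, h ≠ 1 → Subgroup.centralizer ({h} : Set N) ≤ H)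
    (he : Nat.card H ≠ H.index + 1) (τ : (N → ℂ) → (G → ℂ))
    (hτ : Cfsg.IsLinearIsometryOn
      (Cfsg.zspanOn {χ : N → ℂ | Cfsg.IsIrrCharacter N χ ∧ ∃ h ∈ H, χ h ≠ χ 1} {1}ᶜ) τ)
    (hτ1 : ∀ α ∈ Cfsg.zspanOn {χ : N → ℂ | Cfsg.IsIrrCharacter N χ ∧ ∃ h ∈ H, χ h ≠ χ 1} {1}ᶜ,
      τ α 1 = 0) :
    Cfsg.IsCoherent {χ : N → ℂ | Cfsg.IsIrrCharacter N χ ∧ ∃ h ∈ H, χ h ≠ χ 1} {1}ᶜ τ ∨
      ∃ p : ℕ, p.Prime ∧ (∃ m : ℕ, Nat.card H = p ^ m) ∧ ¬ IsMulCommutative H ∧
        (commutator H).index ≤ 4 * H.index ^ 2 + 1 := by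
  classical
  by_cases hbad : ∃ p : ℕ, p.Prime ∧ (∃ m : ℕ, Nat.card H = p ^ m) ∧ ¬ IsMulCommutative H ∧
      (commutator H).index ≤ 4 * H.index ^ 2 + 1
  · exact Or.inr hbad
  refine Or.inl ?_
  push Not at hbad
  haveI := frob_kernel_nilpotent hH2 hC
  set S := {χ : N → ℂ | Cfsg.IsIrrCharacter N χ ∧ ∃ h ∈ H, χ h ≠ χ 1} with hS
  set e := H.index with hedef
  have he2 : 2 ≤ e := by
    have : H.index ≠ 1 := fun h => hH2 (Subgroup.index_eq_one.1 h)
    have := H.index_ne_zero_of_finite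
    omega
  have hH0 : 1 < Nat.card H := Finite.one_lt_card_iff_nontrivial.2 (H.nontrivial_iff_ne_bot.2 hH1)
  let T : ℕ → Finset (H → ℂ) := fun n =>
    ((irrFinset H).filter fun θ => cdeg θ ≤ n).erase fun _ => 1
  let S' : ℕ → Finset (N → ℂ) := fun n => (T n).image (Cfsg.indFun H)
  have hTmem : ∀ n θ, θ ∈ T n ↔ Cfsg.IsIrrCharacter H θ ∧ cdeg θ ≤ n ∧ θ ≠ fun _ => 1 := by
    intro n θ
    simp only [T, Finset.mem_erase, Finset.mem_filter, mem_irrFinset]
    tauto
  have hind : ∀ θ : H → ℂ, Cfsg.IsIrrCharacter H θ → (θ ≠ fun _ => 1) →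
      Cfsg.indFun H θ ∈ S ∧ cdeg (Cfsg.indFun H θ) = e * cdeg θ := fun θ hθ h1 => by
    refine ⟨⟨isIrrCharacter_indFun_of_centralizer_le hC hθ h1, frob_indFun_relevant hC hθ h1⟩, ?_⟩
    rw [cdeg, indFun_one, irr_apply_one_eq_cdeg hθ, ← Nat.cast_mul, Complex.natCast_re,
      Nat.floor_natCast]
  have hS'mem : ∀ n χ, χ ∈ S' n → χ ∈ S := fun n χ hχ => by
    obtain ⟨θ, hθ, rfl⟩ := Finset.mem_image.1 hχ
    exact (hind θ ((hTmem n θ).1 hθ).1 ((hTmem n θ).1 hθ).2.2).1
  have hSmem : ∀ χ ∈ S, χ ∈ S' (Nat.card H) := fun χ hχ => by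
    obtain ⟨θ, hθ, h1, rfl⟩ := exists_indFun_eq_of_centralizer_le hC hχ.1 hχ.2
    refine Finset.mem_image_of_mem _ ((hTmem _ _).2 ⟨hθ, ?_, h1⟩)
    exact Nat.le_of_dvd Nat.card_pos ((cdeg_dvd_index_center hθ).trans (Subgroup.index_dvd_card _))
  have hconjT : ∀ n, ∀ θ ∈ T n, ∀ g : N, conjOn g θ ∈ T n := by
    intro n θ hθ g
    obtain ⟨h1, h2, h3⟩ := (hTmem n θ).1 hθ
    refine (hTmem n _).2 ⟨isIrrCharacter_conjOn h1 g,
      by rwa [cdeg_eq_of_apply_one (conjOn_apply_one g θ)], fun h => h3 ?_⟩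
    rw [← conjOn_one (N := H) θ, ← mul_inv_cancel g, ← conjOn_conjOn, h]
    rfl
  have hsum : ∀ n, ∑ χ ∈ S' n, cdeg χ ^ 2 = e * ∑ θ ∈ T n, cdeg θ ^ 2 := by
    intro n
    have h := sum_sq_indFun (T n) (fun θ hθ => ((hTmem n θ).1 hθ).1) (hconjT n)
    rw [Finset.sum_congr rfl (g := fun χ => ((cdeg χ ^ 2 : ℕ) : ℂ))] at h
    · exact_mod_cast h
    intro χ hχ
    have hχ' := (hS'mem n χ hχ).1
    rw [IsIrrCharacter.classInner_self hχ', div_one, irr_apply_one_eq_cdeg hχ', Nat.cast_pow]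
  -- the number of linear characters
  set A := (commutator H).index with hA
  have hT1sum : (∑ θ ∈ T 1, cdeg θ ^ 2) + 1 = A := by
    show (∑ θ ∈ ((irrFinset H).filter fun θ => cdeg θ ≤ 1).erase _, cdeg θ ^ 2) + 1 = A
    rw [← sum_cdeg_sq_insert (fun θ : H → ℂ => cdeg θ ≤ 1) (by simp [cdeg]), hA,
      ← card_filter_cdeg_one, Finset.card_eq_sum_ones]
    refine Finset.sum_congr (Finset.filter_congr fun θ hθ => ?_) fun θ hθ => ?_
    · have := cdeg_pos (mem_irrFinset.1 hθ)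
      omega
    · rw [(Finset.mem_filter.1 hθ).2, one_pow]
  have hS'1 : ∀ χ ∈ S' 1, cdeg χ = e := by
    intro χ hχ
    obtain ⟨θ, hθ, rfl⟩ := Finset.mem_image.1 hχ
    obtain ⟨h1, h2, h3⟩ := (hTmem 1 θ).1 hθ
    rw [(hind θ h1 h3).2, le_antisymm h2 (cdeg_pos h1), mul_one]
  have hcomm : IsMulCommutative H → A = Nat.card H := fun hc => by
    rw [hA, show commutator H = ⊥ from ?_, Subgroup.index_bot]
    rw [commutator_def, Subgroup.commutator_eq_bot_iff_le_centralizer]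
    intro x _
    rw [Subgroup.mem_centralizer_iff]
    exact fun y _ => hc.is_comm.comm y x
  have hcase : (∀ (p : ℕ), p.Prime → ∀ m : ℕ, Nat.card H ≠ p ^ m) ∨ IsMulCommutative H ∨
      (4 * e ^ 2 + 1 < A ∧ ∃ p : ℕ, p.Prime ∧ IsPGroup p H) := by
    by_cases hnp : ∃ p : ℕ, p.Prime ∧ ∃ m : ℕ, Nat.card H = p ^ m
    · obtain ⟨p, hp, m, hm⟩ := hnp
      by_cases hc : IsMulCommutative H
      · exact Or.inr (Or.inl hc)
      · exact Or.inr (Or.inr ⟨hbad p hp ⟨m, hm⟩ hc, p, hp, IsPGroup.of_card hm⟩)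
    · push Not at hnp
      exact Or.inl hnp
  have hcard1 : 1 < (S' 1).card := by
    by_cases hgt : e + 1 < A
    · by_contra hle
      have hle' : (S' 1).card ≤ 1 := not_lt.1 hle
      have h := hsum 1
      rw [Finset.sum_congr rfl (fun χ hχ => by rw [hS'1 χ hχ]), Finset.sum_const, smul_eq_mul] at h
      have h2 : e * (∑ θ ∈ T 1, cdeg θ ^ 2) ≤ e * e := by
        rw [← h]
        calc (S' 1).card * e ^ 2 ≤ 1 * e ^ 2 := Nat.mul_le_mul_right _ hle'
          _ = e * e := by ring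
      have := Nat.le_of_mul_le_mul_left h2 (by omega)
      omega
    · rcases hcase with hnp | hc | ⟨hbig, -⟩
      · obtain ⟨θ, θ', h1, h2, h3, h4, h5, h6, h7⟩ := frob_two_linear_orbits hC hnp
        exact Finset.one_lt_card.2 ⟨_, Finset.mem_image_of_mem _ ((hTmem 1 θ).2 ⟨h1, by simp [cdeg, h5], h3⟩),
          _, Finset.mem_image_of_mem _ ((hTmem 1 θ').2 ⟨h2, by simp [cdeg, h6], h4⟩), h7⟩
      · exfalso
        rw [hcomm hc] at hgt
        obtain ⟨k, hk⟩ := (frob_card_coprime_index hC).1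
        rw [← hedef] at hk
        have : k = 1 := by
          rcases k with _ | _ | k
          · omega
          · rfl
          · rw [show e * (k + 1 + 1) = e * k + e + e by ring] at hk
            omega
        subst this
        omega
      · exfalso
        have : e ≤ e ^ 2 := Nat.le_self_pow (by norm_num) e
        omega
  have hτmono : ∀ s : Finset (N → ℂ), (∀ χ ∈ s, χ ∈ S) →
      Cfsg.IsLinearIsometryOn (Cfsg.zspanOn (↑s : Set (N → ℂ)) ({1}ᶜ : Set N)) τ ∧
        ∀ α ∈ Cfsg.zspanOn (↑s : Set (N → ℂ)) ({1}ᶜ : Set N), τ α 1 = 0 := fun s hs =>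
    ⟨isometryOn_subset (zspanOn_subset_zspanOn (fun χ hχ => hs χ hχ) _) hτ,
      fun α hα => hτ1 α (zspanOn_subset_zspanOn (fun χ hχ => hs χ hχ) _ hα)⟩
  -- the bound used at each step
  have hkey : ∀ n, 1 ≤ n → ∀ θ : H → ℂ, Cfsg.IsIrrCharacter H θ → cdeg θ = n + 1 →
      2 * e * (n + 1) < ∑ ψ ∈ T n, cdeg ψ ^ 2 := by
    intro n hn θ hθ hd
    have hins := sum_cdeg_sq_insert (K := H) (fun ψ => cdeg ψ ≤ n) (by simpa [cdeg] using hn)
    have hfilter : (irrFinset H).filter (fun ψ => cdeg ψ ≤ n) =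
        (irrFinset H).filter (fun ψ => cdeg ψ < cdeg θ) :=
      Finset.filter_congr fun ψ _ => by omega
    rcases hcase with hnp | hc | ⟨hbig, p, hp, hpg⟩
    · have h := frob_split_bound hC hnp hθ (by omega)
      rw [← hfilter, hins, hd, ← hedef] at h
      show _ < ∑ ψ ∈ ((irrFinset H).filter fun ψ => cdeg ψ ≤ n).erase _, cdeg ψ ^ 2
      omega
    · exfalso
      have h1 := (abelian_iff_degree_one (G := H)).1 (fun a b => hc.is_comm.comm a b) θ hθ
      rw [irr_apply_one_eq_cdeg hθ, hd] at h1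
      norm_cast at h1
      omega
    · show _ < ∑ ψ ∈ ((irrFinset H).filter fun ψ => cdeg ψ ≤ n).erase _, cdeg ψ ^ 2
      rcases Nat.lt_or_ge (2 * e) (n + 1) with hlt | hge
      · haveI : Fact p.Prime := ⟨hp⟩
        have h := sq_cdeg_dvd_sum_lt hpg hθ
        rw [← hfilter, hins, hd] at h
        have h2 := Nat.le_of_dvd (Nat.succ_pos _) h
        have h3 : (2 * e + 1) * (n + 1) ≤ (n + 1) * (n + 1) := Nat.mul_le_mul_right _ hlt
        nlinarith
      · have hsub : ∑ ψ ∈ T 1, cdeg ψ ^ 2 ≤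
            ∑ ψ ∈ ((irrFinset H).filter fun ψ => cdeg ψ ≤ n).erase (fun _ => 1), cdeg ψ ^ 2 :=
          Finset.sum_le_sum_of_subset fun ψ hψ => by
            obtain ⟨h1, h2, h3⟩ := (hTmem 1 ψ).1 hψ
            exact (hTmem n ψ).2 ⟨h1, h2.trans hn, h3⟩
        have h3 : 2 * e * (n + 1) ≤ 2 * e * (2 * e) := Nat.mul_le_mul_left _ hge
        nlinarith
  -- induction on the degree
  have hmain : ∀ n, 1 ≤ n → Cfsg.IsCoherent (↑(S' n) : Set (N → ℂ)) ({1}ᶜ : Set N) τ := by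
    intro n hn
    induction n, hn using Nat.le_induction with
    | base =>
      obtain ⟨h1, h2⟩ := hτmono (S' 1) (hS'mem 1)
      refine isCoherent_equal_irr _ (fun χ hχ => (hS'mem 1 χ hχ).1) (fun χ hχ ψ hψ => ?_) hcard1 h1 h2
      rw [irr_apply_one_eq_cdeg (hS'mem 1 χ hχ).1, irr_apply_one_eq_cdeg (hS'mem 1 ψ hψ).1,
        hS'1 χ hχ, hS'1 ψ hψ]
    | succ n hn ih =>
      have hsub : S' n ⊆ S' (n + 1) := Finset.image_subset_image fun θ hθ => by
        obtain ⟨h1, h2, h3⟩ := (hTmem n θ).1 hθ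
        exact (hTmem _ θ).2 ⟨h1, h2.trans n.le_succ, h3⟩
      suffices h : ∀ s : Finset (N → ℂ), s ⊆ S' (n + 1) \ S' n →
          Cfsg.IsCoherent (↑(S' n ∪ s) : Set (N → ℂ)) ({1}ᶜ : Set N) τ by
        have := h _ subset_rfl
        rwa [Finset.union_sdiff_of_subset hsub] at this
      intro s
      induction s using Finset.induction_on with
      | empty => intro _; rwa [Finset.union_empty]
      | insert χ t hχt ih' =>
        intro hs
        obtain ⟨hχ1, hχ2⟩ := Finset.mem_sdiff.1 (hs (Finset.mem_insert_self χ t))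
        have ht : t ⊆ S' (n + 1) \ S' n := fun x hx => hs (Finset.mem_insert_of_mem hx)
        obtain ⟨θ, hθT, rfl⟩ := Finset.mem_image.1 hχ1
        obtain ⟨hθ, hθd, hθ1⟩ := (hTmem _ θ).1 hθT
        have hθd' : cdeg θ = n + 1 := by
          refine le_antisymm hθd (Nat.succ_le_iff.2 ?_)
          by_contra hle
          exact hχ2 (Finset.mem_image_of_mem _ ((hTmem n θ).2 ⟨hθ, not_lt.1 hle, hθ1⟩))
        have hmem : ∀ ξ ∈ insert (Cfsg.indFun H θ) (S' n ∪ t), ξ ∈ S := by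
          intro ξ hξ
          rcases Finset.mem_insert.1 hξ with rfl | hξ
          · exact hS'mem _ _ hχ1
          · rcases Finset.mem_union.1 hξ with hξ | hξ
            · exact hS'mem _ _ hξ
            · exact hS'mem _ _ (Finset.mem_sdiff.1 (ht hξ)).1
        obtain ⟨ψ, hψ⟩ : ∃ ψ, ψ ∈ S' 1 := Finset.card_pos.1 (by omega)
        have hψn : ψ ∈ S' n := Finset.image_subset_image (fun η hη => by
          obtain ⟨h1, h2, h3⟩ := (hTmem 1 η).1 hη
          exact (hTmem n η).2 ⟨h1, h2.trans hn, h3⟩) hψ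
        rw [Finset.union_insert]
        obtain ⟨h1, h2⟩ := hτmono _ hmem
        refine coherence_extend_irr (S' n ∪ t) (fun ξ hξ => (hmem ξ (Finset.mem_insert_of_mem hξ)).1)
          (hS'mem _ _ hχ1).1 ?_ cdeg (fun ξ hξ => irr_apply_one_eq_cdeg (hmem ξ hξ).1) h1 h2 (ih' ht)
          (Finset.mem_union_left _ hψn) ?_ ?_
        · rw [Finset.mem_union, not_or]
          exact ⟨hχ2, hχt⟩
        · rw [hS'1 ψ hψ, (hind θ hθ hθ1).2]
          exact dvd_mul_right _ _
        · rw [hS'1 ψ hψ, (hind θ hθ hθ1).2, hθd']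
          refine lt_of_lt_of_le ?_ (Finset.sum_le_sum_of_subset Finset.subset_union_left)
          rw [hsum n, show 2 * e * (e * (n + 1)) = e * (2 * e * (n + 1)) by ring]
          exact Nat.mul_lt_mul_of_pos_left (hkey n hn θ hθ hθd') (by omega)
  have hfinal := hmain (Nat.card H) hH0.le
  have hEq : (↑(S' (Nat.card H)) : Set (N → ℂ)) = S :=
    Set.ext fun χ => ⟨fun h => hS'mem _ χ h, fun h => hSmem χ h⟩
  rwa [hEq] at hfinal

end CfsgLib.Char
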