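import Cfsg.Prelude.Def_Characters
import Mathlib.Algebra.BigOperators.Module

/-!
# The inner product `Cfsg.classInner`
-/

set_option autoImplicit false

namespace CfsgLib.Char

open scoped ComplexConjugate

universe u

variable {G : Type u} [Group G] [Fintype G]

theorem classInner_def (φ ψ : G → ℂ) :
    Cfsg.classInner φ ψ = (Nat.card G : ℂ)⁻¹ * ∑ g : G, φ g * conj (ψ g) := rfl

theorem classInner_add_left (φ φ' ψ : G → ℂ) :
    Cfsg.classInner (φ + φ') ψ = Cfsg.classInner φ ψ + Cfsg.classInner φ' ψ := by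
  simp [classInner_def, add_mul, Finset.sum_add_distrib, mul_add]

theorem classInner_add_right (φ ψ ψ' : G → ℂ) :
    Cfsg.classInner φ (ψ + ψ') = Cfsg.classInner φ ψ + Cfsg.classInner φ ψ' := by
  simp [classInner_def, mul_add, Finset.sum_add_distrib]

theorem classInner_smul_left (c : ℂ) (φ ψ : G → ℂ) :
    Cfsg.classInner (c • φ) ψ = c * Cfsg.classInner φ ψ := by
  simp only [classInner_def, Pi.smul_apply, smul_eq_mul, Finset.mul_sum]
  exact Finset.sum_congr rfl fun g _ => by ring

theorem classInner_smul_right (c : ℂ) (φ ψ : G → ℂ) :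
    Cfsg.classInner φ (c • ψ) = conj c * Cfsg.classInner φ ψ := by
  simp only [classInner_def, Pi.smul_apply, smul_eq_mul, Finset.mul_sum, map_mul]
  exact Finset.sum_congr rfl fun g _ => by ring

@[simp]
theorem classInner_zero_left (ψ : G → ℂ) : Cfsg.classInner (0 : G → ℂ) ψ = 0 := by
  simp [classInner_def]

@[simp]
theorem classInner_zero_right (φ : G → ℂ) : Cfsg.classInner φ (0 : G → ℂ) = 0 := by
  simp [classInner_def]

theorem classInner_neg_left (φ ψ : G → ℂ) :
    Cfsg.classInner (-φ) ψ = -Cfsg.classInner φ ψ := by simp [classInner_def]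

theorem classInner_neg_right (φ ψ : G → ℂ) :
    Cfsg.classInner φ (-ψ) = -Cfsg.classInner φ ψ := by simp [classInner_def]

theorem classInner_sub_left (φ φ' ψ : G → ℂ) :
    Cfsg.classInner (φ - φ') ψ = Cfsg.classInner φ ψ - Cfsg.classInner φ' ψ := by
  rw [sub_eq_add_neg, classInner_add_left, classInner_neg_left, sub_eq_add_neg]

theorem classInner_sub_right (φ ψ ψ' : G → ℂ) :
    Cfsg.classInner φ (ψ - ψ') = Cfsg.classInner φ ψ - Cfsg.classInner φ ψ' := by
  rw [sub_eq_add_neg, classInner_add_right, classInner_neg_right, sub_eq_add_neg]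

theorem classInner_sum_left {ι : Type*} (s : Finset ι) (f : ι → G → ℂ) (ψ : G → ℂ) :
    Cfsg.classInner (∑ i ∈ s, f i) ψ = ∑ i ∈ s, Cfsg.classInner (f i) ψ :=
  map_sum (AddMonoidHom.mk' (fun φ => Cfsg.classInner φ ψ) fun a b => classInner_add_left a b ψ) f s

theorem classInner_sum_right {ι : Type*} (s : Finset ι) (φ : G → ℂ) (f : ι → G → ℂ) :
    Cfsg.classInner φ (∑ i ∈ s, f i) = ∑ i ∈ s, Cfsg.classInner φ (f i) :=
  map_sum (AddMonoidHom.mk' (fun ψ => Cfsg.classInner φ ψ) fun a b => classInner_add_right φ a b) f s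

theorem classInner_conj (φ ψ : G → ℂ) :
    conj (Cfsg.classInner φ ψ) = Cfsg.classInner ψ φ := by
  simp [classInner_def, map_sum, map_mul, mul_comm]

/-- The norm of a function, as a real number. -/
theorem classInner_self (φ : G → ℂ) :
    Cfsg.classInner φ φ = (((Nat.card G : ℝ)⁻¹ * ∑ g : G, ‖φ g‖ ^ 2 : ℝ) : ℂ) := by
  simp [classInner_def, Complex.mul_conj']

theorem classInner_self_eq_zero {φ : G → ℂ} (h : Cfsg.classInner φ φ = 0) : φ = 0 := by
  rw [classInner_self, Complex.ofReal_eq_zero, mul_eq_zero] at h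
  have hs : ∑ g : G, ‖φ g‖ ^ 2 = 0 := by
    refine h.resolve_left ?_
    exact inv_ne_zero (by exact_mod_cast (Nat.card_pos (α := G)).ne')
  funext g
  have := (Finset.sum_eq_zero_iff_of_nonneg fun i _ => by positivity).1 hs g (Finset.mem_univ g)
  simpa using this

theorem classInner_one_one : Cfsg.classInner (fun _ : G => (1 : ℂ)) (fun _ => 1) = 1 := by
  simp [classInner_def]

theorem sum_eq_card_mul_classInner (φ ψ : G → ℂ) :
    ∑ g : G, φ g * conj (ψ g) = (Nat.card G : ℂ) * Cfsg.classInner φ ψ := by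
  rw [classInner_def, mul_inv_cancel_left₀ (by exact_mod_cast (Nat.card_pos (α := G)).ne')]

/-- `Cfsg.classInner` does not depend on the chosen `Fintype` instance. -/
theorem classInner_congr {i j : Fintype G} (φ ψ : G → ℂ) :
    @Cfsg.classInner G _ i φ ψ = @Cfsg.classInner G _ j φ ψ := by
  rw [Subsingleton.elim i j]

end CfsgLib.Char
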