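import Cfsg.Agent.Char.Values
import Cfsg.Agent.Char.Inner
import Mathlib.GroupTheory.GroupAction.ConjAct
import Mathlib.LinearAlgebra.Dimension.Constructions
import Mathlib.Algebra.Group.ConjFinite

/-!
# Orthogonality relations and completeness of the irreducible characters
-/

set_option autoImplicit false
set_option linter.style.haveILetI false

namespace CfsgLib.Char

open Module Representation
open scoped ComplexConjugate

universe u

variable {G : Type u} [Group G]

theorem IsIrrCharacter.classInner_eq [Fintype G] {χ ψ : G → ℂ} [Decidable (χ = ψ)]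
    (hχ : Cfsg.IsIrrCharacter G χ) (hψ : Cfsg.IsIrrCharacter G ψ) :
    Cfsg.classInner χ ψ = if χ = ψ then 1 else 0 := by
  classical
  haveI : Invertible (Nat.card G : ℂ) :=
    invertibleOfNonzero (by exact_mod_cast (Nat.card_pos (α := G)).ne')
  obtain ⟨n, ρ, hρ, rfl⟩ := hχ
  obtain ⟨m, σ, hσ, rfl⟩ := hψ
  rw [classInner_def]
  simp_rw [← IsCharacter.apply_inv (⟨m, σ, rfl⟩ : Cfsg.IsCharacter G σ.character)]
  rw [char_orthonormal ρ σ]
  by_cases h : ρ.character = σ.character
  · rw [if_pos h]
    have h1 := char_orthonormal ρ ρ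
    rw [if_pos ⟨Representation.Equiv.refl ρ⟩] at h1
    rw [← char_orthonormal ρ σ, ← h, h1]
  · rw [if_neg h, if_neg]
    rintro ⟨e⟩
    exact h (char_iso e).symm

theorem IsIrrCharacter.classInner_self [Fintype G] {χ : G → ℂ}
    (hχ : Cfsg.IsIrrCharacter G χ) : Cfsg.classInner χ χ = 1 := by
  classical rw [IsIrrCharacter.classInner_eq hχ hχ, if_pos rfl]

theorem IsIrrCharacter.classInner_of_ne [Fintype G] {χ ψ : G → ℂ}
    (hχ : Cfsg.IsIrrCharacter G χ) (hψ : Cfsg.IsIrrCharacter G ψ) (h : χ ≠ ψ) :
    Cfsg.classInner χ ψ = 0 := by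
  classical rw [IsIrrCharacter.classInner_eq hχ hψ, if_neg h]

theorem linearIndependent_irr [Finite G] :
    LinearIndependent ℂ (fun χ : Cfsg.IrrCharacter G => (χ : G → ℂ)) := by
  classical
  haveI := Fintype.ofFinite G
  rw [linearIndependent_iff']
  intro s c hc i hi
  have h := congrArg (fun φ => Cfsg.classInner φ (i : G → ℂ)) hc
  simp only [classInner_sum_left, classInner_smul_left, classInner_zero_left] at h
  rw [Finset.sum_eq_single i] at h
  · rwa [IsIrrCharacter.classInner_self i.2, mul_one] at h
  · intro j _ hj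
    rw [IsIrrCharacter.classInner_of_ne j.2 i.2 (fun e => hj (Subtype.ext e)), mul_zero]
  · exact fun h => absurd hi h

theorem finite_irrCharacter (G : Type u) [Group G] [Finite G] : Finite (Cfsg.IrrCharacter G) :=
  (linearIndependent_irr (G := G)).finite

instance instFiniteIrrCharacter [Finite G] : Finite (Cfsg.IrrCharacter G) := finite_irrCharacter G

/-- The irreducible characters, as a finite set of functions. -/
noncomputable def irrFinset (G : Type u) [Group G] [Finite G] : Finset (G → ℂ) :=
  (Set.finite_coe_iff.1 (finite_irrCharacter G)).toFinset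

@[simp]
theorem mem_irrFinset [Finite G] {χ : G → ℂ} : χ ∈ irrFinset G ↔ Cfsg.IsIrrCharacter G χ :=
  Set.Finite.mem_toFinset _

theorem finsum_irr [Finite G] {M : Type*} [AddCommMonoid M] (f : (G → ℂ) → M) :
    ∑ᶠ χ : Cfsg.IrrCharacter G, f χ = ∑ χ ∈ irrFinset G, f χ := by
  haveI := Fintype.ofFinite (Cfsg.IrrCharacter G)
  rw [finsum_eq_sum_of_fintype]
  exact (Finset.sum_subtype (irrFinset G) (fun χ => mem_irrFinset) f).symm

theorem card_irr [Finite G] : Nat.card (Cfsg.IrrCharacter G) = (irrFinset G).card :=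
  Nat.card_eq_card_finite_toFinset _

/-- Every character is a sum of irreducible characters. -/
theorem IsCharacter.exists_multiset [Finite G] {χ : G → ℂ} (hχ : Cfsg.IsCharacter G χ) :
    ∃ s : Multiset (G → ℂ), (∀ ψ ∈ s, Cfsg.IsIrrCharacter G ψ) ∧ χ = s.sum := by
  refine IsCharacter.induction_irr
    (P := fun χ => ∃ s : Multiset (G → ℂ), (∀ ψ ∈ s, Cfsg.IsIrrCharacter G ψ) ∧ χ = s.sum)
    ⟨0, by simp⟩ ?_ ?_ hχ
  · rintro a b ⟨s, hs, rfl⟩ ⟨t, ht, rfl⟩
    exact ⟨s + t, fun ψ h => (Multiset.mem_add.1 h).elim (hs ψ) (ht ψ), by simp⟩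
  · exact fun ψ hψ => ⟨{ψ}, by simpa using hψ, by simp⟩

theorem classInner_multiset_sum [Fintype G] [DecidableEq (G → ℂ)] (s : Multiset (G → ℂ))
    (hs : ∀ ψ ∈ s, Cfsg.IsIrrCharacter G ψ) {χ : G → ℂ} (hχ : Cfsg.IsIrrCharacter G χ) :
    Cfsg.classInner s.sum χ = s.count χ := by
  induction s using Multiset.induction with
  | empty => simp
  | cons a s ih =>
    rw [Multiset.sum_cons, classInner_add_left, ih fun ψ h => hs ψ (Multiset.mem_cons_of_mem h),
      Multiset.count_cons, IsIrrCharacter.classInner_eq (hs a (Multiset.mem_cons_self a s)) hχ]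
    by_cases h : χ = a
    · subst h; simp [add_comm]
    · simp [h, Ne.symm h]

/-- A character of norm one is irreducible. -/
theorem IsCharacter.isIrrCharacter_of_classInner_self [Fintype G] {χ : G → ℂ}
    (hχ : Cfsg.IsCharacter G χ) (h1 : Cfsg.classInner χ χ = 1) : Cfsg.IsIrrCharacter G χ := by
  classical
  obtain ⟨s, hs, rfl⟩ := IsCharacter.exists_multiset hχ
  have h2 : ∀ t : Multiset (G → ℂ), (∀ ψ ∈ t, ψ ∈ s) →
      Cfsg.classInner s.sum t.sum = ((t.map fun ψ => s.count ψ).sum : ℕ) := by
    intro t ht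
    induction t using Multiset.induction with
    | empty => simp
    | cons a t ih =>
      rw [Multiset.sum_cons, classInner_add_right, ih fun ψ h => ht ψ (Multiset.mem_cons_of_mem h),
        classInner_multiset_sum s hs (hs a (ht a (Multiset.mem_cons_self a t)))]
      simp
  have h3 := h2 s fun ψ h => h
  rw [h1] at h3
  have h4 : (s.map fun ψ => s.count ψ).sum = 1 := by exact_mod_cast h3.symm
  have h5 : Multiset.card s ≤ 1 := by
    rw [← h4]
    refine (le_of_eq (by simp)).trans (Multiset.sum_map_le_sum_map (fun _ => 1) _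
      fun ψ hψ => Multiset.one_le_count_iff_mem.2 hψ)
  have h6 : Multiset.card s ≠ 0 := by
    rw [Ne, Multiset.card_eq_zero]
    rintro rfl
    simp at h4
  obtain ⟨a, rfl⟩ := Multiset.card_eq_one.1 (by omega : Multiset.card s = 1)
  simpa using hs a

/-- The complex conjugate of a character is a character. -/
theorem IsCharacter.conj [Finite G] {χ : G → ℂ} (hχ : Cfsg.IsCharacter G χ) :
    Cfsg.IsCharacter G (fun g => conj (χ g)) := by
  obtain ⟨n, ρ, rfl⟩ := id hχ
  convert isCharacter_character ρ.dual using 1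
  ext g
  rw [char_dual, IsCharacter.apply_inv hχ]

theorem classInner_conj_conj [Fintype G] (φ ψ : G → ℂ) :
    Cfsg.classInner (fun g => conj (φ g)) (fun g => conj (ψ g)) = Cfsg.classInner ψ φ := by
  rw [← classInner_conj φ ψ]
  simp [classInner_def, map_sum, map_mul]

/-- The complex conjugate of an irreducible character is irreducible. -/
theorem IsIrrCharacter.conj [Finite G] {χ : G → ℂ} (hχ : Cfsg.IsIrrCharacter G χ) :
    Cfsg.IsIrrCharacter G (fun g => conj (χ g)) := by
  haveI := Fintype.ofFinite G
  exact IsCharacter.isIrrCharacter_of_classInner_self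
    (IsCharacter.conj (IsIrrCharacter.isCharacter hχ))
    (by rw [classInner_conj_conj, IsIrrCharacter.classInner_self hχ])

/-- The character of the regular representation. -/
theorem leftRegular_character [Fintype G] [DecidableEq G] (g : G) :
    (Representation.leftRegular ℂ G).character g = if g = 1 then (Nat.card G : ℂ) else 0 := by
  classical
  rw [Representation.character, LinearMap.trace_eq_matrix_trace ℂ (MonoidAlgebra.basis G ℂ)]
  have : ∀ x : G, LinearMap.toMatrix (MonoidAlgebra.basis G ℂ) (MonoidAlgebra.basis G ℂ)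
      (Representation.leftRegular ℂ G g) x x = if g = 1 then (1 : ℂ) else 0 := by
    intro x
    rw [LinearMap.toMatrix_apply, MonoidAlgebra.basis_apply, Representation.ofMulAction_single,
      ← MonoidAlgebra.basis_apply, Module.Basis.repr_self, Finsupp.single_apply]
    simp
  simp only [Matrix.trace, Matrix.diag, this]
  split_ifs <;> simp

/-- If a class function is orthogonal to all irreducible characters, so is it to all their
translates. -/
theorem sum_mul_char_mul_eq_zero [Fintype G] {θ : G → ℂ} (hθ : Cfsg.IsClassFunction G θ)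
    {χ : G → ℂ} (hχ : Cfsg.IsIrrCharacter G χ) (h0 : ∑ g, θ g * χ g = 0) (h : G) :
    ∑ g, θ g * χ (g * h) = 0 := by
  obtain ⟨n, ρ, hρ, rfl⟩ := hχ
  have hA : ∀ x : G, ρ x * (∑ g, θ g • ρ g) = (∑ g, θ g • ρ g) * ρ x := by
    intro x
    rw [Finset.mul_sum, Finset.sum_mul]
    refine Fintype.sum_equiv (MulAut.conj x).toEquiv _ _ fun g => ?_
    have : (MulAut.conj x).toEquiv g = x * g * x⁻¹ := rfl
    rw [this, hθ g x, smul_mul_assoc, mul_smul_comm, ← map_mul, ← map_mul, inv_mul_cancel_right]
  let f : IntertwiningMap ρ ρ := ⟨∑ g, θ g • ρ g, fun x => (hA x).symm⟩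
  obtain ⟨c, hc⟩ := (IsIrreducible.algebraMap_intertwiningMap_bijective_of_isAlgClosed (ρ := ρ)).2 f
  have hc' : (∑ g, θ g • ρ g) = c • (1 : Module.End ℂ (Fin n → ℂ)) := by
    have := congrArg IntertwiningMap.toLinearMap hc
    refine this.symm.trans ?_
    ext v
    simp [Algebra.algebraMap_eq_smul_one]
  have hn : (n : ℂ) ≠ 0 := by
    obtain ⟨m, hm, hm'⟩ := IsIrrCharacter.exists_degree (χ := ρ.character) ⟨n, ρ, hρ, rfl⟩
    rw [ρ.char_one, Module.finrank_fin_fun] at hm'
    rw [hm']; exact_mod_cast hm.ne'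
  have hc0 : c = 0 := by
    have := congrArg (LinearMap.trace ℂ (Fin n → ℂ)) hc'
    rw [map_sum, map_smul, LinearMap.trace_one, Module.finrank_fin_fun, smul_eq_mul] at this
    simp only [map_smul, smul_eq_mul] at this
    exact (mul_eq_zero.1 (this.symm.trans h0)).resolve_right hn
  rw [hc0, zero_smul] at hc'
  have := congrArg (fun A => LinearMap.trace ℂ (Fin n → ℂ) (A * ρ h)) hc'
  simpa [Finset.sum_mul, smul_mul_assoc, ← map_mul, Representation.character] using this

/-- Completeness: a class function orthogonal to all irreducible characters vanishes. -/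
theorem eq_zero_of_classInner_eq_zero [Fintype G] {θ : G → ℂ} (hθ : Cfsg.IsClassFunction G θ)
    (h : ∀ χ, Cfsg.IsIrrCharacter G χ → Cfsg.classInner θ χ = 0) : θ = 0 := by
  classical
  have key : ∀ χ, Cfsg.IsCharacter G χ → ∀ x, ∑ g, θ g * χ (g * x) = 0 := by
    intro χ hχ
    refine IsCharacter.induction_irr (P := fun χ => ∀ x, ∑ g, θ g * χ (g * x) = 0) ?_ ?_ ?_ hχ
    · simp
    · intro a b ha hb x
      simp [mul_add, Finset.sum_add_distrib, ha x, hb x]
    · intro χ hχ x
      have hd := IsIrrCharacter.conj hχ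
      refine sum_mul_char_mul_eq_zero hθ hχ ?_ x
      have := h _ hd
      rw [classInner_def, mul_eq_zero] at this
      simpa using this.resolve_left
        (inv_ne_zero (by exact_mod_cast (Nat.card_pos (α := G)).ne'))
  funext x
  have := key _ (isCharacter_character (Representation.leftRegular ℂ G)) x⁻¹
  have hreg : ∀ g : G, (Representation.leftRegular ℂ G).character g =
      if g = 1 then (Nat.card G : ℂ) else 0 := leftRegular_character
  simp only [hreg, mul_inv_eq_one, mul_ite, mul_zero, Finset.sum_ite_eq', Finset.mem_univ,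
    if_true, mul_eq_zero] at this
  exact this.resolve_right (by exact_mod_cast (Nat.card_pos (α := G)).ne')

theorem isClassFunction_sum [Finite G] (c : (G → ℂ) → ℂ) :
    Cfsg.IsClassFunction G (∑ χ ∈ irrFinset G, c χ • χ) := by
  intro g h
  simp only [Finset.sum_apply, Pi.smul_apply]
  exact Finset.sum_congr rfl fun χ hχ => by
    rw [IsIrrCharacter.isClassFunction (mem_irrFinset.1 hχ) g h]

theorem classInner_sum_smul_irr [Fintype G] (c : (G → ℂ) → ℂ) {χ : G → ℂ}
    (hχ : Cfsg.IsIrrCharacter G χ) :
    Cfsg.classInner (∑ ψ ∈ irrFinset G, c ψ • ψ) χ = c χ := by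
  rw [classInner_sum_left, Finset.sum_eq_single χ]
  · rw [classInner_smul_left, IsIrrCharacter.classInner_self hχ, mul_one]
  · intro ψ hψ hne
    rw [classInner_smul_left, IsIrrCharacter.classInner_of_ne (mem_irrFinset.1 hψ) hχ hne,
      mul_zero]
  · exact fun h => absurd (mem_irrFinset.2 hχ) h

/-- Expansion of a class function in the irreducible characters. -/
theorem eq_sum_irr [Fintype G] {ψ : G → ℂ} (hψ : Cfsg.IsClassFunction G ψ) :
    ψ = ∑ χ ∈ irrFinset G, Cfsg.classInner ψ χ • χ := by
  refine sub_eq_zero.1 (eq_zero_of_classInner_eq_zero ?_ fun χ hχ => ?_)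
  · intro g h
    simp only [Pi.sub_apply, hψ g h,
      isClassFunction_sum (fun χ => Cfsg.classInner ψ χ) g h]
  · rw [classInner_sub_left, classInner_sum_smul_irr _ hχ, sub_self]

/-- Parseval's identity for class functions. -/
theorem classInner_eq_sum_irr [Fintype G] {φ : G → ℂ} (hφ : Cfsg.IsClassFunction G φ)
    (ψ : G → ℂ) :
    Cfsg.classInner φ ψ =
      ∑ χ ∈ irrFinset G, Cfsg.classInner φ χ * conj (Cfsg.classInner ψ χ) := by
  conv_lhs => rw [eq_sum_irr hφ]
  rw [classInner_sum_left]
  exact Finset.sum_congr rfl fun χ _ => by rw [classInner_smul_left, classInner_conj]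

/-- Class functions with the same multiplicities are equal. -/
theorem eq_of_classInner_eq [Fintype G] {φ ψ : G → ℂ} (hφ : Cfsg.IsClassFunction G φ)
    (hψ : Cfsg.IsClassFunction G ψ)
    (h : ∀ χ, Cfsg.IsIrrCharacter G χ → Cfsg.classInner φ χ = Cfsg.classInner ψ χ) : φ = ψ := by
  rw [eq_sum_irr hφ, eq_sum_irr hψ]
  exact Finset.sum_congr rfl fun χ hχ => by rw [h χ (mem_irrFinset.1 hχ)]

/-- Multiplicities of irreducible characters in characters are natural numbers. -/
theorem IsCharacter.exists_classInner_eq_natCast [Fintype G] {φ χ : G → ℂ}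
    (hφ : Cfsg.IsCharacter G φ) (hχ : Cfsg.IsIrrCharacter G χ) :
    ∃ n : ℕ, Cfsg.classInner φ χ = n := by
  classical
  obtain ⟨s, hs, rfl⟩ := IsCharacter.exists_multiset hφ
  exact ⟨_, classInner_multiset_sum s hs hχ⟩

/-- Multiplicities between two characters are natural numbers. -/
theorem IsCharacter.exists_classInner_eq_natCast' [Fintype G] {φ ψ : G → ℂ}
    (hφ : Cfsg.IsCharacter G φ) (hψ : Cfsg.IsCharacter G ψ) :
    ∃ n : ℕ, Cfsg.classInner φ ψ = n := by
  refine IsCharacter.induction_irr (P := fun ψ => ∃ n : ℕ, Cfsg.classInner φ ψ = n)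
    ⟨0, by simp⟩ ?_ (fun χ hχ => IsCharacter.exists_classInner_eq_natCast hφ hχ) hψ
  rintro a b ⟨m, hm⟩ ⟨n, hn⟩
  exact ⟨m + n, by simp [classInner_add_right, hm, hn]⟩

theorem classInner_leftRegular [Fintype G] {χ : G → ℂ} :
    Cfsg.classInner (Representation.leftRegular ℂ G).character χ = conj (χ 1) := by
  classical
  rw [classInner_def]
  simp [leftRegular_character]

/-- The regular character is `∑ χ(1) χ`. -/
theorem leftRegular_eq_sum [Fintype G] :
    (Representation.leftRegular ℂ G).character = ∑ χ ∈ irrFinset G, χ 1 • χ := by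
  conv_lhs => rw [eq_sum_irr (IsCharacter.isClassFunction (isCharacter_character _))]
  refine Finset.sum_congr rfl fun χ hχ => ?_
  obtain ⟨n, -, hn⟩ := IsIrrCharacter.exists_degree (mem_irrFinset.1 hχ)
  rw [classInner_leftRegular, hn, Complex.conj_natCast]

/-- The sum of the squares of the degrees. -/
theorem sum_degree_sq [Finite G] : ∑ χ ∈ irrFinset G, χ 1 ^ 2 = (Nat.card G : ℂ) := by
  classical
  haveI := Fintype.ofFinite G
  have := congrFun (leftRegular_eq_sum (G := G)) 1
  rw [leftRegular_character, if_pos rfl] at this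
  rw [this]
  simp [sq]

open scoped Classical in
theorem card_conj_class [Finite G] (g : G) :
    Nat.card {x : G // IsConj g x} = (Subgroup.centralizer ({g} : Set G)).index := by
  have hidx : (Subgroup.centralizer ({g} : Set G)).index =
      (MulAction.stabilizer (ConjAct G) g).index := by
    rw [Subgroup.centralizer_eq_comap_stabilizer]
    exact Subgroup.index_comap_of_surjective (f := (ConjAct.toConjAct (G := G)).toMonoidHom) _
      ConjAct.toConjAct.surjective
  rw [hidx, MulAction.index_stabilizer]
  refine (Nat.card_congr (Equiv.subtypeEquivRight fun x => ?_)).trans (Nat.card_coe_set_eq _)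
  rw [ConjAct.mem_orbit_conjAct]
  exact isConj_comm

theorem card_conj_class_mul_card_centralizer [Finite G] (g : G) :
    Nat.card {x : G // IsConj g x} * Nat.card (Subgroup.centralizer ({g} : Set G)) =
      Nat.card G := by
  rw [card_conj_class, mul_comm, Subgroup.card_mul_index]

theorem IsClassFunction.apply_eq_of_isConj {θ : G → ℂ} (hθ : Cfsg.IsClassFunction G θ) {g h : G}
    (hgh : IsConj g h) : θ g = θ h := by
  obtain ⟨c, rfl⟩ := isConj_iff.1 hgh
  exact (hθ g c).symm

/-- The second orthogonality relation. -/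
theorem sum_irr_mul_conj [Finite G] (g h : G) [Decidable (IsConj g h)] :
    ∑ χ ∈ irrFinset G, χ g * conj (χ h) =
      if IsConj g h then (Nat.card (Subgroup.centralizer ({g} : Set G)) : ℂ) else 0 := by
  classical
  haveI := Fintype.ofFinite G
  let θ : G → ℂ := fun x => if IsConj h x then 1 else 0
  have hθ : Cfsg.IsClassFunction G θ := by
    intro x y
    have : IsConj x (y * x * y⁻¹) := isConj_iff.2 ⟨y, rfl⟩
    simp only [θ]
    exact if_congr ⟨fun a => a.trans this.symm, fun a => a.trans this⟩ rfl rfl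
  have hc : ∀ χ ∈ irrFinset G,
      (Nat.card G : ℂ) * Cfsg.classInner θ χ = Nat.card {x : G // IsConj h x} * conj (χ h) := by
    intro χ hχ
    rw [← sum_eq_card_mul_classInner]
    simp only [θ, ite_mul, one_mul, zero_mul]
    rw [← Finset.sum_filter, Finset.sum_congr rfl (fun x hx => by
      rw [← IsClassFunction.apply_eq_of_isConj
        (IsIrrCharacter.isClassFunction (mem_irrFinset.1 hχ)) (Finset.mem_filter.1 hx).2]),
      Finset.sum_const, nsmul_eq_mul, ← Nat.card_eq_finsetCard]
    simp
  have hk : (Nat.card {x : G // IsConj h x} : ℂ) ≠ 0 := by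
    haveI : Nonempty {x : G // IsConj h x} := ⟨⟨h, IsConj.refl h⟩⟩
    exact_mod_cast (Nat.card_pos (α := {x : G // IsConj h x})).ne'
  have key := congrFun (eq_sum_irr hθ) g
  rw [Finset.sum_apply] at key
  apply mul_left_cancel₀ hk
  rw [Finset.mul_sum]
  calc ∑ χ ∈ irrFinset G, (Nat.card {x : G // IsConj h x} : ℂ) * (χ g * conj (χ h))
      = ∑ χ ∈ irrFinset G, (Nat.card G : ℂ) * ((Cfsg.classInner θ χ • χ) g) :=
        Finset.sum_congr rfl fun χ hχ => by
          rw [Pi.smul_apply, smul_eq_mul, ← mul_assoc (Nat.card G : ℂ), hc χ hχ]; ring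
    _ = (Nat.card G : ℂ) * θ g := by rw [← Finset.mul_sum, ← key]
    _ = _ := by
      simp only [θ]
      by_cases hgh : IsConj g h
      · rw [if_pos hgh, if_pos hgh.symm, mul_one]
        have heq : Nat.card {x : G // IsConj h x} = Nat.card {x : G // IsConj g x} :=
          Nat.card_congr (Equiv.subtypeEquivRight fun x =>
            ⟨fun a => hgh.trans a, fun a => hgh.symm.trans a⟩)
        rw [heq, ← card_conj_class_mul_card_centralizer g]
        push_cast
        ring
      · rw [if_neg hgh, if_neg fun a => hgh a.symm, mul_zero, mul_zero]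

theorem isConj_iff_irr_eq [Finite G] (g h : G) :
    IsConj g h ↔ ∀ χ, Cfsg.IsIrrCharacter G χ → χ g = χ h := by
  classical
  refine ⟨fun hgh χ hχ =>
    IsClassFunction.apply_eq_of_isConj (IsIrrCharacter.isClassFunction hχ) hgh, fun hall => ?_⟩
  by_contra hn
  have h1 := sum_irr_mul_conj g h
  rw [if_neg hn] at h1
  have h2 := sum_irr_mul_conj h h
  rw [if_pos (IsConj.refl h)] at h2
  rw [Finset.sum_congr rfl fun χ hχ => by rw [hall χ (mem_irrFinset.1 hχ)], h2] at h1
  exact (Nat.card_pos (α := Subgroup.centralizer ({h} : Set G))).ne' (by exact_mod_cast h1)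

/-- There are as many irreducible characters as conjugacy classes. -/
theorem card_irr_eq_card_conjClasses [Finite G] :
    Nat.card (Cfsg.IrrCharacter G) = Nat.card (ConjClasses G) := by
  classical
  haveI := Fintype.ofFinite G
  haveI := Fintype.ofFinite (Cfsg.IrrCharacter G)
  haveI := Fintype.ofFinite (ConjClasses G)
  let L : (Cfsg.IrrCharacter G → ℂ) →ₗ[ℂ] (ConjClasses G → ℂ) :=
    { toFun := fun c C => ∑ χ : Cfsg.IrrCharacter G, c χ * (χ : G → ℂ) C.out
      map_add' := fun c d => by ext C; simp [add_mul, Finset.sum_add_distrib]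
      map_smul' := fun r c => by ext C; simp [Finset.mul_sum, mul_assoc] }
  have hmk : ∀ g : G, IsConj g (ConjClasses.mk g).out := fun g => by
    rw [← ConjClasses.mk_eq_mk_iff_isConj]
    exact (Quotient.out_eq (ConjClasses.mk g)).symm
  have hbij : Function.Bijective L := by
    constructor
    · rw [← LinearMap.ker_eq_bot, LinearMap.ker_eq_bot']
      intro c hc
      have h0 : ∑ χ : Cfsg.IrrCharacter G, c χ • (χ : G → ℂ) = 0 := by
        funext g
        have := congrFun hc (ConjClasses.mk g)
        simp only [Finset.sum_apply, Pi.smul_apply, Pi.zero_apply, smul_eq_mul]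
        rw [Finset.sum_congr rfl fun χ _ => by
          rw [IsClassFunction.apply_eq_of_isConj (IsIrrCharacter.isClassFunction χ.2) (hmk g)]]
        exact this
      funext χ
      exact Fintype.linearIndependent_iff.1 linearIndependent_irr c h0 χ
    · intro f
      have hf : Cfsg.IsClassFunction G (fun g => f (ConjClasses.mk g)) := fun g h =>
        congrArg f (ConjClasses.mk_eq_mk_iff_isConj.2 (isConj_iff.2 ⟨h, rfl⟩).symm)
      refine ⟨fun χ => Cfsg.classInner (fun g => f (ConjClasses.mk g)) χ, funext fun C => ?_⟩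
      have key := congrFun (eq_sum_irr hf) C.out
      rw [Finset.sum_apply] at key
      have hC : ConjClasses.mk C.out = C := Quotient.out_eq C
      simp only [hC, Pi.smul_apply, smul_eq_mul] at key
      rw [key]
      exact (Finset.sum_subtype (irrFinset G) (fun χ => mem_irrFinset)
        (fun χ => Cfsg.classInner (fun g => f (ConjClasses.mk g)) χ * χ C.out)).symm
  have := LinearEquiv.finrank_eq (LinearEquiv.ofBijective L hbij)
  simpa [Nat.card_eq_fintype_card] using this

end CfsgLib.Char
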