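import Cfsg.Agent.Char.Central
import Cfsg.Agent.Char.Orthogonality

/-!
# Counting products in conjugacy classes and commutators by characters
-/

namespace CfsgLib.Char

open scoped ComplexConjugate

universe u

variable {G : Type u} [Group G] [Fintype G]

/-- A class function weighted sum of an irreducible character factorises. -/
theorem IsIrrCharacter.sum_mul_apply_mul {χ : G → ℂ} (hχ : Cfsg.IsIrrCharacter G χ) {θ : G → ℂ}
    (hθ : Cfsg.IsClassFunction G θ) (y : G) :
    ∑ x, θ x * χ (x * y) = (∑ x, θ x * χ x) * χ y / χ 1 := by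
  obtain ⟨n, ρ, hρ, rfl⟩ := hχ
  have h := congrArg (fun A : Module.End ℂ (Fin n → ℂ) => LinearMap.trace ℂ _ (A * ρ y))
    (sum_smul_eq_smul_one ρ hθ)
  simp only [Finset.sum_mul, smul_mul_assoc, one_mul, map_sum, map_smul, smul_eq_mul,
    ← map_mul] at h
  rw [ρ.char_one]
  simp only [Representation.character] at h ⊢
  rw [h]; ring

theorem IsIrrCharacter.sum_class_apply_mul {χ : G → ℂ} (hχ : Cfsg.IsIrrCharacter G χ) (a y : G)
    [DecidablePred fun x : G => IsConj a x] :
    ∑ x ∈ Finset.univ.filter (fun x => IsConj a x), χ (x * y) =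
      (Nat.card {x : G // IsConj a x} : ℂ) * χ a * χ y / χ 1 := by
  have hθ : Cfsg.IsClassFunction G (fun x => if IsConj a x then (1 : ℂ) else 0) := fun g h => by
    simp only
    have : IsConj g (h * g * h⁻¹) := isConj_iff.2 ⟨h, rfl⟩
    exact if_congr ⟨fun e => e.trans this.symm, fun e => e.trans this⟩ rfl rfl
  have h := IsIrrCharacter.sum_mul_apply_mul hχ hθ y
  simp only [ite_mul, one_mul, zero_mul, ← Finset.sum_filter] at h
  rw [h, Finset.sum_congr rfl fun x hx => (IsClassFunction.apply_eq_of_isConj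
    (IsIrrCharacter.isClassFunction hχ) (Finset.mem_filter.1 hx).2).symm,
    Finset.sum_const, nsmul_eq_mul, Nat.card_eq_fintype_card, Fintype.card_subtype]

/-- Second orthogonality against the identity. -/
theorem sum_degree_mul_apply [DecidableEq G] (x : G) :
    ∑ χ ∈ irrFinset G, χ 1 * χ x = if x = 1 then (Nat.card G : ℂ) else 0 := by
  rw [← leftRegular_character x, leftRegular_eq_sum, Finset.sum_apply]
  rfl

/-- The class multiplication formula. -/
theorem card_class_products (a b c : G) :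
    (Nat.card {p : G × G // IsConj a p.1 ∧ IsConj b p.2 ∧ p.1 * p.2 = c} : ℂ) =
      (Nat.card {x : G // IsConj a x} : ℂ) * (Nat.card {x : G // IsConj b x} : ℂ) /
        (Nat.card G : ℂ) * ∑ χ ∈ irrFinset G, χ a * χ b * conj (χ c) / χ 1 := by
  classical
  set A := Finset.univ.filter (fun x => IsConj a x)
  set B := Finset.univ.filter (fun x => IsConj b x)
  have h1 : (Nat.card {p : G × G // IsConj a p.1 ∧ IsConj b p.2 ∧ p.1 * p.2 = c} : ℂ) =
      ∑ x ∈ A, ∑ y ∈ B, if x * (y * c⁻¹) = 1 then (1 : ℂ) else 0 := by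
    rw [← Finset.sum_product', Finset.sum_boole, Nat.card_eq_fintype_card, Fintype.card_subtype]
    congr 2
    ext p
    simp only [A, B, Finset.mem_filter, Finset.mem_product, Finset.mem_univ, true_and, ← mul_assoc,
      mul_inv_eq_one, and_assoc]
  have hne : (Nat.card G : ℂ) ≠ 0 := by simp
  have h2 : ∀ x : G, (if x = 1 then (1 : ℂ) else 0) =
      (Nat.card G : ℂ)⁻¹ * ∑ χ ∈ irrFinset G, χ 1 * χ x := fun x => by
    rw [sum_degree_mul_apply]; split_ifs <;> simp
  rw [h1]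
  simp only [h2, Finset.mul_sum]
  rw [Finset.sum_comm]
  conv_lhs => rw [Finset.sum_congr rfl fun y _ => Finset.sum_comm, Finset.sum_comm]
  refine Finset.sum_congr rfl fun χ hχ => ?_
  rw [mem_irrFinset] at hχ
  simp only [← Finset.mul_sum, A, B, IsIrrCharacter.sum_class_apply_mul hχ]
  have h3 : ∀ s : Finset G, ∀ k : ℂ, ∑ y ∈ s, k * χ (y * c⁻¹) / χ 1 = k * (∑ y ∈ s, χ (y * c⁻¹)) / χ 1 :=
    fun s k => by rw [Finset.mul_sum, Finset.sum_div]
  rw [h3, IsIrrCharacter.sum_class_apply_mul hχ, IsIrrCharacter.apply_inv hχ c]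
  field_simp [IsIrrCharacter.apply_one_ne_zero hχ]

theorem IsIrrCharacter.sum_commutator_mul {χ : G → ℂ} (hχ : Cfsg.IsIrrCharacter G χ) (y : G) :
    ∑ a, ∑ b, χ (a * b * a⁻¹ * b⁻¹ * y) = (Nat.card G : ℂ) ^ 2 * χ y / χ 1 ^ 2 := by
  classical
  have hcl := IsIrrCharacter.isClassFunction hχ
  have hc := IsIrrCharacter.isCharacter hχ
  have hconj : ∀ a z : G, ∑ b, χ (b * a * b⁻¹ * z) = (Nat.card G : ℂ) * χ a * χ z / χ 1 := by
    intro a z
    obtain ⟨n, ρ, hρ, rfl⟩ := id hχ
    let A : Module.End ℂ (Fin n → ℂ) := ∑ b, ρ (b * a * b⁻¹)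
    have hA : A = (LinearMap.trace ℂ _ A / (Module.finrank ℂ (Fin n → ℂ) : ℂ)) • 1 := by
      refine eq_smul_one_of_commute ρ A fun g => ?_
      simp only [A, Finset.mul_sum, Finset.sum_mul, ← map_mul]
      refine Fintype.sum_equiv (Equiv.mulLeft g) _ _ fun b => ?_
      congr 1
      simp only [Equiv.coe_mulLeft]; group
    have htr : LinearMap.trace ℂ _ A = (Nat.card G : ℂ) * ρ.character a := by
      simp only [A, map_sum]
      change ∑ b, ρ.character (b * a * b⁻¹) = _
      rw [Finset.sum_congr rfl fun b _ => hcl a b, Finset.sum_const, Finset.card_univ, nsmul_eq_mul,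
        Nat.card_eq_fintype_card]
    have h := congrArg (fun B : Module.End ℂ (Fin n → ℂ) => LinearMap.trace ℂ _ (B * ρ z)) hA
    simp only [smul_mul_assoc, one_mul, map_smul, smul_eq_mul, htr] at h
    simp only [A, Finset.sum_mul, map_sum, ← map_mul] at h
    rw [ρ.char_one]
    simp only [Representation.character] at h ⊢
    rw [h]; ring
  have h1 : ∀ a : G, ∑ b, χ (a * b * a⁻¹ * b⁻¹ * y) =
      (Nat.card G : ℂ) / χ 1 * (χ a⁻¹ * χ (a * y)) := fun a => by
    rw [show χ (a * y) = χ (y * a) from IsCharacter.apply_mul_comm hc a y,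
      show (Nat.card G : ℂ) / χ 1 * (χ a⁻¹ * χ (y * a)) =
        (Nat.card G : ℂ) * χ a⁻¹ * χ (y * a) / χ 1 by ring, ← hconj]
    refine Finset.sum_congr rfl fun b _ => ?_
    rw [show a * b * a⁻¹ * b⁻¹ * y = a * ((b * a⁻¹ * b⁻¹) * y) by group,
      IsCharacter.apply_mul_comm hc a, ← mul_assoc]
  simp only [h1, ← Finset.mul_sum]
  rw [IsIrrCharacter.sum_mul_apply_mul hχ (θ := fun a => χ a⁻¹) ?_ y]
  · have h2 : ∑ a, χ a⁻¹ * χ a = (Nat.card G : ℂ) := by
      rw [← mul_one (Nat.card G : ℂ), ← IsIrrCharacter.classInner_self hχ,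
        ← sum_eq_card_mul_classInner]
      exact Finset.sum_congr rfl fun a _ => by rw [IsIrrCharacter.apply_inv hχ, mul_comm]
    rw [h2]; ring
  · intro g h
    simp only
    rw [show (h * g * h⁻¹)⁻¹ = h * g⁻¹ * h⁻¹ by group]
    exact hcl g⁻¹ h

/-- The number of ways of writing `g` as a commutator. -/
theorem card_commutator_pairs (g : G) :
    (Nat.card {p : G × G // g = p.1 * p.2 * p.1⁻¹ * p.2⁻¹} : ℂ) =
      (Nat.card G : ℂ) * conj (∑ χ ∈ irrFinset G, χ g / χ 1) := by
  classical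
  have hne : (Nat.card G : ℂ) ≠ 0 := by simp
  have h1 : (Nat.card {p : G × G // g = p.1 * p.2 * p.1⁻¹ * p.2⁻¹} : ℂ) =
      ∑ a, ∑ b, if a * b * a⁻¹ * b⁻¹ * g⁻¹ = 1 then (1 : ℂ) else 0 := by
    rw [← Finset.sum_product', Finset.sum_boole, Nat.card_eq_fintype_card, Fintype.card_subtype]
    congr 2
    ext p
    simp [mul_inv_eq_one, eq_comm]
  have h2 : ∀ x : G, (if x = 1 then (1 : ℂ) else 0) =
      (Nat.card G : ℂ)⁻¹ * ∑ χ ∈ irrFinset G, χ 1 * χ x := fun x => by
    rw [sum_degree_mul_apply]; split_ifs <;> simp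
  rw [h1]
  simp only [h2, map_sum, Finset.mul_sum]
  conv_lhs => rw [Finset.sum_congr rfl fun y _ => Finset.sum_comm, Finset.sum_comm]
  refine Finset.sum_congr rfl fun χ hχ => ?_
  rw [mem_irrFinset] at hχ
  obtain ⟨d, hd0, hd⟩ := IsIrrCharacter.exists_degree hχ
  simp only [← Finset.mul_sum, IsIrrCharacter.sum_commutator_mul hχ, IsIrrCharacter.apply_inv hχ,
    map_div₀, hd, Complex.conj_natCast]
  have : (d : ℂ) ≠ 0 := by exact_mod_cast hd0.ne'
  field_simp

theorem exists_commutator_iff (g : G) :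
    (∃ a b : G, g = a * b * a⁻¹ * b⁻¹) ↔ ∑ χ ∈ irrFinset G, χ g / χ 1 ≠ 0 := by
  have h := card_commutator_pairs g
  constructor
  · rintro ⟨a, b, hab⟩ h0
    rw [h0, map_zero, mul_zero, Nat.cast_eq_zero] at h
    have : Nonempty {p : G × G // g = p.1 * p.2 * p.1⁻¹ * p.2⁻¹} := ⟨⟨(a, b), hab⟩⟩
    exact Nat.card_pos.ne' h
  · intro h0
    by_contra hno
    have : IsEmpty {p : G × G // g = p.1 * p.2 * p.1⁻¹ * p.2⁻¹} :=
      ⟨fun p => hno ⟨p.1.1, p.1.2, p.2⟩⟩
    rw [Nat.card_of_isEmpty, Nat.cast_zero, zero_eq_mul] at h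
    exact h0 (by simpa using congrArg conj (h.resolve_left (by simp)))

end CfsgLib.Char
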