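import Mathlib.GroupTheory.GroupAction.Quotient
import Cfsg.Agent.Char.AlgInt
import Mathlib.Analysis.Complex.Basic

/-!
# Sums over free orbits
-/

set_option autoImplicit false

namespace CfsgLib.Char

universe u v

/-- The sum of an invariant family of algebraic integers over a set with a free action is a
multiple of the order of the group. -/
theorem sum_eq_card_mul_of_free {Q : Type u} [Group Q] [Finite Q] {X : Type v} [Fintype X]
    [MulAction Q X] (hfree : ∀ (q : Q) (x : X), q • x = x → q = 1) (f : X → ℂ)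
    (hint : ∀ x, IsIntegral ℤ (f x)) (hinv : ∀ (q : Q) (x : X), f (q • x) = f x) :
    ∃ w : ℂ, IsIntegral ℤ w ∧ ∑ x, f x = (Nat.card Q : ℂ) * w := by
  classical
  let Ω := Quotient (MulAction.orbitRel Q X)
  letI : Fintype Ω := Fintype.ofFinite Ω
  refine ⟨∑ ω : Ω, f ω.out, IsIntegral.sum _ fun ω _ => hint _, ?_⟩
  rw [← Finset.sum_fiberwise Finset.univ (fun x : X => (Quotient.mk _ x : Ω)), Finset.mul_sum]
  refine Finset.sum_congr rfl fun ω _ => ?_
  have hconst : ∀ x ∈ Finset.univ.filter (fun x : X => (Quotient.mk _ x : Ω) = ω),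
      f x = f ω.out := by
    intro x hx
    have h := (Finset.mem_filter.1 hx).2
    rw [← Quotient.out_eq ω] at h
    obtain ⟨q, hq⟩ := (Quotient.exact h : MulAction.orbitRel Q X x ω.out)
    rw [← hq, hinv]
  rw [Finset.sum_congr rfl hconst, Finset.sum_const, nsmul_eq_mul]
  congr 2
  rw [← Nat.card_eq_finsetCard]
  refine (Nat.card_congr (Equiv.ofBijective
    (fun q : Q => (⟨q • ω.out, Finset.mem_filter.2 ⟨Finset.mem_univ _, ?_⟩⟩ :
      {x // x ∈ Finset.univ.filter fun x : X => (Quotient.mk _ x : Ω) = ω})) ⟨?_, ?_⟩)).symm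
  · conv_rhs => rw [← Quotient.out_eq ω]
    exact Quotient.sound ⟨q, rfl⟩
  · intro a b hab
    have := congrArg Subtype.val hab
    simp only at this
    exact inv_mul_eq_one.1 (hfree _ _ (by rw [mul_smul, ← this, inv_smul_smul]))
  · rintro ⟨x, hx⟩
    have h := (Finset.mem_filter.1 hx).2
    rw [← Quotient.out_eq ω] at h
    obtain ⟨q, hq⟩ := (Quotient.exact h : MulAction.orbitRel Q X x ω.out)
    exact ⟨q, Subtype.ext hq⟩

end CfsgLib.Char
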