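import Cfsg.Agent.Char.CoherenceGlue
import Cfsg.Agent.Char.CoherenceNontrivialZ
import Cfsg.Agent.Char.FrobeniusTI
import Cfsg.Agent.Char.FeitCoherence
import Cfsg.Agent.Solvable.PGroupBasic
import Cfsg.Agent.S1523
import Cfsg.Prelude.Def_OddOrderLocal

/-!
# Coherence for Frobenius groups of odd order with a TI kernel
-/

set_option autoImplicit false
set_option linter.style.haveILetI false

namespace CfsgLib.Char

open scoped ComplexConjugate commutatorElement

universe u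

section Frobenius

variable {L : Type u} [Group L] [Fintype L] {K : Subgroup L} [hK : K.Normal]

/-- In a Frobenius group the quotient by the derived group of the kernel is again Frobenius. -/
theorem frob_mod_commutator
    (hC : ∀ a ∈ K, a ≠ 1 → Subgroup.centralizer ({a} : Set L) ≤ K) :
    ∀ k ∈ K, k ∉ ⁅K, K⁆ → ∀ x : L, x * k * x⁻¹ * k⁻¹ ∈ ⁅K, K⁆ → x ∈ K := by
  classical
  intro k hk hk' x hx
  set D := commutator K with hD
  let c : (K ⧸ D) →* (K ⧸ D) := QuotientGroup.map D D (MulAut.conjNormal x : K ≃* K).toMonoidHom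
    (Subgroup.Characteristic.fixed (inferInstance : D.Characteristic) (MulAut.conjNormal x)).ge
  have hcomm : ∀ a b : K ⧸ D, a * b = b * a := fun a b => by
    obtain ⟨a, rfl⟩ := QuotientGroup.mk'_surjective D a
    obtain ⟨b, rfl⟩ := QuotientGroup.mk'_surjective D b
    rw [← map_mul, ← map_mul, QuotientGroup.mk'_eq_mk']
    exact ⟨⁅b⁻¹, a⁻¹⁆, Subgroup.commutator_mem_commutator trivial trivial, by
      rw [commutatorElement_def]; group⟩
  let f : (K ⧸ D) →* (K ⧸ D) :=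
    { toFun := fun q => c q * q⁻¹
      map_one' := by simp
      map_mul' := fun a b => by
        rw [map_mul, mul_inv_rev]
        calc c a * c b * (b⁻¹ * a⁻¹) = c a * (c b * b⁻¹ * a⁻¹) := by group
          _ = c a * (a⁻¹ * (c b * b⁻¹)) := by rw [hcomm (c b * b⁻¹) a⁻¹]
          _ = _ := by group }
  have hmapD : D.map K.subtype = ⁅K, K⁆ := by
    rw [hD, commutator_def, Subgroup.map_commutator, ← MonoidHom.range_eq_map, Subgroup.range_subtype]
  have hfk : f (QuotientGroup.mk' D ⟨k, hk⟩) = 1 := by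
    show QuotientGroup.mk' D (MulAut.conjNormal x ⟨k, hk⟩) * (QuotientGroup.mk' D ⟨k, hk⟩)⁻¹ = 1
    rw [← map_inv, ← map_mul]
    refine (QuotientGroup.eq_one_iff (N := D) _).2 ?_
    rw [← Subgroup.mem_map_iff_mem K.subtype_injective, hmapD]
    simpa using hx
  have hk1 : QuotientGroup.mk' D ⟨k, hk⟩ ≠ 1 := fun h => hk' (by
    have h1 := Subgroup.mem_map_of_mem K.subtype ((QuotientGroup.eq_one_iff (N := D) _).1 h)
    rwa [hmapD] at h1)
  haveI : f.range.Normal := ⟨fun a ha g => by rwa [hcomm g a, mul_inv_cancel_right]⟩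
  obtain ⟨g, hg⟩ : ∃ g : K ⧸ D, g ∉ f.range := by
    by_contra hall
    push Not at hall
    have hinj := Finite.injective_iff_surjective.2 (MonoidHom.range_eq_top.1 (eq_top_iff.2 fun a _ => hall a))
    exact hk1 (hinj (hfk.trans (map_one f).symm))
  have hgc : QuotientGroup.mk' f.range g ∉ commutator ((K ⧸ D) ⧸ f.range) := by
    rw [show commutator ((K ⧸ D) ⧸ f.range) = ⊥ from ?_, Subgroup.mem_bot]
    · exact fun h => hg ((QuotientGroup.eq_one_iff g).1 h)
    · rw [commutator_def, Subgroup.commutator_eq_bot_iff_le_centralizer]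
      intro a _
      rw [Subgroup.mem_centralizer_iff]
      rintro b -
      obtain ⟨a, rfl⟩ := QuotientGroup.mk'_surjective f.range a
      obtain ⟨b, rfl⟩ := QuotientGroup.mk'_surjective f.range b
      rw [← map_mul, ← map_mul, hcomm]
  obtain ⟨lam, hlam⟩ := exists_hom_ne_one hgc
  set μ : K →* ℂˣ := (lam.comp (QuotientGroup.mk' f.range)).comp (QuotientGroup.mk' D) with hμ
  refine inertia_le_of_centralizer_le hC (isIrrCharacter_ofHom μ) (fun h => hlam ?_)
    ((mem_inertia _ x).2 ?_)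
  · obtain ⟨y, rfl⟩ := QuotientGroup.mk'_surjective D g
    exact Units.ext (congrFun h y)
  · rw [conjOn_eq_comp]
    funext y
    show ((μ (MulAut.conjNormal x y) : ℂˣ) : ℂ) = ((μ y : ℂˣ) : ℂ)
    congr 1
    have h1 : QuotientGroup.mk' f.range (f (QuotientGroup.mk' D y)) = 1 :=
      (QuotientGroup.eq_one_iff _).2 ⟨_, rfl⟩
    change QuotientGroup.mk' f.range
      (QuotientGroup.mk' D (MulAut.conjNormal x y) * (QuotientGroup.mk' D y)⁻¹) = 1 at h1
    rw [map_mul, map_inv, mul_inv_eq_one] at h1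
    show lam _ = lam _
    exact congrArg lam h1

/-- The induced non-principal characters are the characters not trivial on the kernel. -/
theorem inducedIrrAbove_bot_eq {N : Type u} [Group N] [Fintype N] {A : Subgroup N} [A.Normal]
    (hC : ∀ a ∈ A, a ≠ 1 → Subgroup.centralizer ({a} : Set N) ≤ A) :
    Cfsg.inducedIrrAbove A ⊥ = {χ | Cfsg.IsIrrCharacter N χ ∧ ∃ a ∈ A, χ a ≠ χ 1} := by
  classical
  ext χ
  constructor
  · rintro ⟨θ, h1, h2, -, rfl⟩
    exact ⟨isIrrCharacter_indFun_of_centralizer_le hC h1 h2, frob_indFun_relevant hC h1 h2⟩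
  · rintro ⟨h1, h2⟩
    obtain ⟨θ, h3, h4, rfl⟩ := exists_indFun_eq_of_centralizer_le hC h1 h2
    exact ⟨θ, h3, h4, fun a ha => by rw [show a = 1 from Subtype.ext (Subgroup.mem_bot.1 ha)], rfl⟩

end Frobenius

variable {G : Type u} [Group G] [Fintype G] {H L : Subgroup G} [Fintype L]

/-- Induction from the normaliser is an isometry on the functions induced from a TI kernel. -/
theorem indFun_TI_isometry [(H.subgroupOf L).Normal]
    (hT : ∀ g : G, g ∉ L → ∀ t ∈ (H : Set G), g * t * g⁻¹ ∈ (H : Set G) → t = 1) :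
    Cfsg.IsLinearIsometryOn
      (Cfsg.zspanOn (Cfsg.inducedIrrAbove (H.subgroupOf L) ⊥) ({1}ᶜ : Set L))
      (fun α : L → ℂ => Cfsg.indFun L α) ∧
      ∀ α ∈ Cfsg.zspanOn (Cfsg.inducedIrrAbove (H.subgroupOf L) ⊥) ({1}ᶜ : Set L),
        Cfsg.indFun L α 1 = 0 := by
  classical
  have hspan : ∀ α ∈ Cfsg.zspan (Cfsg.inducedIrrAbove (H.subgroupOf L) ⊥),
      Cfsg.IsGeneralizedCharacter L α ∧ ∀ x : L, (x : G) ∉ (H : Set G) → α x = 0 := by
    intro α hα
    induction hα using Submodule.span_induction with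
    | mem φ hφ =>
      obtain ⟨θ, h1, -, -, rfl⟩ := hφ
      exact ⟨IsGeneralized.indFun (IsIrrCharacter.isGeneralized h1), fun x hx =>
        indFun_eq_zero_of_normal θ hx⟩
    | zero => exact ⟨isGeneralized_zero, fun _ _ => rfl⟩
    | add a b _ _ h1 h2 => exact ⟨IsGeneralized.add h1.1 h2.1, fun x hx => by
        rw [Pi.add_apply, h1.2 x hx, h2.2 x hx, add_zero]⟩
    | smul n a _ h => exact ⟨IsGeneralized.zsmul h.1 n, fun x hx => by
        rw [Pi.smul_apply, h.2 x hx, smul_zero]⟩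
  refine ⟨⟨fun α _ β _ => indFun_add α β, fun α _ n => ?_, fun α hα β hβ => ?_,
    fun α hα => IsGeneralized.indFun (hspan α hα.1).1⟩, fun α hα => ?_⟩
  · simp only [← Int.cast_smul_eq_zsmul ℂ, indFun_smul]
  · exact classInner_indFun_TI hT (IsGeneralized.isClassFunction (hspan β hβ.1).1)
      (hspan α hα.1).2 (hspan β hβ.1).2 (mem_zspanOn_one.1 hα).2
  · rw [indFun_one, (mem_zspanOn_one.1 hα).2, mul_zero]

/-- Coherence for a Frobenius group of odd order whose kernel is a TI subgroup with that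
normaliser. -/
theorem coherent_odd_frobenius_TI (hodd : Odd (Nat.card L)) (hHL : H < L) (hH1 : H ≠ ⊥)
    (hnil : Group.IsNilpotent H) (hHn : ∀ x ∈ L, ∀ h ∈ H, x * h * x⁻¹ ∈ H)
    (hC : ∀ a ∈ H, a ≠ 1 → L ⊓ Subgroup.centralizer ({a} : Set G) ≤ H)
    (hTI : Cfsg.IsTISubset (H : Set G)) (hN : Subgroup.normalizer (H : Set G) = L) :
    Cfsg.IsCoherent (Cfsg.inducedIrrAbove (H.subgroupOf L) ⊥) {1}ᶜ
      (fun α : L → ℂ => Cfsg.indFun L α) := by
  classical
  set K := H.subgroupOf L with hKdef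
  haveI hKn : K.Normal := ⟨fun a ha g => by
    rw [hKdef, Subgroup.mem_subgroupOf] at ha ⊢
    simpa using hHn g g.2 _ ha⟩
  have hT : ∀ g : G, g ∉ L → ∀ t ∈ (H : Set G), g * t * g⁻¹ ∈ (H : Set G) → t = 1 :=
    fun g hg => hTI g (by rw [hN]; exact hg)
  have hCK : ∀ a ∈ K, a ≠ 1 → Subgroup.centralizer ({a} : Set L) ≤ K := fun a ha ha1 x hx => by
    refine hC a ha (fun h => ha1 (Subtype.ext h)) ⟨x.2, ?_⟩
    rw [Subgroup.mem_centralizer_singleton_iff] at hx
    exact Subgroup.mem_centralizer_singleton_iff.2 (congrArg Subtype.val hx)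
  have hKL : K < ⊤ := lt_top_iff_ne_top.2 fun h => hHL.not_ge (Subgroup.subgroupOf_eq_top.1 h)
  haveI hnilK : Group.IsNilpotent K :=
    @Group.nilpotent_of_mulEquiv _ _ _ _ hnil (Subgroup.subgroupOfEquivOfLe hHL.le).symm
  have hsolv : Group.IsSolvable K := inferInstance
  haveI : Nontrivial K := (Subgroup.subgroupOfEquivOfLe hHL.le).toEquiv.nontrivial_congr.2
    ((Subgroup.nontrivial_iff_ne_bot H).2 hH1)
  have hmapD : (commutator K).map K.subtype = ⁅K, K⁆ := by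
    rw [commutator_def, Subgroup.map_commutator, ← MonoidHom.range_eq_map, Subgroup.range_subtype]
  have hH₁K : ⁅K, K⁆ < K := by
    rw [← hmapD]
    refine lt_of_le_of_ne (Subgroup.map_subtype_le _) fun h => ?_
    refine (Group.IsSolvable.commutator_lt_top_of_nontrivial K).ne ?_
    refine Subgroup.map_injective K.subtype_injective ?_
    rw [h, ← MonoidHom.range_eq_map, Subgroup.range_subtype]
  have hfrob := frob_mod_commutator hCK
  set τ : (L → ℂ) → G → ℂ := fun α => Cfsg.indFun L α with hτdef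
  set S := Cfsg.inducedIrrAbove K ⊥ with hSdef
  obtain ⟨hτ, hτ1⟩ := indFun_TI_isometry hT
  have hirrS : ∀ φ ∈ S, Cfsg.IsIrrCharacter L φ := fun φ hφ => by
    obtain ⟨θ, h1, h2, -, rfl⟩ := hφ
    exact isIrrCharacter_indFun_of_centralizer_le hCK h1 h2
  have hneS : ∀ φ ∈ S, Cfsg.conjFun φ ≠ φ := fun φ hφ h => by
    obtain ⟨θ, h1, h2, -, rfl⟩ := id hφ
    have h0 : Cfsg.classInner (Cfsg.conjFun (Cfsg.indFun K θ)) (Cfsg.indFun K θ) = 0 :=
      classInner_conj_indFun_eq_zero hodd h1 h2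
    rw [h, IsIrrCharacter.classInner_self (hirrS _ hφ)] at h0
    exact one_ne_zero h0
  obtain ⟨ψ₁, hψ₁, hψ₁d⟩ := exists_linear_aboveInd (L := L) (K := K) (A := ⁅K, K⁆) hsolv hH₁K
  obtain ⟨R, hS⟩ := exists_coherenceSystem S
    ⟨ψ₁, inducedIrrAbove_subset_bot K _ (mem_aboveInd.1 hψ₁)⟩ hirrS
    (fun φ hφ => ⟨conjFun_mem_inducedIrrAbove hφ, hneS φ hφ⟩) (τ := τ) hτ hτ1
  haveI : Group.IsNilpotent (↥K ⧸ (⊥ : Subgroup L).subgroupOf K) := inferInstance
  by_cases hgood : (¬ ∃ p m : ℕ, p.Prime ∧ (⊥ : Subgroup L).relIndex K = p ^ m) ∨ ⁅K, K⁆ ≤ ⊥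
  · refine coherent_odd_nilpotent hsolv hS hodd ⊥ bot_le inferInstance ⁅K, K⁆ (sup_bot_eq _).symm
      hH₁K hKL hfrob ?_
    rcases hgood with h | h
    · exact Or.inr (Or.inr (Or.inl h))
    · exact Or.inr (Or.inr (Or.inr (Or.inl h)))
  rw [not_or, not_not] at hgood
  obtain ⟨⟨p, j, hp, hpj⟩, hnab⟩ := hgood
  rw [Subgroup.relIndex_bot_left] at hpj
  haveI : Fact p.Prime := ⟨hp⟩
  have hpg : IsPGroup p K := IsPGroup.of_card hpj
  set l := K.index with hldef
  have hl0 : 0 < l := Nat.pos_of_ne_zero K.index_ne_zero_of_finite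
  have hcardL : Nat.card K * l = Nat.card L := K.card_mul_index
  have hj : j ≠ 0 := fun h => by
    rw [h, pow_zero] at hpj
    exact (Finite.one_lt_card (α := K)).ne' hpj
  -- `H` is a Sylow subgroup of `G`
  have hcardH : Nat.card H = p ^ j := by
    rw [← hpj]; exact Nat.card_congr (Subgroup.subgroupOfEquivOfLe hHL.le).symm.toEquiv
  have hnd : ¬ p ∣ H.index := by
    intro hd
    have h1 : p ^ (j + 1) ∣ Nat.card G := by
      rw [← H.card_mul_index, hcardH, pow_succ]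
      exact mul_dvd_mul_left _ hd
    have h2 := Sylow.prime_dvd_card_quotient_normalizer h1 hcardH
    rw [← Subgroup.index_eq_card] at h2
    have h3 : p ∣ H.relIndex (Subgroup.normalizer (H : Set G)) := h2
    rw [hN] at h3
    exact hp.one_lt.ne' (Nat.eq_one_of_dvd_coprimes (frob_card_coprime_index hCK).2
      (hpj ▸ dvd_pow_self p hj) h3)
  set P : Sylow p G := (IsPGroup.of_card hcardH).toSylow hnd with hPdef
  -- the central subgroup
  set Z : Subgroup L := (commutator K ⊓ Subgroup.center K).map K.subtype with hZdef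
  haveI hZnorm : Z.Normal := by
    haveI : (commutator K ⊓ Subgroup.center K).Characteristic :=
      Subgroup.characteristic_iff_map_eq.2 fun e => by
        rw [Subgroup.map_inf _ _ _ e.injective,
          Subgroup.characteristic_iff_map_eq.1 inferInstance e,
          Subgroup.characteristic_iff_map_eq.1 inferInstance e]
    exact ConjAct.normal_of_characteristic_of_normal
  have hcne : commutator K ≠ ⊥ := fun h => hnab (by rw [← hmapD, h, Subgroup.map_bot])
  have hZ1 : Z ≠ ⊥ := fun h => CfsgLib.PGroupBasic.inf_center_ne_bot (commutator K) hcne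
    ((Subgroup.map_eq_bot_iff_of_injective _ K.subtype_injective).1 h)
  have hZD : Z ≤ ⁅K, K⁆ := hmapD ▸ Subgroup.map_mono inf_le_left
  have hZK : Z ≤ K := Subgroup.map_subtype_le _
  have hZc : ∀ z ∈ Z, ∀ k ∈ K, z * k = k * z := by
    rintro _ ⟨z, hz, rfl⟩ k hk
    exact congrArg Subtype.val (Subgroup.mem_center_iff.1 hz.2 ⟨k, hk⟩).symm
  -- the two coherent pieces
  have hirrX : ∀ χ ∈ S \ Cfsg.inducedIrrAbove K Z, Cfsg.IsIrrCharacter L χ := fun χ h => hirrS χ h.1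
  have hcohX := coherent_nontrivial_central hsolv hS hodd hnilK hH₁K hKL hfrob Z hZ1 hZK hZc hirrX
  have hXset := inducedIrrAbove_sdiff_eq (K := K) hZK hirrX
  have hcohY := coherent_above_commutator hsolv hS ⁅K, K⁆ hH₁K le_rfl
  set X : Finset (L → ℂ) := aboveInd K ⊥ \ aboveInd K Z with hXdef
  set Y : Finset (L → ℂ) := aboveInd K ⁅K, K⁆ with hYdef
  have hXcoe : (↑X : Set (L → ℂ)) = S \ Cfsg.inducedIrrAbove K Z := by
    rw [hXdef, Finset.coe_sdiff, coe_aboveInd, coe_aboveInd]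
  have hYcoe : (↑Y : Set (L → ℂ)) = Cfsg.inducedIrrAbove K ⁅K, K⁆ := coe_aboveInd _ _
  have hXS : ↑X ⊆ S := hXcoe ▸ Set.sdiff_subset
  have hYS : ↑Y ⊆ S := hYcoe ▸ inducedIrrAbove_subset_bot K _
  rw [← hXcoe] at hcohX hXset
  rw [← hYcoe] at hcohY
  obtain ⟨-, σ, hσ, hσα⟩ := hcohX
  obtain ⟨-, τ₁, hτ₁, hτ₁α⟩ := hcohY
  have hYsub : Cfsg.inducedIrrAbove K ⁅K, K⁆ ⊆ Cfsg.inducedIrrAbove K Z :=
    inducedIrrAbove_anti (inf_le_left.trans hZD)
  have hXY : ∀ φ ∈ X, φ ∉ Y := fun φ hφ hφ' =>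
    (Finset.mem_sdiff.1 hφ).2 (mem_aboveInd.2 (hYsub (mem_aboveInd.1 hφ')))
  have hYc : ∀ φ ∈ Y, Cfsg.conjFun φ ∈ Y := fun φ hφ =>
    mem_aboveInd.2 (conjFun_mem_inducedIrrAbove (mem_aboveInd.1 hφ))
  have hXc : ∀ φ ∈ X, Cfsg.conjFun φ ∈ X := fun φ hφ => by
    rw [hXdef, Finset.mem_sdiff, mem_aboveInd, mem_aboveInd] at hφ ⊢
    exact ⟨conjFun_mem_inducedIrrAbove hφ.1, fun h => hφ.2 (by
      simpa [conjFun_conjFun] using conjFun_mem_inducedIrrAbove h)⟩
  have hdegY : ∀ φ ∈ Y, cdeg φ = l := fun φ hφ => by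
    obtain ⟨θ, h1, h2, h3, rfl⟩ := mem_aboveInd.1 hφ
    have hlin := IsIrrCharacter.apply_one_eq_one_of_commutators h1 fun a b =>
      h3 _ (Subgroup.commutator_mem_commutator a.2 b.2)
    rw [cdeg_indFun h1, show cdeg θ = 1 by simp [cdeg, hlin], mul_one]
  have hdegS : ∀ φ ∈ S, φ 1 = (cdeg φ : ℂ) := fun φ hφ => irr_apply_one_eq_cdeg (hirrS φ hφ)
  have hpdeg : ∀ φ ∈ S, ∃ i, cdeg φ = l * p ^ i := fun φ hφ => by
    obtain ⟨θ, h1, -, -, rfl⟩ := hφ
    obtain ⟨i, -, hi⟩ := (Nat.dvd_prime_pow hp).1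
      (hpj ▸ (cdeg_dvd_index_center h1).trans (Subgroup.index_dvd_card _))
    exact ⟨i, by rw [cdeg_indFun h1, hi]⟩
  have hXne : X.Nonempty := by
    obtain ⟨z, hz1⟩ := Subgroup.ne_bot_iff_exists_ne_one.1 hZ1
    have hsep : ∃ χ, Cfsg.IsIrrCharacter L χ ∧ χ z ≠ χ 1 := by
      by_contra h
      push Not at h
      exact hz1 (Subtype.ext (isConj_one_left.1 ((isConj_iff_irr_eq (z : L) 1).2 h)))
    obtain ⟨χ, hχ, hne⟩ := hsep
    exact ⟨χ, Finset.mem_coe.1 (by rw [hXset]; exact ⟨hχ, z, z.2, hne⟩)⟩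
  obtain ⟨x₀, hx₀, hxmin⟩ := Finset.exists_min_image X cdeg hXne
  obtain ⟨i₀, hi₀⟩ := hpdeg x₀ (hXS hx₀)
  set a := p ^ i₀ with hadef
  have ha : 0 < a := pow_pos hp.pos _
  let m : (L → ℂ) → ℕ := fun φ => cdeg φ / cdeg x₀
  have hm : ∀ φ ∈ X, φ 1 = m φ * x₀ 1 := fun φ hφ => by
    rw [hdegS φ (hXS hφ), hdegS x₀ (hXS hx₀), ← Nat.cast_mul, Nat.cast_inj]
    refine (Nat.div_mul_cancel ?_).symm
    obtain ⟨i, hi⟩ := hpdeg φ (hXS hφ)
    have h1 := hxmin φ hφ
    rw [hi, hi₀] at h1 ⊢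
    exact Nat.mul_dvd_mul_left _ (pow_dvd_pow p
      ((Nat.pow_le_pow_iff_right hp.one_lt).1 (Nat.le_of_mul_le_mul_left h1 hl0)))
  have hy₁ : ∀ φ ∈ Y, φ 1 = (l : ℂ) := fun φ hφ => by rw [hdegS φ (hYS hφ), hdegY φ hφ]
  have hxa : x₀ 1 = (a : ℂ) * (l : ℂ) := by
    rw [hdegS x₀ (hXS hx₀), hi₀, Nat.cast_mul, mul_comm]
  -- the divisibility
  have hdiv : ∃ k : ℤ, Cfsg.classInner (τ (x₀ - (a : ℤ) • ψ₁)) (τ₁ ψ₁) = ((a : ℤ) * k : ℤ) := by
    obtain ⟨horth, -⟩ := coherence_union hirrS hXS hYS (Set.disjoint_left.2 hXY)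
      ⟨x₀, hx₀, _, hXc x₀ hx₀, Ne.symm (hneS x₀ (hXS hx₀))⟩
      ⟨ψ₁, hψ₁, _, hYc ψ₁ hψ₁, Ne.symm (hneS ψ₁ (hYS hψ₁))⟩ hτ hτ1 hσ hσα hτ₁ hτ₁α
    set ψ := τ₁ ψ₁ with hψdef
    have hψg : Cfsg.IsGeneralizedCharacter G ψ := hτ₁.2.2.2 _ (subset_zspan hψ₁)
    have hψc := IsGeneralized.isClassFunction hψg
    set ψL : L → ℂ := fun x => ψ x with hψLdef
    have hψLc : Cfsg.IsClassFunction L ψL := fun x y => hψc x y
    have hψLg : Cfsg.IsGeneralizedCharacter L ψL := IsGeneralized.restrict hψg L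
    obtain ⟨C, hC0⟩ := IsGeneralized.exists_classInner_eq_int hψLg
      (IsIrrCharacter.isGeneralized (hirrS x₀ (hXS hx₀)))
    have hcoef : ∀ φ ∈ X, Cfsg.classInner ψL φ = (m φ : ℂ) * C := by
      intro φ hφ
      have hmem : φ - (m φ : ℤ) • x₀ ∈ Cfsg.zspanOn (↑X : Set (L → ℂ)) ({1}ᶜ : Set L) :=
        mem_zspanOn_one.2 ⟨Submodule.sub_mem _ (subset_zspan hφ)
          (Submodule.smul_mem _ _ (subset_zspan hx₀)), by
          rw [Pi.sub_apply, Pi.smul_apply, hm φ hφ, zsmul_eq_mul, Int.cast_natCast, sub_self]⟩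
      have h := classInner_indFun_right (H := L) hψc (φ - (m φ : ℤ) • x₀)
      rw [show Cfsg.indFun L (φ - (m φ : ℤ) • x₀) = σ φ - (m φ : ℤ) • σ x₀ by
        rw [← hσ.2.1 _ (subset_zspan hx₀), ← isometry_map_sub (M := Submodule.span ℤ (↑X : Set (L → ℂ)))
          hσ (subset_zspan hφ) (Submodule.smul_mem _ _ (subset_zspan hx₀)), hσα _ hmem]] at h
      simp only [← Int.cast_smul_eq_zsmul ℂ, classInner_sub_right, classInner_smul_right,
        map_intCast, Int.cast_natCast, map_natCast] at h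
      rw [← classInner_conj (σ φ) ψ, horth φ hφ ψ₁ hψ₁, ← classInner_conj (σ x₀) ψ,
        horth x₀ hx₀ ψ₁ hψ₁] at h
      simp only [map_zero, mul_zero, sub_zero] at h
      rw [← hC0]
      exact sub_eq_zero.1 h.symm
    have hdrop : ∀ z : L, z ∈ Z → z ≠ 1 →
        (a : ℂ) * (ψL 1 - ψL z) = (C : ℂ) * (Nat.card K : ℂ) := by
      intro z hz hz1
      have htriv : ∀ φ ∈ irrFinset L, φ ∉ X → φ z = φ 1 := fun φ hφ hn => by
        by_contra hne
        exact hn (Finset.mem_coe.1 (by rw [hXset]; exact ⟨mem_irrFinset.1 hφ, z, hz, hne⟩))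
      have hsub : X ⊆ irrFinset L := fun φ hφ => mem_irrFinset.2 (hirrS φ (hXS hφ))
      have e1 := congrFun (eq_sum_irr hψLc) 1
      have e2 := congrFun (eq_sum_irr hψLc) z
      simp only [Finset.sum_apply, Pi.smul_apply, smul_eq_mul] at e1 e2
      have r1 := congrFun (leftRegular_eq_sum (G := L)) 1
      have r2 := congrFun (leftRegular_eq_sum (G := L)) z
      rw [leftRegular_character, Finset.sum_apply] at r1 r2
      rw [if_pos rfl] at r1
      rw [if_neg hz1] at r2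
      simp only [Pi.smul_apply, smul_eq_mul] at r1 r2
      have hreg : ∑ φ ∈ X, φ 1 * (φ 1 - φ z) = (Nat.card L : ℂ) := by
        rw [Finset.sum_subset hsub fun φ hφ hn => by rw [htriv φ hφ hn, sub_self, mul_zero]]
        simp only [mul_sub, Finset.sum_sub_distrib]
        rw [← r1, ← r2, sub_zero, Nat.card_eq_fintype_card]
      have hψe : ψL 1 - ψL z = ∑ φ ∈ X, (m φ : ℂ) * C * (φ 1 - φ z) := by
        rw [e1, e2, ← Finset.sum_sub_distrib, ← Finset.sum_subset hsub fun φ hφ hn => by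
          rw [htriv φ hφ hn, sub_self]]
        exact Finset.sum_congr rfl fun φ hφ => by rw [hcoef φ hφ]; ring
      have h1 : x₀ 1 * (ψL 1 - ψL z) = (C : ℂ) * (Nat.card L : ℂ) := by
        rw [hψe, ← hreg, Finset.mul_sum, Finset.mul_sum]
        exact Finset.sum_congr rfl fun φ hφ => by rw [hm φ hφ]; ring
      rw [hxa, ← hcardL, Nat.cast_mul] at h1
      have hlC : (l : ℂ) ≠ 0 := Nat.cast_ne_zero.2 hl0.ne'
      exact mul_left_cancel₀ hlC (by linear_combination h1)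
    have hψirr := IsGeneralized.isIrr_or_neg hψg (by
      rw [hψdef, hτ₁.2.2.1 _ (subset_zspan hψ₁) _ (subset_zspan hψ₁),
        IsIrrCharacter.classInner_self (hirrS ψ₁ (hYS hψ₁))])
    obtain ⟨ε, hε, ψ', hψ', hψε⟩ : ∃ ε : ℤ, (ε = 1 ∨ ε = -1) ∧ ∃ ψ' : G → ℂ,
        Cfsg.IsIrrCharacter G ψ' ∧ ∀ g, ψ g = (ε : ℂ) * ψ' g := by
      rcases hψirr with h | h
      · exact ⟨1, Or.inl rfl, ψ, h, fun g => by simp⟩
      · exact ⟨-1, Or.inr rfl, -ψ, h, fun g => by simp⟩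
    have hε0 : (ε : ℂ) ≠ 0 := by rcases hε with rfl | rfl <;> simp
    set Zg : Subgroup G := Z.map L.subtype with hZgdef
    have hZgH : Zg ≤ H := by
      rintro _ ⟨z, hz, rfl⟩
      exact hZK hz
    obtain ⟨z, hz⟩ := Subgroup.ne_bot_iff_exists_ne_one.1 hZ1
    have hz1 : (z : L) ≠ 1 := fun h => hz (Subtype.ext h)
    have hPeq : ((P : Subgroup G) : Set G) = (H : Set G) := rfl
    have hcent : ∀ w ∈ Zg, w ≠ 1 →
        Subgroup.normalizer ((P : Subgroup G) : Set G) ⊓ Subgroup.centralizer ({w} : Set G) = H := by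
      intro w hw hw1
      rw [hPeq, hN]
      refine le_antisymm (hC w (hZgH hw) hw1) fun h hh => ⟨hHL.le hh, ?_⟩
      obtain ⟨y, hy, rfl⟩ := hw
      refine Subgroup.mem_centralizer_singleton_iff.2 ?_
      exact congrArg Subtype.val (hZc y hy ⟨h, hHL.le hh⟩ hh).symm
    obtain ⟨n, d, hn, hd, t, ht⟩ := Cfsg.Agent.S1523.result p P
      (by rw [hPeq]; exact hTI) (by rw [hPeq, hN]; exact hodd) Zg
      (fun h => hZ1 ((Subgroup.map_eq_bot_iff_of_injective _ L.subtype_injective).1 h)) hZgH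
      (fun x hx w hw => by
        rw [hPeq, hN] at hx
        obtain ⟨y, hy, rfl⟩ := hw
        exact ⟨_, hZnorm.conj_mem y hy ⟨x, hx⟩, rfl⟩)
      (fun w hw h hh => by
        obtain ⟨y, hy, rfl⟩ := hw
        exact congrArg Subtype.val (hZc y hy ⟨h, hHL.le hh⟩ hh))
      (fun w hw w' hw' h h' => by rw [hcent w hw h, hcent w' hw' h'])
      ψ' hψ' (fun w hw w' hw' h h' => by
        obtain ⟨y, hy, rfl⟩ := hw
        obtain ⟨y', hy', rfl⟩ := hw'
        refine mul_left_cancel₀ hε0 ?_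
        rw [← hψε, ← hψε]
        have e1 := hdrop y hy fun e => h (by rw [e]; rfl)
        have e2 := hdrop y' hy' fun e => h' (by rw [e]; rfl)
        have e3 := mul_left_cancel₀ (Nat.cast_ne_zero.2 ha.ne' : (a : ℂ) ≠ 0) (e1.trans e2.symm)
        exact sub_right_injective e3)
      ((z : L) : G) (Subgroup.mem_map_of_mem _ z.2) fun h => hz1 (Subtype.ext h)
    rw [show Nat.card (P : Subgroup G) = Nat.card K from
      Nat.card_congr (Subgroup.subgroupOfEquivOfLe hHL.le).symm.toEquiv] at ht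
    have hCeq : C = (a : ℤ) * (ε * t) := by
      have e := hdrop z z.2 hz1
      simp only [hψLdef, OneMemClass.coe_one] at e
      rw [hψε, hψε, hn, hd] at e
      have e' : (a : ℤ) * (ε * d - ε * n) = C * (Nat.card K : ℤ) := by exact_mod_cast e
      refine mul_right_cancel₀ (b := (Nat.card K : ℤ)) (by exact_mod_cast Nat.card_pos.ne') ?_
      rw [← e']
      linear_combination (a : ℤ) * ε * ht
    obtain ⟨i, hi⟩ := IsGeneralized.exists_classInner_eq_int hψLg
      (IsIrrCharacter.isGeneralized (hirrS ψ₁ (hYS hψ₁)))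
    refine ⟨ε * t - i, ?_⟩
    show Cfsg.classInner (Cfsg.indFun L (x₀ - (a : ℤ) • ψ₁)) ψ = _
    rw [classInner_indFun _ hψc, ← classInner_conj]
    simp only [← Int.cast_smul_eq_zsmul ℂ, classInner_sub_right, classInner_smul_right]
    rw [show (fun h : L => ψ h) = ψL from rfl, hC0, hi, hCeq]
    simp only [map_sub, map_mul, map_intCast, Int.cast_natCast, map_natCast]
    push_cast
    ring
  have hcohXY := coherence_glue hirrS hτ hτ1 X Y hXS hYS hXY hXc hYc hneS hx₀ hψ₁ ha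
    (by rw [hxa, hy₁ ψ₁ hψ₁]) m hm (fun φ hφ => by rw [hy₁ φ hφ, hy₁ ψ₁ hψ₁]) hσ hσα hτ₁ hτ₁α hdiv
  -- the rest of `S`
  rw [hSdef, ← coe_aboveInd]
  rw [← Finset.coe_union] at hcohXY
  refine coherent_grow hS (X ∪ Y) _ ?_ (coe_aboveInd K ⊥).le ?_
    (fun φ hφ => mem_aboveInd.2 (conjFun_mem_inducedIrrAbove (mem_aboveInd.1 hφ))) hcohXY
    (Finset.mem_union_right _ hψ₁) fun χ hχ hχn => ?_
  · refine Finset.union_subset Finset.sdiff_subset fun φ hφ => ?_
    exact mem_aboveInd.2 (inducedIrrAbove_subset_bot K _ (mem_aboveInd.1 hφ))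
  · intro φ hφ
    rcases Finset.mem_union.1 hφ with h | h
    · exact Finset.mem_union_left _ (hXc φ h)
    · exact Finset.mem_union_right _ (hYc φ h)
  have hχZ : χ ∈ aboveInd K Z := by
    by_contra h
    exact hχn (Finset.mem_union_left _ (Finset.mem_sdiff.2 ⟨hχ, h⟩))
  obtain ⟨θ, h1, h2, h3, rfl⟩ := mem_aboveInd.1 hχZ
  rw [hdegY ψ₁ hψ₁, cdeg_indFun h1]
  refine ⟨dvd_mul_right _ _, ?_⟩
  refine lt_of_lt_of_le ?_ (Finset.sum_le_sum_of_subset_of_nonneg
    (Finset.subset_union_left (s₁ := X) (s₂ := Y)) fun φ _ _ => by positivity)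
  have hsubZ : aboveInd K Z ⊆ aboveInd K ⊥ := fun φ hφ =>
    mem_aboveInd.2 (inducedIrrAbove_subset_bot K Z (mem_aboveInd.1 hφ))
  have hsum : ∑ φ ∈ X, (cdeg φ : ℝ) ^ 2 / (cnorm φ : ℝ) =
      (l : ℝ) * ((Nat.card K : ℝ) - 1) - (l : ℝ) * ((Z.relIndex K : ℝ) - 1) := by
    have e := sum_weight_aboveInd (K := K) (⊥ : Subgroup L)
    rw [← Finset.sum_sdiff hsubZ, sum_weight_aboveInd Z, Subgroup.relIndex_bot_left, ← hldef,
      ← hXdef] at e
    linarith
  set Q := Z.relIndex K with hQ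
  set d := cdeg θ with hdd
  have hd2 : d ^ 2 + 1 ≤ Q := by
    rw [hQ, ← sum_cdeg_sq_aboveChars (K := K) Z]
    exact Nat.add_le_add_right (Finset.single_le_sum (f := fun ψ => cdeg ψ ^ 2)
      (fun _ _ => Nat.zero_le _) (mem_aboveChars.2 ⟨h1, h2, h3⟩)) 1
  have hKQ : Nat.card K = Nat.card Z * Q := by
    rw [hQ, Subgroup.relIndex, ← Nat.card_congr (Subgroup.subgroupOfEquivOfLe hZK).toEquiv,
      Subgroup.card_mul_index]
  have hz2 : 2 * l + 1 ≤ Nat.card Z := by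
    obtain ⟨t, ht⟩ := index_dvd_card_sub_one_of_le K Z fun x hx hx1 => hCK x (hZK hx) hx1
    rw [← hldef] at ht
    have hzodd : Odd (Nat.card Z) := hodd.of_dvd_nat (Subgroup.card_subgroup_dvd_card Z)
    have hlodd : Odd l := hodd.of_dvd_nat (Subgroup.index_dvd_card K)
    have hz1 : 1 < Nat.card Z := by
      have h1 : Nat.card Z ≠ 1 := fun h => hZ1 (Subgroup.card_eq_one.1 h)
      have := Nat.card_pos (α := Z)
      omega
    have ht2 : 2 ≤ t := by
      by_contra hlt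
      obtain ⟨u, hu⟩ := hzodd
      obtain ⟨v, hv⟩ := hlodd
      have : t = 0 ∨ t = 1 := by omega
      rcases this with rfl | rfl
      · rw [Nat.mul_zero] at ht; omega
      · rw [Nat.mul_one] at ht; omega
    have := Nat.mul_le_mul_left l ht2
    omega
  rw [hsum, hKQ]
  have hfin : 2 * (l * d) * l + l * Q < l * (Nat.card Z * Q) := by
    have h1 : (2 * l + 1) * Q ≤ Nat.card Z * Q := Nat.mul_le_mul_right _ hz2
    have h2 : d < Q := lt_of_le_of_lt (Nat.le_self_pow (by norm_num) d) hd2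
    have h3 : 2 * l * d < 2 * l * Q := Nat.mul_lt_mul_of_pos_left h2 (by omega)
    calc 2 * (l * d) * l + l * Q = l * (2 * l * d + Q) := by ring
      _ < l * ((2 * l + 1) * Q) := Nat.mul_lt_mul_of_pos_left (by nlinarith) hl0
      _ ≤ l * (Nat.card Z * Q) := Nat.mul_le_mul_left _ h1
  have hfin' : ((2 * (l * d) * l + l * Q : ℕ) : ℝ) < ((l * (Nat.card Z * Q) : ℕ) : ℝ) := by
    exact_mod_cast hfin
  push_cast at hfin' ⊢
  linarith

end CfsgLib.Char
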