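import Mathlib.GroupTheory.Commutator.Basic
import Mathlib.GroupTheory.Subgroup.Center
import Mathlib.GroupTheory.Index
import Mathlib.FieldTheory.Finite.Basic
import Mathlib.Algebra.Ring.GeomSum
import Cfsg.Prelude.Def_OddOrderLocal
import Mathlib.Tactic.Group

/-!
# Elementary lemmas used in character arguments
-/

namespace CfsgLib.Char

open scoped commutatorElement

universe u v

theorem mul_pow_of_central_commutator {G : Type u} [Group G]
    (hG : commutator G ≤ Subgroup.center G) (x y : G) (n : ℕ) :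
    (x * y) ^ n = x ^ n * y ^ n * (y⁻¹ * x⁻¹ * y * x) ^ (n * (n - 1) / 2) := by
  set c := y⁻¹ * x⁻¹ * y * x with hc
  have hcen : ∀ g : G, Commute g c := fun g => by
    refine Subgroup.mem_center_iff.1 (hG ?_) g
    rw [show c = ⁅y⁻¹, x⁻¹⁆ by rw [hc, commutatorElement_def, inv_inv, inv_inv]]
    exact Subgroup.commutator_mem_commutator (Subgroup.mem_top _) (Subgroup.mem_top _)
  have h0 : y * x = x * y * c := by rw [hc]; group
  have h1 : ∀ m : ℕ, y ^ m * x = x * y ^ m * c ^ m := by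
    intro m
    induction m with
    | zero => simp
    | succ m ih =>
      calc y ^ (m + 1) * x = y ^ m * (y * x) := by rw [pow_succ, mul_assoc]
        _ = y ^ m * x * (y * c) := by rw [h0]; group
        _ = x * y ^ m * (c ^ m * y) * c := by rw [ih]; group
        _ = x * y ^ (m + 1) * c ^ (m + 1) := by rw [← ((hcen y).pow_right m).eq]; group
  induction n with
  | zero => simp
  | succ m ih =>
    have hexp : (m + 1) * (m + 1 - 1) / 2 = m + m * (m - 1) / 2 := by
      rw [Nat.add_sub_cancel, Nat.add_comm m, Nat.add_comm m, ← Nat.add_mul_div_left _ _ two_pos, Nat.add_comm 1 m]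
      congr 1
      rcases m with _ | k
      · rfl
      · rw [Nat.add_sub_cancel]; ring
    set e := m * (m - 1) / 2
    calc (x * y) ^ (m + 1) = x ^ m * y ^ m * (c ^ e * (x * y)) := by rw [pow_succ, ih]; group
      _ = x ^ m * (y ^ m * x) * y * c ^ e := by rw [← ((hcen (x * y)).pow_right e).eq]; group
      _ = x ^ m * (x * y ^ m) * (c ^ m * y) * c ^ e := by rw [h1]; group
      _ = x ^ m * (x * y ^ m) * y * c ^ m * c ^ e := by rw [← ((hcen y).pow_right m).eq]; group
      _ = _ := by rw [hexp, pow_add]; group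

theorem geom_prime_facts {p q : ℕ} (hp : p.Prime) (hq : q.Prime) (hp2 : p ≠ 2) (hq2 : q ≠ 2) :
    Odd ((p ^ q - 1) / (p - 1)) ∧ (p % q = 1 → q ∣ (p ^ q - 1) / (p - 1)) ∧
      (p % q ≠ 1 → Nat.Coprime ((p ^ q - 1) / (p - 1)) (p - 1) ∧
        ∀ x : ℕ, x ∣ (p ^ q - 1) / (p - 1) → x % q = 1) := by
  rw [← Nat.geomSum_eq hp.two_le q]
  set N := ∑ i ∈ Finset.range q, p ^ i
  have hpodd : Odd p := hp.odd_of_ne_two hp2
  have hqodd : Odd q := hq.odd_of_ne_two hq2
  have hNodd : Odd N := by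
    rw [Finset.odd_sum_iff_odd_card_odd]
    rw [show (Finset.range q).filter (fun i => Odd (p ^ i)) = Finset.range q from
      Finset.filter_true_of_mem fun i _ => hpodd.pow, Finset.card_range]
    exact hqodd
  have hmod : ∀ r : ℕ, p ≡ 1 [MOD r] → N ≡ q [MOD r] := fun r h => by
    rw [← ZMod.natCast_eq_natCast_iff] at h ⊢
    simp only [N, Nat.cast_sum, Nat.cast_pow, h]
    simp
  have hprime : p % q ≠ 1 → ∀ r : ℕ, r.Prime → r ∣ N → r % q = 1 ∧ ¬ p ≡ 1 [MOD r] := by
    intro hne r hr hrN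
    have hnot : ¬ p ≡ 1 [MOD r] := fun h => by
      have hrq : r ∣ q := Nat.modEq_zero_iff_dvd.1
        ((hmod r h).symm.trans (Nat.modEq_zero_iff_dvd.2 hrN))
      rw [(Nat.prime_dvd_prime_iff_eq hr hq).1 hrq] at h
      exact hne (Eq.trans h (Nat.mod_eq_of_lt hq.one_lt))
    refine ⟨?_, hnot⟩
    have : Fact r.Prime := ⟨hr⟩
    have hsum : (∑ i ∈ Finset.range q, (p : ZMod r) ^ i) = 0 := by
      have := (ZMod.natCast_eq_zero_iff N r).2 hrN
      simpa [N] using this
    have hpow : (p : ZMod r) ^ q = 1 := by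
      have := geom_sum_mul (p : ZMod r) q
      rw [hsum, zero_mul] at this
      exact sub_eq_zero.1 this.symm
    have hne1 : (p : ZMod r) ≠ 1 := fun h => hnot (by
      rw [← ZMod.natCast_eq_natCast_iff]; simpa using h)
    have : Fact q.Prime := ⟨hq⟩
    have hord : orderOf (p : ZMod r) = q := orderOf_eq_prime hpow hne1
    have hne0 : (p : ZMod r) ≠ 0 := fun h => by
      rw [h, zero_pow hq.ne_zero] at hpow
      exact zero_ne_one hpow
    have := ZMod.orderOf_dvd_card_sub_one hne0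
    rw [hord] at this
    obtain ⟨k, hk⟩ := this
    have hr1 := hr.one_lt
    rw [show r = q * k + 1 by omega, Nat.mul_add_mod, Nat.mod_eq_of_lt hq.one_lt]
  refine ⟨hNodd, fun h1 => ?_, fun hne => ⟨?_, fun x hx => ?_⟩⟩
  · exact Nat.modEq_zero_iff_dvd.1 ((hmod q (by rw [Nat.ModEq, h1, Nat.mod_eq_of_lt hq.one_lt])).trans
      (Nat.modEq_zero_iff_dvd.2 dvd_rfl))
  · refine Nat.coprime_of_dvd fun r hr hrN hr1 => (hprime hne r hr hrN).2 ?_
    exact ((Nat.modEq_iff_dvd' hp.one_le).2 hr1).symm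
  · induction x using Nat.recOnMul with
    | zero => exact absurd (zero_dvd_iff.1 hx) (Nat.ne_of_odd_add hNodd)
    | one => exact Nat.mod_eq_of_lt hq.one_lt
    | prime r hr => exact (hprime hne r hr hx).1
    | mul a b iha ihb =>
      rw [Nat.mul_mod, iha (dvd_of_mul_right_dvd hx), ihb (dvd_of_mul_left_dvd hx), mul_one,
        Nat.mod_eq_of_lt hq.one_lt]

/-- Banaschewski's lemma. -/
theorem exists_prime_dvd_of_one_notMem {S : Type u} [Finite S] [Nonempty S] (R : AddSubgroup (S → ℤ))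
    (hmul : ∀ f ∈ R, ∀ g ∈ R, f * g ∈ R) (h1 : (1 : S → ℤ) ∉ R) :
    ∃ (x : S) (p : ℕ), p.Prime ∧ ∀ f ∈ R, (p : ℤ) ∣ f x := by
  classical
  have := Fintype.ofFinite S
  by_contra! hno
  have hx : ∀ x : S, ∃ f ∈ R, f x = 1 := fun x => by
    obtain ⟨d, hd⟩ := Int.subgroup_cyclic (R.map (Pi.evalAddMonoidHom (fun _ : S => ℤ) x))
    have hdvd : ∀ f ∈ R, d ∣ f x := fun f hf => by
      have : f x ∈ R.map (Pi.evalAddMonoidHom (fun _ : S => ℤ) x) := ⟨f, hf, rfl⟩
      rw [hd, AddSubgroup.mem_closure_singleton] at this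
      obtain ⟨n, hn⟩ := this
      exact ⟨n, by rw [← hn, smul_eq_mul, mul_comm]⟩
    have hd1 : d.natAbs = 1 := by
      by_contra hne
      obtain ⟨p, hp, hpd⟩ := Nat.exists_prime_and_dvd hne
      obtain ⟨f, hf, hfx⟩ := hno x p hp
      exact hfx ((Int.natCast_dvd.2 hpd).trans (hdvd f hf))
    have : (1 : ℤ) ∈ R.map (Pi.evalAddMonoidHom (fun _ : S => ℤ) x) := by
      rw [hd, AddSubgroup.mem_closure_singleton]
      rcases Int.natAbs_eq d with h | h <;> rw [hd1] at h
      · exact ⟨1, by simp [h]⟩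
      · exact ⟨-1, by simp [h]⟩
    obtain ⟨f, hf, hfx⟩ := this
    exact ⟨f, hf, hfx⟩
  have : ∀ s : Finset S, ∃ f ∈ R, ∀ x ∈ s, f x = 1 := by
    intro s
    induction s using Finset.induction_on with
    | empty => exact ⟨0, R.zero_mem, by simp⟩
    | insert a t _ ih =>
      obtain ⟨f, hf, hft⟩ := ih
      obtain ⟨g, hg, hga⟩ := hx a
      refine ⟨f + g - f * g, R.sub_mem (R.add_mem hf hg) (hmul f hf g hg), fun x hx => ?_⟩
      rcases Finset.mem_insert.1 hx with rfl | hx
      · simp [hga]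
      · simp [hft x hx]
  obtain ⟨f, hf, hf1⟩ := this Finset.univ
  exact h1 ((funext fun x => hf1 x (Finset.mem_univ x) : f = 1) ▸ hf)

/-- The class equation of a partition by TI subgroups of pairwise coprime orders. -/
theorem card_sub_one_of_TI_cover {G : Type u} [Group G] [Finite G] {ι : Type v} [Fintype ι]
    (H : ι → Subgroup G) (hcop : ∀ i j, i ≠ j → Nat.Coprime (Nat.card (H i)) (Nat.card (H j)))
    (hTI : ∀ i, Cfsg.IsTISubset (H i : Set G))
    (hcover : ∀ g : G, g ≠ 1 → ∃ i, ∃ x : G, x * g * x⁻¹ ∈ H i) :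
    Nat.card G - 1 = ∑ i, (Subgroup.normalizer (H i : Set G)).index * (Nat.card (H i) - 1) := by
  classical
  have := Fintype.ofFinite G
  let T := Σ i, (G ⧸ Subgroup.normalizer (H i : Set G)) × {h : H i // h ≠ 1}
  let F : T → {g : G // g ≠ 1} := fun t =>
    ⟨t.2.1.out * (t.2.2.1 : G) * t.2.1.out⁻¹, fun h => t.2.2.2 (Subtype.ext (by simpa using h))⟩
  have hinj : Function.Injective F := by
    rintro ⟨i, q, h⟩ ⟨j, q', h'⟩ e
    have e' : q.out * (h.1 : G) * q.out⁻¹ = q'.out * (h'.1 : G) * q'.out⁻¹ := congrArg Subtype.val e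
    have hij : i = j := by
      by_contra hij
      have h1 : orderOf (h.1 : G) = orderOf (h'.1 : G) := by
        have h2 := congrArg orderOf e'
        have h3 : ∀ a b : G, orderOf (a * b * a⁻¹) = orderOf b := fun a b =>
          (MulAut.conj a).orderOf_eq b
        rwa [h3, h3] at h2
      have h2 : orderOf (h.1 : G) ∣ 1 := by
        rw [Nat.dvd_one]
        refine Nat.eq_one_of_dvd_coprimes (hcop i j hij) ?_ ?_
        · rw [Subgroup.orderOf_coe]; exact orderOf_dvd_natCard _
        · rw [h1, Subgroup.orderOf_coe]; exact orderOf_dvd_natCard _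
      exact h.2 (Subtype.ext (orderOf_eq_one_iff.1 (Nat.dvd_one.1 h2)))
    subst hij
    have hm : q'.out⁻¹ * q.out ∈ Subgroup.normalizer (H i : Set G) := by
      by_contra hn
      refine h.2 (Subtype.ext (hTI i _ hn _ h.1.2 ?_))
      rw [show q'.out⁻¹ * q.out * (h.1 : G) * (q'.out⁻¹ * q.out)⁻¹ = (h'.1 : G) by
        calc q'.out⁻¹ * q.out * (h.1 : G) * (q'.out⁻¹ * q.out)⁻¹
            = q'.out⁻¹ * (q.out * (h.1 : G) * q.out⁻¹) * q'.out := by group
          _ = _ := by rw [e']; group]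
      exact h'.1.2
    have hq : q = q' := by
      rw [← QuotientGroup.out_eq' q, ← QuotientGroup.out_eq' q', eq_comm, QuotientGroup.eq]
      exact hm
    subst hq
    have : h = h' := Subtype.ext (Subtype.ext (mul_left_cancel (mul_right_cancel e')))
    rw [this]
  have hsurj : Function.Surjective F := by
    rintro ⟨g, hg⟩
    obtain ⟨i, x, hx⟩ := hcover g hg
    let q : G ⧸ Subgroup.normalizer (H i : Set G) := QuotientGroup.mk x⁻¹
    obtain ⟨n, hn⟩ := QuotientGroup.mk_out_eq_mul (Subgroup.normalizer (H i : Set G)) x⁻¹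
    have hmem : (n : G)⁻¹ * (x * g * x⁻¹) * (n : G) ∈ H i := by
      have := (Subgroup.mem_normalizer_iff.1 (inv_mem n.2) (x * g * x⁻¹)).1 hx
      rwa [inv_inv] at this
    refine ⟨⟨i, q, ⟨⟨_, hmem⟩, fun h => hg ?_⟩⟩, Subtype.ext ?_⟩
    · have h' : (n : G)⁻¹ * (x * g * x⁻¹) * (n : G) = 1 := congrArg Subtype.val h
      have := congrArg (fun z => x⁻¹ * ((n : G) * z * (n : G)⁻¹) * x) h'
      simpa [mul_assoc] using this
    · change q.out * _ * q.out⁻¹ = g
      rw [hn]; group
  have key := Nat.card_congr (Equiv.ofBijective F ⟨hinj, hsurj⟩)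
  rw [Nat.card_sigma] at key
  have hG : Nat.card {g : G // g ≠ 1} = Nat.card G - 1 := by
    rw [Nat.card_eq_fintype_card, Fintype.card_subtype_compl, Nat.card_eq_fintype_card,
      Fintype.card_subtype_eq]
  rw [← hG, ← key]
  refine Finset.sum_congr rfl fun i _ => ?_
  have := Fintype.ofFinite (H i)
  rw [Nat.card_prod, Subgroup.index, Nat.card_eq_fintype_card (α := {h : H i // h ≠ 1}),
    Fintype.card_subtype_compl, Fintype.card_subtype_eq, ← Nat.card_eq_fintype_card]

end CfsgLib.Char
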