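import Mathlib.Data.Finset.Card
import Mathlib.Algebra.Group.Basic
import Mathlib.Data.Fintype.EquivFin
import Mathlib.Tactic.Push

/-!
# Grids of triples of signed points

The combinatorial core of the construction of the family of characters attached to a cyclic
trivial intersection subgroup.
-/

namespace CfsgLib.Char

variable {ι κ α : Type*} [DecidableEq α] [InvolutiveNeg α]

/-- Triples of signed points, meeting like the norm three parts of the induced functions. -/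
structure IsGrid (L : ι → κ → Finset α) : Prop where
  card : ∀ i j, (L i j).card = 3
  neg_not_mem : ∀ i j, ∀ x ∈ L i j, -x ∉ L i j
  row : ∀ i j k, j ≠ k → (∃ x, L i j ∩ L i k = {x}) ∧ ∀ x ∈ L i j, -x ∉ L i k
  col : ∀ i k j, i ≠ k → (∃ x, L i j ∩ L k j = {x}) ∧ ∀ x ∈ L i j, -x ∉ L k j
  cross : ∀ i k j l, i ≠ k → j ≠ l → (L i j ∩ L k l).card ≤ 1 ∧
    (L i j ∩ L k l).card = ((L i j).filter fun x => -x ∈ L k l).card

namespace IsGrid

variable {L : ι → κ → Finset α} (h : IsGrid L)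
include h

theorem swap : IsGrid (fun j i => L i j) :=
  ⟨fun j i => h.card i j, fun j i => h.neg_not_mem i j, fun j i k hik => h.col i k j hik,
    fun j l i hjl => h.row i j l hjl, fun j l i k hjl hik => h.cross i k j l hik hjl⟩

theorem card_le {i : ι} {j : κ} {s : Finset α} (hs : s ⊆ L i j) : s.card ≤ 3 :=
  (Finset.card_le_card hs).trans (h.card i j).le

theorem not_four {i : ι} {j : κ} {a b c d : α} (ha : a ∈ L i j) (hb : b ∈ L i j)
    (hc : c ∈ L i j) (hd : d ∈ L i j) (hab : a ≠ b) (hac : a ≠ c) (had : a ≠ d) (hbc : b ≠ c)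
    (hbd : b ≠ d) (hcd : c ≠ d) : False := by
  have h4 := h.card_le (s := {a, b, c, d}) (by
    intro x hx
    simp only [Finset.mem_insert, Finset.mem_singleton] at hx
    rcases hx with rfl | rfl | rfl | rfl <;> assumption)
  simp [hab, hac, had, hbc, hbd, hcd] at h4

theorem eq_triple {i : ι} {j : κ} {a b c : α} (ha : a ∈ L i j) (hb : b ∈ L i j) (hc : c ∈ L i j)
    (hab : a ≠ b) (hac : a ≠ c) (hbc : b ≠ c) {x : α} (hx : x ∈ L i j) : x = a ∨ x = b ∨ x = c := by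
  by_contra hne
  push Not at hne
  exact h.not_four ha hb hc hx hab hac (Ne.symm hne.1) hbc (Ne.symm hne.2.1) (Ne.symm hne.2.2)

theorem row_eq {i : ι} {j k : κ} (hjk : j ≠ k) {x y : α} (hx : x ∈ L i j) (hx' : x ∈ L i k)
    (hy : y ∈ L i j) (hy' : y ∈ L i k) : x = y := by
  obtain ⟨z, hz⟩ := (h.row i j k hjk).1
  have e : ∀ w, w ∈ L i j → w ∈ L i k → w = z := fun w hw hw' =>
    Finset.mem_singleton.1 (hz ▸ Finset.mem_inter.2 ⟨hw, hw'⟩)
  rw [e x hx hx', e y hy hy']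

theorem row_exists (i : ι) {j k : κ} (hjk : j ≠ k) : ∃ x, x ∈ L i j ∧ x ∈ L i k := by
  obtain ⟨z, hz⟩ := (h.row i j k hjk).1
  exact ⟨z, Finset.mem_inter.1 (hz.symm ▸ Finset.mem_singleton_self z)⟩

theorem row_opp {i : ι} {j k : κ} (hjk : j ≠ k) {x : α} (hx : x ∈ L i j) : -x ∉ L i k :=
  (h.row i j k hjk).2 x hx

theorem col_eq {i k : ι} {j : κ} (hik : i ≠ k) {x y : α} (hx : x ∈ L i j) (hx' : x ∈ L k j)
    (hy : y ∈ L i j) (hy' : y ∈ L k j) : x = y :=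
  h.swap.row_eq hik hx hx' hy hy'

theorem col_exists {i k : ι} (hik : i ≠ k) (j : κ) : ∃ x, x ∈ L i j ∧ x ∈ L k j :=
  h.swap.row_exists j hik

theorem col_opp {i k : ι} {j : κ} (hik : i ≠ k) {x : α} (hx : x ∈ L i j) : -x ∉ L k j :=
  h.swap.row_opp hik hx

theorem cross_eq {i k : ι} {j l : κ} (hik : i ≠ k) (hjl : j ≠ l) {x y : α} (hx : x ∈ L i j)
    (hx' : x ∈ L k l) (hy : y ∈ L i j) (hy' : y ∈ L k l) : x = y :=
  Finset.card_le_one.1 (h.cross i k j l hik hjl).1 x (Finset.mem_inter.2 ⟨hx, hx'⟩) y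
    (Finset.mem_inter.2 ⟨hy, hy'⟩)

theorem cross_opp {i k : ι} {j l : κ} (hik : i ≠ k) (hjl : j ≠ l) {x : α} (hx : x ∈ L i j)
    (hx' : x ∈ L k l) : ∃ y ∈ L i j, -y ∈ L k l ∧ y ≠ x := by
  have h1 : 0 < ((L i j).filter fun y => -y ∈ L k l).card := by
    rw [← (h.cross i k j l hik hjl).2]
    exact Finset.card_pos.2 ⟨x, Finset.mem_inter.2 ⟨hx, hx'⟩⟩
  obtain ⟨y, hy⟩ := Finset.card_pos.1 h1
  obtain ⟨hy1, hy2⟩ := Finset.mem_filter.1 hy
  exact ⟨y, hy1, hy2, fun e => h.neg_not_mem k l x hx' (e ▸ hy2)⟩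

theorem cross_same {i k : ι} {j l : κ} (hik : i ≠ k) (hjl : j ≠ l) {x : α} (hx : x ∈ L i j)
    (hx' : -x ∈ L k l) : ∃ y ∈ L i j, y ∈ L k l ∧ y ≠ x := by
  have h1 : 0 < (L i j ∩ L k l).card := by
    rw [(h.cross i k j l hik hjl).2]
    exact Finset.card_pos.2 ⟨x, Finset.mem_filter.2 ⟨hx, hx'⟩⟩
  obtain ⟨y, hy⟩ := Finset.card_pos.1 h1
  obtain ⟨hy1, hy2⟩ := Finset.mem_inter.1 hy
  exact ⟨y, hy1, hy2, fun e => h.neg_not_mem k l x (e ▸ hy2) hx'⟩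

theorem cross_opp_eq {i k : ι} {j l : κ} (hik : i ≠ k) (hjl : j ≠ l) {x y : α} (hx : x ∈ L i j)
    (hx' : -x ∈ L k l) (hy : y ∈ L i j) (hy' : -y ∈ L k l) : x = y := by
  refine Finset.card_le_one.1 ((h.cross i k j l hik hjl).2 ▸ (h.cross i k j l hik hjl).1) x ?_ y ?_
  · exact Finset.mem_filter.2 ⟨hx, hx'⟩
  · exact Finset.mem_filter.2 ⟨hy, hy'⟩

omit [DecidableEq α] [InvolutiveNeg α] h in
theorem exists_other {s : Finset α} (hs : s.card = 3) (a b : α) :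
    ∃ c ∈ s, c ≠ a ∧ c ≠ b := by
  classical
  by_contra hne
  push Not at hne
  have : s ⊆ {a, b} := fun x hx => by
    by_cases hxa : x = a
    · simp [hxa]
    · simp [hne x hx hxa]
  have := (Finset.card_le_card this).trans Finset.card_le_two
  omega

omit h in
theorem exists_fourth [Fintype κ] (hκ : 4 ≤ Fintype.card κ) (a b c : κ) :
    ∃ d, d ≠ a ∧ d ≠ b ∧ d ≠ c := by
  classical
  obtain ⟨d, hd⟩ : ∃ d, d ∉ ({a, b, c} : Finset κ) := by
    by_contra hne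
    push Not at hne
    have h1 : (Finset.univ : Finset κ).card ≤ ({a, b, c} : Finset κ).card :=
      Finset.card_le_card fun x _ => hne x
    have h2 := Finset.card_le_three (a := a) (b := b) (c := c)
    rw [Finset.card_univ] at h1
    omega
  exact ⟨d, by simpa using hd⟩

/-- The case analysis ending `no_triangle`. -/
theorem no_triangle_aux {i k : ι} (hik : i ≠ k) {j₁ j₂ j₃ j₄ : κ} (h12 : j₁ ≠ j₂) (h13 : j₁ ≠ j₃)
    (h14 : j₁ ≠ j₄) (h23 : j₂ ≠ j₃) (h24 : j₂ ≠ j₄) (h34 : j₃ ≠ j₄) {a b b₂ b₃ c₁ : α}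
    (hba : b ≠ a) (h2a : b₂ ≠ a) (hbb₂ : b ≠ b₂) (hbb₃ : b ≠ b₃) (h23' : b₂ ≠ b₃)
    (a1 : a ∈ L i j₁) (a2 : a ∈ L i j₂) (b1 : b ∈ L i j₁) (b4 : b ∈ L i j₄) (b22 : b₂ ∈ L i j₂)
    (b24 : b₂ ∈ L i j₄) (b33 : b₃ ∈ L i j₃) (b34 : b₃ ∈ L i j₄) (c11 : c₁ ∈ L i j₁)
    (c1a : c₁ ≠ a) (c1b : c₁ ≠ b)
    (bk : b ∈ L k j₄) (nc1 : -c₁ ∈ L k j₄) (hdis : ∀ x ∈ L i j₂, x ∉ L k j₄)
    (bk1 : b ∈ L k j₁) (nb2 : -b₂ ∈ L k j₁) : False := by
  obtain ⟨c₂, c22, c2a, c2b⟩ := exists_other (h.card i j₂) a b₂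
  have t1 : ∀ x ∈ L i j₁, x = a ∨ x = b ∨ x = c₁ := fun x hx =>
    h.eq_triple a1 b1 c11 hba.symm c1a.symm c1b.symm hx
  have t2 : ∀ x ∈ L i j₂, x = a ∨ x = b₂ ∨ x = c₂ := fun x hx =>
    h.eq_triple a2 b22 c22 h2a.symm c2a.symm c2b.symm hx
  have hbc2 : b ≠ c₂ := fun e => hba (h.row_eq h12 b1 (e ▸ c22) a1 a2)
  have c21 : c₂ ∈ L k j₁ := by
    obtain ⟨v, hv, hv', hvy⟩ := h.cross_same hik (Ne.symm h12) b22 nb2
    rcases t2 v hv with rfl | rfl | rfl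
    · exact absurd (h.col_eq hik b1 bk1 a1 hv') hba
    · exact absurd rfl hvy
    · exact hv'
  have hbnb : b ≠ -b₂ := fun e => h.neg_not_mem i j₄ b₂ b24 (e ▸ b4)
  have hnc : -b₂ ≠ c₂ := fun e => h.neg_not_mem i j₂ b₂ b22 (e ▸ c22)
  have T1 : ∀ x ∈ L k j₁, x = b ∨ x = -b₂ ∨ x = c₂ := fun x hx =>
    h.eq_triple bk1 nb2 c21 hbnb hbc2 hnc hx
  have nb22 : -b₂ ∉ L k j₂ := h.col_opp hik b22
  have c2k : c₂ ∈ L k j₂ := by
    obtain ⟨x, hx, hx'⟩ := h.col_exists hik j₂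
    rcases t2 x hx with rfl | rfl | rfl
    · exfalso
      obtain ⟨w, hw, hw'⟩ := h.row_exists k h12
      rcases T1 w hw with rfl | rfl | rfl
      · exact hba (h.cross_eq hik h12 b1 hw' a1 hx')
      · exact nb22 hw'
      · exact c2a (h.col_eq hik c22 hw' a2 hx')
    · exact absurd nb2 (h.row_opp (Ne.symm h12) hx')
    · exact hx'
  have bk2 : b ∉ L k j₂ := fun hm => hbc2 (h.row_eq h12 bk1 hm c21 c2k)
  have nc12 : -c₁ ∉ L k j₂ := fun hm => by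
    obtain ⟨v, hv, hv', hvy⟩ := h.cross_same hik h12 c11 hm
    rcases t1 v hv with rfl | rfl | rfl
    · exact c2a (h.col_eq hik c22 c2k a2 hv')
    · exact bk2 hv'
    · exact hvy rfl
  obtain ⟨z, hz2, hz4⟩ := h.row_exists k h24
  have hbnc : b ≠ -c₁ := fun e => h.neg_not_mem i j₁ c₁ c11 (e ▸ b1)
  have hzb : z ≠ b := fun e => bk2 (e ▸ hz2)
  have hzn : z ≠ -c₁ := fun e => nc12 (e ▸ hz2)
  have hzc : z ≠ c₂ := fun e => hdis c₂ c22 (e ▸ hz4)
  have T4 : ∀ x ∈ L k j₄, x = b ∨ x = -c₁ ∨ x = z := fun x hx =>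
    h.eq_triple bk nc1 hz4 hbnc hzb.symm hzn.symm hx
  have bk3 : b ∉ L k j₃ := fun hm => by
    obtain ⟨v, hv, hv', hvy⟩ := h.cross_opp hik h34.symm b4 hm
    rcases h.eq_triple b4 b24 b34 hbb₂ hbb₃ h23' hv with rfl | rfl | rfl
    · exact hvy rfl
    · exact hbnb (h.row_eq h13 bk1 hm nb2 hv')
    · exact h.col_opp hik b33 hv'
  have c23 : c₂ ∉ L k j₃ := fun hm => by
    obtain ⟨n, hn3, hn4⟩ := h.row_exists k h34
    rcases T4 n hn4 with rfl | rfl | rfl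
    · exact bk3 hn3
    · obtain ⟨v, hv, hv', hvy⟩ := h.cross_same hik h13 c11 hn3
      rcases t1 v hv with rfl | rfl | rfl
      · exact c2a (h.cross_eq hik h23 c22 hm a2 hv')
      · exact bk3 hv'
      · exact hvy rfl
    · exact hzc (h.row_eq h23 hz2 hn3 c2k hm)
  obtain ⟨m, hm1, hm3⟩ := h.row_exists k h13
  rcases T1 m hm1 with rfl | rfl | rfl
  · exact bk3 hm3
  · obtain ⟨v, hv, hv', hvy⟩ := h.cross_same hik h23 b22 hm3
    have a3 : a ∈ L k j₃ := by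
      rcases t2 v hv with rfl | rfl | rfl
      · exact hv'
      · exact absurd rfl hvy
      · exact absurd hv' c23
    obtain ⟨w, hw, hw', hwa⟩ := h.cross_opp hik h13 a1 a3
    have T3 : ∀ x ∈ L k j₃, x = a ∨ x = -b₂ ∨ x = -w := fun x hx =>
      h.eq_triple a3 hm3 hw' (fun e => h.neg_not_mem i j₂ b₂ b22 (e ▸ a2))
        (fun e => h.neg_not_mem i j₁ w hw (e ▸ a1))
        (fun e => by
          rcases t1 w hw with rfl | rfl | rfl
          · exact hwa rfl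
          · exact hbb₂ (neg_injective e).symm
          · exact c1b (h.row_eq h14 c11 (neg_injective e ▸ b24) b1 b4)) hx
    obtain ⟨n, hn3, hn4⟩ := h.row_exists k h34
    have hwc : w = c₁ := by
      rcases t1 w hw with rfl | rfl | rfl
      · exact absurd rfl hwa
      · exfalso
        rcases T3 n hn3 with rfl | rfl | rfl
        · exact hdis n a2 hn4
        · exact hbnb (h.row_eq h14 bk1 bk nb2 hn4)
        · exact h.neg_not_mem k j₄ w bk hn4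
      · rfl
    subst hwc
    obtain ⟨p, hp2, hp3⟩ := h.row_exists k h23
    rcases T3 p hp3 with rfl | rfl | rfl
    · exact c2a (h.col_eq hik c22 c2k a2 hp2)
    · exact nb22 hp2
    · exact nc12 hp2
  · exact c23 hm3

/-- Three triples through a point and a fourth one avoiding it do not occur in a row. -/
theorem no_triangle {i k : ι} (hik : i ≠ k) {j₁ j₂ j₃ j₄ : κ} (h12 : j₁ ≠ j₂) (h13 : j₁ ≠ j₃)
    (h14 : j₁ ≠ j₄) (h23 : j₂ ≠ j₃) (h24 : j₂ ≠ j₄) (h34 : j₃ ≠ j₄) {a : α} (a1 : a ∈ L i j₁)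
    (a2 : a ∈ L i j₂) (a3 : a ∈ L i j₃) (a4 : a ∉ L i j₄) {b : α} (b1 : b ∈ L i j₁)
    (b4 : b ∈ L i j₄) (bk : b ∈ L k j₄) : False := by
  obtain ⟨b₂, b22, b24⟩ := h.row_exists i h24
  obtain ⟨b₃, b33, b34⟩ := h.row_exists i h34
  have hba : b ≠ a := fun e => a4 (e ▸ b4)
  have hb2a : b₂ ≠ a := fun e => a4 (e ▸ b24)
  have hb3a : b₃ ≠ a := fun e => a4 (e ▸ b34)
  have hb2 : b ≠ b₂ := fun e => hba (h.row_eq h12 b1 (e ▸ b22) a1 a2)
  have hb3 : b ≠ b₃ := fun e => hba (h.row_eq h13 b1 (e ▸ b33) a1 a3)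
  have h23' : b₂ ≠ b₃ := fun e => hb2a (h.row_eq h23 b22 (e ▸ b33) a2 a3)
  obtain ⟨c₁, c11, c1a, c1b⟩ := exists_other (h.card i j₁) a b
  have t1 : ∀ x ∈ L i j₁, x = a ∨ x = b ∨ x = c₁ := fun x hx =>
    h.eq_triple a1 b1 c11 hba.symm c1a.symm c1b.symm hx
  have t4 : ∀ x ∈ L i j₄, x = b ∨ x = b₂ ∨ x = b₃ := fun x hx =>
    h.eq_triple b4 b24 b34 hb2 hb3 h23' hx
  have ak4 : a ∉ L k j₄ := fun hm => hba (h.cross_eq hik h14 b1 bk a1 hm)
  have nc1 : -c₁ ∈ L k j₄ := by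
    obtain ⟨y, hy, hy', hyb⟩ := h.cross_opp hik h14 b1 bk
    rcases t1 y hy with rfl | rfl | rfl
    · exfalso
      obtain ⟨z, hz, hz', hza⟩ := h.cross_same hik h24 a2 hy'
      obtain ⟨u, hu, hu', hua⟩ := h.cross_same hik h34 a3 hy'
      have hz4 : z ≠ b := fun e => hba (h.row_eq h12 b1 (e ▸ hz) a1 a2)
      have hu4 : u ≠ b := fun e => hba (h.row_eq h13 b1 (e ▸ hu) a1 a3)
      have hzu : z ≠ u := fun e => hza (h.row_eq h23 hz (e ▸ hu) a2 a3)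
      exact h.not_four bk hy' hz' hu' (fun e => h.row_opp h14 a1 (e ▸ b4)) hz4.symm hu4.symm
        (fun e => h.neg_not_mem i j₂ y a2 (e ▸ hz))
        (fun e => h.neg_not_mem i j₃ y a3 (e ▸ hu)) hzu
    · exact absurd rfl hyb
    · exact hy'
  have hdis : ∀ (j : κ) (d : α), j ≠ j₁ → j ≠ j₄ → a ∈ L i j → d ∈ L i j → d ∈ L i j₄ → b ≠ d →
      d ≠ a → ∀ x ∈ L i j, x ∉ L k j₄ ∧ -x ∉ L k j₄ := by
    intro j d hj1 hj4 aj dj d4 hbd hda
    obtain ⟨c, cj, ca, cd⟩ := exists_other (h.card i j) a d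
    have hsame : ∀ x ∈ L i j, x ∉ L k j₄ := fun x hx hxk => by
      rcases h.eq_triple aj dj cj hda.symm ca.symm cd.symm hx with rfl | rfl | rfl
      · exact ak4 hxk
      · exact hbd (h.col_eq hik b4 bk d4 hxk)
      · obtain ⟨y, hy, hy', hyx⟩ := h.cross_opp hik hj4 hx hxk
        have hxb : b ≠ x := fun e => hba (h.row_eq (Ne.symm hj1) b1 (e ▸ hx) a1 aj)
        rcases h.eq_triple bk nc1 hxk (fun e => h.neg_not_mem i j₁ c₁ c11 (e ▸ b1)) hxb
            (fun e => h.row_opp (Ne.symm hj1) c11 (e ▸ hx)) hy' with e | e | e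
        · exact h.row_opp (Ne.symm hj1) b1 (by rw [← e, neg_neg]; exact hy)
        · exact c1a (h.row_eq (Ne.symm hj1) c11 (neg_injective e ▸ hy) a1 aj)
        · exact h.neg_not_mem i j y hy (e ▸ hx)
    refine fun x hx => ⟨hsame x hx, fun hxk => ?_⟩
    obtain ⟨y, hy, hy', -⟩ := h.cross_same hik hj4 hx hxk
    exact hsame y hy hy'
  have hdis2 := hdis j₂ b₂ (Ne.symm h12) h24 a2 b22 b24 hb2 hb2a
  have hdis3 := hdis j₃ b₃ (Ne.symm h13) h34 a3 b33 b34 hb3 hb3a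
  have bk1 : b ∈ L k j₁ := by
    obtain ⟨x, hx, hx'⟩ := h.col_exists hik j₁
    rcases t1 x hx with rfl | rfl | rfl
    · exfalso
      obtain ⟨y, hy, hy', hyx⟩ := h.cross_opp hik (Ne.symm h12) a2 hx'
      obtain ⟨u, hu, hu', hux⟩ := h.cross_opp hik (Ne.symm h13) a3 hx'
      obtain ⟨w, hw, hw'⟩ := h.row_exists k h14
      rcases h.eq_triple hx' hy' hu' (fun e => h.neg_not_mem i j₂ y hy (e ▸ a2))
          (fun e => h.neg_not_mem i j₃ u hu (e ▸ a3))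
          (fun e => hyx (h.row_eq h23 hy (neg_injective e ▸ hu) a2 a3)) hw with rfl | rfl | rfl
      · exact ak4 hw'
      · exact (hdis2 y hy).2 hw'
      · exact (hdis3 u hu).2 hw'
    · exact hx'
    · exact absurd nc1 (h.row_opp h14 hx')
  obtain ⟨y, hy, hy', hyb⟩ := h.cross_opp hik (Ne.symm h14) b4 bk1
  rcases t4 y hy with rfl | rfl | rfl
  · exact hyb rfl
  · exact h.no_triangle_aux hik h12 h13 h14 h23 h24 h34 hba hb2a hb2 hb3 h23' a1 a2 b1 b4 b22 b24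
      b33 b34 c11 c1a c1b bk nc1 (fun x hx => (hdis2 x hx).1) bk1 hy'
  · exact h.no_triangle_aux hik h13 h12 h14 h23.symm h34 h24 hba hb3a hb3 hb2 h23'.symm a1 a3 b1 b4
      b33 b34 b22 b24 c11 c1a c1b bk nc1 (fun x hx => (hdis3 x hx).1) bk1 hy'

/-- Four triples in a row do not meet in six points. -/
theorem no_six {i k : ι} (hik : i ≠ k) {j₁ j₂ j₃ j₄ : κ} (h12 : j₁ ≠ j₂) (h13 : j₁ ≠ j₃)
    (h14 : j₁ ≠ j₄) (_h23 : j₂ ≠ j₃) (h24 : j₂ ≠ j₄) (h34 : j₃ ≠ j₄)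
    (h123 : ∀ x ∈ L i j₁, x ∈ L i j₂ → x ∉ L i j₃) (h124 : ∀ x ∈ L i j₁, x ∈ L i j₂ → x ∉ L i j₄)
    (h134 : ∀ x ∈ L i j₁, x ∈ L i j₃ → x ∉ L i j₄) (h234 : ∀ x ∈ L i j₂, x ∈ L i j₃ → x ∉ L i j₄)
    {x : α} (x1 : x ∈ L i j₁) (x2 : x ∈ L i j₂) (xk : x ∈ L k j₁) {y : α} (y2 : y ∈ L i j₂)
    (y3 : y ∈ L i j₃) (yk : -y ∈ L k j₁) : False := by
  obtain ⟨u, u1, u3⟩ := h.row_exists i h13
  obtain ⟨v, v3, v4⟩ := h.row_exists i h34
  obtain ⟨s, s2, s4⟩ := h.row_exists i h24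
  obtain ⟨t, t1, t4⟩ := h.row_exists i h14
  have hvk : v ∈ L k j₁ := by
    obtain ⟨z, hz, hz', hzy⟩ := h.cross_same hik (Ne.symm h13) y3 yk
    rcases h.eq_triple y3 u3 v3 (fun e => h123 u u1 (e ▸ y2) u3) (fun e => h234 y y2 y3 (e ▸ v4))
        (fun e => h134 u u1 u3 (e ▸ v4)) hz with rfl | rfl | rfl
    · exact absurd rfl hzy
    · exact absurd (h.col_eq hik x1 xk u1 hz') (fun e => h123 x x1 x2 (e ▸ u3))
    · exact hz'
  obtain ⟨z, hz, hz', hzv⟩ := h.cross_opp hik (Ne.symm h14) v4 hvk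
  rcases h.eq_triple t4 s4 v4 (fun e => h124 t t1 (e ▸ s2) t4) (fun e => h134 t t1 (e ▸ v3) t4)
      (fun e => h234 s s2 (e ▸ v3) s4) hz with rfl | rfl | rfl
  · exact h.col_opp hik t1 hz'
  · exact h234 y y2 y3 (h.cross_opp_eq hik (Ne.symm h12) y2 yk s2 hz' ▸ s4)
  · exact hzv rfl

/-- Every element of a row meets a common point. -/
theorem row_center_four {i k : ι} (hik : i ≠ k) {j₁ j₂ j₃ j₄ : κ} (h12 : j₁ ≠ j₂) (h13 : j₁ ≠ j₃)
    (h14 : j₁ ≠ j₄) (h23 : j₂ ≠ j₃) (h24 : j₂ ≠ j₄) (h34 : j₃ ≠ j₄) :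
    ∃ a, a ∈ L i j₁ ∧ a ∈ L i j₂ ∧ a ∈ L i j₃ ∧ a ∈ L i j₄ := by
  by_contra hne
  push Not at hne
  have key : ∀ {p q r s : κ}, p ≠ q → p ≠ r → p ≠ s → q ≠ r → q ≠ s → r ≠ s → ∀ {a : α},
      a ∈ L i p → a ∈ L i q → a ∈ L i r → a ∈ L i s := by
    intro p q r s hpq hpr hps hqr hqs hrs a ap aq ar
    by_contra has
    obtain ⟨b, bi, bk⟩ := h.col_exists hik s
    obtain ⟨b₁, b11, b14⟩ := h.row_exists i hps
    obtain ⟨b₂, b22, b24⟩ := h.row_exists i hqs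
    obtain ⟨b₃, b33, b34⟩ := h.row_exists i hrs
    have n12 : b₁ ≠ b₂ := fun e => has (h.row_eq hpq b11 (e ▸ b22) ap aq ▸ b14)
    have n13 : b₁ ≠ b₃ := fun e => has (h.row_eq hpr b11 (e ▸ b33) ap ar ▸ b14)
    have n23 : b₂ ≠ b₃ := fun e => has (h.row_eq hqr b22 (e ▸ b33) aq ar ▸ b24)
    rcases h.eq_triple b14 b24 b34 n12 n13 n23 bi with rfl | rfl | rfl
    · exact h.no_triangle hik hpq hpr hps hqr hqs hrs ap aq ar has b11 bi bk
    · exact h.no_triangle hik hpq.symm hqr hqs hpr hps hrs aq ap ar has b22 bi bk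
    · exact h.no_triangle hik hpr.symm hqr.symm hrs hpq hps hqs ar ap aq has b33 bi bk
  have g123 : ∀ x ∈ L i j₁, x ∈ L i j₂ → x ∉ L i j₃ := fun x x1 x2 x3 =>
    hne x x1 x2 x3 (key h12 h13 h14 h23 h24 h34 x1 x2 x3)
  have g124 : ∀ x ∈ L i j₁, x ∈ L i j₂ → x ∉ L i j₄ := fun x x1 x2 x4 =>
    hne x x1 x2 (key h12 h14 h13 h24 h23 h34.symm x1 x2 x4) x4
  have g134 : ∀ x ∈ L i j₁, x ∈ L i j₃ → x ∉ L i j₄ := fun x x1 x3 x4 =>
    hne x x1 (key h13 h14 h12 h34 h23.symm h24.symm x1 x3 x4) x3 x4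
  have g234 : ∀ x ∈ L i j₂, x ∈ L i j₃ → x ∉ L i j₄ := fun x x2 x3 x4 =>
    hne x (key h23 h24 h12.symm h34 h13.symm h14.symm x2 x3 x4) x2 x3 x4
  obtain ⟨p₂, p21, p22⟩ := h.row_exists i h12
  obtain ⟨p₃, p31, p33⟩ := h.row_exists i h13
  obtain ⟨p₄, p41, p44⟩ := h.row_exists i h14
  obtain ⟨x, x1, xk⟩ := h.col_exists hik j₁
  have inner : ∀ {q r s : κ}, j₁ ≠ q → j₁ ≠ r → j₁ ≠ s → q ≠ r → q ≠ s → r ≠ s →
      (∀ z ∈ L i j₁, z ∈ L i q → z ∉ L i r) → (∀ z ∈ L i j₁, z ∈ L i q → z ∉ L i s) →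
      (∀ z ∈ L i j₁, z ∈ L i r → z ∉ L i s) → (∀ z ∈ L i q, z ∈ L i r → z ∉ L i s) →
      x ∈ L i q → False := by
    intro q r s hq hr hs hqr hqs hrs e1 e2 e3 e4 xq
    obtain ⟨y, yq, yk, yx⟩ := h.cross_opp hik hq.symm xq xk
    obtain ⟨y₁, y1r, y1q⟩ := h.row_exists i hqr.symm
    obtain ⟨y₂, y2s, y2q⟩ := h.row_exists i hqs.symm
    rcases h.eq_triple xq y1q y2q (fun e => e1 x x1 xq (e ▸ y1r)) (fun e => e2 x x1 xq (e ▸ y2s))
        (fun e => e4 y₁ y1q y1r (e ▸ y2s)) yq with rfl | rfl | rfl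
    · exact yx rfl
    · exact h.no_six hik hq hr hs hqr hqs hrs e1 e2 e3 e4 x1 xq xk y1q y1r yk
    · exact h.no_six hik hq hs hr hqs hqr hrs.symm e2 e1 (fun z a b c => e3 z a c b)
        (fun z a b c => e4 z a c b) x1 xq xk y2q y2s yk
  rcases h.eq_triple p21 p31 p41 (fun e => g123 p₂ p21 p22 (e ▸ p33))
      (fun e => g124 p₂ p21 p22 (e ▸ p44)) (fun e => g134 p₃ p31 p33 (e ▸ p44)) x1 with
    rfl | rfl | rfl
  · exact inner h12 h13 h14 h23 h24 h34 g123 g124 g134 g234 p22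
  · exact inner h13 h12 h14 h23.symm h34 h24 (fun z a b c => g123 z a c b) g134 g124
      (fun z a b c => g234 z b a c) p33
  · exact inner h14 h12 h13 h24.symm h34.symm h23 (fun z a b c => g124 z a c b)
      (fun z a b c => g134 z a c b) g123 (fun z a b c => g234 z b c a) p44

/-- Each row of a grid with at least four columns has a centre. -/
theorem row_center [Fintype κ] (hκ : 4 ≤ Fintype.card κ) {i k : ι} (hik : i ≠ k) :
    ∃ a, ∀ j, a ∈ L i j := by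
  classical
  obtain ⟨e⟩ : Nonempty (Fin 4 ↪ κ) :=
    Function.Embedding.nonempty_of_card_le (by rwa [Fintype.card_fin])
  have ne : ∀ {p q : Fin 4}, p ≠ q → e p ≠ e q := fun hpq he => hpq (e.injective he)
  obtain ⟨a, a0, a1, a2, a3⟩ := h.row_center_four hik (ne (show (0 : Fin 4) ≠ 1 by decide))
    (ne (show (0 : Fin 4) ≠ 2 by decide)) (ne (show (0 : Fin 4) ≠ 3 by decide))
    (ne (show (1 : Fin 4) ≠ 2 by decide)) (ne (show (1 : Fin 4) ≠ 3 by decide))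
    (ne (show (2 : Fin 4) ≠ 3 by decide))
  refine ⟨a, fun j => ?_⟩
  by_contra hj
  have hj0 : e 0 ≠ j := fun he => hj (he ▸ a0)
  have hj1 : e 1 ≠ j := fun he => hj (he ▸ a1)
  have hj2 : e 2 ≠ j := fun he => hj (he ▸ a2)
  obtain ⟨b, b0, b1, -, bj⟩ := h.row_center_four hik (ne (show (0 : Fin 4) ≠ 1 by decide))
    (ne (show (0 : Fin 4) ≠ 2 by decide)) hj0 (ne (show (1 : Fin 4) ≠ 2 by decide)) hj1 hj2
  exact hj (h.row_eq (ne (show (0 : Fin 4) ≠ 1 by decide)) a0 a1 b0 b1 ▸ bj)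

/-- The centre of a row lies in no other row. -/
theorem center_not_mem [Fintype κ] (hκ : 4 ≤ Fintype.card κ) {i k : ι} (hik : i ≠ k) {a : α}
    (ha : ∀ j, a ∈ L i j) (j : κ) : a ∉ L k j ∧ -a ∉ L k j := by
  classical
  obtain ⟨j₂, hj₂, -, -⟩ := exists_fourth hκ j j j
  obtain ⟨j₃, hj₃, hj₃', -⟩ := exists_fourth hκ j j₂ j₂
  obtain ⟨j₄, hj₄, hj₄', hj₄''⟩ := exists_fourth hκ j j₂ j₃
  constructor
  · intro hm
    obtain ⟨y, hy, hy', hya⟩ := h.cross_opp hik hj₂ (ha j₂) hm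
    obtain ⟨u, hu, hu', hua⟩ := h.cross_opp hik hj₃ (ha j₃) hm
    obtain ⟨v, hv, hv', hva⟩ := h.cross_opp hik hj₄ (ha j₄) hm
    exact h.not_four hm hy' hu' hv'
      (fun e => h.neg_not_mem i j₂ y hy (e ▸ ha j₂))
      (fun e => h.neg_not_mem i j₃ u hu (e ▸ ha j₃))
      (fun e => h.neg_not_mem i j₄ v hv (e ▸ ha j₄))
      (fun e => hya (h.row_eq hj₃'.symm hy (neg_injective e ▸ hu) (ha _) (ha _)))
      (fun e => hya (h.row_eq hj₄'.symm hy (neg_injective e ▸ hv) (ha _) (ha _)))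
      (fun e => hua (h.row_eq hj₄''.symm hu (neg_injective e ▸ hv) (ha _) (ha _)))
  · intro hm
    obtain ⟨y, hy, hy', hya⟩ := h.cross_same hik hj₂ (ha j₂) hm
    obtain ⟨u, hu, hu', hua⟩ := h.cross_same hik hj₃ (ha j₃) hm
    obtain ⟨v, hv, hv', hva⟩ := h.cross_same hik hj₄ (ha j₄) hm
    exact h.not_four hm hy' hu' hv'
      (fun e => h.neg_not_mem i j₂ a (ha j₂) (e ▸ hy))
      (fun e => h.neg_not_mem i j₃ a (ha j₃) (e ▸ hu))
      (fun e => h.neg_not_mem i j₄ a (ha j₄) (e ▸ hv))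
      (fun e => hya (h.row_eq hj₃'.symm hy (e ▸ hu) (ha _) (ha _)))
      (fun e => hya (h.row_eq hj₄'.symm hy (e ▸ hv) (ha _) (ha _)))
      (fun e => hua (h.row_eq hj₄''.symm hu (e ▸ hv) (ha _) (ha _)))

/-- Triples in different rows and columns are disjoint up to sign. -/
theorem cross_disjoint [Fintype κ] (hκ : 4 ≤ Fintype.card κ) {i k : ι} {j l : κ} (hik : i ≠ k)
    (hjl : j ≠ l) {a b : α} (ha : ∀ j, a ∈ L i j) (hb : ∀ j, b ∈ L k j) {x : α} (hx : x ∈ L i j) :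
    x ∉ L k l ∧ -x ∉ L k l := by
  have hsame : ∀ x ∈ L i j, x ∉ L k l := fun x hx hxk => by
    obtain ⟨y, hy, hy', hyx⟩ := h.cross_opp hik hjl hx hxk
    obtain ⟨z, hz, hz'⟩ := h.col_exists hik j
    have hax : a ≠ x := fun e => (h.center_not_mem hκ hik ha l).1 (e ▸ hxk)
    have hay : a ≠ y := fun e => (h.center_not_mem hκ hik ha l).2 (e ▸ hy')
    rcases h.eq_triple (ha j) hx hy hax hay (Ne.symm hyx) hz with e | e | e
    · exact (h.center_not_mem hκ hik ha j).1 (e ▸ hz')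
    · have hbx : x = b := h.row_eq hjl (e ▸ hz') hxk (hb j) (hb l)
      exact (h.center_not_mem hκ (Ne.symm hik) hb j).1 (hbx ▸ hx)
    · exact h.row_opp hjl hz' (e ▸ hy')
  refine ⟨hsame x hx, fun hxk => ?_⟩
  obtain ⟨y, hy, hy', -⟩ := h.cross_same hik hjl hx hxk
  exact hsame y hy hy'

/-- Each column of a grid with two, or at least four, rows has a centre. -/
theorem col_center [Fintype ι] (hι : Fintype.card ι = 2 ∨ 4 ≤ Fintype.card ι) {j l : κ}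
    (hjl : j ≠ l) : ∃ c, ∀ i, c ∈ L i j := by
  classical
  rcases hι with hι | hι
  · obtain ⟨p, q, hpq, huniv⟩ := Finset.card_eq_two.1 (Finset.card_univ.trans hι)
    obtain ⟨x, hx, hx'⟩ := h.col_exists hpq j
    refine ⟨x, fun i => ?_⟩
    have := Finset.mem_univ i
    rw [huniv] at this
    simp only [Finset.mem_insert, Finset.mem_singleton] at this
    rcases this with rfl | rfl <;> assumption
  · exact h.swap.row_center hι hjl

end IsGrid

/-- The solution of a grid: centres of rows and columns and the third points, all pairwise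
distinct up to sign. -/
structure IsGridSolution (L : ι → κ → Finset α) (r : ι → α) (c : κ → α) (e : ι → κ → α) :
    Prop where
  eq : ∀ i j, L i j = {r i, c j, e i j}
  row_inj : ∀ i k, i ≠ k → r i ≠ r k ∧ r i ≠ -r k
  col_inj : ∀ j l, j ≠ l → c j ≠ c l ∧ c j ≠ -c l
  cell_inj : ∀ i j k l, (i ≠ k ∨ j ≠ l) → e i j ≠ e k l ∧ e i j ≠ -e k l
  row_col : ∀ i j, r i ≠ c j ∧ r i ≠ -c j
  row_cell : ∀ i k j, r i ≠ e k j ∧ r i ≠ -e k j
  col_cell : ∀ j i l, c j ≠ e i l ∧ c j ≠ -e i l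

theorem IsGrid.exists_solution [Fintype ι] [Fintype κ] {L : ι → κ → Finset α} (h : IsGrid L)
    (hι : Fintype.card ι = 2 ∨ 4 ≤ Fintype.card ι) (hκ : 4 ≤ Fintype.card κ) :
    ∃ r c e, IsGridSolution L r c e := by
  classical
  have hι2 : 1 < Fintype.card ι := by omega
  have hκ2 : 1 < Fintype.card κ := by omega
  have hr : ∀ i, ∃ a, ∀ j, a ∈ L i j := fun i =>
    (Fintype.exists_ne_of_one_lt_card hι2 i).elim fun k hk => h.row_center hκ hk.symm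
  have hc : ∀ j, ∃ a, ∀ i, a ∈ L i j := fun j =>
    (Fintype.exists_ne_of_one_lt_card hκ2 j).elim fun l hl => h.col_center hι hl.symm
  choose r hr using hr
  choose c hc using hc
  have hrout : ∀ i k j, i ≠ k → r i ∉ L k j ∧ -r i ∉ L k j := fun i k j hik =>
    h.center_not_mem hκ hik (hr i) j
  have hrc : ∀ i j, r i ≠ c j ∧ r i ≠ -c j := fun i j => by
    obtain ⟨k, hk⟩ := Fintype.exists_ne_of_one_lt_card hι2 i
    refine ⟨fun e => (hrout i k j hk.symm).1 (e ▸ hc j k), fun e => (hrout i k j hk.symm).2 ?_⟩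
    rw [e, neg_neg]; exact hc j k
  choose e he her hec using fun i j => exists_other (h.card i j) (r i) (c j)
  have heq : ∀ i j, ∀ x, x ∈ L i j ↔ x = r i ∨ x = c j ∨ x = e i j := fun i j x =>
    ⟨fun hx => h.eq_triple (hr i j) (hc j i) (he i j) (hrc i j).1 (her i j).symm (hec i j).symm hx,
      fun hx => by rcases hx with rfl | rfl | rfl; exacts [hr i j, hc j i, he i j]⟩
  refine ⟨r, c, e, ⟨fun i j => Finset.ext fun x => by simp [heq i j x], ?_, ?_, ?_, hrc, ?_, ?_⟩⟩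
  · intro i k hik
    obtain ⟨j, -⟩ := Fintype.one_lt_card_iff.1 hκ2
    exact ⟨fun e => (hrout i k j hik).1 (e ▸ hr k j),
      fun e => (hrout i k j hik).2 (by rw [e, neg_neg]; exact hr k j)⟩
  · intro j l hjl
    obtain ⟨i, -⟩ := Fintype.one_lt_card_iff.1 hι2
    refine ⟨fun ec => (hrc i j).1 ?_, fun ec => h.row_opp hjl (hc j i) ?_⟩
    · exact h.row_eq hjl (hr i j) (hr i l) (hc j i) (ec ▸ hc l i)
    · rw [ec, neg_neg]; exact hc l i
  · intro i j k l hne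
    by_cases hik : i = k
    · subst hik
      have hjl : j ≠ l := hne.resolve_left (fun hn => hn rfl)
      exact ⟨fun ee => her i j (h.row_eq hjl (he i j) (ee ▸ he i l) (hr i j) (hr i l)),
        fun ee => h.row_opp hjl (he i j) (by rw [ee, neg_neg]; exact he i l)⟩
    by_cases hjl : j = l
    · subst hjl
      exact ⟨fun ee => hec i j (h.col_eq hik (he i j) (ee ▸ he k j) (hc j i) (hc j k)),
        fun ee => h.col_opp hik (he i j) (by rw [ee, neg_neg]; exact he k j)⟩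
    exact ⟨fun ee => (h.cross_disjoint hκ hik hjl (hr i) (hr k) (he i j)).1 (ee ▸ he k l),
      fun ee => (h.cross_disjoint hκ hik hjl (hr i) (hr k) (he i j)).2
        (by rw [ee, neg_neg]; exact he k l)⟩
  · intro i k j
    by_cases hik : i = k
    · subst hik
      exact ⟨(her i j).symm, fun ee => h.neg_not_mem i j _ (he i j) (ee ▸ hr i j)⟩
    exact ⟨fun ee => (hrout i k j hik).1 (ee ▸ he k j),
      fun ee => (hrout i k j hik).2 (by rw [ee, neg_neg]; exact he k j)⟩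
  · intro j i l
    by_cases hjl : j = l
    · subst hjl
      exact ⟨(hec i j).symm, fun ee => h.neg_not_mem i j _ (he i j) (ee ▸ hc j i)⟩
    exact ⟨fun ee => (hrc i j).1
        (h.row_eq hjl (hr i j) (hr i l) (hc j i) (ee ▸ he i l)),
      fun ee => h.row_opp hjl (hc j i) (by rw [ee, neg_neg]; exact he i l)⟩

end CfsgLib.Char
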