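import Cfsg.Agent.Char.CyclicFamily
import Cfsg.Agent.Char.CyclicGrid

/-!
# The family of characters attached to a cyclic TI subgroup: existence
-/

namespace CfsgLib.Char

open scoped ComplexConjugate

universe u

variable {G : Type u} [Group G] [Fintype G]

theorem IsSignedIrr.neg {x : G → ℂ} (h : IsSignedIrr x) : IsSignedIrr (-x) := by
  rcases h with h | h
  · exact Or.inr (by rwa [neg_neg])
  · exact Or.inl h

theorem IsSignedIrr.classInner_eq_zero {x y : G → ℂ} (hx : IsSignedIrr x) (hy : IsSignedIrr y)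
    (h1 : x ≠ y) (h2 : x ≠ -y) : Cfsg.classInner x y = 0 := by
  by_contra hne
  obtain ⟨s, hs, hyx, -⟩ := IsSignedIrr.eq_smul_of_classInner_ne hx hy hne
  rcases hs with rfl | rfl
  · exact h1 (by rw [hyx, one_smul])
  · exact h2 (by rw [hyx, neg_one_smul, neg_neg])

theorem IsSignedIrr.ne_neg_self {x : G → ℂ} (h : IsSignedIrr x) : x ≠ -x := fun e =>
  IsSignedIrr.apply_one_ne_zero h (by
    have h1 := congrFun e 1
    rw [Pi.neg_apply, eq_neg_iff_add_eq_zero] at h1
    exact add_self_eq_zero.1 h1)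

/-- A generalized character of norm three is a sum of three signed irreducible characters. -/
theorem exists_signed_triple [DecidableEq (G → ℂ)] {φ : G → ℂ}
    (hφ : Cfsg.IsGeneralizedCharacter G φ) (h3 : Cfsg.classInner φ φ = 3) :
    ∃ L : Finset (G → ℂ), L.card = 3 ∧ (∀ x ∈ L, IsSignedIrr x) ∧ (∀ x ∈ L, -x ∉ L) ∧
      φ = ∑ x ∈ L, x := by
  classical
  have hm : ∀ χ ∈ irrFinset G, ∃ n : ℤ, Cfsg.classInner φ χ = n := fun χ hχ =>
    IsGeneralized.exists_classInner_eq_int hφ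
      (IsIrrCharacter.isGeneralized (mem_irrFinset.1 hχ))
  choose! n hn using hm
  have hcf := IsGeneralized.isClassFunction hφ
  have hsum : ∑ χ ∈ irrFinset G, n χ * n χ = 3 := by
    have h2 := classInner_eq_sum_irr hcf φ
    rw [h3] at h2
    have h4 : (3 : ℂ) = ∑ χ ∈ irrFinset G, ((n χ * n χ : ℤ) : ℂ) := by
      rw [h2]
      exact Finset.sum_congr rfl fun χ hχ => by rw [hn χ hχ]; simp
    exact_mod_cast h4.symm
  have hsmall : ∀ χ ∈ irrFinset G, n χ = 0 ∨ n χ = 1 ∨ n χ = -1 := fun χ hχ => by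
    have hle : n χ * n χ ≤ 3 := hsum ▸ Finset.single_le_sum
      (f := fun χ => n χ * n χ) (fun ψ _ => mul_self_nonneg _) hχ
    have h1 : -2 < n χ := by nlinarith
    have h2 : n χ < 2 := by nlinarith
    omega
  set T := (irrFinset G).filter fun χ => n χ ≠ 0 with hT
  have hTn : ∀ χ ∈ T, n χ = 1 ∨ n χ = -1 := fun χ hχ =>
    (hsmall χ (Finset.mem_filter.1 hχ).1).resolve_left (Finset.mem_filter.1 hχ).2
  have hTirr : ∀ χ ∈ T, Cfsg.IsIrrCharacter G χ := fun χ hχ =>
    mem_irrFinset.1 (Finset.mem_filter.1 hχ).1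
  have hTcard : T.card = 3 := by
    have h : ∑ χ ∈ T, n χ * n χ = 3 := by
      rw [hT, Finset.sum_filter_of_ne (p := fun χ => n χ ≠ 0) (fun χ _ h0 h' => h0 (by rw [h', mul_zero])), hsum]
    rw [Finset.sum_congr rfl (fun χ hχ => show n χ * n χ = 1 by
      rcases hTn χ hχ with h | h <;> rw [h] <;> rfl)] at h
    simp only [Finset.sum_const, nsmul_eq_mul, mul_one] at h
    exact_mod_cast h
  have hsig : ∀ χ ∈ T, IsSignedIrr ((n χ : ℂ) • χ) := fun χ hχ => by
    rcases hTn χ hχ with h | h <;> rw [h]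
    · left; simpa using hTirr χ hχ
    · right; simpa using hTirr χ hχ
  have horth : ∀ χ ∈ T, ∀ ψ ∈ T, χ ≠ ψ →
      Cfsg.classInner ((n χ : ℂ) • χ) ((n ψ : ℂ) • ψ) = 0 := fun χ hχ ψ hψ hne => by
    rw [classInner_smul_left, classInner_smul_right,
      IsIrrCharacter.classInner_of_ne (hTirr χ hχ) (hTirr ψ hψ) hne, mul_zero, mul_zero]
  have hinj : Set.InjOn (fun χ => (n χ : ℂ) • χ) (↑T : Set (G → ℂ)) := fun χ hχ ψ hψ he => by
    by_contra hne
    have h := horth χ hχ ψ hψ hne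
    rw [show (n ψ : ℂ) • ψ = (n χ : ℂ) • χ from he.symm,
      IsSignedIrr.classInner_self (hsig χ hχ)] at h
    exact one_ne_zero h
  refine ⟨T.image fun χ => (n χ : ℂ) • χ, by rw [Finset.card_image_of_injOn hinj, hTcard],
    fun x hx => ?_, fun x hx hx' => ?_, ?_⟩
  · obtain ⟨χ, hχ, rfl⟩ := Finset.mem_image.1 hx
    exact hsig χ hχ
  · obtain ⟨χ, hχ, rfl⟩ := Finset.mem_image.1 hx
    obtain ⟨ψ, hψ, he⟩ := Finset.mem_image.1 hx'
    by_cases hne : χ = ψ
    · subst hne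
      exact IsSignedIrr.ne_neg_self (hsig χ hχ) he
    · have h := horth χ hχ ψ hψ hne
      rw [he, classInner_neg_right, IsSignedIrr.classInner_self (hsig χ hχ), neg_eq_zero] at h
      exact one_ne_zero h
  · rw [Finset.sum_image hinj]
    conv_lhs => rw [eq_sum_irr hcf]
    rw [hT, Finset.sum_filter_of_ne (p := fun χ => n χ ≠ 0) (fun χ _ h0 h' => h0 (by rw [h', Int.cast_zero, zero_smul]))]
    exact Finset.sum_congr rfl fun χ hχ => by rw [hn χ hχ]

theorem classInner_sum_signed [DecidableEq (G → ℂ)] {L M : Finset (G → ℂ)}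
    (hL : ∀ x ∈ L, IsSignedIrr x) (hM : ∀ x ∈ M, IsSignedIrr x) :
    Cfsg.classInner (∑ x ∈ L, x) (∑ y ∈ M, y) =
      ((L ∩ M).card : ℂ) - ((L.filter fun x => -x ∈ M).card : ℂ) := by
  have hterm : ∀ x ∈ L, Cfsg.classInner x (∑ y ∈ M, y) =
      (if x ∈ M then (1 : ℂ) else 0) - (if -x ∈ M then 1 else 0) := fun x hx => by
    rw [classInner_sum_right, Finset.sum_congr rfl (g := fun y =>
      (if x = y then (1 : ℂ) else 0) - (if -x = y then 1 else 0)) (fun y hy => ?_),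
      Finset.sum_sub_distrib, Finset.sum_ite_eq, Finset.sum_ite_eq]
    by_cases h1 : x = y
    · subst h1
      rw [if_pos rfl, if_neg (IsSignedIrr.ne_neg_self (hL x hx)).symm, sub_zero,
        IsSignedIrr.classInner_self (hL x hx)]
    by_cases h2 : -x = y
    · subst h2
      rw [if_neg h1, if_pos rfl, classInner_neg_right, IsSignedIrr.classInner_self (hL x hx),
        zero_sub]
    rw [if_neg h1, if_neg h2, sub_zero,
      IsSignedIrr.classInner_eq_zero (hL x hx) (hM y hy) h1 fun h => h2 (by rw [h, neg_neg])]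
  rw [classInner_sum_left, Finset.sum_congr rfl hterm, Finset.sum_sub_distrib, Finset.sum_boole,
    Finset.sum_boole, Finset.filter_mem_eq_inter]

/-- Norm three functions with the inner products of the cyclic TI situation form a grid. -/
theorem isGrid_of_gram {ι κ : Type*} [DecidableEq (G → ℂ)] (X : ι → κ → G → ℂ)
    (L : ι → κ → Finset (G → ℂ)) (hcard : ∀ i j, (L i j).card = 3)
    (hsig : ∀ i j, ∀ x ∈ L i j, IsSignedIrr x) (hno : ∀ i j, ∀ x ∈ L i j, -x ∉ L i j)
    (hX : ∀ i j, X i j = ∑ x ∈ L i j, x) (hdeg : ∀ i j, X i j 1 = -1)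
    (hrow : ∀ i j k, j ≠ k → Cfsg.classInner (X i j) (X i k) = 1)
    (hcol : ∀ i k j, i ≠ k → Cfsg.classInner (X i j) (X k j) = 1)
    (hcross : ∀ i k j l, i ≠ k → j ≠ l → Cfsg.classInner (X i j) (X k l) = 0) : IsGrid L := by
  classical
  have hle : ∀ i j k l, (L i j ∩ L k l).card + ((L i j).filter fun x => -x ∈ L k l).card ≤ 3 := by
    intro i j k l
    rw [← Finset.card_union_of_disjoint, ← hcard i j]
    · exact Finset.card_le_card (Finset.union_subset Finset.inter_subset_left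
        (Finset.filter_subset _ _))
    · refine Finset.disjoint_left.2 fun x hx hx' => ?_
      exact hno k l x (Finset.mem_inter.1 hx).2 (Finset.mem_filter.1 hx').2
  have hval : ∀ i j k l, Cfsg.classInner (X i j) (X k l) =
      ((L i j ∩ L k l).card : ℂ) - (((L i j).filter fun x => -x ∈ L k l).card : ℂ) := fun i j k l => by
    rw [hX, hX, classInner_sum_signed (hsig i j) (hsig k l)]
  have hone : ∀ i j k l, Cfsg.classInner (X i j) (X k l) = 1 →
      (∃ x, L i j ∩ L k l = {x}) ∧ ∀ x ∈ L i j, -x ∉ L k l := by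
    intro i j k l h
    rw [hval, sub_eq_iff_eq_add] at h
    have h' : (L i j ∩ L k l).card = 1 + ((L i j).filter fun x => -x ∈ L k l).card := by
      exact_mod_cast h
    have h3 := hle i j k l
    have ho : ((L i j).filter fun x => -x ∈ L k l).card = 0 := by
      by_contra hne
      have hc2 : (L i j ∩ L k l).card = 2 := by omega
      obtain ⟨z, hz⟩ := Finset.card_eq_one.1
        (show ((L i j).filter fun x => -x ∈ L k l).card = 1 by omega)
      obtain ⟨hz1, hz2⟩ := Finset.mem_filter.1 (hz.symm ▸ Finset.mem_singleton_self z :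
        z ∈ (L i j).filter fun x => -x ∈ L k l)
      have hzn : z ∉ L i j ∩ L k l := fun hm => hno k l z (Finset.mem_inter.1 hm).2 hz2
      have hzn' : -z ∉ L i j ∩ L k l := fun hm => hno i j z hz1 (Finset.mem_inter.1 hm).1
      have e1 : insert z (L i j ∩ L k l) = L i j :=
        Finset.eq_of_subset_of_card_le (Finset.insert_subset hz1 Finset.inter_subset_left)
          (by rw [hcard, Finset.card_insert_of_notMem hzn, hc2])
      have e2 : insert (-z) (L i j ∩ L k l) = L k l :=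
        Finset.eq_of_subset_of_card_le (Finset.insert_subset hz2 Finset.inter_subset_right)
          (by rw [hcard, Finset.card_insert_of_notMem hzn', hc2])
      have d1 := hdeg i j
      have d2 := hdeg k l
      rw [hX, Finset.sum_apply, ← e1, Finset.sum_insert hzn] at d1
      rw [hX, Finset.sum_apply, ← e2, Finset.sum_insert hzn', Pi.neg_apply] at d2
      exact IsSignedIrr.apply_one_ne_zero (hsig i j z hz1) (by linear_combination (d1 - d2) / 2)
    refine ⟨Finset.card_eq_one.1 (by omega), fun x hx hx' => ?_⟩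
    have := Finset.card_eq_zero.1 ho
    exact Finset.notMem_empty x (this ▸ Finset.mem_filter.2 ⟨hx, hx'⟩)
  refine ⟨hcard, hno, fun i j k hjk => hone i j i k (hrow i j k hjk),
    fun i k j hik => hone i j k j (hcol i k j hik), fun i k j l hik hjl => ?_⟩
  have h := hcross i k j l hik hjl
  rw [hval, sub_eq_zero] at h
  have h' : (L i j ∩ L k l).card = ((L i j).filter fun x => -x ∈ L k l).card := by exact_mod_cast h
  have h3 := hle i j k l
  exact ⟨by omega, h'⟩

omit [Fintype G] in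
theorem IsGridSolution.swap {ι κ : Type*} [DecidableEq (G → ℂ)] {L : ι → κ → Finset (G → ℂ)}
    {r : κ → G → ℂ} {c : ι → G → ℂ} {e : κ → ι → G → ℂ}
    (h : IsGridSolution (fun j i => L i j) r c e) :
    IsGridSolution L c r fun i j => e j i :=
  { eq := fun i j => (h.eq j i).trans (Finset.insert_comm _ _ _)
    row_inj := h.col_inj
    col_inj := h.row_inj
    cell_inj := fun i j k l hne => h.cell_inj j i l k hne.symm
    row_col := fun i j => ⟨fun e' => (h.row_col j i).1 e'.symm,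
      fun e' => (h.row_col j i).2 (by rw [e', neg_neg])⟩
    row_cell := fun i k j => h.col_cell i j k
    col_cell := fun j i l => h.row_cell j l i }

/-- Two functions differ up to sign. -/
def SignApart (x y : G → ℂ) : Prop := x ≠ y ∧ x ≠ -y

omit [Fintype G] [Group G] in
theorem SignApart.symm {x y : G → ℂ} (h : SignApart x y) : SignApart y x :=
  ⟨h.1.symm, fun e => h.2 (by rw [e, neg_neg])⟩

omit [Fintype G] [Group G] in
theorem SignApart.neg_left {x y : G → ℂ} (h : SignApart x y) : SignApart (-x) y :=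
  ⟨fun e => h.2 (by rw [← e, neg_neg]), fun e => h.1 (neg_injective e)⟩

omit [Fintype G] [Group G] in
theorem SignApart.neg_right {x y : G → ℂ} (h : SignApart x y) : SignApart x (-y) :=
  h.symm.neg_left.symm

variable {W₁ W₂ : Subgroup G}

/-- There are as many linear characters trivial on `W₁` as elements of `W₂`. -/
theorem card_trivL (hW : Cfsg.IsSelfNormalizingCyclic W₁ W₂) :
    Nat.card {ψ : ↥(W₁ ⊔ W₂) →* ℂˣ // TrivL ψ} = Nat.card W₂ ∧
      Nat.card {φ : ↥(W₁ ⊔ W₂) →* ℂˣ // TrivR φ} = Nat.card W₁ := by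
  obtain ⟨-, -, hdisj, hcomm, hcyc, -⟩ := hW
  let _ : CommGroup ↥(W₁ ⊔ W₂) := IsCyclic.commGroup
  have hA : Nat.card {φ : ↥(W₁ ⊔ W₂) →* ℂˣ // TrivR φ} = Nat.card W₁ :=
    card_trivial_on_right hdisj hcomm fun a b => Subtype.ext (by
      simpa using congrArg (fun x : ↥(W₁ ⊔ W₂) => (x : G))
        (mul_comm (⟨a, le_sup_left (b := W₂) a.2⟩ : ↥(W₁ ⊔ W₂)) ⟨b, le_sup_left (b := W₂) b.2⟩))
  refine ⟨?_, hA⟩
  obtain ⟨p₁, p₂, hp⟩ := exists_split hdisj hcomm
  let f : {φ : ↥(W₁ ⊔ W₂) →* ℂˣ // TrivR φ} × {ψ : ↥(W₁ ⊔ W₂) →* ℂˣ // TrivL ψ} →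
      (↥(W₁ ⊔ W₂) →* ℂˣ) := fun x => x.1.1 * x.2.1
  have hf : Function.Bijective f := by
    refine ⟨fun x y h => ?_, fun ω => ⟨(⟨_, hp.comp₁_trivial ω⟩, ⟨_, hp.comp₂_trivial ω⟩),
      hp.hom_mul ω⟩⟩
    obtain ⟨h1, h2⟩ := hom_pair_ext x.1.2 x.2.2 y.1.2 y.2.2 h
    exact Prod.ext (Subtype.ext h1) (Subtype.ext h2)
  have hc := Nat.card_congr (Equiv.ofBijective f hf)
  have hbot : commutator ↥(W₁ ⊔ W₂) = ⊥ := by
    rw [commutator_def, Subgroup.commutator_eq_bot_iff_le_centralizer]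
    intro a _
    rw [Subgroup.mem_centralizer_iff]
    exact fun b _ => mul_comm b a
  rw [Nat.card_prod, hA, card_hom_eq_index_commutator, hbot, Subgroup.index_bot,
    card_sup_eq hdisj hcomm] at hc
  exact Nat.eq_of_mul_eq_mul_left Nat.card_pos hc

/-- Existence of the family attached to a cyclic TI subgroup of odd order. -/
theorem exists_cyclicTIFamily (hW : Cfsg.IsSelfNormalizingCyclic W₁ W₂)
    (hodd : Odd (Nat.card ↥(W₁ ⊔ W₂))) :
    ∃ χ : (↥(W₁ ⊔ W₂) →* ℂˣ) → (G → ℂ), Cfsg.IsCyclicTIFamily W₁ W₂ χ := by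
  classical
  obtain ⟨hn1, hn2, hdisj, hcomm, hcyc, -⟩ := id hW
  have := Fintype.ofFinite ↥(W₁ ⊔ W₂)
  have := Fintype.ofFinite (↥(W₁ ⊔ W₂) →* ℂˣ)
  obtain ⟨p₁, p₂, hp⟩ := exists_split hdisj hcomm
  obtain ⟨hB, hA⟩ := card_trivL hW
  let A := {φ : ↥(W₁ ⊔ W₂) →* ℂˣ // TrivR φ ∧ φ ≠ 1}
  let B := {ψ : ↥(W₁ ⊔ W₂) →* ℂˣ // TrivL ψ ∧ ψ ≠ 1}
  have hcount : ∀ P : (↥(W₁ ⊔ W₂) →* ℂˣ) → Prop, P 1 →
      Fintype.card {φ // P φ ∧ φ ≠ 1} + 1 = Nat.card {φ // P φ} := fun P h1 => by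
    rw [Nat.card_eq_fintype_card, Fintype.card_subtype, Fintype.card_subtype,
      ← Finset.filter_filter, Finset.filter_ne', Finset.card_erase_add_one (by simpa using h1)]
  have cA : Fintype.card A + 1 = Nat.card W₁ := (hcount _ trivR_one).trans hA
  have cB : Fintype.card B + 1 = Nat.card W₂ := (hcount _ trivL_one).trans hB
  have hprod := card_sup_eq hdisj hcomm
  rw [hprod, Nat.odd_mul] at hodd
  obtain ⟨⟨k₁, hk₁⟩, k₂, hk₂⟩ := hodd
  have hk1 : k₁ ≠ 0 := fun h => hn1 (Subgroup.eq_bot_of_card_eq W₁ (by omega))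
  have hk2 : k₂ ≠ 0 := fun h => hn2 (Subgroup.eq_bot_of_card_eq W₂ (by omega))
  have hne12 : ¬(k₁ = 1 ∧ k₂ = 1) := fun h => by
    have h3 := coprime_of_cyclic_sup hdisj hcomm hcyc
    rw [hk₁, hk₂, h.1, h.2] at h3
    norm_num at h3
  let X : A → B → G → ℂ := fun a b =>
    Cfsg.indFun (W₁ ⊔ W₂) (betaFun a.1 b.1) - fun _ => 1
  have hcf1 : Cfsg.IsGeneralizedCharacter G (fun _ : G => (1 : ℂ)) := isGeneralized_one
  have hg : ∀ a b a' b', Cfsg.classInner (X a b) (X a' b') =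
      (if a = a' then (1 : ℂ) else 0) + (if b = b' then 1 else 0) +
        (if a = a' then 1 else 0) * (if b = b' then 1 else 0) := by
    intro a b a' b'
    simp only [X, classInner_sub_left, classInner_sub_right]
    rw [classInner_indFun_betaFun hW a.2.1 a'.2.1 b.2.1 b'.2.1 a.2.2 a'.2.2 b.2.2 b'.2.2,
      classInner_indFun_betaFun_one a.2.1 b.2.1 a.2.2 b.2.2,
      ← classInner_conj (Cfsg.indFun _ (betaFun a'.1 b'.1)) (fun _ => 1),
      classInner_indFun_betaFun_one a'.2.1 b'.2.1 a'.2.2 b'.2.2, map_one, classInner_one_one]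
    by_cases ha : a = a' <;> by_cases hb : b = b'
    · subst ha; subst hb; simp
    · subst ha; rw [if_neg fun h => hb (Subtype.ext h)]; simp [hb]
    · subst hb; rw [if_neg fun h => ha (Subtype.ext h)]; simp [ha]
    · rw [if_neg fun h => ha (Subtype.ext h), if_neg fun h => hb (Subtype.ext h)]; simp [ha, hb]
  have hgen : ∀ a b, Cfsg.IsGeneralizedCharacter G (X a b) := fun a b =>
    IsGeneralized.sub (IsGeneralized.indFun (isGeneralized_betaFun _ _)) hcf1
  have hnorm : ∀ a b, Cfsg.classInner (X a b) (X a b) = 3 := fun a b => by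
    rw [hg]; simp only [if_true]; norm_num
  choose L hLc hLs hLn hLX using fun a b => exists_signed_triple (hgen a b) (hnorm a b)
  have hgrid : IsGrid L := isGrid_of_gram X L hLc hLs hLn hLX
    (fun a b => by simp [X, indFun_one, betaFun_eq_zero a.2.1 b.2.1 1 (Or.inl W₁.one_mem)])
    (fun a b b' h => by rw [hg, if_pos rfl, if_neg h]; ring)
    (fun a a' b h => by rw [hg, if_pos rfl, if_neg h]; ring)
    (fun a a' b b' h h' => by rw [hg, if_neg h, if_neg h']; ring)
  obtain ⟨r, c, e, hsol⟩ : ∃ r c e, IsGridSolution L r c e := by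
    by_cases h : 4 ≤ Fintype.card B
    · exact hgrid.exists_solution (by omega) h
    · obtain ⟨r, c, e, hs⟩ := hgrid.swap.exists_solution (by omega) (by omega)
      exact ⟨c, r, _, IsGridSolution.swap hs⟩
  obtain ⟨a₀⟩ : Nonempty A := Fintype.card_pos_iff.1 (by omega)
  obtain ⟨b₀⟩ : Nonempty B := Fintype.card_pos_iff.1 (by omega)
  have hmr : ∀ a b, r a ∈ L a b := fun a b => by simp [hsol.eq a b]
  have hmc : ∀ a b, c b ∈ L a b := fun a b => by simp [hsol.eq a b]
  have hme : ∀ a b, e a b ∈ L a b := fun a b => by simp [hsol.eq a b]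
  have hone : IsSignedIrr (fun _ : G => (1 : ℂ)) := Or.inl isIrrCharacter_one
  have hX0 : ∀ a b, Cfsg.classInner (X a b) (fun _ => 1) = 0 := fun a b => by
    simp only [X, classInner_sub_left]
    rw [classInner_indFun_betaFun_one a.2.1 b.2.1 a.2.2 b.2.2, classInner_one_one, sub_self]
  have hXself : ∀ a b, ∀ x ∈ L a b, Cfsg.classInner (X a b) x = 1 := fun a b x hx => by
    rw [hLX, classInner_sum_left, Finset.sum_eq_single x (fun y hy hne =>
      IsSignedIrr.classInner_eq_zero (hLs a b y hy) (hLs a b x hx) hne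
        fun e => hLn a b x hx (e ▸ hy)) (fun h => absurd hx h),
      IsSignedIrr.classInner_self (hLs a b x hx)]
  have hapart : ∀ a b, ∀ x ∈ L a b, SignApart x (fun _ : G => (1 : ℂ)) := fun a b x hx =>
    ⟨fun e => by
      have h := hXself a b x hx
      rw [e, hX0] at h; exact zero_ne_one h,
    fun e => by
      have h := hXself a b x hx
      rw [e, classInner_neg_right, hX0, neg_zero] at h; exact zero_ne_one h⟩
  let F : (↥(W₁ ⊔ W₂) →* ℂˣ) → (↥(W₁ ⊔ W₂) →* ℂˣ) → G → ℂ := fun φ ψ =>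
    if ha : TrivR φ ∧ φ ≠ 1 then (if hb : TrivL ψ ∧ ψ ≠ 1 then e ⟨φ, ha⟩ ⟨ψ, hb⟩ else -r ⟨φ, ha⟩)
    else (if hb : TrivL ψ ∧ ψ ≠ 1 then -c ⟨ψ, hb⟩ else fun _ => 1)
  have hFe : ∀ (a : A) (b : B), F a.1 b.1 = e a b := fun a b => by
    simp only [F]; rw [dif_pos a.2, dif_pos b.2]
  have hFr : ∀ a : A, F a.1 1 = -r a := fun a => by
    simp only [F]; rw [dif_pos a.2, dif_neg fun h => h.2 rfl]
  have hFc : ∀ b : B, F 1 b.1 = -c b := fun b => by
    simp only [F]; rw [dif_neg fun h => h.2 rfl, dif_pos b.2]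
  have hF1 : F 1 1 = fun _ => 1 := by
    simp only [F]; rw [dif_neg fun h => h.2 rfl, dif_neg fun h => h.2 rfl]
  let χ : (↥(W₁ ⊔ W₂) →* ℂˣ) → G → ℂ := fun ω => F (ω.comp p₁) (ω.comp p₂)
  have hχF : ∀ φ ψ, TrivR φ → TrivL ψ → χ (φ * ψ) = F φ ψ := fun φ ψ hφ hψ => by
    obtain ⟨e1, e2⟩ := hom_pair_ext (hp.comp₁_trivial (φ * ψ)) (hp.comp₂_trivial (φ * ψ)) hφ hψ
      (hp.hom_mul _)
    simp only [χ, e1, e2]
  have hcase : ∀ ω, (ω = 1 ∧ χ ω = fun _ => 1) ∨ (∃ a : A, ω = a.1 ∧ χ ω = -r a) ∨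
      (∃ b : B, ω = b.1 ∧ χ ω = -c b) ∨
      (∃ (a : A) (b : B), ω = a.1 * b.1 ∧ χ ω = e a b) := fun ω => by
    have hω := hp.hom_mul ω
    by_cases h1 : ω.comp p₁ = 1 <;> by_cases h2 : ω.comp p₂ = 1
    · refine Or.inl ⟨?_, ?_⟩
      · rw [← hω, h1, h2, hom_one_mul']
      · simp only [χ, h1, h2, hF1]
    · refine Or.inr (Or.inr (Or.inl ⟨⟨_, hp.comp₂_trivial ω, h2⟩, ?_, ?_⟩))
      · conv_lhs => rw [← hω, h1, hom_one_mul']
      · simp only [χ, h1]; exact hFc ⟨_, hp.comp₂_trivial ω, h2⟩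
    · refine Or.inr (Or.inl ⟨⟨_, hp.comp₁_trivial ω, h1⟩, ?_, ?_⟩)
      · conv_lhs => rw [← hω, h2, hom_mul_one']
      · simp only [χ, h2]; exact hFr ⟨_, hp.comp₁_trivial ω, h1⟩
    · exact Or.inr (Or.inr (Or.inr ⟨⟨_, hp.comp₁_trivial ω, h1⟩, ⟨_, hp.comp₂_trivial ω, h2⟩,
        hω.symm, hFe ⟨_, hp.comp₁_trivial ω, h1⟩ ⟨_, hp.comp₂_trivial ω, h2⟩⟩))
  have hsigned : ∀ ω, IsSignedIrr (χ ω) := fun ω => by
    rcases hcase ω with ⟨-, h⟩ | ⟨a, -, h⟩ | ⟨b, -, h⟩ | ⟨a, b, -, h⟩ <;> rw [h]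
    exacts [hone, (hLs a b₀ _ (hmr a b₀)).neg, (hLs a₀ b _ (hmc a₀ b)).neg, hLs a b _ (hme a b)]
  have p1r : ∀ a, SignApart (fun _ : G => (1 : ℂ)) (-r a) := fun a =>
    (hapart a b₀ _ (hmr a b₀)).symm.neg_right
  have p1c : ∀ b, SignApart (fun _ : G => (1 : ℂ)) (-c b) := fun b =>
    (hapart a₀ b _ (hmc a₀ b)).symm.neg_right
  have p1e : ∀ a b, SignApart (fun _ : G => (1 : ℂ)) (e a b) := fun a b =>
    (hapart a b _ (hme a b)).symm
  have prc : ∀ a b, SignApart (-r a) (-c b) := fun a b =>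
    (SignApart.neg_left (hsol.row_col a b)).neg_right
  have pre : ∀ a a' b, SignApart (-r a) (e a' b) := fun a a' b =>
    SignApart.neg_left (hsol.row_cell a a' b)
  have pce : ∀ b a b', SignApart (-c b) (e a b') := fun b a b' =>
    SignApart.neg_left (hsol.col_cell b a b')
  have hdistinct : ∀ ω ω', ω ≠ ω' → SignApart (χ ω) (χ ω') := fun ω ω' hne => by
    rcases hcase ω with ⟨e0, h⟩ | ⟨a, e0, h⟩ | ⟨b, e0, h⟩ | ⟨a, b, e0, h⟩ <;>
      rcases hcase ω' with ⟨e0', h'⟩ | ⟨a', e0', h'⟩ | ⟨b', e0', h'⟩ | ⟨a', b', e0', h'⟩ <;>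
      rw [h, h']
    · exact absurd (e0.trans e0'.symm) hne
    · exact p1r a'
    · exact p1c b'
    · exact p1e a' b'
    · exact (p1r a).symm
    · exact (SignApart.neg_left (hsol.row_inj a a' fun ee => hne (by rw [e0, e0', ee]))).neg_right
    · exact prc a b'
    · exact pre a a' b'
    · exact (p1c b).symm
    · exact (prc a' b).symm
    · exact (SignApart.neg_left (hsol.col_inj b b' fun ee => hne (by rw [e0, e0', ee]))).neg_right
    · exact pce b a' b'
    · exact (p1e a b).symm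
    · exact (pre a' a b).symm
    · exact (pce b' a b).symm
    · refine hsol.cell_inj a b a' b' ?_
      by_contra hc
      push Not at hc
      exact hne (by rw [e0, e0', hc.1, hc.2])
  have horth : ∀ ω ω', Cfsg.classInner (χ ω) (χ ω') = if ω = ω' then 1 else 0 := fun ω ω' => by
    split_ifs with h
    · subst h; exact IsSignedIrr.classInner_self (hsigned ω)
    · exact IsSignedIrr.classInner_eq_zero (hsigned ω) (hsigned ω') (hdistinct ω ω' h).1
        (hdistinct ω ω' h).2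
  have hmap1 : χ 1 = fun _ => 1 := by
    have h := hχF 1 1 trivR_one trivL_one
    rw [hom_one_mul', hF1] at h
    exact h
  have hind : ∀ φ ψ : ↥(W₁ ⊔ W₂) →* ℂˣ, TrivR φ → TrivL ψ → φ ≠ 1 → ψ ≠ 1 →
      Cfsg.indFun (W₁ ⊔ W₂) (betaFun φ ψ) = fun g => 1 - χ φ g - χ ψ g + χ (φ * ψ) g := by
    intro φ ψ hφ hψ h1 h2
    let a : A := ⟨φ, hφ, h1⟩
    let b : B := ⟨ψ, hψ, h2⟩
    have ea : χ φ = -r a := by
      have h := hχF φ 1 hφ trivL_one
      rw [hom_mul_one'] at h
      rw [h]; exact hFr a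
    have eb : χ ψ = -c b := by
      have h := hχF 1 ψ trivR_one hψ
      rw [hom_one_mul'] at h
      rw [h]; exact hFc b
    have eab : χ (φ * ψ) = e a b := (hχF φ ψ hφ hψ).trans (hFe a b)
    have hXeq : X a b = r a + c b + e a b := by
      rw [hLX, hsol.eq a b, Finset.sum_insert, Finset.sum_pair (hsol.col_cell b a b).1, add_assoc]
      simp only [Finset.mem_insert, Finset.mem_singleton, not_or]
      exact ⟨(hsol.row_col a b).1, (hsol.row_cell a a b).1⟩
    funext g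
    have hg' := congrFun hXeq g
    simp only [X, Pi.sub_apply, Pi.add_apply] at hg'
    rw [ea, eb, eab, Pi.neg_apply, Pi.neg_apply]
    linear_combination hg'
  exact ⟨χ, fun ω => hsigned ω, fun ω ω' => by convert horth ω ω', hmap1,
    fun ω w h1 h2 => eq_on_of_induced hW hsigned horth hmap1 hind ω h1 h2,
    fun φ ψ h1 h2 hφ hψ => hind φ ψ hφ hψ h1 h2⟩

end CfsgLib.Char
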