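import Cfsg.Agent.Char.Induction
import Cfsg.Agent.Char.CosetConj
import Cfsg.Prelude.Def_OddOrderChar
import Cfsg.Prelude.Def_OddOrderLocal
import Mathlib.GroupTheory.QuotientGroup.Basic

/-!
# The Dade set-up
-/

namespace CfsgLib.Char

universe u

variable {G : Type u} [Group G]

/-- In `C = N L'` with `L'` normalising `N`, elements of order prime to `|L'|` lie in `N`. -/
theorem mem_of_coprime_orderOf [Finite G] {N L' C : Subgroup G} (hsup : N ⊔ L' = C)
    (hn : ∀ c ∈ C, ∀ u ∈ N, c * u * c⁻¹ ∈ N) {u : G} (hu : u ∈ C)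
    (hcop : (orderOf u).Coprime (Nat.card L')) : u ∈ N := by
  have hN : (N.subgroupOf C).Normal := ⟨fun x hx c => hn c c.2 x hx⟩
  set q := QuotientGroup.mk' (N.subgroupOf C)
  let f : L' →* ↥C ⧸ N.subgroupOf C := q.comp (Subgroup.inclusion (hsup ▸ le_sup_right))
  have hf : Function.Surjective f := by
    intro z
    obtain ⟨⟨c, hc⟩, rfl⟩ := QuotientGroup.mk'_surjective _ z
    have hLC : L' ≤ C := hsup ▸ le_sup_right
    have hnorm : L' ≤ Subgroup.normalizer (N : Set G) :=
      Subgroup.le_set_normalizer_iff.2 fun l hl x hx => hn l (hLC hl) x hx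
    obtain ⟨n, hn', l, hl, hnl⟩ : ∃ n ∈ N, ∃ l ∈ L', n * l = c := by
      have : c ∈ ((N ⊔ L' : Subgroup G) : Set G) := by rw [hsup]; exact hc
      rw [Subgroup.coe_mul_of_right_le_normalizer_left N L' hnorm] at this
      exact Set.mem_mul.1 this
    refine ⟨⟨l, hl⟩, ?_⟩
    change q _ = q _
    rw [QuotientGroup.mk'_eq_mk']
    refine ⟨⟨l⁻¹ * c, C.mul_mem (C.inv_mem (hLC hl)) hc⟩, ?_,
      Subtype.ext (by simp)⟩
    rw [Subgroup.mem_subgroupOf]
    change l⁻¹ * c ∈ N
    rw [← hnl, ← mul_assoc]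
    have := hn l⁻¹ (hLC (inv_mem hl)) n hn'
    rwa [inv_inv] at this
  have h1 : orderOf (q ⟨u, hu⟩) = 1 := Nat.eq_one_of_dvd_coprimes hcop
    ((orderOf_map_dvd q _).trans (by rw [Subgroup.orderOf_mk]))
    ((orderOf_dvd_natCard _).trans (Subgroup.card_dvd_of_surjective f hf))
  exact Subgroup.mem_subgroupOf.1 ((QuotientGroup.eq_one_iff _).1 (orderOf_eq_one_iff.1 h1))

/-- `A` is a TI-subset with normaliser `L` iff the Dade hypothesis holds with trivial subgroups. -/
theorem dade_bot_iff {A : Set G} (hA : A.Nonempty) (h1 : (1 : G) ∉ A) (L : Subgroup G) :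
    (Cfsg.IsTISubset A ∧ Subgroup.normalizer A = L) ↔ Cfsg.DadeHypothesis A L (fun _ => ⊥) := by
  constructor
  · rintro ⟨hTI, rfl⟩
    have hmem : ∀ g : G, ∀ a ∈ A, g * a * g⁻¹ ∈ A → g ∈ Subgroup.normalizer A := fun g a ha hga => by
      by_contra hn
      exact h1 (hTI g hn a ha hga ▸ ha)
    refine ⟨h1, fun a ha => hmem a a ha (by simpa using ha),
      fun x hx a ha => (Subgroup.mem_set_normalizer_iff.1 hx a).1 ha,
      fun a ha g hg => ⟨g, hmem g a ha hg, rfl⟩, fun a _ => bot_le,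
      fun a _ c _ u hu => ?_, fun a _ => bot_inf_eq _, fun a ha => ?_,
      fun a _ b _ => by simp⟩
    · rw [Subgroup.mem_bot] at hu ⊢; simp [hu]
    · rw [bot_sup_eq, inf_eq_right]
      intro c hc
      refine hmem c a ha ?_
      rw [Subgroup.mem_centralizer_singleton_iff] at hc
      rwa [hc, mul_inv_cancel_right]
  · intro hD
    have hmem : ∀ g : G, ∀ a ∈ A, g * a * g⁻¹ ∈ A → g ∈ L := by
      intro g a ha hga
      obtain ⟨x, hx, hxa⟩ := hD.fusion a ha g hga
      have hc : x⁻¹ * g ∈ Subgroup.centralizer ({a} : Set G) := by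
        rw [Subgroup.mem_centralizer_singleton_iff]
        calc x⁻¹ * g * a = x⁻¹ * (g * a * g⁻¹) * g := by group
          _ = a * (x⁻¹ * g) := by rw [← hxa]; group
      have he := hD.sup_eq a ha
      rw [bot_sup_eq] at he
      rw [← he] at hc
      have := L.mul_mem hx hc.1
      rwa [mul_inv_cancel_left] at this
    obtain ⟨a₀, ha₀⟩ := hA
    have hN : Subgroup.normalizer A = L := le_antisymm
      (fun g hg => hmem g a₀ ha₀ ((Subgroup.mem_set_normalizer_iff.1 hg a₀).1 ha₀))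
      (Subgroup.le_set_normalizer_iff.2 hD.conj_mem)
    refine ⟨fun g hg a ha hga => ?_, hN⟩
    exact absurd (hN ▸ hmem g a ha hga) hg

variable [Finite G] {A : Set G} {L : Subgroup G} {H : G → Subgroup G}

/-- The subgroups `H a` are permuted by `L` compatibly. -/
theorem dade_H_conj (hD : Cfsg.DadeHypothesis A L H) {a : G} (ha : a ∈ A) {x : G} (hx : x ∈ L) :
    H (x * a * x⁻¹) = (H a).map (MulAut.conj x).toMonoidHom := by
  have key : ∀ a ∈ A, ∀ x ∈ L, ∀ u ∈ H a, x * u * x⁻¹ ∈ H (x * a * x⁻¹) := by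
    intro a ha x hx u hu
    set b := x * a * x⁻¹ with hb
    have hbA : b ∈ A := hD.conj_mem x hx a ha
    refine mem_of_coprime_orderOf (hD.sup_eq b hbA) (hD.conj_mem_H b hbA) ?_ ?_
    · have h := Subgroup.mem_centralizer_singleton_iff.1 (hD.le_centralizer a ha hu)
      rw [Subgroup.mem_centralizer_singleton_iff, hb]
      calc x * u * x⁻¹ * (x * a * x⁻¹) = x * (u * a) * x⁻¹ := by group
        _ = x * a * x⁻¹ * (x * u * x⁻¹) := by rw [h]; group
    · refine Nat.Coprime.coprime_dvd_left ?_ (hD.coprime a ha b hbA)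
      rw [show orderOf (x * u * x⁻¹) = orderOf u from (MulAut.conj x).orderOf_eq u]
      have := orderOf_dvd_natCard (⟨u, hu⟩ : H a)
      rwa [Subgroup.orderOf_mk] at this
  ext u
  constructor
  · intro hu
    have := key _ (hD.conj_mem x hx a ha) x⁻¹ (L.inv_mem hx) u hu
    rw [show x⁻¹ * (x * a * x⁻¹) * x⁻¹⁻¹ = a by group] at this
    exact ⟨_, this, by simp [mul_assoc]⟩
  · rintro ⟨v, hv, rfl⟩
    exact key a ha x hx v hv

end CfsgLib.Char
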