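import Cfsg.Agent.Char.DadeIntegral
import Cfsg.Agent.Char.Signed

/-!
# Consequences of the Dade isometry
-/

namespace CfsgLib.Char

open scoped ComplexConjugate

universe u

variable {G : Type u} [Group G] [Fintype G] {A : Set G} {L : Subgroup G} [Fintype L]
  {H : G → Subgroup G}

theorem dade_norm_ge (hD : Cfsg.DadeHypothesis A L H) {χ : G → ℂ} (hχ : Cfsg.IsClassFunction G χ)
    {ψ : L → ℂ} (hψ : ∀ a : L, (a : G) ∈ A → ψ a =
      (Nat.card (H (a : G)) : ℂ)⁻¹ * ∑ᶠ u ∈ (H (a : G) : Set G), χ ((a : G) * u)) :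
    (Nat.card L : ℝ)⁻¹ * ∑ᶠ a ∈ {a : L | (a : G) ∈ A}, ‖ψ a‖ ^ 2 ≤
      (Nat.card G : ℝ)⁻¹ *
        ∑ᶠ g ∈ {g : G | ∃ a ∈ A, ∃ u ∈ H a, ∃ x : G, x * g * x⁻¹ = a * u}, ‖χ g‖ ^ 2 := by
  classical
  set T := {g : G | ∃ a ∈ A, ∃ u ∈ H a, ∃ x : G, x * g * x⁻¹ = a * u}
  have hT : ∀ g x : G, x * g * x⁻¹ ∈ T ↔ g ∈ T := fun g x => by
    constructor
    · rintro ⟨a, ha, u, hu, y, hy⟩
      exact ⟨a, ha, u, hu, y * x, by rw [← hy]; group⟩
    · rintro ⟨a, ha, u, hu, y, hy⟩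
      exact ⟨a, ha, u, hu, y * x⁻¹, by rw [← hy]; group⟩
  have hs := dade_sum hD (R := ℝ) (F := fun g => if g ∈ T then ‖χ g‖ ^ 2 else 0)
    (fun g x => by simp only [hT, hχ g x])
    (fun g hg => if_neg hg)
  rw [finsum_mem_eq_finite_toFinset_sum (s := T) _ (Set.toFinite _),
    finsum_mem_eq_finite_toFinset_sum (s := {a : L | (a : G) ∈ A}) _ (Set.toFinite _)]
  rw [Finset.sum_ite, Finset.sum_const_zero, add_zero] at hs
  rw [show (Set.toFinite T).toFinset = Finset.univ.filter (fun g => g ∈ T) by ext; simp [T], hs,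
    show (Set.toFinite {a : L | (a : G) ∈ A}).toFinset =
      Finset.univ.filter (fun a : L => (a : G) ∈ A) by ext; simp]
  have hG : (Nat.card G : ℝ) ≠ 0 := by exact_mod_cast Nat.card_pos.ne'
  rw [← mul_assoc, ← mul_div_assoc, inv_mul_cancel₀ hG, one_div]
  refine mul_le_mul_of_nonneg_left (Finset.sum_le_sum fun a ha => ?_) (by positivity)
  have ha' : (a : G) ∈ A := (Finset.mem_filter.1 ha).2
  rw [hψ a ha', finsum_mem_eq_finite_toFinset_sum _ (Set.toFinite _),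
    finsum_mem_eq_finite_toFinset_sum _ (Set.toFinite _)]
  set K := (Set.toFinite ((H (a : G)) : Set G)).toFinset with hK
  have hcard : (Nat.card (H (a : G)) : ℝ) = K.card := by
    rw [hK, ← Set.ncard_eq_toFinset_card, ← Nat.card_coe_set_eq]; rfl
  have hmem : ∀ u ∈ K, (a : G) * u ∈ T := fun u hu =>
    ⟨a, ha', u, (Set.Finite.mem_toFinset _).1 hu, 1, by group⟩
  rw [Finset.sum_congr rfl fun u hu => if_pos (hmem u hu), norm_mul, norm_inv, Complex.norm_natCast,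
    mul_pow, hcard]
  have hn : 0 < (K.card : ℝ) := by rw [← hcard]; exact_mod_cast Nat.card_pos
  have h1 : ‖∑ u ∈ K, χ ((a : G) * u)‖ ^ 2 ≤ (K.card : ℝ) * ∑ u ∈ K, ‖χ ((a : G) * u)‖ ^ 2 := by
    calc ‖∑ u ∈ K, χ ((a : G) * u)‖ ^ 2 ≤ (∑ u ∈ K, ‖χ ((a : G) * u)‖) ^ 2 :=
          pow_le_pow_left₀ (norm_nonneg _) (norm_sum_le _ _) 2
      _ ≤ _ := sq_sum_le_card_mul_sum_sq
  calc (K.card : ℝ)⁻¹ ^ 2 * ‖∑ u ∈ K, χ ((a : G) * u)‖ ^ 2
      ≤ (K.card : ℝ)⁻¹ ^ 2 * ((K.card : ℝ) * ∑ u ∈ K, ‖χ ((a : G) * u)‖ ^ 2) :=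
        mul_le_mul_of_nonneg_left h1 (by positivity)
    _ = (K.card : ℝ)⁻¹ * ∑ u ∈ K, ‖χ ((a : G) * u)‖ ^ 2 := by field_simp

theorem dade_exists_conj_pair (hD : Cfsg.DadeHypothesis A L H) {χ : L → ℂ}
    (hχ : Cfsg.IsIrrCharacter L χ) (hsupp : ∀ x : L, x ≠ 1 → (x : G) ∉ A → χ x = 0) :
    ∃ μ : G → ℂ, Cfsg.IsIrrCharacter G μ ∧
      Cfsg.dadeIsometry A L H (χ - Cfsg.conjFun χ) = μ - Cfsg.conjFun μ := by
  classical
  set α := χ - Cfsg.conjFun χ with hα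
  have hχ' : Cfsg.IsIrrCharacter L (Cfsg.conjFun χ) := IsIrrCharacter.conj hχ
  have hgen : Cfsg.IsGeneralizedCharacter L α :=
    IsGeneralized.sub (IsIrrCharacter.isGeneralized hχ) (IsIrrCharacter.isGeneralized hχ')
  have hcl := IsGeneralized.isClassFunction hgen
  have hαA : ∀ x : L, (x : G) ∉ A → α x = 0 := fun x hx => by
    by_cases h1 : x = 1
    · obtain ⟨d, -, hd⟩ := IsIrrCharacter.exists_degree hχ
      simp [hα, h1, Cfsg.conjFun, hd]
    · simp [hα, Cfsg.conjFun, hsupp x h1 hx]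
  by_cases hreal : χ = Cfsg.conjFun χ
  · refine ⟨fun _ => 1, isIrrCharacter_one, funext fun g => ?_⟩
    rw [hα, ← hreal, sub_self]
    simp [Cfsg.conjFun, Cfsg.dadeIsometry]
  set τ := Cfsg.dadeIsometry A L H α with hτ
  have hτgen : Cfsg.IsGeneralizedCharacter G τ := isGeneralized_dadeIsometry hD hgen hαA
  have hτcl := IsGeneralized.isClassFunction hτgen
  have hnorm : Cfsg.classInner τ τ = 2 := by
    rw [hτ, classInner_dadeIsometry_dadeIsometry hD hcl hαA hcl, hα, classInner_sub_left,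
      classInner_sub_right, classInner_sub_right, IsIrrCharacter.classInner_self hχ,
      IsIrrCharacter.classInner_self hχ', IsIrrCharacter.classInner_of_ne hχ hχ' hreal,
      IsIrrCharacter.classInner_of_ne hχ' hχ (Ne.symm hreal)]
    norm_num
  -- the irreducible constituents
  have hm : ∀ μ ∈ irrFinset G, ∃ n : ℤ, Cfsg.classInner τ μ = n := fun μ hμ =>
    IsGeneralized.exists_classInner_eq_int hτgen
      (IsIrrCharacter.isGeneralized (mem_irrFinset.1 hμ))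
  choose! n hn using hm
  have hsum : ∑ μ ∈ irrFinset G, n μ * n μ = 2 := by
    have h2 := classInner_eq_sum_irr hτcl τ
    rw [hnorm] at h2
    have h3 : ((2 : ℤ) : ℂ) = ((∑ μ ∈ irrFinset G, n μ * n μ : ℤ) : ℂ) := by
      push_cast
      rw [h2]
      exact Finset.sum_congr rfl fun μ hμ => by rw [hn μ hμ]; simp
    exact_mod_cast h3.symm
  have hconjτ : ∀ g, conj (τ g) = -τ g := fun g => by
    rw [hτ]
    by_cases hg : ∃ a ∈ A, ∃ u ∈ H a, ∃ x : G, x * g * x⁻¹ = a * u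
    · obtain ⟨a, ha, u, hu, x, hx⟩ := hg
      rw [dadeIsometry_apply hD hcl (a := ⟨a, hD.subset ha⟩) ha hu hx]
      simp [hα, Cfsg.conjFun]
    · rw [dadeIsometry_eq_zero hD hg]; simp
  have hnconj : ∀ μ ∈ irrFinset G, n (Cfsg.conjFun μ) = -n μ := by
    intro μ hμ
    have hμ' : Cfsg.conjFun μ ∈ irrFinset G :=
      mem_irrFinset.2 (IsIrrCharacter.conj (mem_irrFinset.1 hμ))
    have h1 : Cfsg.classInner τ (Cfsg.conjFun μ) = -conj (Cfsg.classInner τ μ) := by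
      rw [classInner_def, classInner_def, map_mul, map_inv₀, map_natCast, map_sum, ← mul_neg,
        ← Finset.sum_neg_distrib]
      congr 1
      refine Finset.sum_congr rfl fun g _ => ?_
      simp [Cfsg.conjFun, hconjτ g]
    rw [hn μ hμ, hn _ hμ', map_intCast] at h1
    exact_mod_cast h1
  have hexp : τ = ∑ μ ∈ irrFinset G, (n μ : ℂ) • μ := by
    conv_lhs => rw [eq_sum_irr hτcl]
    exact Finset.sum_congr rfl fun μ hμ => by rw [hn μ hμ]
  obtain ⟨μ₀, hμ₀, hne0⟩ : ∃ μ ∈ irrFinset G, n μ * n μ ≠ 0 :=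
    Finset.exists_ne_zero_of_sum_ne_zero (by rw [hsum]; norm_num)
  -- choose the constituent with coefficient one
  have hn0 : n μ₀ ≠ 0 := fun h => hne0 (by simp [h])
  have hμ₀' : Cfsg.conjFun μ₀ ∈ irrFinset G :=
    mem_irrFinset.2 (IsIrrCharacter.conj (mem_irrFinset.1 hμ₀))
  have hcne : μ₀ ≠ Cfsg.conjFun μ₀ := fun h => hn0 (by
    have := hnconj μ₀ hμ₀
    rw [← h] at this
    omega)
  have hle := Finset.sum_le_sum_of_subset_of_nonneg
    (show {μ₀, Cfsg.conjFun μ₀} ⊆ irrFinset G by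
      intro x hx
      simp only [Finset.mem_insert, Finset.mem_singleton] at hx
      rcases hx with rfl | rfl <;> assumption)
    (fun μ _ _ => mul_self_nonneg (n μ))
  rw [Finset.sum_pair hcne, hnconj μ₀ hμ₀, hsum, neg_mul_neg] at hle
  have hsq : n μ₀ * n μ₀ = 1 := by
    have h1 : 0 < n μ₀ * n μ₀ := mul_self_pos.2 hn0
    omega
  have hother : ∀ μ ∈ irrFinset G, μ ≠ μ₀ ∧ μ ≠ Cfsg.conjFun μ₀ → n μ = 0 := by
    intro μ hμ hne
    by_contra h
    have hle' := Finset.sum_le_sum_of_subset_of_nonneg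
      (show insert μ {μ₀, Cfsg.conjFun μ₀} ⊆ irrFinset G by
        intro x hx
        simp only [Finset.mem_insert, Finset.mem_singleton] at hx
        rcases hx with rfl | rfl | rfl <;> assumption)
      (fun ν _ _ => mul_self_nonneg (n ν))
    rw [Finset.sum_insert (by simp [hne.1, hne.2]), Finset.sum_pair hcne, hnconj μ₀ hμ₀, hsum,
      neg_mul_neg, hsq] at hle'
    have h1 : 0 < n μ * n μ := mul_self_pos.2 h
    omega
  have hτ2 : τ = (n μ₀ : ℂ) • (μ₀ - Cfsg.conjFun μ₀) := by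
    rw [hexp, Finset.sum_eq_add μ₀ (Cfsg.conjFun μ₀) hcne
      (fun μ hμ hne => by rw [hother μ hμ hne]; simp) (fun h => absurd hμ₀ h)
      (fun h => absurd hμ₀' h), hnconj μ₀ hμ₀, Int.cast_neg, neg_smul, smul_sub, sub_eq_add_neg]
  have hμi := mem_irrFinset.1 hμ₀
  rcases Int.eq_one_or_neg_one_of_mul_eq_one hsq with h | h
  · exact ⟨μ₀, hμi, by rw [hτ2, h]; simp⟩
  · refine ⟨Cfsg.conjFun μ₀, mem_irrFinset.1 hμ₀', ?_⟩
    rw [hτ2, h]
    funext g
    simp [Cfsg.conjFun]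

end CfsgLib.Char
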