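import Cfsg.Agent.Char.IsometryExt
import Cfsg.Agent.Char.NormTwo
import Mathlib.LinearAlgebra.FiniteDimensional.Lemmas

/-!
# Coherence of sets of characters
-/

namespace CfsgLib.Char

open scoped ComplexConjugate

universe u v

variable {G : Type v} [Group G] [Fintype G]

theorem norm_classInner_int {φ ψ : G → ℂ} {n : ℤ} (h : Cfsg.classInner φ ψ = n) :
    ‖Cfsg.classInner φ ψ‖ ^ 2 = ((n * n : ℤ) : ℝ) := by
  rw [h, Complex.norm_intCast, sq_abs]; push_cast; ring

/-- Projection to an orthonormal set. -/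
theorem classInner_residual (s : Finset (G → ℂ)) [DecidableEq (G → ℂ)]
    (hs : ∀ α ∈ s, ∀ β ∈ s, Cfsg.classInner α β = if α = β then 1 else 0) (D : G → ℂ) :
    Cfsg.classInner (D - ∑ α ∈ s, Cfsg.classInner D α • α)
        (D - ∑ α ∈ s, Cfsg.classInner D α • α) =
      Cfsg.classInner D D - ((∑ α ∈ s, ‖Cfsg.classInner D α‖ ^ 2 : ℝ) : ℂ) := by
  set P := ∑ α ∈ s, Cfsg.classInner D α • α with hP
  have h1 : ∀ β ∈ s, Cfsg.classInner P β = Cfsg.classInner D β := fun β hβ => by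
    rw [hP, classInner_sum_left, Finset.sum_eq_single β (fun α hα hne => by
      rw [classInner_smul_left, hs α hα β hβ, if_neg hne, mul_zero]) (fun h => absurd hβ h),
      classInner_smul_left, hs β hβ β hβ, if_pos rfl, mul_one]
  have h2 : Cfsg.classInner D P = ((∑ α ∈ s, ‖Cfsg.classInner D α‖ ^ 2 : ℝ) : ℂ) := by
    rw [hP, classInner_sum_right, Complex.ofReal_sum]
    refine Finset.sum_congr rfl fun α _ => ?_
    rw [classInner_smul_right, mul_comm, Complex.mul_conj', Complex.ofReal_pow]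
  have h3 : Cfsg.classInner P P = ((∑ α ∈ s, ‖Cfsg.classInner D α‖ ^ 2 : ℝ) : ℂ) := by
    rw [← h2]
    conv_lhs => arg 2; rw [hP]
    conv_rhs => arg 2; rw [hP]
    rw [classInner_sum_right, classInner_sum_right]
    exact Finset.sum_congr rfl fun α hα => by
      rw [classInner_smul_right, classInner_smul_right, h1 α hα]
  have h4 : Cfsg.classInner P D = ((∑ α ∈ s, ‖Cfsg.classInner D α‖ ^ 2 : ℝ) : ℂ) := by
    rw [← classInner_conj, h2, Complex.conj_ofReal]
  rw [classInner_sub_left, classInner_sub_right, classInner_sub_right, h2, h3, h4]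
  ring

theorem classInner_self_re_nonneg (φ : G → ℂ) : 0 ≤ (Cfsg.classInner φ φ).re := by
  rw [classInner_self, Complex.ofReal_re]; positivity

theorem bessel (s : Finset (G → ℂ)) [DecidableEq (G → ℂ)]
    (hs : ∀ α ∈ s, ∀ β ∈ s, Cfsg.classInner α β = if α = β then 1 else 0) (D : G → ℂ) :
    ∑ α ∈ s, ‖Cfsg.classInner D α‖ ^ 2 ≤ (Cfsg.classInner D D).re := by
  have h := congrArg Complex.re (classInner_residual s hs D)
  rw [Complex.sub_re, Complex.ofReal_re] at h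
  linarith [classInner_self_re_nonneg (D - ∑ α ∈ s, Cfsg.classInner D α • α)]

theorem eq_sum_of_bessel_eq (s : Finset (G → ℂ)) [DecidableEq (G → ℂ)]
    (hs : ∀ α ∈ s, ∀ β ∈ s, Cfsg.classInner α β = if α = β then 1 else 0) (D : G → ℂ)
    (h : (Cfsg.classInner D D).re ≤ ∑ α ∈ s, ‖Cfsg.classInner D α‖ ^ 2) :
    D = ∑ α ∈ s, Cfsg.classInner D α • α := by
  refine sub_eq_zero.1 (classInner_self_eq_zero ?_)
  have h1 := classInner_residual s hs D
  have h2 := classInner_self_re_nonneg (D - ∑ α ∈ s, Cfsg.classInner D α • α)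
  have h3 := congrArg Complex.re h1
  rw [Complex.sub_re, Complex.ofReal_re] at h3
  apply Complex.ext
  · simp only [Complex.zero_re]; linarith
  · rw [classInner_self, Complex.ofReal_im, Complex.zero_im]

theorem eq_zero_or_one_of_sum_mul {ι : Type*} (s : Finset ι) (a : ι → ℤ)
    (h : ∑ i ∈ s, a i * a i ≤ ∑ i ∈ s, a i) :
    ∑ i ∈ s, a i * a i = ∑ i ∈ s, a i ∧ ∀ i ∈ s, a i = 0 ∨ a i = 1 := by
  have hle : ∀ i ∈ s, a i ≤ a i * a i := fun i _ => by
    rcases le_or_gt (a i) 0 with h' | h'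
    · nlinarith
    · nlinarith
  have heq := le_antisymm h (Finset.sum_le_sum hle)
  refine ⟨heq, fun i hi => ?_⟩
  have h1 := (Finset.sum_eq_sum_iff_of_le hle).1 heq.symm i hi
  rcases eq_or_ne (a i) 0 with h' | h'
  · exact Or.inl h'
  · exact Or.inr (mul_left_cancel₀ h' (by linarith))

section

variable {L : Type u} [Group L] [Fintype L]

theorem classInner_conjFun_conjFun (φ ψ : L → ℂ) :
    Cfsg.classInner (Cfsg.conjFun φ) (Cfsg.conjFun ψ) = Cfsg.classInner ψ φ :=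
  classInner_conj_conj φ ψ

omit [Group L] [Fintype L] in
theorem conjFun_conjFun (φ : L → ℂ) : Cfsg.conjFun (Cfsg.conjFun φ) = φ :=
  funext fun x => by simp [Cfsg.conjFun]

variable {S : Set (L → ℂ)} {τ : (L → ℂ) → G → ℂ} {R : (L → ℂ) → Finset (G → ℂ)}

theorem coherenceSystem_sub_mem (hS : Cfsg.IsCoherenceSystem S τ R) {χ : L → ℂ} (hχ : χ ∈ S) :
    χ - Cfsg.conjFun χ ∈ Cfsg.zspanOn S ({1}ᶜ : Set L) := by
  refine mem_zspanOn_one.2 ⟨Submodule.sub_mem _ (subset_zspan hχ)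
    (subset_zspan (hS.conj_mem χ hχ)), ?_⟩
  obtain ⟨d, hd⟩ := IsCharacter.exists_degree (hS.isCharacter χ hχ)
  simp [Cfsg.conjFun, hd]

theorem coherenceSystem_ne_zero (hS : Cfsg.IsCoherenceSystem S τ R) {χ : L → ℂ} (hχ : χ ∈ S) :
    χ ≠ 0 := fun h => hS.conj_ne χ hχ (by rw [h]; funext x; simp [Cfsg.conjFun])

theorem classInner_conj_eq_zero (hS : Cfsg.IsCoherenceSystem S τ R) {χ : L → ℂ} (hχ : χ ∈ S) :
    Cfsg.classInner χ (Cfsg.conjFun χ) = 0 :=
  hS.orthogonal χ hχ _ (hS.conj_mem χ hχ) (Ne.symm (hS.conj_ne χ hχ))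

theorem coherenceSystem_norm_diff (hS : Cfsg.IsCoherenceSystem S τ R) {χ : L → ℂ} (hχ : χ ∈ S) :
    Cfsg.classInner (χ - Cfsg.conjFun χ) (χ - Cfsg.conjFun χ) = 2 * Cfsg.classInner χ χ := by
  have h0 := classInner_conj_eq_zero hS hχ
  have h0' : Cfsg.classInner (Cfsg.conjFun χ) χ = 0 := by rw [← classInner_conj, h0, map_zero]
  rw [classInner_sub_left, classInner_sub_right, classInner_sub_right, h0, h0',
    classInner_conjFun_conjFun]
  ring

theorem classInner_R_eq_zero (hS : Cfsg.IsCoherenceSystem S τ R) {φ χ : L → ℂ} (hφ : φ ∈ S)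
    (hχ : χ ∈ S) (h1 : φ ≠ χ) (h2 : φ ≠ Cfsg.conjFun χ) {α β : G → ℂ} (hα : α ∈ R φ)
    (hβ : β ∈ R χ) : Cfsg.classInner α β = 0 :=
  hS.disjoint χ hχ φ hφ (hS.orthogonal φ hφ χ hχ h1)
    (hS.orthogonal φ hφ _ (hS.conj_mem χ hχ) h2) α hα β hβ

/-- The projection on `R χ` of a function with the inner product of `χ` against `χ - conj χ`. -/
theorem projection_R (hS : Cfsg.IsCoherenceSystem S τ R) {χ : L → ℂ} (hχ : χ ∈ S) {D : G → ℂ}
    (hD : Cfsg.IsGeneralizedCharacter G D)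
    (hDχ : Cfsg.classInner D (τ (χ - Cfsg.conjFun χ)) = Cfsg.classInner χ χ) :
    (Cfsg.classInner χ χ).re ≤ ∑ α ∈ R χ, ‖Cfsg.classInner D α‖ ^ 2 ∧
    (∑ α ∈ R χ, ‖Cfsg.classInner D α‖ ^ 2 ≤ (Cfsg.classInner χ χ).re →
      ∑ α ∈ R χ, ‖Cfsg.classInner D α‖ ^ 2 = (Cfsg.classInner χ χ).re ∧
      ∀ α ∈ R χ, Cfsg.classInner D α = 0 ∨ Cfsg.classInner D α = 1) := by
  classical
  have hint : ∀ α ∈ R χ, ∃ n : ℤ, Cfsg.classInner D α = n := fun α hα =>
    IsGeneralized.exists_classInner_eq_int hD (hS.virtual χ hχ α hα)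
  choose! a ha using hint
  have hsum : ((∑ α ∈ R χ, a α : ℤ) : ℝ) = (Cfsg.classInner χ χ).re := by
    rw [← hDχ, hS.sum_eq χ hχ, classInner_sum_right, Finset.sum_congr rfl fun α hα => ha α hα]
    simp
  have hsq : ∑ α ∈ R χ, ‖Cfsg.classInner D α‖ ^ 2 = ((∑ α ∈ R χ, a α * a α : ℤ) : ℝ) := by
    rw [Int.cast_sum]
    exact Finset.sum_congr rfl fun α hα => norm_classInner_int (ha α hα)
  rw [hsq, ← hsum]
  refine ⟨Int.cast_le.2 (Finset.sum_le_sum fun α _ => ?_), fun h => ?_⟩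
  · rcases le_or_gt (a α) 0 with h' | h' <;> nlinarith
  · obtain ⟨h1, h2⟩ := eq_zero_or_one_of_sum_mul (R χ) a (Int.cast_le.1 h)
    refine ⟨by rw [h1], fun α hα => ?_⟩
    rw [ha α hα]
    rcases h2 α hα with h' | h' <;> simp [h']

/-- The extension lemma of Sibley's type, projection part. -/
theorem coherenceSystem_projection (hS : Cfsg.IsCoherenceSystem S τ R) {χ ψ : L → ℂ} (hχ : χ ∈ S)
    (h1 : Cfsg.classInner χ ψ = 0) (h2 : Cfsg.classInner (Cfsg.conjFun χ) ψ = 0)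
    {τ₁ : (L → ℂ) → G → ℂ}
    (hτ₁ : Cfsg.IsLinearIsometryOn (Cfsg.zspan {χ - ψ, χ - Cfsg.conjFun χ}) τ₁)
    (hagree : τ₁ (χ - Cfsg.conjFun χ) = τ (χ - Cfsg.conjFun χ)) :
    (Cfsg.classInner χ χ).re ≤ ∑ α ∈ R χ, ‖Cfsg.classInner (τ₁ (χ - ψ)) α‖ ^ 2 ∧
    ((Cfsg.classInner ψ ψ).re ≤ (Cfsg.classInner (τ₁ (χ - ψ)) (τ₁ (χ - ψ))).re -
        ∑ α ∈ R χ, ‖Cfsg.classInner (τ₁ (χ - ψ)) α‖ ^ 2 →
      ∑ α ∈ R χ, ‖Cfsg.classInner (τ₁ (χ - ψ)) α‖ ^ 2 = (Cfsg.classInner χ χ).re ∧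
      ∀ α ∈ R χ, Cfsg.classInner (τ₁ (χ - ψ)) α = 0 ∨ Cfsg.classInner (τ₁ (χ - ψ)) α = 1) := by
  obtain ⟨-, -, hiso, hgen⟩ := hτ₁
  have ha : χ - ψ ∈ Cfsg.zspan {χ - ψ, χ - Cfsg.conjFun χ} := subset_zspan (Or.inl rfl)
  have hb : χ - Cfsg.conjFun χ ∈ Cfsg.zspan {χ - ψ, χ - Cfsg.conjFun χ} :=
    subset_zspan (Or.inr rfl)
  have h0 := classInner_conj_eq_zero hS hχ
  have e1 : Cfsg.classInner ψ χ = 0 := by rw [← classInner_conj, h1, map_zero]
  have e2 : Cfsg.classInner ψ (Cfsg.conjFun χ) = 0 := by rw [← classInner_conj, h2, map_zero]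
  have hD := projection_R hS hχ (D := τ₁ (χ - ψ)) (hgen _ ha) (by
    rw [← hagree, hiso _ ha _ hb, classInner_sub_left, classInner_sub_right, classInner_sub_right,
      h0, e1, e2]
    ring)
  refine ⟨hD.1, fun h => hD.2 ?_⟩
  have hn : Cfsg.classInner (τ₁ (χ - ψ)) (τ₁ (χ - ψ)) =
      Cfsg.classInner χ χ + Cfsg.classInner ψ ψ := by
    rw [hiso _ ha _ ha, classInner_sub_left, classInner_sub_right, classInner_sub_right, h1, e1]
    ring
  rw [hn, Complex.add_re] at h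
  linarith

theorem finite_of_orthogonal (h : ∀ χ ∈ S, ∀ φ ∈ S, χ ≠ φ → Cfsg.classInner χ φ = 0)
    (h0 : ∀ χ ∈ S, χ ≠ 0) : S.Finite := by
  have hli : LinearIndependent ℂ (fun χ : S => (χ : L → ℂ)) := by
    classical
    rw [linearIndependent_iff']
    intro s g hg i hi
    have h1 := congrArg (fun f => Cfsg.classInner f (i : L → ℂ)) hg
    simp only [classInner_sum_left, classInner_smul_left, classInner_zero_left] at h1
    rw [Finset.sum_eq_single i (fun j _ hne => by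
      rw [h j j.2 i i.2 (fun e => hne (Subtype.ext e)), mul_zero]) (fun h' => absurd hi h'),
      mul_eq_zero] at h1
    exact h1.resolve_right fun h2 => h0 i i.2 (classInner_self_eq_zero h2)
  exact hli.setFinite

/-- Coherence of a coherence system with a single degree. -/
theorem isCoherent_of_equal_degree (hS : Cfsg.IsCoherenceSystem S τ R)
    (hdeg : ∀ φ ∈ S, ∀ ψ ∈ S, φ 1 = ψ 1) : Cfsg.IsCoherent S ({1}ᶜ : Set L) τ := by
  classical
  obtain ⟨χ, hχ⟩ := hS.nonempty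
  have hmem := coherenceSystem_sub_mem hS hχ
  refine ⟨⟨_, hmem, sub_ne_zero.2 (Ne.symm (hS.conj_ne χ hχ))⟩, ?_⟩
  obtain ⟨hadd, -, hiso, hgen⟩ := hS.isometry
  have hlin : Cfsg.IsLinearIsometryOn ((zspanOnSub S ({1}ᶜ : Set L) : Submodule ℤ _) : Set (L → ℂ)) τ :=
    hS.isometry
  set χ' := Cfsg.conjFun χ with hχ'
  have hdiff : ∀ φ ∈ S, ∀ ψ ∈ S, φ - ψ ∈ Cfsg.zspanOn S ({1}ᶜ : Set L) := fun φ hφ ψ hψ =>
    mem_zspanOn_one.2 ⟨Submodule.sub_mem _ (subset_zspan hφ) (subset_zspan hψ), by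
      rw [Pi.sub_apply, hdeg φ hφ ψ hψ, sub_self]⟩
  set N := Cfsg.classInner χ χ with hN
  obtain ⟨k, hk⟩ := IsCharacter.exists_classInner_eq_natCast' (hS.isCharacter χ hχ)
    (hS.isCharacter χ hχ)
  have hχR : ∀ α ∈ R χ, ∀ β ∈ R χ, Cfsg.classInner α β = if α = β then 1 else 0 :=
    hS.orthonormal χ hχ
  -- the projections
  have hmain : ∀ φ ∈ S, φ ≠ χ → φ ≠ χ' →
      (∀ α ∈ R χ, Cfsg.classInner (τ (χ - φ)) α = 0 ∨ Cfsg.classInner (τ (χ - φ)) α = 1) ∧
      ∑ α ∈ R χ, Cfsg.classInner (τ (χ - φ)) α = N ∧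
      τ (χ - φ) = (∑ α ∈ R χ, Cfsg.classInner (τ (χ - φ)) α • α) +
        ∑ β ∈ R φ, Cfsg.classInner (τ (χ - φ)) β • β := by
    intro φ hφ h1 h2
    set D := τ (χ - φ) with hD
    have o1 : Cfsg.classInner χ φ = 0 := hS.orthogonal χ hχ φ hφ (Ne.symm h1)
    have o2 : Cfsg.classInner χ' φ = 0 :=
      hS.orthogonal χ' (hS.conj_mem χ hχ) φ hφ (Ne.symm h2)
    have o1' : Cfsg.classInner φ χ = 0 := by rw [← classInner_conj, o1, map_zero]
    have o2' : Cfsg.classInner φ χ' = 0 := by rw [← classInner_conj, o2, map_zero]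
    have o3 : Cfsg.classInner χ (Cfsg.conjFun φ) = 0 := by
      rw [← conjFun_conjFun χ, classInner_conjFun_conjFun]; exact o2'
    have hDgen := hgen _ (hdiff χ hχ φ hφ)
    have hDn : Cfsg.classInner D D = N + Cfsg.classInner φ φ := by
      rw [hD, hiso _ (hdiff χ hχ φ hφ) _ (hdiff χ hχ φ hφ), classInner_sub_left,
        classInner_sub_right, classInner_sub_right, o1, o1', hN]
      ring
    have hsumR : Cfsg.classInner D (τ (χ - χ')) = N := by
      rw [hD, hiso _ (hdiff χ hχ φ hφ) _ hmem, classInner_sub_left, classInner_sub_right,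
        classInner_sub_right, o1', o2', classInner_conj_eq_zero hS hχ, hN]
      ring
    obtain ⟨hA, hA'⟩ := projection_R hS hχ hDgen hsumR
    have hB := (projection_R hS hφ (D := -D) (IsGeneralized.neg hDgen) (by
      rw [classInner_neg_left, hD, hiso _ (hdiff χ hχ φ hφ) _ (coherenceSystem_sub_mem hS hφ),
        classInner_sub_left, classInner_sub_right, classInner_sub_right, o1, o3,
        classInner_conj_eq_zero hS hφ]
      ring)).1
    simp only [classInner_neg_left, norm_neg] at hB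
    have hdisj : Disjoint (R χ) (R φ) := Finset.disjoint_left.2 fun α hα hα' => by
      have e := classInner_R_eq_zero hS hφ hχ h1 h2 hα' hα
      rw [hS.orthonormal χ hχ α hα α hα, if_pos rfl] at e
      exact one_ne_zero e
    have hU : ∀ α ∈ R χ ∪ R φ, ∀ β ∈ R χ ∪ R φ,
        Cfsg.classInner α β = if α = β then 1 else 0 := by
      intro α hα β hβ
      rcases Finset.mem_union.1 hα with hα | hα <;> rcases Finset.mem_union.1 hβ with hβ | hβ
      · exact hχR α hα β hβ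
      · rw [if_neg fun (e : α = β) => Finset.disjoint_left.1 hdisj hα (e ▸ hβ), ← classInner_conj,
          classInner_R_eq_zero hS hφ hχ h1 h2 hβ hα, map_zero]
      · rw [if_neg fun (e : α = β) => Finset.disjoint_left.1 hdisj hβ (e ▸ hα),
          classInner_R_eq_zero hS hφ hχ h1 h2 hα hβ]
      · exact hS.orthonormal φ hφ α hα β hβ
    have hbes := bessel _ hU D
    rw [Finset.sum_union hdisj, hDn, Complex.add_re] at hbes
    obtain ⟨heq, h01⟩ := hA' (by linarith)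
    refine ⟨h01, ?_, ?_⟩
    · rw [← classInner_sum_right, ← hS.sum_eq χ hχ]; exact hsumR
    · rw [← Finset.sum_union hdisj]
      refine eq_sum_of_bessel_eq _ hU D ?_
      rw [Finset.sum_union hdisj, hDn, Complex.add_re]
      linarith
  have hsame : ∀ φ ∈ S, φ ≠ χ → φ ≠ χ' → ∀ ψ ∈ S, ψ ≠ χ → ψ ≠ χ' → ∀ α ∈ R χ,
      Cfsg.classInner (τ (χ - φ)) α = Cfsg.classInner (τ (χ - ψ)) α := by
    intro φ hφ a1 a2 ψ hψ b1 b2 α hα
    by_cases e1 : φ = ψ
    · rw [e1]
    by_cases e2 : φ = Cfsg.conjFun ψ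
    · subst e2
      have hd : τ (χ - Cfsg.conjFun ψ) = τ (χ - ψ) + τ (ψ - Cfsg.conjFun ψ) := by
        rw [← hadd _ (hdiff χ hχ ψ hψ) _ (coherenceSystem_sub_mem hS hψ), sub_add_sub_cancel]
      rw [hd, classInner_add_left, hS.sum_eq ψ hψ, classInner_sum_left, Finset.sum_eq_zero
        (fun β hβ => classInner_R_eq_zero hS hψ hχ b1 b2 hβ hα), add_zero]
    obtain ⟨f1, f2, f3⟩ := hmain φ hφ a1 a2
    obtain ⟨g1, g2, g3⟩ := hmain ψ hψ b1 b2
    have o0 : Cfsg.classInner φ ψ = 0 := hS.orthogonal φ hφ ψ hψ e1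
    have hinner : Cfsg.classInner (τ (χ - φ)) (τ (χ - ψ)) = N := by
      rw [hiso _ (hdiff χ hχ φ hφ) _ (hdiff χ hχ ψ hψ), classInner_sub_left, classInner_sub_right,
        classInner_sub_right, hS.orthogonal χ hχ ψ hψ (Ne.symm b1), hS.orthogonal φ hφ χ hχ a1, o0,
        hN]
      ring
    have hprod : ∑ α ∈ R χ, Cfsg.classInner (τ (χ - φ)) α *
        Cfsg.classInner (τ (χ - ψ)) α = N := by
      rw [← hinner]
      conv_rhs => arg 2; rw [g3]
      rw [classInner_add_right, classInner_sum_right, classInner_sum_right,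
        Finset.sum_eq_zero (s := R ψ) fun β hβ => ?_, add_zero]
      · refine Finset.sum_congr rfl fun β hβ => ?_
        rw [classInner_smul_right, mul_comm]
        congr 1
        rcases g1 β hβ with h | h <;> simp [h]
      · rw [classInner_smul_right]
        apply mul_eq_zero_of_right
        rw [f3, classInner_add_left, classInner_sum_left, classInner_sum_left,
          Finset.sum_eq_zero fun γ hγ => ?_, Finset.sum_eq_zero fun γ hγ => ?_, add_zero]
        · rw [classInner_smul_left, classInner_R_eq_zero hS hφ hψ e1 e2 hγ hβ, mul_zero]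
        · rw [classInner_smul_left, ← classInner_conj β γ,
            classInner_R_eq_zero hS hψ hχ b1 b2 hβ hγ, map_zero, mul_zero]
    have hz : ∑ β ∈ R χ, (Cfsg.classInner (τ (χ - φ)) β - Cfsg.classInner (τ (χ - φ)) β *
        Cfsg.classInner (τ (χ - ψ)) β) = 0 := by
      rw [Finset.sum_sub_distrib, f2, hprod, sub_self]
    have hz' : ∑ β ∈ R χ, (Cfsg.classInner (τ (χ - ψ)) β - Cfsg.classInner (τ (χ - φ)) β *
        Cfsg.classInner (τ (χ - ψ)) β) = 0 := by
      rw [Finset.sum_sub_distrib, g2, hprod, sub_self]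
    have hzr := congrArg Complex.re hz
    have hzr' := congrArg Complex.re hz'
    rw [Complex.re_sum, Complex.zero_re] at hzr hzr'
    have k1 := (Finset.sum_eq_zero_iff_of_nonneg fun β hβ => by
      rcases f1 β hβ with h | h <;> rcases g1 β hβ with h' | h' <;> simp [h, h']).1 hzr α hα
    have k2 := (Finset.sum_eq_zero_iff_of_nonneg fun β hβ => by
      rcases f1 β hβ with h | h <;> rcases g1 β hβ with h' | h' <;> simp [h, h']).1 hzr' α hα
    rcases f1 α hα with h | h <;> rcases g1 α hα with h' | h' <;> simp [h, h'] at k1 k2 ⊢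
  -- the image of χ
  have hcard : ((R χ).card : ℂ) = 2 * N := by
    have h := hiso _ hmem _ hmem
    rw [hS.sum_eq χ hχ, coherenceSystem_norm_diff hS hχ, classInner_sum_left] at h
    rw [← hN] at h
    rw [← h, Finset.cast_card]
    refine Finset.sum_congr rfl fun α hα => ?_
    rw [classInner_sum_right, Finset.sum_eq_single α (fun β hβ hne => by
      rw [hχR α hα β hβ, if_neg (Ne.symm hne)]) (fun h' => absurd hα h'), hχR α hα α hα, if_pos rfl]
  obtain ⟨X, hXgen, hXn, hXd, hXo⟩ : ∃ X : G → ℂ, Cfsg.IsGeneralizedCharacter G X ∧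
      Cfsg.classInner X X = N ∧ Cfsg.classInner (τ (χ - χ')) X = N ∧
      ∀ φ ∈ S, φ ≠ χ → φ ≠ χ' → Cfsg.classInner (τ (χ - φ)) X = N := by
    obtain ⟨a, ha01, haN, hao⟩ : ∃ a : (G → ℂ) → ℂ, (∀ α ∈ R χ, a α = 0 ∨ a α = 1) ∧
        ∑ α ∈ R χ, a α = N ∧
        ∀ φ ∈ S, φ ≠ χ → φ ≠ χ' → ∀ α ∈ R χ, Cfsg.classInner (τ (χ - φ)) α = a α := by
      by_cases hex : ∃ φ ∈ S, φ ≠ χ ∧ φ ≠ χ'
      · obtain ⟨φ₀, hφ₀, c1, c2⟩ := hex
        obtain ⟨f1, f2, -⟩ := hmain φ₀ hφ₀ c1 c2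
        exact ⟨_, f1, f2, fun φ hφ d1 d2 α hα => hsame φ hφ d1 d2 φ₀ hφ₀ c1 c2 α hα⟩
      · rw [hN, hk] at hcard
        have hc : (R χ).card = 2 * k := by exact_mod_cast hcard
        obtain ⟨A, hA, hAc⟩ := Finset.exists_subset_card_eq (n := k) (s := R χ) (by omega)
        refine ⟨fun α => if α ∈ A then 1 else 0, fun α _ => ?_, ?_,
          fun φ hφ d1 d2 => absurd ⟨φ, hφ, d1, d2⟩ hex⟩
        · by_cases h : α ∈ A <;> simp [h]
        · rw [← Finset.sum_filter, Finset.filter_mem_eq_inter, Finset.inter_eq_right.2 hA,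
            Finset.sum_const, hAc, hN, hk]
          simp
    have hreal : ∀ α ∈ R χ, conj (a α) = a α := fun α hα => by
      rcases ha01 α hα with h | h <;> simp [h]
    have hXin : ∀ D : G → ℂ, Cfsg.classInner D (∑ α ∈ R χ, a α • α) =
        ∑ α ∈ R χ, a α * Cfsg.classInner D α := fun D => by
      rw [classInner_sum_right]
      exact Finset.sum_congr rfl fun α hα => by rw [classInner_smul_right, hreal α hα]
    have hone : ∀ α ∈ R χ, a α * a α = a α := fun α hα => by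
      rcases ha01 α hα with h | h <;> simp [h]
    refine ⟨∑ α ∈ R χ, a α • α, isGeneralized_sum _ fun α hα => ?_, ?_, ?_, ?_⟩
    · rcases ha01 α hα with h | h
      · simpa [h] using isGeneralized_zero
      · simpa [h] using hS.virtual χ hχ α hα
    · rw [hXin, ← haN]
      refine Finset.sum_congr rfl fun α hα => ?_
      rw [classInner_sum_left, Finset.sum_eq_single α (fun β hβ hne => by
        rw [classInner_smul_left, hχR β hβ α hα, if_neg hne, mul_zero]) (fun h' => absurd hα h'),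
        classInner_smul_left, hχR α hα α hα, if_pos rfl, mul_one, hone α hα]
    · rw [hXin, ← haN]
      refine Finset.sum_congr rfl fun α hα => ?_
      rw [hS.sum_eq χ hχ, classInner_sum_left, Finset.sum_eq_single α (fun β hβ hne => by
        rw [hχR β hβ α hα, if_neg hne]) (fun h' => absurd hα h'),
        hχR α hα α hα, if_pos rfl, mul_one]
    · intro φ hφ d1 d2
      rw [hXin, ← haN]
      exact Finset.sum_congr rfl fun α hα => by rw [hao φ hφ d1 d2 α hα, hone α hα]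
  have hXφ : ∀ φ ∈ S, φ ≠ χ → Cfsg.classInner (τ (χ - φ)) X = N := fun φ hφ h1 => by
    by_cases h2 : φ = χ'
    · rw [h2]; exact hXd
    · exact hXo φ hφ h1 h2
  have hNr : conj N = N := by rw [hN, hk, map_natCast]
  set s := (finite_of_orthogonal hS.orthogonal fun φ hφ => coherenceSystem_ne_zero hS hφ).toFinset
  have hs : (↑s : Set (L → ℂ)) = S := Set.Finite.coe_toFinset _
  have hmems : ∀ φ ∈ s, φ ∈ S := fun φ hφ => hs ▸ Finset.mem_coe.2 hφ
  have horth : ∀ φ ∈ s, ∀ ψ ∈ s, φ ≠ ψ → Cfsg.classInner φ ψ = 0 :=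
    fun φ hφ ψ hψ => hS.orthogonal φ (hmems φ hφ) ψ (hmems ψ hψ)
  have hne : ∀ φ ∈ s, φ ≠ 0 := fun φ hφ => coherenceSystem_ne_zero hS (hmems φ hφ)
  let T : (L → ℂ) → G → ℂ := fun φ => X - τ (χ - φ)
  have hτ0 : τ (χ - χ) = 0 := by rw [sub_self]; exact isometry_map_zero hlin
  refine ⟨orthExt s T, ?_, fun α hα => ?_⟩
  · rw [← hs]
    refine orthExt_isometry horth hne (fun φ hφ => IsGeneralized.sub hXgen
      (hgen _ (hdiff χ hχ φ (hmems φ hφ)))) fun φ hφ ψ hψ => ?_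
    have hφS := hmems φ hφ
    have hψS := hmems ψ hψ
    simp only [T, classInner_sub_left, classInner_sub_right, hXn]
    rw [← classInner_conj (τ (χ - ψ)) X]
    by_cases e1 : φ = χ <;> by_cases e2 : ψ = χ
    · subst e1; subst e2; rw [hτ0]; simp [hN]
    · subst e1
      rw [hτ0, hXφ ψ hψS e2, hNr, hS.orthogonal φ hφS ψ hψS (Ne.symm e2)]; simp
    · subst e2
      rw [hτ0, hXφ φ hφS e1, hS.orthogonal φ hφS ψ hψS e1]; simp
    · rw [hXφ φ hφS e1, hXφ ψ hψS e2, hNr, hiso _ (hdiff χ hχ φ hφS) _ (hdiff χ hχ ψ hψS),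
        classInner_sub_left, classInner_sub_right, classInner_sub_right,
        hS.orthogonal χ hχ ψ hψS (Ne.symm e2), hS.orthogonal φ hφS χ hχ e1, ← hN]
      ring
  · rw [← hs] at hα
    refine orthExt_eq_of_base hS.isometry hs.le horth hne (by rw [← Finset.mem_coe, hs]; exact hχ)
      (fun h => coherenceSystem_ne_zero hS hχ
        (IsCharacter.eq_zero_of_apply_one (hS.isCharacter χ hχ) h))
      (fun _ => 1) (fun φ hφ => by rw [one_smul, hdeg φ (hmems φ hφ) χ hχ]) (fun φ hφ => ?_) hα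
    simp only [T, one_smul, hτ0, sub_zero]
    rw [sub_sub_cancel_left, ← neg_one_zsmul (τ (χ - φ)),
      ← hlin.2.1 _ (hdiff χ hχ φ (hmems φ hφ)), neg_one_zsmul, neg_sub]

end

end CfsgLib.Char
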