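import Cfsg.Agent.Char.Values
import Cfsg.Agent.Char.Orthogonality
import Cfsg.Agent.Char.Equivalence
import Cfsg.Prelude.Def_CharExt
import Mathlib.FieldTheory.IsAlgClosed.Classification
import Mathlib.FieldTheory.AlgebraicClosure
import Mathlib.RingTheory.RootsOfUnity.Complex
import Mathlib.RingTheory.Polynomial.Cyclotomic.Roots
import Mathlib.FieldTheory.Minpoly.IsConjRoot
import Mathlib.FieldTheory.Galois.Infinite
import Mathlib.LinearAlgebra.Matrix.ToLin

/-!
# Automorphisms of the complex field applied to characters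
-/

namespace CfsgLib.Char

open Cfsg Polynomial
open scoped ComplexConjugate

universe u

/-- Every automorphism of the field of algebraic numbers extends to `ℂ`. -/
theorem exists_ringEquiv_extend (σ0 : ↥(algebraicClosure ℚ ℂ) ≃ₐ[ℚ] ↥(algebraicClosure ℚ ℂ)) :
    ∃ σ : ℂ ≃+* ℂ, ∀ z : ↥(algebraicClosure ℚ ℂ), σ z = ((σ0 z : ↥(algebraicClosure ℚ ℂ)) : ℂ) := by
  obtain ⟨S, hS⟩ := exists_isTranscendenceBasis ↥(algebraicClosure ℚ ℂ) ℂ
  have := IsAlgClosed.isAlgClosure_of_transcendence_basis _ hS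
  let e : Algebra.adjoin ↥(algebraicClosure ℚ ℂ) (Set.range ((↑) : S → ℂ)) ≃+* Algebra.adjoin ↥(algebraicClosure ℚ ℂ) (Set.range ((↑) : S → ℂ)) :=
    (hS.1.aevalEquiv.symm.toRingEquiv.trans (MvPolynomial.mapEquiv S σ0.toRingEquiv)).trans hS.1.aevalEquiv.toRingEquiv
  refine ⟨IsAlgClosure.equivOfEquiv ℂ ℂ e, fun z => ?_⟩
  have h1 : (z : ℂ) = algebraMap (Algebra.adjoin ↥(algebraicClosure ℚ ℂ) (Set.range ((↑) : S → ℂ))) ℂ (algebraMap ↥(algebraicClosure ℚ ℂ) _ z) := rfl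
  have h2 : e (algebraMap ↥(algebraicClosure ℚ ℂ) _ z) = algebraMap ↥(algebraicClosure ℚ ℂ) _ (σ0 z) := by
    simp only [e, RingEquiv.trans_apply, AlgEquiv.coe_ringEquiv, AlgEquiv.commutes]
    rw [show (MvPolynomial.mapEquiv S σ0.toRingEquiv) (algebraMap ↥(algebraicClosure ℚ ℂ) (MvPolynomial S ↥(algebraicClosure ℚ ℂ)) z) =
      algebraMap ↥(algebraicClosure ℚ ℂ) (MvPolynomial S ↥(algebraicClosure ℚ ℂ)) (σ0 z) by simp [MvPolynomial.algebraMap_eq], AlgEquiv.commutes]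
  conv_lhs => rw [h1, IsAlgClosure.equivOfEquiv_algebraMap, h2]
  rfl

/-- For `t` prime to `n` some automorphism of `ℂ` raises all `n`-th roots of unity to the power `t`. -/
theorem exists_ringEquiv_pow {n t : ℕ} (hn : 0 < n) (ht : t.Coprime n) :
    ∃ σ : ℂ ≃+* ℂ, ∀ z : ℂ, z ^ n = 1 → σ z = z ^ t := by
  have : NeZero n := ⟨hn.ne'⟩
  set K := algebraicClosure ℚ ℂ
  have hζ := Complex.isPrimitiveRoot_exp n hn.ne'
  set ζ := Complex.exp (2 * Real.pi * Complex.I / n)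
  have hζK : ζ ∈ K := mem_algebraicClosure_iff.mpr
    ((IsIntegral.of_pow hn (by rw [hζ.pow_eq_one]; exact isIntegral_one) : IsIntegral ℚ ζ).isAlgebraic)
  set z : ↥K := ⟨ζ, hζK⟩
  have hz : IsPrimitiveRoot z n := IsPrimitiveRoot.of_map_of_injective (f := K.val) hζ K.val.injective
  have hconj : IsConjRoot ℚ (z ^ t) z := by
    rw [isConjRoot_def, ← cyclotomic_eq_minpoly_rat hz hn, ← cyclotomic_eq_minpoly_rat (hz.pow_of_coprime t ht) hn]
  have : IsAlgClosure ℚ ↥K := algebraicClosure.isAlgClosure ℚ ℂ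
  have : Normal ℚ ↥K := IsAlgClosure.normal ℚ ↥K
  obtain ⟨σ0, hσ0⟩ := isConjRoot_iff_exists_algEquiv.mp hconj
  obtain ⟨σ, hσ⟩ := exists_ringEquiv_extend σ0
  refine ⟨σ, fun w hw => ?_⟩
  obtain ⟨i, -, rfl⟩ := hζ.eq_pow_of_pow_eq_one hw
  rw [map_pow, ← pow_mul, mul_comm, pow_mul]
  congr 1
  rw [show ζ = ((z : ↥K) : ℂ) from rfl, hσ, hσ0]
  rfl

/-- An algebraic integer fixed by every automorphism of `ℂ` is an integer. -/
theorem exists_int_of_fixed {x : ℂ} (hx : IsIntegral ℤ x) (h : ∀ σ : ℂ ≃+* ℂ, σ x = x) : ∃ m : ℤ, x = m := by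
  set K := algebraicClosure ℚ ℂ
  have hxQ : IsIntegral ℚ x := hx.tower_top
  have hxK : x ∈ K := mem_algebraicClosure_iff.mpr hxQ.isAlgebraic
  have : IsAlgClosure ℚ ↥K := algebraicClosure.isAlgClosure ℚ ℂ
  have : Normal ℚ ↥K := IsAlgClosure.normal ℚ ↥K
  have : IsGalois ℚ ↥K := ⟨⟩
  obtain ⟨r, hr⟩ := (InfiniteGalois.mem_range_algebraMap_iff_fixed (⟨x, hxK⟩ : ↥K)).mpr fun σ0 => by
    obtain ⟨σ, hσ⟩ := exists_ringEquiv_extend σ0
    exact Subtype.ext ((hσ ⟨x, hxK⟩).symm.trans (h σ))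
  have hr' : algebraMap ℚ ℂ r = x := congrArg Subtype.val hr
  have hint : IsIntegral ℤ r := (isIntegral_algebraMap_iff (algebraMap ℚ ℂ).injective).mp (hr' ▸ hx)
  obtain ⟨m, hm⟩ := IsIntegrallyClosed.isIntegral_iff.mp hint
  exact ⟨m, by rw [← hr', ← hm]; simp⟩

variable {G : Type u} [Group G]

/-- Applying an automorphism of `ℂ` to the entries of a representation. -/
noncomputable def twistRep (σ : ℂ ≃+* ℂ) {n : ℕ} (ρ : Representation ℂ G (Fin n → ℂ)) :
    Representation ℂ G (Fin n → ℂ) where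
  toFun g := Matrix.toLin' ((LinearMap.toMatrix' (ρ g)).map σ)
  map_one' := by simp [LinearMap.toMatrix'_one, Matrix.map_one, Module.End.one_eq_id]
  map_mul' g h := by
    rw [map_mul, LinearMap.toMatrix'_mul, Matrix.map_mul, Matrix.toLin'_mul]
    rfl

theorem character_twistRep (σ : ℂ ≃+* ℂ) {n : ℕ} (ρ : Representation ℂ G (Fin n → ℂ)) (g : G) :
    (twistRep σ ρ).character g = σ (ρ.character g) := by
  change LinearMap.trace ℂ _ (Matrix.toLin' _) = σ (LinearMap.trace ℂ _ (ρ g))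
  rw [LinearMap.trace_eq_matrix_trace ℂ (Pi.basisFun ℂ (Fin n)), LinearMap.trace_eq_matrix_trace ℂ (Pi.basisFun ℂ (Fin n))]
  simp only [LinearMap.toMatrix_eq_toMatrix', LinearMap.toMatrix'_toLin']
  exact (map_sum σ _ _).symm

theorem det_twistRep (σ : ℂ ≃+* ℂ) {n : ℕ} (ρ : Representation ℂ G (Fin n → ℂ)) (g : G) :
    LinearMap.det (twistRep σ ρ g) = σ (LinearMap.det (ρ g)) := by
  rw [← LinearMap.det_toMatrix', ← LinearMap.det_toMatrix']
  change ((Matrix.toLin' _).toMatrix').det = _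
  rw [LinearMap.toMatrix'_toLin']
  exact ((σ : ℂ →+* ℂ).map_det _).symm

theorem IsCharacter.map_ringEquiv {χ : G → ℂ} (hχ : IsCharacter G χ) (σ : ℂ ≃+* ℂ) :
    IsCharacter G (fun g => σ (χ g)) := by
  obtain ⟨n, ρ, rfl⟩ := hχ
  exact ⟨n, twistRep σ ρ, funext fun g => character_twistRep σ ρ g⟩

theorem IsIrrCharacter.map_ringEquiv [Finite G] {χ : G → ℂ} (hχ : IsIrrCharacter G χ) (σ : ℂ ≃+* ℂ) :
    IsIrrCharacter G (fun g => σ (χ g)) := by
  have := Fintype.ofFinite G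
  have hc := IsCharacter.map_ringEquiv (IsIrrCharacter.isCharacter hχ) σ
  refine IsCharacter.isIrrCharacter_of_classInner_self hc ?_
  have key : ∀ {φ : G → ℂ}, IsCharacter G φ →
      Cfsg.classInner φ φ = (Nat.card G : ℂ)⁻¹ * ∑ g : G, φ g * φ g⁻¹ := fun hφ => by
    rw [Cfsg.classInner]
    simp only [IsCharacter.apply_inv hφ]
  have h1 := congrArg σ (IsIrrCharacter.classInner_self hχ)
  rw [key (IsIrrCharacter.isCharacter hχ), map_mul, map_inv₀, map_natCast, map_sum, map_one] at h1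
  rw [key hc]
  simpa only [map_mul] using h1

/-- An automorphism raising the roots of unity to the power `t` sends `χ g` to `χ (g ^ t)`. -/
theorem IsCharacter.map_ringEquiv_eq_pow [Finite G] {χ : G → ℂ} (hχ : IsCharacter G χ) (σ : ℂ ≃+* ℂ)
    {t : ℕ} {g : G} (hσ : ∀ z : ℂ, z ^ orderOf g = 1 → σ z = z ^ t) : σ (χ g) = χ (g ^ t) := by
  obtain ⟨s, -, hs, hk⟩ := IsCharacter.exists_roots hχ g
  have h1 : χ g = s.sum := by simpa using hk 1
  rw [h1, hk, map_multiset_sum]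
  exact congrArg Multiset.sum (Multiset.map_congr rfl fun z hz => hσ z (hs z hz))

/-- The determinant of a character is computed by any representation affording it. -/
theorem detChar_eq [Finite G] {n : ℕ} (ρ : Representation ℂ G (Fin n → ℂ)) (g : G) :
    Cfsg.detChar ρ.character g = LinearMap.det (ρ g) := by
  have h : IsCharacter G ρ.character := ⟨n, ρ, rfl⟩
  rw [Cfsg.detChar, dif_pos h]
  obtain ⟨e⟩ := equiv_of_character_eq _ ρ (Classical.choose_spec (Classical.choose_spec h))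
  rw [← e.conj_apply_self g]
  exact (LinearMap.det_conj _ _).symm

theorem detChar_map_ringEquiv [Finite G] {χ : G → ℂ} (hχ : IsCharacter G χ) (σ : ℂ ≃+* ℂ) :
    Cfsg.detChar (fun g => σ (χ g)) = fun g => σ (Cfsg.detChar χ g) := by
  obtain ⟨n, ρ, rfl⟩ := hχ
  funext g
  rw [show (fun g => σ (ρ.character g)) = (twistRep σ ρ).character from
    funext fun g => (character_twistRep σ ρ g).symm, detChar_eq, detChar_eq, det_twistRep]

end CfsgLib.Char
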