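import Cfsg.Agent.Char.CyclicExist
import Cfsg.Agent.Char.GaloisTwist
import Cfsg.Agent.Char.Galois

/-!
# The family attached to a cyclic TI subgroup: sparse coefficient vectors, uniqueness, Galois
-/

namespace CfsgLib.Char

open scoped ComplexConjugate

universe u

theorem sum_split_support {A B : Type*} [Fintype A] [Fintype B] (u : A → ℂ) (v : B → ℂ)
    {a₀ a₁ : A} (hu : u a₀ ≠ u a₁) {b₀ b₁ : B} (hv : v b₀ ≠ v b₁) :
    Fintype.card A + Fintype.card B ≤
      ∑ a, (Finset.univ.filter fun b => u a + v b ≠ 0).card + 2 := by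
  classical
  let r : A → ℕ := fun a => (Finset.univ.filter fun b => u a + v b ≠ 0).card
  have hpos : ∀ a, 1 ≤ r a := fun a => by
    refine Finset.card_pos.2 ?_
    by_cases h : u a + v b₀ = 0
    · exact ⟨b₁, Finset.mem_filter.2 ⟨Finset.mem_univ _,
        fun h' => hv (by linear_combination h - h')⟩⟩
    · exact ⟨b₀, Finset.mem_filter.2 ⟨Finset.mem_univ _, h⟩⟩
  have hpair : Fintype.card B ≤ r a₀ + r a₁ := by
    refine le_trans ?_ (Finset.card_union_le _ _)
    rw [← Finset.card_univ]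
    refine Finset.card_le_card fun b _ => ?_
    rw [Finset.mem_union, Finset.mem_filter, Finset.mem_filter]
    by_cases h : u a₀ + v b = 0
    · exact Or.inr ⟨Finset.mem_univ _, fun h' => hu (by linear_combination h - h')⟩
    · exact Or.inl ⟨Finset.mem_univ _, h⟩
  have hne : a₀ ≠ a₁ := fun e => hu (e ▸ rfl)
  have hm : a₁ ∈ (Finset.univ : Finset A).erase a₀ := Finset.mem_erase.2 ⟨hne.symm, Finset.mem_univ _⟩
  have hrest := Finset.card_nsmul_le_sum (((Finset.univ : Finset A).erase a₀).erase a₁) r 1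
    (fun a _ => hpos a)
  rw [Finset.card_erase_of_mem hm, Finset.card_erase_of_mem (Finset.mem_univ _), Finset.card_univ,
    smul_eq_mul, mul_one] at hrest
  have h2 : ∑ a, r a = r a₀ + (r a₁ + ∑ a ∈ ((Finset.univ : Finset A).erase a₀).erase a₁, r a) := by
    rw [Finset.add_sum_erase _ _ hm, Finset.add_sum_erase _ _ (Finset.mem_univ a₀)]
  have := Fintype.one_lt_card_iff.2 ⟨a₀, a₁, hne⟩
  have hrest' : Fintype.card A - 1 - 1 ≤
      ∑ a ∈ ((Finset.univ : Finset A).erase a₀).erase a₁, r a := hrest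
  change _ ≤ ∑ a, r a + 2
  omega

variable {G : Type u} [Group G] [Fintype G] {W₁ W₂ : Subgroup G}

/-- Sparse additive functions on the linear characters of `W`. -/
theorem additive_few (hW : Cfsg.IsSelfNormalizingCyclic W₁ W₂)
    {p₁ p₂ : ↥(W₁ ⊔ W₂) →* ↥(W₁ ⊔ W₂)} (hp : IsWSplit W₁ W₂ p₁ p₂)
    (a : (↥(W₁ ⊔ W₂) →* ℂˣ) → ℂ)
    (hadd : ∀ φ ψ, TrivR φ → TrivL ψ → a (φ * ψ) = a φ + a ψ - a 1)
    (hA : Nat.card {ω // a ω ≠ 0} < 2 * Nat.card W₁)
    (hB : Nat.card {ω // a ω ≠ 0} < 2 * Nat.card W₂)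
    (hAB : Nat.card {ω // a ω ≠ 0} + 2 < Nat.card W₁ + Nat.card W₂)
    [DecidableEq (↥(W₁ ⊔ W₂) →* ℂˣ)] :
    (∀ ω, a ω = 0) ∨
    (∃ ψ₀, TrivL ψ₀ ∧ ∃ c, c ≠ 0 ∧ ∀ ω, a ω = if ω.comp p₂ = ψ₀ then c else 0) ∨
    (∃ φ₀, TrivR φ₀ ∧ ∃ c, c ≠ 0 ∧ ∀ ω, a ω = if ω.comp p₁ = φ₀ then c else 0) := by
  classical
  have := Fintype.ofFinite (↥(W₁ ⊔ W₂) →* ℂˣ)
  obtain ⟨hcB, hcA⟩ := card_trivL hW
  let A := {φ : ↥(W₁ ⊔ W₂) →* ℂˣ // TrivR φ}
  let B := {ψ : ↥(W₁ ⊔ W₂) →* ℂˣ // TrivL ψ}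
  have hcA' : Fintype.card A = Nat.card W₁ := by rw [← Nat.card_eq_fintype_card]; exact hcA
  have hcB' : Fintype.card B = Nat.card W₂ := by rw [← Nat.card_eq_fintype_card]; exact hcB
  by_cases hall : ∀ ω, a ω = 0
  · exact Or.inl hall
  push Not at hall
  obtain ⟨ω₀, hω₀⟩ := hall
  have hsplit : ∀ ω, a ω = a (ω.comp p₁) + a (ω.comp p₂) - a 1 := fun ω => by
    conv_lhs => rw [← hp.hom_mul ω]
    exact hadd _ _ (hp.comp₁_trivial ω) (hp.comp₂_trivial ω)
  by_cases hu : ∀ φ φ' : A, a φ.1 = a φ'.1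
  · right; left
    have hdep : ∀ ω, a ω = a (ω.comp p₂) := fun ω => by
      rw [hsplit ω, hu ⟨_, hp.comp₁_trivial ω⟩ ⟨1, trivR_one⟩]; ring
    refine ⟨_, hp.comp₂_trivial ω₀, a ω₀, hω₀, fun ω => ?_⟩
    split_ifs with h
    · rw [hdep ω, h, ← hdep]
    by_contra hω
    let f : A ⊕ A → {ω // a ω ≠ 0} := Sum.elim
      (fun φ => ⟨φ.1 * ω.comp p₂, by
        rw [hadd _ _ φ.2 (hp.comp₂_trivial ω), hu φ ⟨1, trivR_one⟩]
        simpa [hdep ω] using hω⟩)
      (fun φ => ⟨φ.1 * ω₀.comp p₂, by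
        rw [hadd _ _ φ.2 (hp.comp₂_trivial ω₀), hu φ ⟨1, trivR_one⟩]
        simpa [hdep ω₀] using hω₀⟩)
    have hf : Function.Injective f := by
      intro x y hxy
      have hval := congrArg Subtype.val hxy
      rcases x with x | x <;> rcases y with y | y <;> simp only [f, Sum.elim_inl, Sum.elim_inr] at hval
      · exact congrArg Sum.inl (Subtype.ext (hom_pair_ext x.2 (hp.comp₂_trivial _) y.2
          (hp.comp₂_trivial _) hval).1)
      · exact absurd (hom_pair_ext x.2 (hp.comp₂_trivial _) y.2 (hp.comp₂_trivial _) hval).2 h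
      · exact absurd (hom_pair_ext x.2 (hp.comp₂_trivial _) y.2 (hp.comp₂_trivial _) hval).2.symm h
      · exact congrArg Sum.inr (Subtype.ext (hom_pair_ext x.2 (hp.comp₂_trivial _) y.2
          (hp.comp₂_trivial _) hval).1)
    have := Nat.card_le_card_of_injective f hf
    rw [Nat.card_eq_fintype_card, Fintype.card_sum, hcA'] at this
    omega
  by_cases hv : ∀ ψ ψ' : B, a ψ.1 = a ψ'.1
  · right; right
    have hdep : ∀ ω, a ω = a (ω.comp p₁) := fun ω => by
      rw [hsplit ω, hv ⟨_, hp.comp₂_trivial ω⟩ ⟨1, trivL_one⟩]; ring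
    refine ⟨_, hp.comp₁_trivial ω₀, a ω₀, hω₀, fun ω => ?_⟩
    split_ifs with h
    · rw [hdep ω, h, ← hdep]
    by_contra hω
    let f : B ⊕ B → {ω // a ω ≠ 0} := Sum.elim
      (fun ψ => ⟨ω.comp p₁ * ψ.1, by
        rw [hadd _ _ (hp.comp₁_trivial ω) ψ.2, hv ψ ⟨1, trivL_one⟩]
        simpa [hdep ω] using hω⟩)
      (fun ψ => ⟨ω₀.comp p₁ * ψ.1, by
        rw [hadd _ _ (hp.comp₁_trivial ω₀) ψ.2, hv ψ ⟨1, trivL_one⟩]
        simpa [hdep ω₀] using hω₀⟩)
    have hf : Function.Injective f := by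
      intro x y hxy
      have hval := congrArg Subtype.val hxy
      rcases x with x | x <;> rcases y with y | y <;> simp only [f, Sum.elim_inl, Sum.elim_inr] at hval
      · exact congrArg Sum.inl (Subtype.ext (hom_pair_ext (hp.comp₁_trivial _) x.2
          (hp.comp₁_trivial _) y.2 hval).2)
      · exact absurd (hom_pair_ext (hp.comp₁_trivial _) x.2 (hp.comp₁_trivial _) y.2 hval).1 h
      · exact absurd (hom_pair_ext (hp.comp₁_trivial _) x.2 (hp.comp₁_trivial _) y.2 hval).1.symm h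
      · exact congrArg Sum.inr (Subtype.ext (hom_pair_ext (hp.comp₁_trivial _) x.2
          (hp.comp₁_trivial _) y.2 hval).2)
    have := Nat.card_le_card_of_injective f hf
    rw [Nat.card_eq_fintype_card, Fintype.card_sum, hcB'] at this
    omega
  exfalso
  push Not at hu hv
  obtain ⟨a₀, a₁, ha⟩ := hu
  obtain ⟨b₀, b₁, hb⟩ := hv
  have hs := sum_split_support (fun φ : A => a φ.1 - a 1) (fun ψ : B => a ψ.1) (a₀ := a₀)
    (a₁ := a₁) (fun e => ha (by simpa using e)) (b₀ := b₀) (b₁ := b₁) hb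
  rw [← Finset.card_sigma] at hs
  let g : ((φ : A) × B) → (↥(W₁ ⊔ W₂) →* ℂˣ) := fun x => x.1.1 * x.2.1
  have hle : ((Finset.univ : Finset A).sigma fun φ =>
      Finset.univ.filter fun ψ : B => a φ.1 - a 1 + a ψ.1 ≠ 0).card ≤
      Nat.card {ω // a ω ≠ 0} := by
    rw [Nat.card_eq_fintype_card, Fintype.card_subtype]
    refine Finset.card_le_card_of_injOn g (fun x hx => ?_) fun x _ y _ hxy => ?_
    · simp only [Finset.coe_sigma, Set.mem_sigma_iff, Finset.mem_coe, Finset.mem_filter,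
        Finset.mem_univ, true_and] at hx
      simp only [Finset.mem_coe, Finset.mem_filter, Finset.mem_univ, true_and, g]
      rw [hadd _ _ x.1.2 x.2.2]
      intro h; exact hx (by linear_combination h)
    · obtain ⟨h1, h2⟩ := hom_pair_ext x.1.2 x.2.2 y.1.2 y.2.2 hxy
      obtain ⟨x1, x2⟩ := x; obtain ⟨y1, y2⟩ := y
      obtain rfl : x1 = y1 := Subtype.ext h1
      obtain rfl : x2 = y2 := Subtype.ext h2
      rfl
  omega

theorem IsWSplit.trivial_right_iff {p₁ p₂ : ↥(W₁ ⊔ W₂) →* ↥(W₁ ⊔ W₂)}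
    (hp : IsWSplit W₁ W₂ p₁ p₂) {ω ψ : ↥(W₁ ⊔ W₂) →* ℂˣ} (hψ : TrivL ψ) :
    (∀ w : ↥(W₁ ⊔ W₂), (w : G) ∈ W₂ → (ω * ψ⁻¹) w = 1) ↔ ω.comp p₂ = ψ := by
  constructor
  · refine fun h => hom_ext_sup (fun w hw => by rw [hp.comp₂_trivial ω w hw, hψ w hw]) fun w hw => ?_
    have h' := h w hw
    rw [MonoidHom.mul_apply, MonoidHom.inv_apply, mul_inv_eq_one] at h'
    rw [MonoidHom.comp_apply, (hp.fix₂ w hw).1, h']
  · rintro rfl w hw
    rw [MonoidHom.mul_apply, MonoidHom.inv_apply, MonoidHom.comp_apply, (hp.fix₂ w hw).1,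
      mul_inv_cancel]

theorem IsWSplit.trivial_left_iff {p₁ p₂ : ↥(W₁ ⊔ W₂) →* ↥(W₁ ⊔ W₂)}
    (hp : IsWSplit W₁ W₂ p₁ p₂) {ω φ : ↥(W₁ ⊔ W₂) →* ℂˣ} (hφ : TrivR φ) :
    (∀ w : ↥(W₁ ⊔ W₂), (w : G) ∈ W₁ → (ω * φ⁻¹) w = 1) ↔ ω.comp p₁ = φ := by
  constructor
  · refine fun h => hom_ext_sup (fun w hw => ?_) fun w hw => by rw [hp.comp₁_trivial ω w hw, hφ w hw]
    have h' := h w hw
    rw [MonoidHom.mul_apply, MonoidHom.inv_apply, mul_inv_eq_one] at h'
    rw [MonoidHom.comp_apply, (hp.fix₁ w hw).1, h']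
  · rintro rfl w hw
    rw [MonoidHom.mul_apply, MonoidHom.inv_apply, MonoidHom.comp_apply, (hp.fix₁ w hw).1,
      mul_inv_cancel]

theorem three_le_card_of_odd {H : Subgroup G} (hH : H ≠ ⊥) (hodd : Odd (Nat.card H)) :
    3 ≤ Nat.card H := by
  obtain ⟨k, hk⟩ := hodd
  have : k ≠ 0 := fun h => hH (Subgroup.eq_bot_of_card_eq H (by omega))
  omega

/-- The family attached to a cyclic TI subgroup of odd order is unique. -/
theorem cyclicTI_unique (hW : Cfsg.IsSelfNormalizingCyclic W₁ W₂)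
    (hodd : Odd (Nat.card ↥(W₁ ⊔ W₂))) {χ χ' : (↥(W₁ ⊔ W₂) →* ℂˣ) → G → ℂ}
    (hχ : Cfsg.IsCyclicTIFamily W₁ W₂ χ) (hχ' : Cfsg.IsCyclicTIFamily W₁ W₂ χ')
    (ω : ↥(W₁ ⊔ W₂) →* ℂˣ) : χ' ω = χ ω := by
  classical
  obtain ⟨hn1, hn2, hdisj, hcomm, hcyc, -⟩ := id hW
  have := Fintype.ofFinite ↥(W₁ ⊔ W₂)
  obtain ⟨p₁, p₂, hp⟩ := exists_split hdisj hcomm
  rw [card_sup_eq hdisj hcomm, Nat.odd_mul] at hodd
  have h31 := three_le_card_of_odd hn1 hodd.1
  have h32 := three_le_card_of_odd hn2 hodd.2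
  have hs : ∀ η, IsSignedIrr (χ η) := fun η => hχ.irr_or_neg η
  have hs' : IsSignedIrr (χ' ω) := hχ'.irr_or_neg ω
  have horth : ∀ η η', η ≠ η' → Cfsg.classInner (χ η) (χ η') = 0 := fun η η' h => by
    rw [hχ.orthonormal, if_neg h]
  let d : (↥(W₁ ⊔ W₂) →* ℂˣ) → ℂ := fun η =>
    Cfsg.classInner (χ η) (χ' ω) - if η = ω then 1 else 0
  have hadd : ∀ φ ψ, TrivR φ → TrivL ψ → d (φ * ψ) = d φ + d ψ - d 1 := fun φ ψ hφ hψ => by
    by_cases h1 : φ = 1
    · subst h1; rw [hom_one_mul']; ring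
    by_cases h2 : ψ = 1
    · subst h2; rw [hom_mul_one']; ring
    have hc := cyclicTI_coeff hχ (IsGeneralized.isClassFunction (IsSignedIrr.isGeneralized hs'))
      hφ hψ h1 h2
    have he : Cfsg.classInner (betaFun φ ψ) (fun x : ↥(W₁ ⊔ W₂) => χ' ω x) =
        Cfsg.classInner (betaFun φ ψ) (homFun ω) := by
      rw [classInner_def, classInner_def]
      congr 1
      refine Finset.sum_congr rfl fun x _ => ?_
      by_cases hx : (x : G) ∈ W₁ ∨ (x : G) ∈ W₂
      · rw [betaFun_eq_zero hφ hψ x hx, zero_mul, zero_mul]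
      · rw [hχ'.eq_on ω x (fun h' => hx (Or.inl h')) (fun h' => hx (Or.inr h'))]; rfl
    rw [he, classInner_betaFun_homFun] at hc
    simp only [d]
    linear_combination hc
  have hnz : Nat.card {η // d η ≠ 0} ≤ 2 := by
    by_contra hgt
    have := Fintype.ofFinite (↥(W₁ ⊔ W₂) →* ℂˣ)
    rw [Nat.card_eq_fintype_card, Fintype.card_subtype, not_le, Finset.two_lt_card_iff] at hgt
    obtain ⟨x, y, z, hx, hy, hz, hxy, hxz, hyz⟩ := hgt
    simp only [Finset.mem_filter, Finset.mem_univ, true_and] at hx hy hz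
    have key : ∀ {η η'}, η ≠ ω → η' ≠ ω → d η ≠ 0 → d η' ≠ 0 → η = η' := by
      intro η η' h h' hd hd'
      by_contra hne
      simp only [d, if_neg h, if_neg h', sub_zero] at hd hd'
      obtain ⟨s, hs1, e1, -⟩ := IsSignedIrr.eq_smul_of_classInner_ne (hs η) hs' hd
      refine hd' ?_
      rw [e1, classInner_smul_right, horth η' η (Ne.symm hne), mul_zero]
    by_cases hxω : x = ω
    · exact hyz (key (fun e => hxy (hxω.trans e.symm)) (fun e => hxz (hxω.trans e.symm)) hy hz)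
    by_cases hyω : y = ω
    · exact hxz (key hxω (fun e => hyz (hyω.trans e.symm)) hx hz)
    exact hxy (key hxω hyω hx hy)
  have hzero : ∀ η, d η = 0 := by
    rcases additive_few hW hp d hadd (by omega) (by omega) (by omega) with h | h | h
    · exact h
    · exfalso
      obtain ⟨ψ₀, hψ₀, c, hc0, hc⟩ := h
      let f : {φ : ↥(W₁ ⊔ W₂) →* ℂˣ // TrivR φ} → {η // d η ≠ 0} := fun φ => ⟨φ.1 * ψ₀, by
        rw [hc, if_pos (hom_pair_ext (hp.comp₁_trivial _) (hp.comp₂_trivial _) φ.2 hψ₀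
          (hp.hom_mul _)).2]
        exact hc0⟩
      have hf : Function.Injective f := fun x y h => Subtype.ext
        (hom_pair_ext x.2 hψ₀ y.2 hψ₀ (congrArg Subtype.val h)).1
      have := Nat.card_le_card_of_injective f hf
      rw [(card_trivL hW).2] at this
      omega
    · exfalso
      obtain ⟨φ₀, hφ₀, c, hc0, hc⟩ := h
      let f : {ψ : ↥(W₁ ⊔ W₂) →* ℂˣ // TrivL ψ} → {η // d η ≠ 0} := fun ψ => ⟨φ₀ * ψ.1, by
        rw [hc, if_pos (hom_pair_ext (hp.comp₁_trivial _) (hp.comp₂_trivial _) hφ₀ ψ.2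
          (hp.hom_mul _)).1]
        exact hc0⟩
      have hf : Function.Injective f := fun x y h => Subtype.ext
        (hom_pair_ext hφ₀ x.2 hφ₀ y.2 (congrArg Subtype.val h)).2
      have := Nat.card_le_card_of_injective f hf
      rw [(card_trivL hW).1] at this
      omega
  have h1 : Cfsg.classInner (χ ω) (χ' ω) = 1 := by
    have := hzero ω
    simp only [d, if_pos rfl] at this
    exact sub_eq_zero.1 this
  obtain ⟨s, -, e, hv⟩ := IsSignedIrr.eq_smul_of_classInner_ne (hs ω) hs' (by rw [h1]; exact one_ne_zero)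
  rw [e, show s = 1 from hv.symm.trans h1, one_smul]

/-- A linear character composed with an automorphism of the complex field. -/
def mapHom {H : Type u} [Group H] (σ : ℂ ≃+* ℂ) (ω : H →* ℂˣ) : H →* ℂˣ :=
  (Units.map σ.toMonoidHom).comp ω

theorem mapHom_apply {H : Type u} [Group H] (σ : ℂ ≃+* ℂ) (ω : H →* ℂˣ) (w : H) :
    ((mapHom σ ω w : ℂˣ) : ℂ) = σ (ω w : ℂ) := rfl

theorem mapHom_mul {H : Type u} [Group H] (σ : ℂ ≃+* ℂ) (ω η : H →* ℂˣ) :
    mapHom σ (ω * η) = mapHom σ ω * mapHom σ η :=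
  MonoidHom.ext fun w => Units.ext (by simp [mapHom])

theorem mapHom_one {H : Type u} [Group H] (σ : ℂ ≃+* ℂ) : mapHom σ (1 : H →* ℂˣ) = 1 :=
  MonoidHom.ext fun w => Units.ext (by simp [mapHom])

theorem mapHom_injective {H : Type u} [Group H] (σ : ℂ ≃+* ℂ) :
    Function.Injective (mapHom (H := H) σ) := fun ω η h =>
  MonoidHom.ext fun w => Units.ext (σ.injective (by
    have := congrArg (fun f : H →* ℂˣ => ((f w : ℂˣ) : ℂ)) h
    simpa only [mapHom_apply] using this))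

theorem indFun_map_ringEquiv (σ : ℂ ≃+* ℂ) (H : Subgroup G) (θ : H → ℂ) (g : G) :
    σ (Cfsg.indFun H θ g) = Cfsg.indFun H (fun h => σ (θ h)) g := by
  classical
  simp only [indFun_def, map_mul, map_inv₀, map_natCast, map_sum]
  congr 1
  refine Finset.sum_congr rfl fun x _ => ?_
  rw [extendByZero_eq, extendByZero_eq]
  split_ifs <;> simp

/-- Galois conjugation permutes the family. -/
theorem cyclicTI_map (hW : Cfsg.IsSelfNormalizingCyclic W₁ W₂)
    (hodd : Odd (Nat.card ↥(W₁ ⊔ W₂))) {χ : (↥(W₁ ⊔ W₂) →* ℂˣ) → G → ℂ}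
    (hχ : Cfsg.IsCyclicTIFamily W₁ W₂ χ) (σ : ℂ ≃+* ℂ) (ω : ↥(W₁ ⊔ W₂) →* ℂˣ) (g : G) :
    σ (χ ω g) = χ (mapHom σ ω) g := by
  classical
  let χ' : (↥(W₁ ⊔ W₂) →* ℂˣ) → G → ℂ := fun η x => σ (χ (mapHom σ.symm η) x)
  have hss : ∀ {x : G → ℂ}, IsSignedIrr x → IsSignedIrr fun y => σ (x y) := fun {x} h => by
    rcases h with h | h
    · exact Or.inl (IsIrrCharacter.map_ringEquiv h σ)
    · right
      have := IsIrrCharacter.map_ringEquiv h σ
      convert this using 1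
      funext y; simp
  have hχ' : Cfsg.IsCyclicTIFamily W₁ W₂ χ' :=
    { irr_or_neg := fun η => hss (hχ.irr_or_neg _)
      orthonormal := fun η η' => by
        split_ifs with h
        · subst h; exact IsSignedIrr.classInner_self (hss (hχ.irr_or_neg _))
        · refine IsSignedIrr.classInner_eq_zero (hss (hχ.irr_or_neg _)) (hss (hχ.irr_or_neg _))
            (fun e => ?_) (fun e => ?_)
          · have e' : χ (mapHom σ.symm η) = χ (mapHom σ.symm η') :=
              funext fun y => σ.injective (congrFun e y)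
            have h0 := hχ.orthonormal (mapHom σ.symm η) (mapHom σ.symm η')
            rw [e', hχ.orthonormal, if_pos rfl, if_neg ((mapHom_injective σ.symm).ne h)] at h0
            exact one_ne_zero h0
          · have e' : χ (mapHom σ.symm η) = -χ (mapHom σ.symm η') :=
              funext fun y => σ.injective (by rw [Pi.neg_apply, map_neg]; exact congrFun e y)
            have h0 := hχ.orthonormal (mapHom σ.symm η) (mapHom σ.symm η')
            rw [e', classInner_neg_left, hχ.orthonormal, if_pos rfl,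
              if_neg ((mapHom_injective σ.symm).ne h), neg_eq_zero] at h0
            exact one_ne_zero h0
      map_one := by
        funext x
        simp only [χ', mapHom_one, hχ.map_one, map_one]
      eq_on := fun η w h1 h2 => by
        simp only [χ', hχ.eq_on _ w h1 h2, mapHom_apply, RingEquiv.apply_symm_apply]
      induced_eq := fun φ ψ hφ hψ hφ2 hψ1 => by
        have h := hχ.induced_eq (mapHom σ.symm φ) (mapHom σ.symm ψ)
          (fun e => hφ (mapHom_injective σ.symm (e.trans (mapHom_one σ.symm).symm)))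
          (fun e => hψ (mapHom_injective σ.symm (e.trans (mapHom_one σ.symm).symm)))
          (fun w hw => Units.ext (by rw [mapHom_apply, hφ2 w hw]; simp))
          (fun w hw => Units.ext (by rw [mapHom_apply, hψ1 w hw]; simp))
        funext x
        have h' := congrArg σ (congrFun h x)
        rw [indFun_map_ringEquiv] at h'
        simp only [map_add, map_sub, map_mul, map_one, mapHom_apply, RingEquiv.apply_symm_apply,
          ← mapHom_mul] at h'
        exact h' }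
  have h := congrFun (cyclicTI_unique hW hodd hχ hχ' (mapHom σ ω)) g
  have e : mapHom σ.symm (mapHom σ ω) = ω :=
    MonoidHom.ext fun w => Units.ext (by simp [mapHom_apply])
  simp only [χ', e] at h
  exact h

/-- Values of the family at elements of order prime to the order of `ω`. -/
theorem cyclicTI_exists_int (hW : Cfsg.IsSelfNormalizingCyclic W₁ W₂)
    (hodd : Odd (Nat.card ↥(W₁ ⊔ W₂))) {χ : (↥(W₁ ⊔ W₂) →* ℂˣ) → G → ℂ}
    (hχ : Cfsg.IsCyclicTIFamily W₁ W₂ χ) (ω : ↥(W₁ ⊔ W₂) →* ℂˣ) (g : G)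
    (hg : Nat.Coprime (orderOf g) (orderOf ω)) : ∃ n : ℤ, χ ω g = n := by
  classical
  have hfin : IsOfFinOrder ω := isOfFinOrder_of_finite ω
  have hgen : Cfsg.IsGeneralizedCharacter G (χ ω) :=
    IsSignedIrr.isGeneralized (hχ.irr_or_neg ω)
  obtain ⟨α, β, hα, hβ, he⟩ := hgen
  refine exists_int_of_fixed
    (IsGeneralized.isIntegral (IsSignedIrr.isGeneralized (hχ.irr_or_neg ω)) g) fun σ => ?_
  obtain ⟨s, hs, hσ⟩ := exists_pow_of_ringEquiv (orderOf_pos g) σ
  obtain ⟨t, hta, htb⟩ := Nat.chineseRemainder hg s 1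
  have hcop : t.Coprime (orderOf g * orderOf ω) := by
    rw [Nat.coprime_mul_iff_right]
    constructor
    · rw [Nat.Coprime, Nat.ModEq.gcd_eq hta]; exact hs
    · rw [Nat.Coprime, Nat.ModEq.gcd_eq htb]; exact Nat.gcd_one_left _
  obtain ⟨σ', hσ'⟩ := exists_ringEquiv_pow (Nat.mul_pos (orderOf_pos g) hfin.orderOf_pos) hcop
  have hroot : ∀ {m : ℕ}, ∀ {z : ℂ}, z ^ m = 1 → ∀ {i j : ℕ}, Nat.ModEq m i j → z ^ i = z ^ j :=
    fun {m z} hz {i j} h => by rw [pow_eq_pow_mod i hz, pow_eq_pow_mod j hz, h]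
  have hg' : ∀ z : ℂ, z ^ orderOf g = 1 → σ' z = z ^ s := fun z hz => by
    rw [hσ' z (by rw [pow_mul, hz, one_pow]), hroot hz hta]
  have hsame : σ (χ ω g) = σ' (χ ω g) := by
    rw [he, Pi.sub_apply, map_sub, map_sub, IsCharacter.map_ringEquiv_eq_pow hα σ hσ,
      IsCharacter.map_ringEquiv_eq_pow hβ σ hσ, IsCharacter.map_ringEquiv_eq_pow hα σ' hg',
      IsCharacter.map_ringEquiv_eq_pow hβ σ' hg']
  have hω : mapHom σ' ω = ω := MonoidHom.ext fun w => Units.ext (by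
    have hz : ((ω w : ℂˣ) : ℂ) ^ orderOf ω = 1 := by
      rw [← Units.val_pow_eq_pow_val, ← MonoidHom.pow_apply, pow_orderOf_eq_one]
      rfl
    rw [mapHom_apply, hσ' _ (by rw [mul_comm (orderOf g), pow_mul, hz, one_pow]), hroot hz htb,
      pow_one])
  rw [hsame, cyclicTI_map hW hodd hχ σ', hω]

end CfsgLib.Char
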