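import Cfsg.Agent.Char.CoherenceEqual
import Cfsg.Agent.Char.DegreeSums
import Cfsg.Agent.Char.Linear

/-!
# The sets of characters induced from characters above a normal subgroup
-/

set_option autoImplicit false
set_option linter.style.haveILetI false

namespace CfsgLib.Char

universe u v

open scoped ComplexConjugate

variable {L : Type u} [Group L] [Fintype L]

/-- The non-principal irreducible characters of `K` with `A ⊓ K` in their kernel. -/
noncomputable def aboveChars (K A : Subgroup L) : Finset (K → ℂ) :=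
  @Finset.erase _ (Classical.decEq _)
    (@Finset.filter _ (fun θ => ∀ a : K, (a : L) ∈ A → θ a = θ 1) (Classical.decPred _) (irrFinset K))
    fun _ => 1

/-- The functions induced from them, as a finite set. -/
noncomputable def aboveInd (K A : Subgroup L) : Finset (L → ℂ) :=
  @Finset.image _ _ (Classical.decEq _) (Cfsg.indFun K) (aboveChars K A)

theorem mem_aboveChars {K A : Subgroup L} {θ : K → ℂ} :
    θ ∈ aboveChars K A ↔ Cfsg.IsIrrCharacter K θ ∧ (θ ≠ fun _ => 1) ∧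
      ∀ a : K, (a : L) ∈ A → θ a = θ 1 := by
  classical
  simp only [aboveChars, Finset.mem_erase, Finset.mem_filter, mem_irrFinset]
  tauto

theorem mem_aboveInd {K A : Subgroup L} {φ : L → ℂ} :
    φ ∈ aboveInd K A ↔ φ ∈ Cfsg.inducedIrrAbove K A := by
  classical
  simp only [aboveInd, Finset.mem_image, mem_aboveChars, Cfsg.inducedIrrAbove, Set.mem_ofPred_eq]
  exact ⟨fun ⟨θ, ⟨a, b, c⟩, e⟩ => ⟨θ, a, b, c, e.symm⟩, fun ⟨θ, a, b, c, e⟩ => ⟨θ, ⟨a, b, c⟩, e.symm⟩⟩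

theorem coe_aboveInd (K A : Subgroup L) :
    (↑(aboveInd K A) : Set (L → ℂ)) = Cfsg.inducedIrrAbove K A := Set.ext fun _ => mem_aboveInd

theorem inducedIrrAbove_anti {K A B : Subgroup L} (h : A ⊓ K ≤ B) :
    Cfsg.inducedIrrAbove K B ⊆ Cfsg.inducedIrrAbove K A :=
  fun _ ⟨θ, h1, h2, h3, h4⟩ => ⟨θ, h1, h2, fun a ha => h3 a (h ⟨ha, a.2⟩), h4⟩

theorem inducedIrrAbove_subset_bot (K B : Subgroup L) :
    Cfsg.inducedIrrAbove K B ⊆ Cfsg.inducedIrrAbove K ⊥ :=
  inducedIrrAbove_anti (inf_le_left.trans bot_le)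

theorem conjFun_indFun (K : Subgroup L) (θ : K → ℂ) :
    Cfsg.conjFun (Cfsg.indFun K θ) = Cfsg.indFun K (fun x => conj (θ x)) := by
  classical
  funext g
  simp only [Cfsg.conjFun, indFun_def, map_mul, map_inv₀, map_natCast, map_sum]
  congr 1
  refine Finset.sum_congr rfl fun x _ => ?_
  rw [extendByZero_eq, extendByZero_eq, apply_dite (starRingEnd ℂ), map_zero]

theorem conjFun_mem_inducedIrrAbove {K A : Subgroup L} {φ : L → ℂ}
    (hφ : φ ∈ Cfsg.inducedIrrAbove K A) : Cfsg.conjFun φ ∈ Cfsg.inducedIrrAbove K A := by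
  obtain ⟨θ, h1, h2, h3, rfl⟩ := hφ
  refine ⟨fun x => conj (θ x), IsIrrCharacter.conj h1, fun h => h2 (funext fun x => ?_),
    fun a ha => by simp only; rw [h3 a ha], conjFun_indFun K θ⟩
  simpa using congrArg conj (congrFun h x)

theorem cdeg_indFun {K : Subgroup L} {θ : K → ℂ} (hθ : Cfsg.IsIrrCharacter K θ) :
    cdeg (Cfsg.indFun K θ) = K.index * cdeg θ := by
  rw [cdeg, indFun_one, irr_apply_one_eq_cdeg hθ, ← Nat.cast_mul, Complex.natCast_re,
    Nat.floor_natCast]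

/-- The degree bound from a central section. -/
theorem cdeg_sq_le_of_section {K B C D : Subgroup L} (hDC : D ≤ C) (hCK : C ≤ K)
    (hcent : ∀ x ∈ D, ∀ y ∈ C, x * y * x⁻¹ * y⁻¹ ∈ B) {θ : K → ℂ}
    (hθ : Cfsg.IsIrrCharacter K θ) (hker : ∀ a : K, (a : L) ∈ B → θ a = θ 1) :
    cdeg θ ^ 2 ≤ C.relIndex K ^ 2 * D.relIndex C := by
  have h := IsIrrCharacter.degree_sq_mul_le hθ (B := B.subgroupOf K) (C := C.subgroupOf K)
    (D := D.subgroupOf K) (fun x hx => hDC hx) (fun d hd c hc => by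
      show (d : L) * c * (d : L)⁻¹ * (c : L)⁻¹ ∈ B
      exact hcent _ hd _ hc) (fun b hb => hker b hb)
  rw [irr_apply_one_eq_cdeg hθ, Complex.norm_natCast] at h
  have h' : cdeg θ ^ 2 * Nat.card (C.subgroupOf K) * Nat.card (D.subgroupOf K) ≤ Nat.card K ^ 2 := by
    exact_mod_cast h
  rw [Nat.card_congr (Subgroup.subgroupOfEquivOfLe hCK).toEquiv,
    Nat.card_congr (Subgroup.subgroupOfEquivOfLe (hDC.trans hCK)).toEquiv] at h'
  have e1 : Nat.card K = Nat.card C * C.relIndex K := by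
    rw [Subgroup.relIndex, ← Nat.card_congr (Subgroup.subgroupOfEquivOfLe hCK).toEquiv,
      Subgroup.card_mul_index]
  have e2 : Nat.card C = Nat.card D * D.relIndex C := by
    rw [Subgroup.relIndex, ← Nat.card_congr (Subgroup.subgroupOfEquivOfLe hDC).toEquiv,
      Subgroup.card_mul_index]
  refine Nat.le_of_mul_le_mul_right (c := Nat.card C * Nat.card D) ?_
    (Nat.mul_pos Nat.card_pos Nat.card_pos)
  calc cdeg θ ^ 2 * (Nat.card C * Nat.card D) ≤ Nat.card K ^ 2 := by rw [← mul_assoc]; exact h'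
    _ = C.relIndex K ^ 2 * D.relIndex C * (Nat.card C * Nat.card D) := by rw [e1, e2]; ring

variable {K : Subgroup L} [hK : K.Normal]

theorem conjOn_mem_aboveChars {A : Subgroup L} [hA : A.Normal] {θ : K → ℂ}
    (hθ : θ ∈ aboveChars K A) (g : L) : conjOn g θ ∈ aboveChars K A := by
  rw [mem_aboveChars] at hθ ⊢
  obtain ⟨h1, h2, h3⟩ := hθ
  refine ⟨isIrrCharacter_conjOn h1 g, fun h => h2 ?_, fun a ha => ?_⟩
  · rw [← conjOn_one (N := K) θ, ← mul_inv_cancel g, ← conjOn_conjOn, h]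
    rfl
  · rw [conjOn_apply, conjOn_apply_one, h3]
    exact hA.conj_mem _ ha g

theorem sum_cdeg_sq_aboveChars (A : Subgroup L) [A.Normal] :
    (∑ θ ∈ aboveChars K A, cdeg θ ^ 2) + 1 = A.relIndex K := by
  classical
  have h := sum_cdeg_sq_kernel (G := K) (A.subgroupOf K)
  rw [← Finset.sum_erase_add _ _ (show (fun _ => (1 : ℂ)) ∈ (irrFinset K).filter
    (fun θ => ∀ n ∈ A.subgroupOf K, θ n = θ 1) from
      Finset.mem_filter.2 ⟨mem_irrFinset.2 isIrrCharacter_one, fun _ _ => rfl⟩)] at h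
  rw [Subgroup.relIndex, ← h]
  congr 1
  · refine Finset.sum_congr (Finset.ext fun θ => ?_) fun _ _ => rfl
    rw [mem_aboveChars, Finset.mem_erase, Finset.mem_filter, mem_irrFinset]
    simp only [Subgroup.mem_subgroupOf]
    tauto
  · simp [cdeg]

/-- The norm of a character, as a natural number. -/
noncomputable def cnorm (φ : L → ℂ) : ℕ := ⌊(Cfsg.classInner φ φ).re⌋₊

theorem classInner_eq_cnorm {φ : L → ℂ} (hφ : Cfsg.IsCharacter L φ) :
    Cfsg.classInner φ φ = (cnorm φ : ℂ) := by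
  obtain ⟨n, hn⟩ := IsCharacter.exists_classInner_eq_natCast' hφ hφ
  rw [cnorm, hn, Complex.natCast_re, Nat.floor_natCast]

/-- `Σ φ(1)²/‖φ‖²` over `S(A)`. -/
theorem sum_weight_aboveInd (A : Subgroup L) [A.Normal] :
    ∑ φ ∈ aboveInd K A, ((cdeg φ : ℝ) ^ 2 / (cnorm φ : ℝ)) =
      (K.index : ℝ) * ((A.relIndex K : ℝ) - 1) := by
  classical
  have h := sum_sq_indFun (aboveChars K A) (fun θ hθ => (mem_aboveChars.1 hθ).1)
    fun θ hθ g => conjOn_mem_aboveChars hθ g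
  have hchar : ∀ φ ∈ aboveInd K A, Cfsg.IsCharacter L φ := fun φ hφ => by
    obtain ⟨θ, h1, -, -, rfl⟩ := mem_aboveInd.1 hφ
    exact IsCharacter.indFun (IsIrrCharacter.isCharacter h1)
  have h2 : ∑ φ ∈ aboveInd K A, ((cdeg φ : ℂ) ^ 2 / (cnorm φ : ℂ)) =
      (K.index : ℂ) * ((∑ θ ∈ aboveChars K A, cdeg θ ^ 2 : ℕ) : ℂ) := by
    rw [← h]
    exact Finset.sum_congr (Finset.ext fun φ => by simp [aboveInd]) fun φ hφ => by
      rw [← apply_one_eq_cdeg (hchar φ (by simpa [aboveInd] using hφ)),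
        ← classInner_eq_cnorm (hchar φ (by simpa [aboveInd] using hφ))]
  have h3 : ((∑ φ ∈ aboveInd K A, ((cdeg φ : ℝ) ^ 2 / (cnorm φ : ℝ)) : ℝ) : ℂ) =
      (((K.index : ℝ) * ((∑ θ ∈ aboveChars K A, cdeg θ ^ 2 : ℕ) : ℝ) : ℝ) : ℂ) := by
    push_cast at h2 ⊢
    exact h2
  rw [Complex.ofReal_inj.1 h3]
  congr 1
  rw [eq_sub_iff_add_eq, ← Nat.cast_one, ← Nat.cast_add, sum_cdeg_sq_aboveChars]

/-- A linear member of `S(A)` exists when `K` is solvable and `A < K`. -/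
theorem exists_linear_aboveInd (hsolv : Group.IsSolvable K) {A : Subgroup L} [A.Normal]
    (hAK : A < K) : ∃ ψ ∈ aboveInd K A, cdeg ψ = K.index := by
  classical
  haveI := hsolv
  haveI : Nontrivial (K ⧸ A.subgroupOf K) := by
    rw [← Finite.one_lt_card_iff_nontrivial, ← Subgroup.index_eq_card]
    have h1 : (A.subgroupOf K).index ≠ 1 := fun h => hAK.not_ge
      (Subgroup.subgroupOf_eq_top.1 (Subgroup.index_eq_one.1 h))
    have := (A.subgroupOf K).index_ne_zero_of_finite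
    omega
  haveI : Group.IsSolvable (K ⧸ A.subgroupOf K) := inferInstance
  obtain ⟨g, hg⟩ : ∃ g : K ⧸ A.subgroupOf K, g ∉ commutator (K ⧸ A.subgroupOf K) := by
    by_contra h
    push Not at h
    exact (Group.IsSolvable.commutator_lt_top_of_nontrivial _).ne (eq_top_iff.2 fun g _ => h g)
  obtain ⟨lam, hlam⟩ := exists_hom_ne_one hg
  set μ := lam.comp (QuotientGroup.mk' (A.subgroupOf K))
  refine ⟨Cfsg.indFun K (fun x => (μ x : ℂ)), mem_aboveInd.2 ⟨fun x => (μ x : ℂ),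
    isIrrCharacter_ofHom μ, fun h => hlam ?_, fun a ha => ?_, rfl⟩, ?_⟩
  · obtain ⟨x, rfl⟩ := QuotientGroup.mk'_surjective _ g
    exact Units.ext (congrFun h x)
  · simp [μ, (QuotientGroup.eq_one_iff a).2 (show a ∈ A.subgroupOf K from ha)]
  · rw [cdeg_indFun (isIrrCharacter_ofHom μ)]
    simp [cdeg]

variable {G : Type v} [Group G] [Fintype G] {S : Set (L → ℂ)} {τ : (L → ℂ) → (G → ℂ)}
  {R : (L → ℂ) → Finset (G → ℂ)}

omit hK in
theorem system_exists_ne_zero (hS : Cfsg.IsCoherenceSystem S τ R) {X : Set (L → ℂ)} (hX : X ⊆ S)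
    (hXc : ∀ φ ∈ X, Cfsg.conjFun φ ∈ X) (hne : X.Nonempty) :
    ∃ α ∈ Cfsg.zspanOn X ({1}ᶜ : Set L), α ≠ 0 := by
  obtain ⟨φ, hφ⟩ := hne
  refine ⟨φ - Cfsg.conjFun φ, mem_zspanOn_one.2
    ⟨Submodule.sub_mem _ (subset_zspan hφ) (subset_zspan (hXc φ hφ)), ?_⟩,
    sub_ne_zero.2 (Ne.symm (hS.conj_ne φ (hX hφ)))⟩
  rw [Pi.sub_apply, Cfsg.conjFun, apply_one_eq_cdeg (hS.isCharacter φ (hX hφ)), map_natCast, sub_self]

omit hK in
/-- Growing a coherent subset of a coherence system. -/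
theorem coherent_grow (hS : Cfsg.IsCoherenceSystem S τ R) (X Y : Finset (L → ℂ))
    (hXY : X ⊆ Y) (hYS : ↑Y ⊆ S) (hXc : ∀ φ ∈ X, Cfsg.conjFun φ ∈ X)
    (hYc : ∀ φ ∈ Y, Cfsg.conjFun φ ∈ Y)
    (hX : Cfsg.IsCoherent (↑X : Set (L → ℂ)) ({1}ᶜ : Set L) τ) {ψ : L → ℂ} (hψ : ψ ∈ X)
    (hstep : ∀ χ ∈ Y, χ ∉ X → cdeg ψ ∣ cdeg χ ∧
      (2 * cdeg χ * cdeg ψ : ℝ) < ∑ φ ∈ X, ((cdeg φ : ℝ) ^ 2 / (cnorm φ : ℝ))) :
    Cfsg.IsCoherent (↑Y : Set (L → ℂ)) ({1}ᶜ : Set L) τ := by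
  classical
  suffices H : ∀ (n : ℕ) (Z : Finset (L → ℂ)), (Y \ Z).card = n → X ⊆ Z → Z ⊆ Y →
      (∀ φ ∈ Z, Cfsg.conjFun φ ∈ Z) → Cfsg.IsCoherent (↑Z : Set (L → ℂ)) ({1}ᶜ : Set L) τ →
      Cfsg.IsCoherent (↑Y : Set (L → ℂ)) ({1}ᶜ : Set L) τ from H _ X rfl subset_rfl hXY hXc hX
  intro n
  induction n using Nat.strong_induction_on with
  | _ n ih =>
    intro Z hn hXZ hZY hZc hZ
    by_cases hempty : Y ⊆ Z
    · rwa [Finset.Subset.antisymm hempty hZY]
    obtain ⟨χ, hχY, hχZ⟩ := Finset.not_subset.1 hempty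
    have hχ'Z : Cfsg.conjFun χ ∉ Z := fun h => hχZ (by simpa [conjFun_conjFun] using hZc _ h)
    obtain ⟨hdvd, hlt⟩ := hstep χ hχY fun h => hχZ (hXZ h)
    have hext := coherence_extend hS cdeg cnorm (fun φ hφ => apply_one_eq_cdeg (hS.isCharacter φ hφ))
      (fun φ hφ => classInner_eq_cnorm (hS.isCharacter φ hφ)) Z
      ((Finset.coe_subset.2 hZY).trans hYS) hZc hZ (hYS hχY) hχZ hχ'Z (hXZ hψ) hdvd
      (hlt.trans_le (Finset.sum_le_sum_of_subset_of_nonneg hXZ fun φ _ _ => by positivity))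
    rw [show (↑Z ∪ {χ, Cfsg.conjFun χ} : Set (L → ℂ)) =
      ↑(Z ∪ {χ, Cfsg.conjFun χ} : Finset (L → ℂ)) by push_cast; rfl] at hext
    refine ih _ ?_ _ rfl (hXZ.trans Finset.subset_union_left) ?_ ?_ hext
    · rw [← hn]
      refine Finset.card_lt_card (Finset.ssubset_iff_of_subset
        (Finset.sdiff_subset_sdiff subset_rfl Finset.subset_union_left) |>.2 ⟨χ, ?_, ?_⟩)
      · simp [hχY, hχZ]
      · simp
    · refine Finset.union_subset hZY fun φ hφ => ?_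
      rcases Finset.mem_insert.1 hφ with rfl | hφ
      · exact hχY
      · rw [Finset.mem_singleton.1 hφ]; exact hYc χ hχY
    · intro φ hφ
      rcases Finset.mem_union.1 hφ with h | h
      · exact Finset.mem_union_left _ (hZc φ h)
      · refine Finset.mem_union_right _ ?_
        rcases Finset.mem_insert.1 h with rfl | h
        · simp
        · rw [Finset.mem_singleton.1 h, conjFun_conjFun]; simp

end CfsgLib.Char
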