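import Cfsg.Agent.Char.FrobeniusTI
import Cfsg.Agent.Char.FeitCoherence
import Cfsg.Agent.Char.OddFrobeniusCoherence
import Cfsg.Agent.Char.InducedAbove

/-!
# Class functions attached to one trivial intersection kernel
-/

set_option autoImplicit false
set_option linter.style.haveILetI false

namespace CfsgLib.Char

open scoped ComplexConjugate

universe u

variable {G : Type u} [Group G] [Fintype G] {L : Subgroup G} [Fintype L] {A : Subgroup L}
  [hA : A.Normal]

omit [Fintype G] in
/-- A character not trivial on the kernel has mean zero there. -/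
theorem classInner_indFun_one_relevant [Fintype A]
    (hC : ∀ a ∈ A, a ≠ 1 → Subgroup.centralizer ({a} : Set L) ≤ A) {χ : L → ℂ}
    (hχ : χ ∈ relevantChars A) :
    Cfsg.classInner (Cfsg.indFun A fun _ => (1 : ℂ)) χ = 0 := by
  classical
  obtain ⟨θ, hθ, h1, rfl⟩ := exists_indFun_eq_of_centralizer_le hC hχ.1 hχ.2
  rw [classInner_indFun_indFun isIrrCharacter_one hθ, if_neg]
  rw [mem_conjOrbit]
  rintro ⟨g, hg⟩
  refine h1 ?_
  rw [← conjOn_one (N := A) θ, ← mul_inv_cancel g, ← conjOn_conjOn, ← hg]
  rfl

omit [Fintype G] hA in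
theorem classInner_relevant_one {χ : L → ℂ} (hχ : χ ∈ relevantChars A) :
    Cfsg.classInner χ (fun _ => 1) = 0 := by
  refine IsIrrCharacter.classInner_of_ne hχ.1 isIrrCharacter_one fun h => ?_
  obtain ⟨k, -, hk⟩ := hχ.2
  exact hk (by rw [h])

/-- The function `(1_A)^L - λ`. -/
noncomputable def nuFun (A : Subgroup L) (lam : L → ℂ) : L → ℂ :=
  Cfsg.indFun A (fun _ => 1) - lam

theorem nuFun_facts (hC : ∀ a ∈ A, a ≠ 1 → Subgroup.centralizer ({a} : Set L) ≤ A) {lam : L → ℂ}
    (hlam : lam ∈ relevantChars A) (hlam1 : lam 1 = (A.index : ℂ)) :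
    Cfsg.IsClassFunction L (nuFun A lam) ∧ nuFun A lam 1 = 0 ∧
      (∀ x : L, x ∉ A → nuFun A lam x = 0) ∧
      Cfsg.classInner (nuFun A lam) (fun _ => 1) = 1 ∧
      Cfsg.classInner (nuFun A lam) (nuFun A lam) = (A.index : ℂ) + 1 ∧
      ∀ χ ∈ relevantChars A,
        Cfsg.classInner (nuFun A lam) χ = -Cfsg.classInner lam χ := by
  classical
  haveI := Fintype.ofFinite A
  have hl := classInner_indFun_one_relevant hC hlam
  refine ⟨fun x y => ?_, ?_, fun x hx => ?_, ?_, ?_, fun χ hχ => ?_⟩
  · simp only [nuFun, Pi.sub_apply, isClassFunction_indFun A _ x y,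
      IsIrrCharacter.isClassFunction hlam.1 x y]
  · simp only [nuFun, Pi.sub_apply, indFun_one, hlam1, mul_one, sub_self]
  · simp only [nuFun, Pi.sub_apply, indFun_eq_zero_of_normal _ hx, relevant_apply_eq_zero hC hlam hx,
      sub_self]
  · rw [nuFun, classInner_sub_left, classInner_relevant_one hlam,
      classInner_indFun _ (IsIrrCharacter.isClassFunction isIrrCharacter_one), sub_zero]
    exact classInner_one_one
  · have hidx : (Nat.card (inertia (fun _ : A => (1 : ℂ))) : ℂ) / Nat.card A = (A.index : ℂ) := by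
      have htop : inertia (fun _ : A => (1 : ℂ)) = ⊤ := eq_top_iff.2 fun g _ => by
        rw [mem_inertia]; rfl
      rw [htop, Subgroup.card_top, ← A.card_mul_index, Nat.cast_mul,
        mul_div_cancel_left₀ _ (Nat.cast_ne_zero.2 (Nat.card_pos (α := A)).ne')]
    rw [nuFun, classInner_sub_left, classInner_sub_right, classInner_sub_right,
      classInner_indFun_self isIrrCharacter_one, hidx, hl, ← classInner_conj _ lam, hl, map_zero,
      IsIrrCharacter.classInner_self hlam.1]
    ring
  · rw [nuFun, classInner_sub_left, classInner_indFun_one_relevant hC hχ, zero_sub]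

/-- Inner product of the induced function with a class function of known shape on the kernel. -/
theorem classInner_indFun_nuFun
    (hC : ∀ a ∈ A, a ≠ 1 → Subgroup.centralizer ({a} : Set L) ≤ A) {lam : L → ℂ}
    (hlam : lam ∈ relevantChars A) (hlam1 : lam 1 = (A.index : ℂ)) {φ : G → ℂ}
    (hφ : Cfsg.IsClassFunction G φ) (g : L → ℂ) (c : ℂ)
    (h : ∀ k ∈ A, k ≠ 1 → φ k = g k + c) :
    Cfsg.classInner (Cfsg.indFun L (nuFun A lam)) φ =
      Cfsg.classInner (nuFun A lam) g + conj c := by
  classical
  obtain ⟨-, h1, h2, h3, -, -⟩ := nuFun_facts hC hlam hlam1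
  rw [classInner_indFun _ hφ]
  have e : Cfsg.classInner (nuFun A lam) (fun x : L => φ x) =
      Cfsg.classInner (nuFun A lam) (g + c • fun _ => (1 : ℂ)) := by
    rw [classInner_def, classInner_def]
    congr 1
    refine Finset.sum_congr rfl fun x _ => ?_
    by_cases hx : x ∈ A
    · by_cases hx1 : x = 1
      · rw [hx1, h1, zero_mul, zero_mul]
      · rw [h x hx hx1]; simp
    · rw [h2 x hx, zero_mul, zero_mul]
  rw [e, classInner_add_right, classInner_smul_right, h3, mul_one]

/-- The restriction of a function to the non-identity elements of the kernel. -/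
noncomputable def restrictKernel (A : Subgroup L) (φ : G → ℂ) : L → ℂ := fun x =>
  @ite ℂ (x ∈ A ∧ x ≠ 1) (Classical.propDecidable _) (φ x) 0

omit [Fintype G] [Fintype L] hA in
theorem restrictKernel_apply (φ : G → ℂ) {x : L} (hx : x ∈ A) (hx1 : x ≠ 1) :
    restrictKernel A φ x = φ x := by
  classical
  exact if_pos ⟨hx, hx1⟩

omit [Fintype G] [Fintype L] hA in
theorem restrictKernel_eq_zero (φ : G → ℂ) {x : L} (hx : ¬ (x ∈ A ∧ x ≠ 1)) :
    restrictKernel A φ x = 0 := by
  classical
  exact if_neg hx

omit [Fintype G] in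
/-- The norm of a constant on the non-identity elements of the kernel. -/
theorem classInner_restrictKernel_const (φ : G → ℂ) (c : ℂ)
    (h : ∀ k ∈ A, k ≠ 1 → φ k = c) :
    Cfsg.classInner (restrictKernel A φ) (restrictKernel A φ) =
      c * conj c * (((Nat.card A : ℂ) - 1) / (Nat.card L : ℂ)) := by
  classical
  haveI := Fintype.ofFinite A
  rw [classInner_def, ← Finset.sum_subset (Finset.subset_univ
    ((Finset.univ.filter fun x : L => x ∈ A).erase 1)) fun x _ hx => by
      rw [restrictKernel_eq_zero φ (fun h' => hx (by simp [h'.1, h'.2])), zero_mul]]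
  rw [Finset.sum_congr rfl (g := fun _ => c * conj c) fun x hx => ?_, Finset.sum_const, nsmul_eq_mul,
    Finset.card_erase_of_mem (by simp [A.one_mem]), ← Fintype.card_subtype, ← Nat.card_eq_fintype_card,
    Nat.cast_sub (Nat.card_pos (α := A)), Nat.cast_one]
  · ring
  · simp only [Finset.mem_erase, Finset.mem_filter, Finset.mem_univ, true_and] at hx
    rw [restrictKernel_apply φ hx.2 hx.1, h x hx.2 hx.1]

/-- The norm of `λ + M` on the non-identity elements of the kernel. -/
theorem classInner_restrictKernel_shift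
    (hC : ∀ a ∈ A, a ≠ 1 → Subgroup.centralizer ({a} : Set L) ≤ A) {lam : L → ℂ}
    (hlam : lam ∈ relevantChars A) (hlam1 : lam 1 = (A.index : ℂ)) (φ : G → ℂ) (M : ℤ)
    (h : ∀ k ∈ A, k ≠ 1 → φ k = lam k + M) :
    Cfsg.classInner (restrictKernel A φ) (restrictKernel A φ) =
      1 - (A.index : ℂ) / Nat.card A +
        ((M : ℂ) ^ 2 * (((Nat.card A : ℂ) - 1) / A.index) - 2 * M) / Nat.card A := by
  classical
  haveI := Fintype.ofFinite A
  set l : ℂ := (A.index : ℂ) with hl
  set F : L → ℂ := lam + (M : ℂ) • fun _ => (1 : ℂ) with hF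
  have hF2 : Cfsg.classInner F F = 1 + (M : ℂ) ^ 2 := by
    have h1 : Cfsg.classInner (fun _ : L => (1 : ℂ)) lam = 0 := by
      rw [← classInner_conj, classInner_relevant_one hlam, map_zero]
    rw [hF, classInner_add_left, classInner_add_right, classInner_add_right, classInner_smul_left,
      classInner_smul_left, classInner_smul_right, classInner_smul_right, classInner_one_one,
      IsIrrCharacter.classInner_self hlam.1, classInner_relevant_one hlam, h1, map_intCast]
    ring
  have hcardL : (Nat.card L : ℂ) = (Nat.card A : ℂ) * l := by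
    rw [hl, ← Nat.cast_mul, A.card_mul_index]
  have hA0 : (Nat.card A : ℂ) ≠ 0 := Nat.cast_ne_zero.2 (Nat.card_pos (α := A)).ne'
  have hl0 : l ≠ 0 := Nat.cast_ne_zero.2 A.index_ne_zero_of_finite
  have hpt : ∀ x : L, restrictKernel A φ x * conj (restrictKernel A φ x) =
      F x * conj (F x) - ((if x ∈ A then 0 else (M : ℂ) ^ 2) + if x = 1 then (l + M) ^ 2 else 0) := by
    intro x
    have hFx : F x = lam x + M := by simp [hF]
    by_cases hx : x ∈ A
    · by_cases hx1 : x = 1
      · subst hx1
        rw [restrictKernel_eq_zero φ (fun h' => h'.2 rfl), hFx, if_pos hx, if_pos rfl, hlam1, hl]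
        simp only [map_add, map_intCast, map_natCast, map_zero]
        ring
      · rw [restrictKernel_apply φ hx hx1, h x hx hx1, hFx, if_pos hx, if_neg hx1]
        ring
    · rw [restrictKernel_eq_zero φ (fun h' => hx h'.1), hFx, if_neg hx,
        if_neg (fun e : x = 1 => hx (e ▸ A.one_mem)), relevant_apply_eq_zero hC hlam hx]
      simp only [zero_add, map_zero, map_intCast]
      ring
  have hout : ∑ x : L, (if x ∈ A then (0 : ℂ) else (M : ℂ) ^ 2) =
      ((Nat.card L : ℂ) - Nat.card A) * (M : ℂ) ^ 2 := by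
    have e : ∀ x : L, (if x ∈ A then (0 : ℂ) else (M : ℂ) ^ 2) =
        (M : ℂ) ^ 2 - if x ∈ A then (M : ℂ) ^ 2 else 0 := fun x => by split_ifs <;> ring
    rw [Finset.sum_congr rfl fun x _ => e x, Finset.sum_sub_distrib, Finset.sum_const, Finset.card_univ,
      ← Finset.sum_filter, Finset.sum_const, ← Fintype.card_subtype, nsmul_eq_mul, nsmul_eq_mul,
      ← Nat.card_eq_fintype_card, ← Nat.card_eq_fintype_card]
    ring
  rw [classInner_def, Finset.sum_congr rfl fun x _ => hpt x, Finset.sum_sub_distrib,
    sum_eq_card_mul_classInner, hF2, Finset.sum_add_distrib, hout, Finset.sum_ite_eq',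
    if_pos (Finset.mem_univ _), hcardL]
  field_simp
  ring

end CfsgLib.Char
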