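import Cfsg.Agent.Char.ExtendInv
import Mathlib.LinearAlgebra.Projection
import Mathlib.GroupTheory.FiniteAbelian.Duality

/-!
# Gluing homomorphisms, and determinants on the range of an idempotent
-/

set_option autoImplicit false

namespace CfsgLib.Char

universe u v

open Module

/-- Homomorphisms on a normal subgroup and on a supplement glue when they agree on the
intersection and the first is invariant under the supplement. -/
theorem exists_hom_glue {Γ : Type u} [Group Γ] {A : Type v} [CommGroup A] (H K : Subgroup Γ)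
    [hH : H.Normal] (htop : H ⊔ K = ⊤) (f : H →* A) (g : K →* A)
    (hagree : ∀ (x : Γ) (h1 : x ∈ H) (h2 : x ∈ K), f ⟨x, h1⟩ = g ⟨x, h2⟩)
    (hinv : ∀ (k : K) (h : H), f ⟨k * h * (k : Γ)⁻¹, hH.conj_mem h h.2 k⟩ = f h) :
    ∃ F : Γ →* A, (∀ h : H, F h = f h) ∧ ∀ k : K, F k = g k := by
  have hdec : ∀ x : Γ, ∃ h : H, ∃ k : K, (h : Γ) * k = x := fun x => by
    obtain ⟨y, hy, z, hz, rfl⟩ :=
      Subgroup.mem_sup_of_normal_left.1 (htop ▸ Subgroup.mem_top x : x ∈ H ⊔ K)
    exact ⟨⟨y, hy⟩, ⟨z, hz⟩, rfl⟩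
  choose a b hab using hdec
  have well : ∀ (h : H) (k : K), f (a ((h : Γ) * k)) * g (b ((h : Γ) * k)) = f h * g k := by
    intro h k
    have e := hab ((h : Γ) * k)
    set h' := a ((h : Γ) * k)
    set k' := b ((h : Γ) * k)
    have e2 : (h : Γ)⁻¹ * h' = k * (k' : Γ)⁻¹ := by
      rw [eq_mul_inv_iff_mul_eq, mul_assoc, e, inv_mul_cancel_left]
    have hh : (h : Γ)⁻¹ * h' ∈ H := H.mul_mem (H.inv_mem h.2) h'.2
    have hk : (h : Γ)⁻¹ * h' ∈ K := e2 ▸ K.mul_mem k.2 (K.inv_mem k'.2)
    have h1 := hagree _ hh hk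
    have h2 : (⟨(h : Γ)⁻¹ * h', hh⟩ : H) = h⁻¹ * h' := rfl
    have h3 : (⟨(h : Γ)⁻¹ * h', hk⟩ : K) = k * k'⁻¹ := Subtype.ext e2
    rw [h2, h3, map_mul, map_inv, map_mul, map_inv] at h1
    rw [eq_mul_inv_iff_mul_eq, mul_assoc, inv_mul_eq_iff_eq_mul] at h1
    exact h1
  refine ⟨MonoidHom.mk' (fun x => f (a x) * g (b x)) fun x y => ?_, fun h => ?_, fun k => ?_⟩
  · have key : x * y = ((a x * ⟨b x * a y * (b x : Γ)⁻¹, hH.conj_mem _ (a y).2 _⟩ : H) : Γ) *
        ((b x * b y : K) : Γ) := by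
      conv_lhs => rw [← hab x, ← hab y]
      simp [mul_assoc]
    change f (a (x * y)) * g (b (x * y)) = f (a x) * g (b x) * (f (a y) * g (b y))
    rw [key, well, map_mul, map_mul, hinv, mul_mul_mul_comm]
  · change f (a (h : Γ)) * g (b (h : Γ)) = f h
    simpa using well h 1
  · change f (a (k : Γ)) * g (b (k : Γ)) = g k
    simpa using well 1 k

/-- A homomorphism from a subgroup of a finite abelian group to the units of `ℂ` extends. -/
theorem exists_extend_of_abelian {A : Type u} [Group A] [Finite A] (hA : ∀ a b : A, a * b = b * a)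
    (H : Subgroup A) (f : H →* ℂˣ) : ∃ F : A →* ℂˣ, ∀ h : H, F h = f h := by
  letI : CommGroup A := { ‹Group A› with mul_comm := hA }
  haveI : NeZero (Monoid.exponent A : ℂ) :=
    ⟨Nat.cast_ne_zero.2 Monoid.exponent_ne_zero_of_finite⟩
  obtain ⟨F, hF⟩ := MonoidHom.domRestrict_surjective ℂ H f
  exact ⟨F, fun h => DFunLike.congr_fun hF h⟩

/-- The determinant and the trace attached to an idempotent operator. -/
theorem det_smul_idempotent {W : Type v} [AddCommGroup W] [Module ℂ W] [FiniteDimensional ℂ W]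
    {e : Module.End ℂ W} (he : e * e = e) :
    LinearMap.trace ℂ W e = (finrank ℂ (LinearMap.range e) : ℂ) ∧
      ∀ c : ℂ, LinearMap.det (c • e + (1 - e)) = c ^ finrank ℂ (LinearMap.range e) := by
  have hp : LinearMap.IsProj (LinearMap.range e) e := (LinearMap.isProj_range_iff_isIdempotentElem e).2 he
  refine ⟨hp.trace, fun c => ?_⟩
  let L := (LinearMap.range e).prodEquivOfIsCompl (LinearMap.ker e) hp.isCompl
  have h1 : c • e + (1 - e) =
      L.conj (LinearMap.prodMap (c • LinearMap.id) LinearMap.id) := by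
    have h2 := hp.eq_conj_prodMap
    conv_lhs => rw [h2]
    rw [show (1 : Module.End ℂ W) = L.conj LinearMap.id from (L.conj_id).symm, ← map_sub,
      ← map_smul, ← map_add]
    congr 1
    ext x <;> simp
  rw [h1, LinearEquiv.conj_apply, LinearMap.comp_assoc, LinearMap.det_conj, LinearMap.det_prodMap,
    LinearMap.det_id, mul_one, LinearMap.det_smul, LinearMap.det_id, mul_one]

end CfsgLib.Char
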