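import Cfsg.Agent.Char.Central
import Cfsg.Agent.Char.Burnside
import Mathlib.GroupTheory.QuotientGroup.Defs

/-!
# The degree divides the index of a subgroup acting by scalars
-/

set_option autoImplicit false
set_option linter.style.haveILetI false

namespace CfsgLib.Char

open Module Representation
open scoped ComplexConjugate

universe u v

variable {G : Type u} [Group G] {V : Type v} [AddCommGroup V] [Module ℂ V]
  [FiniteDimensional ℂ V]

theorem exists_scalar_of_mem_scalarSubgroup [Finite G] (ρ : Representation ℂ G V)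
    [ρ.IsIrreducible] {z : G} (hz : z ∈ scalarSubgroup ρ) :
    ∃ c : ℂ, ρ z = c • (1 : Module.End ℂ V) :=
  ⟨_, eq_smul_one_of_commute ρ (ρ z) fun g => ((hz (ρ g)).eq).symm⟩

theorem center_le_scalarSubgroup [Finite G] (ρ : Representation ℂ G V) [ρ.IsIrreducible] :
    Subgroup.center G ≤ scalarSubgroup ρ := by
  intro z hz A
  rw [eq_smul_one_of_commute ρ (ρ z) fun g => by
    rw [← map_mul, ← map_mul, Subgroup.mem_center_iff.1 hz g]]
  exact (Commute.one_left A).smul_left _

/-- In a faithful irreducible representation the degree divides the index of a subgroup acting by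
scalars. -/
theorem finrank_dvd_index_of_injective [Finite G] (ρ : Representation ℂ G V) [ρ.IsIrreducible]
    (hinj : Function.Injective ρ) (Z : Subgroup G) (hZ : Z ≤ scalarSubgroup ρ) :
    finrank ℂ V ∣ Z.index := by
  classical
  haveI := Fintype.ofFinite G
  have hχc := isCharacter_character ρ
  set χ := ρ.character with hχdef
  have hlam : ∀ z ∈ Z, ∃ c : ℂ, ρ z = c • (1 : Module.End ℂ V) := fun z hz =>
    exists_scalar_of_mem_scalarSubgroup ρ (hZ hz)
  choose! lam hlam using hlam
  have hmulv : ∀ z ∈ Z, ∀ g, χ (z * g) = lam z * χ g := fun z hz g => by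
    simp only [hχdef, Representation.character, map_mul, hlam z hz, smul_mul_assoc, one_mul,
      map_smul, smul_eq_mul]
  have hn0 : finrank ℂ V ≠ 0 := (finrank_pos_of_isIrreducible ρ).ne'
  let block : G → Finset G := fun g => Finset.univ.filter fun h => ∃ z ∈ Z, IsConj (z * g) h
  have hself : ∀ g, g ∈ block g := fun g => by
    simp only [block, Finset.mem_filter, Finset.mem_univ, true_and]
    exact ⟨1, Z.one_mem, by rw [one_mul]⟩
  have hcen : ∀ z ∈ Z, ∀ g, z * g = g * z := fun z hz g => hinj (by
    rw [map_mul, map_mul]; exact (hZ hz (ρ g)).eq)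
  have hblock : ∀ g h, h ∈ block g → block h = block g := by
    intro g h hh
    simp only [block, Finset.mem_filter, Finset.mem_univ, true_and] at hh
    obtain ⟨z, hz, hzc⟩ := hh
    obtain ⟨x, hx⟩ := isConj_iff.1 hzc
    ext k
    simp only [block, Finset.mem_filter, Finset.mem_univ, true_and]
    constructor
    · rintro ⟨w, hw, hwc⟩
      refine ⟨w * z, Z.mul_mem hw hz, ?_⟩
      refine IsConj.trans (isConj_iff.2 ⟨x, ?_⟩) hwc
      rw [← hx, mul_assoc w z g]
      calc x * (w * (z * g)) * x⁻¹ = x * w * (z * g) * x⁻¹ := by group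
        _ = w * (x * (z * g) * x⁻¹) := by rw [← hcen w hw x]; group
    · rintro ⟨w, hw, hwc⟩
      refine ⟨w * z⁻¹, Z.mul_mem hw (Z.inv_mem hz), ?_⟩
      refine IsConj.trans (isConj_iff.2 ⟨x⁻¹, ?_⟩) hwc
      rw [← hx]
      calc x⁻¹ * (w * z⁻¹ * (x * (z * g) * x⁻¹)) * x⁻¹⁻¹
          = x⁻¹ * (w * z⁻¹) * x * (z * g) := by group
        _ = w * g := by
          rw [← hcen (w * z⁻¹) (Z.mul_mem hw (Z.inv_mem hz)) x⁻¹]; group
  refine dvd_of_isIntegral_div hn0 ?_
  have hZ0 : (Nat.card Z : ℂ) ≠ 0 := by exact_mod_cast Nat.card_pos.ne'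
  have hterm : ∀ B ∈ (Finset.univ : Finset G).image block, ∃ b : ℂ, IsIntegral ℤ b ∧
      ∑ g ∈ Finset.univ.filter (fun g => block g = B), χ g * conj (χ g) / (finrank ℂ V : ℂ) =
        (Nat.card Z : ℂ) * b := by
    intro B hB
    obtain ⟨g, -, rfl⟩ := Finset.mem_image.1 hB
    have hconst : ∀ h ∈ Finset.univ.filter (fun x => block x = block g),
        χ h * conj (χ h) = χ g * conj (χ g) := by
      intro h hh
      rw [Finset.mem_filter] at hh
      have hm := hself h
      rw [hh.2] at hm
      simp only [block, Finset.mem_filter, Finset.mem_univ, true_and] at hm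
      obtain ⟨z, hz, hzc⟩ := hm
      rw [← IsClassFunction.apply_eq_of_isConj (IsCharacter.isClassFunction hχc) hzc, hmulv z hz g,
        map_mul]
      have hnorm : lam z * conj (lam z) = 1 := by
        rw [Complex.mul_conj']
        have h1 : ‖χ z‖ = (finrank ℂ V : ℝ) := (norm_character_eq_iff ρ z).2 ⟨lam z, hlam z hz⟩
        have h2 : χ z = lam z * finrank ℂ V := by
          have h3 := hmulv z hz 1
          rw [mul_one] at h3
          rw [h3, hχdef, ρ.char_one]
        rw [h2, norm_mul, Complex.norm_natCast, mul_eq_right₀ (by exact_mod_cast hn0)] at h1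
        rw [h1]; simp
      calc lam z * χ g * (conj (lam z) * conj (χ g))
          = lam z * conj (lam z) * (χ g * conj (χ g)) := by ring
        _ = χ g * conj (χ g) := by rw [hnorm, one_mul]
    rw [Finset.sum_congr rfl fun h hh => by rw [hconst h hh], Finset.sum_const, nsmul_eq_mul]
    by_cases h0 : χ g = 0
    · exact ⟨0, isIntegral_zero, by simp [h0]⟩
    refine ⟨(Nat.card {x : G // IsConj g x} : ℂ) * χ g / (finrank ℂ V : ℂ) * conj (χ g),
      (isIntegral_class_mul_char_div ρ g).mul ?_, ?_⟩
    · rw [← IsCharacter.apply_inv hχc]; exact IsCharacter.isIntegral hχc _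
    have hcard : (Finset.univ.filter fun x => block x = block g).card =
        Nat.card Z * Nat.card {x : G // IsConj g x} := by
      rw [← Nat.card_eq_finsetCard, ← Nat.card_prod]
      refine (Nat.card_congr (Equiv.ofBijective (fun q : Z × {x : G // IsConj g x} =>
        (⟨(q.1 : G) * q.2.1, Finset.mem_filter.2 ⟨Finset.mem_univ _, hblock g _ ?_⟩⟩ :
          {x // x ∈ Finset.univ.filter fun x => block x = block g})) ⟨?_, ?_⟩)).symm
      · simp only [block, Finset.mem_filter, Finset.mem_univ, true_and]
        obtain ⟨x, hx⟩ := isConj_iff.1 q.2.2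
        refine ⟨q.1, q.1.2, isConj_iff.2 ⟨x, ?_⟩⟩
        rw [← hx]
        calc x * ((q.1 : G) * g) * x⁻¹ = x * (q.1 : G) * g * x⁻¹ := by group
          _ = (q.1 : G) * (x * g * x⁻¹) := by rw [← hcen _ q.1.2 x]; group
      · intro p q hpq
        have e : (p.1 : G) * p.2.1 = q.1 * q.2.1 := congrArg Subtype.val hpq
        have hv : ∀ r : Z × {x : G // IsConj g x}, χ ((r.1 : G) * r.2.1) = lam r.1 * χ g :=
          fun r => by
            rw [hmulv _ r.1.2, ← IsClassFunction.apply_eq_of_isConj
              (IsCharacter.isClassFunction hχc) r.2.2]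
        have e1 := congrArg χ e
        rw [hv, hv] at e1
        have hl : lam p.1 = lam q.1 := mul_right_cancel₀ h0 e1
        have hz : (p.1 : G) = q.1 := hinj (by rw [hlam _ p.1.2, hlam _ q.1.2, hl])
        exact Prod.ext (Subtype.ext hz) (Subtype.ext (mul_left_cancel (hz ▸ e)))
      · rintro ⟨k, hk⟩
        rw [Finset.mem_filter] at hk
        have hm := hself k
        rw [hk.2] at hm
        simp only [block, Finset.mem_filter, Finset.mem_univ, true_and] at hm
        obtain ⟨z, hz, hzc⟩ := hm
        refine ⟨(⟨z, hz⟩, ⟨z⁻¹ * k, ?_⟩), Subtype.ext (mul_inv_cancel_left z k)⟩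
        obtain ⟨x, hx⟩ := isConj_iff.1 hzc
        refine isConj_iff.2 ⟨x, ?_⟩
        rw [← hx]
        calc x * g * x⁻¹ = z⁻¹ * (z * x) * g * x⁻¹ := by group
          _ = z⁻¹ * (x * (z * g) * x⁻¹) := by rw [hcen z hz x]; group
    rw [hcard, Nat.cast_mul]; ring
  choose! b hb hbeq using hterm
  have h1 := sum_eq_card_mul_classInner χ χ
  rw [hχdef, IsIrrCharacter.classInner_self (isIrrCharacter_character ρ), mul_one, ← hχdef] at h1
  have key : (Nat.card G : ℂ) / (finrank ℂ V : ℂ) =
      (Nat.card Z : ℂ) * ∑ B ∈ (Finset.univ : Finset G).image block, b B := by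
    rw [← h1, Finset.sum_div, Finset.mul_sum, ← Finset.sum_fiberwise_of_maps_to (g := block)
      (fun x _ => Finset.mem_image_of_mem _ (Finset.mem_univ x))]
    exact Finset.sum_congr rfl hbeq
  have : (Z.index : ℂ) / (finrank ℂ V : ℂ) =
      ∑ B ∈ (Finset.univ : Finset G).image block, b B := by
    apply mul_left_cancel₀ hZ0
    rw [← key, ← Z.card_mul_index]
    push_cast
    ring
  rw [this]
  exact IsIntegral.sum _ hb

/-- The degree divides the index of the subgroup acting by scalars. -/
theorem finrank_dvd_index_scalarSubgroup [Finite G] (ρ : Representation ℂ G V) [ρ.IsIrreducible] :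
    finrank ℂ V ∣ (scalarSubgroup ρ).index := by
  let K := ρ.asGroupHom.ker
  have hK : ∀ g ∈ K, ρ g = 1 := fun g hg => by
    have h := congrArg Units.val (MonoidHom.mem_ker.1 hg)
    rwa [asGroupHom_apply] at h
  let ρ' : Representation ℂ (G ⧸ K) V :=
    (Units.coeHom _).comp (QuotientGroup.lift K ρ.asGroupHom fun g hg => MonoidHom.mem_ker.1 hg)
  have hρ' : ∀ g : G, ρ' g = ρ g := fun g => asGroupHom_apply ρ g
  have hinj : Function.Injective ρ' := by
    intro a b hab
    obtain ⟨x, rfl⟩ := QuotientGroup.mk_surjective a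
    obtain ⟨y, rfl⟩ := QuotientGroup.mk_surjective b
    rw [hρ', hρ'] at hab
    refine QuotientGroup.eq.2 (MonoidHom.mem_ker.2 (Units.ext ?_))
    rw [asGroupHom_apply, map_mul, ← hab, ← map_mul, inv_mul_cancel, map_one]
    rfl
  haveI : ρ'.IsIrreducible := by
    haveI : Nontrivial V := Module.nontrivial_of_finrank_pos (finrank_pos_of_isIrreducible ρ)
    refine isIrreducible_of_no_sub ρ' fun S => ?_
    let S' : Subrepresentation ρ := ⟨S.toSubmodule, fun g v hv => by
      rw [← hρ']; exact S.apply_mem_toSubmodule _ hv⟩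
    rcases IsSimpleOrder.eq_bot_or_eq_top S' with h | h
    · exact Or.inl (Subrepresentation.toSubmodule_injective
        (congrArg (fun T : Subrepresentation ρ => T.toSubmodule) h :))
    · exact Or.inr (Subrepresentation.toSubmodule_injective
        (congrArg (fun T : Subrepresentation ρ => T.toSubmodule) h :))
  have h1 := finrank_dvd_index_of_injective ρ' hinj
    ((scalarSubgroup ρ).map (QuotientGroup.mk' K))
    (by rintro _ ⟨x, hx, rfl⟩ A; rw [QuotientGroup.mk'_apply, hρ']; exact hx A)
  have hle : (QuotientGroup.mk' K).ker ≤ scalarSubgroup ρ := by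
    rw [QuotientGroup.ker_mk']
    intro g hg A
    rw [hK g hg]; exact Commute.one_left A
  rwa [Subgroup.index_map_eq _ (QuotientGroup.mk'_surjective K) hle] at h1

end CfsgLib.Char
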