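import Cfsg.Agent.Char.CliffordCorrespondence
import Cfsg.Agent.Char.ScalarIndex
import Mathlib.LinearAlgebra.Determinant
import Mathlib.LinearAlgebra.TensorProduct.Basic
import Mathlib.LinearAlgebra.Matrix.ToLin
import Mathlib.RingTheory.RootsOfUnity.Basic

/-!
# Intertwiners of an invariant character and the degree ratio theorem
-/

set_option autoImplicit false
set_option linter.style.haveILetI false

namespace CfsgLib.Char

open Module Representation
open scoped ComplexConjugate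

universe u v

variable {G : Type u} [Group G] {N : Subgroup G} [hN : N.Normal]
  {W : Type v} [AddCommGroup W] [Module ℂ W]

/-- The pairs of a group element and a determinant-one operator intertwining a representation of
a normal subgroup with its conjugate by that element. -/
def detOneExt (σ : Representation ℂ N W) : Subgroup (G × (Module.End ℂ W)ˣ) where
  carrier := {p | LinearMap.det (p.2 : Module.End ℂ W) = 1 ∧
    ∀ n : N, (p.2 : Module.End ℂ W) * σ n =
      σ ⟨p.1 * n * p.1⁻¹, hN.conj_mem n n.2 p.1⟩ * (p.2 : Module.End ℂ W)}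
  one_mem' := ⟨by simp, fun n => by simp⟩
  mul_mem' := by
    rintro ⟨a, A⟩ ⟨b, B⟩ ⟨hA, hA'⟩ ⟨hB, hB'⟩
    refine ⟨by simp only [Prod.snd_mul, Units.val_mul, map_mul] at *; rw [hA, hB, one_mul],
      fun n => ?_⟩
    simp only [Prod.snd_mul, Prod.fst_mul, Units.val_mul] at *
    rw [mul_assoc, hB' n, ← mul_assoc, hA', mul_assoc]
    congr 2
    ext
    simp [mul_assoc]
  inv_mem' := by
    rintro ⟨a, A⟩ ⟨hA, hA'⟩
    simp only [] at hA hA'
    refine ⟨?_, fun n => ?_⟩
    · have := congrArg LinearMap.det (Units.mul_inv A)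
      rw [map_mul, hA, one_mul, map_one] at this
      exact this
    · simp only [Prod.snd_inv, Prod.fst_inv]
      have h := hA' ⟨a⁻¹ * n * a, by simpa using hN.conj_mem n n.2 a⁻¹⟩
      have e1 : (⟨a * (a⁻¹ * n * a) * a⁻¹,
          hN.conj_mem _ (by simpa using hN.conj_mem n n.2 a⁻¹) a⟩ : N) = n := by
        ext; simp [mul_assoc]
      rw [e1] at h
      have e2 : (⟨a⁻¹ * n * a⁻¹⁻¹, hN.conj_mem n n.2 a⁻¹⟩ : N) =
          ⟨a⁻¹ * n * a, by simpa using hN.conj_mem n n.2 a⁻¹⟩ := by ext; simp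
      rw [e2]
      calc ((A⁻¹ : (Module.End ℂ W)ˣ) : Module.End ℂ W) * σ n
          = (A⁻¹ : (Module.End ℂ W)ˣ) * (σ n * (A : Module.End ℂ W)) *
              (A⁻¹ : (Module.End ℂ W)ˣ) := by simp [mul_assoc]
        _ = _ := by rw [← h]; simp [← mul_assoc]

/-- The projection to the group. -/
def detOneExtProj (σ : Representation ℂ N W) : detOneExt σ →* G :=
  (MonoidHom.fst G _).comp (detOneExt σ).subtype

theorem scalar_of_commute_all [FiniteDimensional ℂ W] (σ : Representation ℂ N W)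
    [σ.IsIrreducible] (A : Module.End ℂ W) (hA : ∀ n, σ n * A = A * σ n) :
    ∃ c : ℂ, A = c • (1 : Module.End ℂ W) :=
  ⟨_, eq_smul_one_of_commute σ A hA⟩

theorem det_smul_one [FiniteDimensional ℂ W] (c : ℂ) :
    LinearMap.det (c • (1 : Module.End ℂ W)) = c ^ finrank ℂ W := by
  rw [LinearMap.det_smul, LinearMap.det.map_one, mul_one]

theorem finite_detOneExt [Finite G] [FiniteDimensional ℂ W] (σ : Representation ℂ N W)
    [σ.IsIrreducible] : Finite (detOneExt σ) := by
  classical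
  have hd := finrank_pos_of_isIrreducible σ
  haveI : NeZero (finrank ℂ W) := ⟨hd.ne'⟩
  have hfin : ∀ g : G, Finite {A : (Module.End ℂ W)ˣ // (g, A) ∈ detOneExt σ} := by
    intro g
    rcases isEmpty_or_nonempty {A : (Module.End ℂ W)ˣ // (g, A) ∈ detOneExt σ} with h | ⟨⟨A₀, hA₀⟩⟩
    · infer_instance
    have key : ∀ A : {A : (Module.End ℂ W)ˣ // (g, A) ∈ detOneExt σ},
        ∃ c : rootsOfUnity (finrank ℂ W) ℂ,
          (A.1 : Module.End ℂ W) = ((c : ℂˣ) : ℂ) • (A₀ : Module.End ℂ W) := by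
      rintro ⟨A, hA⟩
      have hm := (detOneExt σ).mul_mem ((detOneExt σ).inv_mem hA₀) hA
      obtain ⟨hdet, hc⟩ := hm
      simp only [Prod.inv_mk, Prod.mk_mul_mk, inv_mul_cancel] at hdet hc
      have hcomm : ∀ n, σ n * ((A₀⁻¹ * A : (Module.End ℂ W)ˣ) : Module.End ℂ W) =
          ((A₀⁻¹ * A : (Module.End ℂ W)ˣ) : Module.End ℂ W) * σ n := fun n => by
        rw [hc n]; congr 2; ext; simp
      obtain ⟨c, hceq⟩ := scalar_of_commute_all σ _ hcomm
      rw [hceq, det_smul_one] at hdet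
      have hc0 : c ≠ 0 := fun h0 => by rw [h0, zero_pow hd.ne'] at hdet; exact zero_ne_one hdet
      refine ⟨⟨Units.mk0 c hc0, (mem_rootsOfUnity _ _).2 (Units.ext (by simpa using hdet))⟩, ?_⟩
      have : (A : Module.End ℂ W) =
          (A₀ : Module.End ℂ W) * ((A₀⁻¹ * A : (Module.End ℂ W)ˣ) : Module.End ℂ W) := by simp
      rw [this, hceq, mul_smul_comm, mul_one]
      rfl
    choose c hc using key
    exact Finite.of_injective c fun A B h =>
      Subtype.ext (Units.ext (by rw [hc A, hc B, h]))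
  refine Finite.of_injective
    (fun p : detOneExt σ => (⟨p.1.1, ⟨p.1.2, p.2⟩⟩ :
      Σ g : G, {A : (Module.End ℂ W)ˣ // (g, A) ∈ detOneExt σ})) ?_
  intro p q h
  have := congrArg (fun x : Σ g : G, {A : (Module.End ℂ W)ˣ // (g, A) ∈ detOneExt σ} =>
    ((x.1, x.2.1) : G × (Module.End ℂ W)ˣ)) h
  exact Subtype.ext this

theorem exists_mem_detOneExt [Finite G] [FiniteDimensional ℂ W] (σ : Representation ℂ N W)
    [σ.IsIrreducible] (hinv : ∀ g : G, conjOn g σ.character = σ.character) (g : G) :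
    ∃ A, (g, A) ∈ detOneExt σ := by
  let σg : Representation ℂ N W := σ.comp (MulAut.conjNormal g).toMonoidHom
  have hchar : σ.character = σg.character := by
    rw [← hinv g, conjOn_eq_comp]
    rfl
  obtain ⟨e⟩ := equiv_of_character_eq σ σg hchar
  let X : Module.End ℂ W := e.toLinearEquiv.toLinearMap
  have hX : ∀ n : N, X * σ n = σ ⟨g * n * g⁻¹, hN.conj_mem n n.2 g⟩ * X := fun n => by
    have h1 := e.isIntertwining' n
    have h2 : σg n = σ ⟨g * n * g⁻¹, hN.conj_mem n n.2 g⟩ := by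
      change σ (MulAut.conjNormal g n) = _
      congr 1
    rw [h2] at h1
    exact h1
  have hdet0 : LinearMap.det X ≠ 0 := (LinearEquiv.isUnit_det' e.toLinearEquiv).ne_zero
  have hd := finrank_pos_of_isIrreducible σ
  obtain ⟨c, hc⟩ := IsAlgClosed.exists_pow_nat_eq (LinearMap.det X)⁻¹ hd
  have hc0 : c ≠ 0 := fun h0 => by
    rw [h0, zero_pow hd.ne'] at hc; exact inv_ne_zero hdet0 hc.symm
  have hunit : IsUnit (c • X) :=
    (Module.End.isUnit_iff _).2 (by
      change Function.Bijective fun v => c • e.toLinearEquiv v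
      exact (LinearEquiv.smulOfUnit (Units.mk0 c hc0) (M := W)).bijective.comp
        e.toLinearEquiv.bijective)
  refine ⟨hunit.unit, ?_, fun n => ?_⟩
  · change LinearMap.det (c • X) = 1
    rw [LinearMap.det_smul, hc, inv_mul_cancel₀ hdet0]
  · change c • X * σ n = _ * (c • X)
    rw [smul_mul_assoc, mul_smul_comm, hX]

/-- For an invariant character of a normal subgroup, the degree ratio divides the index. -/
theorem dvd_index_of_invariant [Fintype G] [Fintype N] {χ : G → ℂ}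
    (hχ : Cfsg.IsIrrCharacter G χ) {θ : N → ℂ} (hθ : Cfsg.IsIrrCharacter N θ)
    (hinv : ∀ g : G, conjOn g θ = θ) {e : ℕ}
    (he : Cfsg.classInner (fun n : N => χ n) θ = e) (he0 : e ≠ 0) : e ∣ N.index := by
  classical
  have hdeg := degree_eq_mul hχ hθ (by rw [he]; exact_mod_cast he0)
  have hI : inertia θ = ⊤ := eq_top_iff.2 fun g _ => hinv g
  rw [he, hI, Subgroup.index_top, Nat.cast_one, mul_one] at hdeg
  obtain ⟨c, ρ, hρ, rfl⟩ := hχ
  obtain ⟨d, σ, hσ, rfl⟩ := hθ
  haveI := hσ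
  haveI := finite_detOneExt (G := G) σ
  rw [ρ.char_one, σ.char_one, Module.finrank_fin_fun, Module.finrank_fin_fun] at hdeg
  have hcd : c = e * d := by exact_mod_cast hdeg
  let E : Submodule ℂ ((Fin d → ℂ) →ₗ[ℂ] (Fin c → ℂ)) :=
    { carrier := {f | ∀ n : N, ρ n ∘ₗ f = f ∘ₗ σ n}
      add_mem' := fun {a b} ha hb n => by rw [LinearMap.comp_add, LinearMap.add_comp, ha n, hb n]
      zero_mem' := fun n => by simp
      smul_mem' := fun r a ha n => by rw [LinearMap.comp_smul, LinearMap.smul_comp, ha n] }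
  have hEdim : finrank ℂ E = e := by
    haveI : Invertible (Nat.card N : ℂ) :=
      invertibleOfNonzero (by exact_mod_cast (Nat.card_pos (α := N)).ne')
    let ρN : Representation ℂ N (Fin c → ℂ) := ρ.comp N.subtype
    let φ : IntertwiningMap σ ρN ≃ₗ[ℂ] E :=
      { toFun := fun f => ⟨f.toLinearMap, fun n => (f.isIntertwining' n).symm⟩
        map_add' := fun a b => rfl
        map_smul' := fun r a => rfl
        invFun := fun f => ⟨f.1, fun n => (f.2 n).symm⟩
        left_inv := fun f => rfl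
        right_inv := fun f => rfl }
    have h1 := card_inv_mul_sum_char_mul_char_eq_finrank σ ρN
    rw [φ.finrank_eq] at h1
    simp_rw [IsCharacter.apply_inv (isCharacter_character σ)] at h1
    have h2 : ((finrank ℂ E : ℕ) : ℂ) = (e : ℂ) := h1.symm.trans he
    exact_mod_cast h2
  have hact : ∀ (p : detOneExt σ) (f : E), ρ p.1.1 ∘ₗ f.1 ∘ₗ
      ((p.1.2⁻¹ : (Module.End ℂ (Fin d → ℂ))ˣ) : Module.End ℂ (Fin d → ℂ)) ∈ E := by
    rintro ⟨⟨g, A⟩, hA⟩ ⟨f, hf⟩ n
    obtain ⟨-, hA'⟩ := (detOneExt σ).inv_mem hA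
    simp only [Prod.inv_mk] at hA'
    have h1 := hf ⟨g⁻¹ * n * g⁻¹⁻¹, hN.conj_mem n n.2 g⁻¹⟩
    have h2 : ρ (n : G) ∘ₗ ρ g = ρ g ∘ₗ ρ (g⁻¹ * n * g⁻¹⁻¹) := by
      rw [← Module.End.mul_eq_comp, ← Module.End.mul_eq_comp, ← map_mul, ← map_mul]
      congr 1
      group
    have h3 := hA' n
    rw [Module.End.mul_eq_comp, Module.End.mul_eq_comp] at h3
    calc ρ (n : G) ∘ₗ (ρ g ∘ₗ f ∘ₗ ((A⁻¹ : (Module.End ℂ (Fin d → ℂ))ˣ) : Module.End ℂ (Fin d → ℂ)))
        = (ρ (n : G) ∘ₗ ρ g) ∘ₗ f ∘ₗ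
            ((A⁻¹ : (Module.End ℂ (Fin d → ℂ))ˣ) : Module.End ℂ (Fin d → ℂ)) := rfl
      _ = ρ g ∘ₗ (ρ (g⁻¹ * n * g⁻¹⁻¹) ∘ₗ f) ∘ₗ
            ((A⁻¹ : (Module.End ℂ (Fin d → ℂ))ˣ) : Module.End ℂ (Fin d → ℂ)) := by rw [h2]; rfl
      _ = ρ g ∘ₗ (f ∘ₗ σ ⟨g⁻¹ * n * g⁻¹⁻¹, hN.conj_mem n n.2 g⁻¹⟩) ∘ₗ
            ((A⁻¹ : (Module.End ℂ (Fin d → ℂ))ˣ) : Module.End ℂ (Fin d → ℂ)) := by rw [← h1]
      _ = ρ g ∘ₗ f ∘ₗ (σ ⟨g⁻¹ * n * g⁻¹⁻¹, hN.conj_mem n n.2 g⁻¹⟩ ∘ₗ
            ((A⁻¹ : (Module.End ℂ (Fin d → ℂ))ˣ) : Module.End ℂ (Fin d → ℂ))) := rfl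
      _ = _ := by rw [← h3]; rfl
  let τ : Representation ℂ (detOneExt σ) E :=
    { toFun := fun p =>
        { toFun := fun f => ⟨_, hact p f⟩
          map_add' := fun a b => by
            apply Subtype.ext
            simp [LinearMap.comp_add, LinearMap.add_comp]
          map_smul' := fun r a => by
            apply Subtype.ext
            simp [LinearMap.comp_smul, LinearMap.smul_comp] }
      map_one' := by ext f; simp
      map_mul' := fun p q => by
        ext f
        simp }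
  haveI : Nontrivial E := Module.nontrivial_of_finrank_pos (by rw [hEdim]; omega)
  haveI : Representation.IsIrreducible (V := E) τ := by
    refine isIrreducible_of_no_sub (V := E) τ fun S => ?_
    by_cases hS : S.toSubmodule = ⊥
    · exact Or.inl (Subrepresentation.toSubmodule_injective hS)
    right
    apply Subrepresentation.toSubmodule_injective
    let S₀ : Submodule ℂ ((Fin d → ℂ) →ₗ[ℂ] (Fin c → ℂ)) := S.toSubmodule.map E.subtype
    let Φ : TensorProduct ℂ S₀ (Fin d → ℂ) →ₗ[ℂ] (Fin c → ℂ) := TensorProduct.lift S₀.subtype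
    have hΦ : ∀ (f : S₀) (w : Fin d → ℂ), Φ (f ⊗ₜ w) = f.1 w := fun f w => rfl
    let U : Subrepresentation ρ := ⟨LinearMap.range Φ, by
      rintro g _ ⟨x, rfl⟩
      induction x using TensorProduct.induction_on with
      | zero => simp
      | tmul f w =>
        obtain ⟨A, hA⟩ := exists_mem_detOneExt σ hinv g
        obtain ⟨f', hf', hff⟩ := f.2
        refine ⟨(⟨(τ ⟨(g, A), hA⟩ f' : E), Submodule.mem_map_of_mem
          (S.apply_mem_toSubmodule _ hf')⟩ : S₀) ⊗ₜ ((A : Module.End ℂ (Fin d → ℂ)) w), ?_⟩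
        rw [hΦ, hΦ, ← hff]
        change ρ g (f'.1 (((A⁻¹ : (Module.End ℂ (Fin d → ℂ))ˣ) : Module.End ℂ (Fin d → ℂ))
          ((A : Module.End ℂ (Fin d → ℂ)) w))) = _
        rw [← Module.End.mul_apply, Units.inv_mul, Module.End.one_apply]
        rfl
      | add a b ha hb =>
        rw [map_add, map_add]
        exact Submodule.add_mem _ ha hb⟩
    have hU : LinearMap.range Φ = ⊤ := by
      rcases hρ.eq_bot_or_eq_top U with h | h
      · exfalso
        obtain ⟨f, hfS, hf0⟩ := (Submodule.ne_bot_iff _).1 hS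
        apply hf0
        apply Subtype.ext
        apply LinearMap.ext
        intro w
        have h' : Φ ((⟨E.subtype f, Submodule.mem_map_of_mem hfS⟩ : S₀) ⊗ₜ w) ∈
            LinearMap.range Φ := ⟨_, rfl⟩
        rw [show LinearMap.range Φ = ⊥ from congrArg Subrepresentation.toSubmodule h,
          Submodule.mem_bot, hΦ] at h'
        exact h'
      · exact congrArg Subrepresentation.toSubmodule h
    have hS0 : finrank ℂ S₀ = finrank ℂ S.toSubmodule :=
      (Submodule.equivMapOfInjective _ E.subtype_injective S.toSubmodule).finrank_eq.symm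
    refine Submodule.eq_top_of_finrank_eq (K := ℂ) (V := E) ?_
    have h1 : c ≤ finrank ℂ S₀ * d := by
      haveI : Module.Free ℂ S₀ := Module.Free.of_equiv
        ((LinearMap.toMatrix' (R := ℂ) (m := Fin c) (n := Fin d)).submoduleMap S₀).symm
      have := LinearMap.finrank_range_le Φ
      rwa [hU, finrank_top, Module.finrank_tensorProduct, Module.finrank_fin_fun,
        Module.finrank_fin_fun] at this
    rw [hS0] at h1
    have h2 := Submodule.finrank_le (R := ℂ) (M := E) S.toSubmodule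
    rw [hEdim] at h2 ⊢
    have hd0 := finrank_pos_of_isIrreducible σ
    rw [Module.finrank_fin_fun] at hd0
    exact le_antisymm h2 (Nat.le_of_mul_le_mul_right (hcd ▸ h1) hd0)
  have h3 := finrank_dvd_index_scalarSubgroup (V := E) τ
  rw [hEdim] at h3
  refine h3.trans ?_
  have hsurj : Function.Surjective (detOneExtProj σ) := fun g => by
    obtain ⟨A, hA⟩ := exists_mem_detOneExt σ hinv g
    exact ⟨⟨(g, A), hA⟩, rfl⟩
  rw [← Subgroup.index_comap_of_surjective N hsurj]
  refine Subgroup.index_dvd_of_le ?_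
  rintro ⟨⟨g, A⟩, hA⟩ hg
  replace hg : g ∈ N := hg
  -- `A` differs from `σ g` by a scalar
  obtain ⟨-, hA'⟩ := hA
  have hcomm : ∀ n, σ n * (σ (⟨g, hg⟩⁻¹ : N) * (A : Module.End ℂ (Fin d → ℂ))) =
      σ (⟨g, hg⟩⁻¹ : N) * (A : Module.End ℂ (Fin d → ℂ)) * σ n := fun n => by
    rw [mul_assoc (σ (⟨g, hg⟩⁻¹ : N)), hA' n, ← mul_assoc, ← mul_assoc, ← map_mul, ← map_mul]
    congr 2
    ext
    simp [mul_assoc]
  obtain ⟨z, hz⟩ := scalar_of_commute_all σ _ hcomm
  have hA1 : (A : Module.End ℂ (Fin d → ℂ)) = z • σ ⟨g, hg⟩ := by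
    have := congrArg (σ ⟨g, hg⟩ * ·) hz
    simp only [mul_smul_comm, mul_one, ← mul_assoc, ← map_mul, mul_inv_cancel, map_one,
      one_mul] at this
    exact this
  have hd : 0 < d := by
    have := finrank_pos_of_isIrreducible σ
    rwa [Module.finrank_fin_fun] at this
  haveI : Nonempty (Fin d) := ⟨⟨0, hd⟩⟩
  have hz0 : z ≠ 0 := fun h0 => by rw [h0, zero_smul] at hA1; exact A.ne_zero hA1
  have hAinv : ((A⁻¹ : (Module.End ℂ (Fin d → ℂ))ˣ) : Module.End ℂ (Fin d → ℂ)) =
      z⁻¹ • σ (⟨g, hg⟩⁻¹ : N) := by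
    refine Units.inv_eq_of_mul_eq_one_right ?_
    rw [hA1, smul_mul_smul_comm, mul_inv_cancel₀ hz0, ← map_mul, mul_inv_cancel, map_one,
      one_smul]
  have hscal : τ ⟨(g, A), ⟨by assumption, hA'⟩⟩ = z⁻¹ • (1 : Module.End ℂ E) := by
    apply LinearMap.ext
    intro f
    apply Subtype.ext
    change ρ g ∘ₗ f.1 ∘ₗ _ = z⁻¹ • f.1
    rw [hAinv, LinearMap.comp_smul, LinearMap.comp_smul, ← f.2 (⟨g, hg⟩⁻¹ : N),
      ← LinearMap.comp_assoc, ← Module.End.mul_eq_comp, ← map_mul]
    simp [Module.End.one_eq_id]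
  intro B
  rw [hscal]
  exact (Commute.one_left B).smul_left _

end CfsgLib.Char
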