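import Cfsg.Agent.Char.Equivalence
import Cfsg.Agent.Char.GaloisTwist
import Cfsg.Agent.Char.Galois
import Cfsg.Agent.Char.Projective
import Cfsg.Agent.Char.Kernel

/-!
# An operator of prime order normalising an irreducible representation of a group of coprime order
-/

set_option autoImplicit false
set_option linter.style.haveILetI false

namespace CfsgLib.Char

open Module
open scoped ComplexConjugate

universe u

variable {G : Type u} [Group G] [Finite G]

/-- An element acting with order `p` and determinant one, in a representation of degree less than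
`p - 1` irreducible on a normal subgroup of order prime to `p`, acts trivially. -/
theorem eq_one_of_degree_lt {p : ℕ} [Fact p.Prime] (K : Subgroup G) [K.Normal]
    (hK : ¬ p ∣ Nat.card K) {d : ℕ} (R : Representation ℂ G (Fin d → ℂ))
    [hirr : Representation.IsIrreducible (R.comp K.subtype : Representation ℂ K (Fin d → ℂ))]
    (hd : d + 1 < p) (x : G) (hxp : R x ^ p = 1) (hdet : LinearMap.det (R x) = 1) : R x = 1 := by
  classical
  have hp : p.Prime := Fact.out
  let σK : Representation ℂ K (Fin d → ℂ) := R.comp K.subtype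
  have hd0 : 0 < d := by
    have := finrank_pos_of_isIrreducible σK
    rwa [Module.finrank_fin_fun] at this
  let u : (Module.End ℂ (Fin d → ℂ))ˣ := MonoidHom.toHomUnits (G := G) R x
  have hu : u ^ p = 1 := Units.ext hxp
  haveI : Finite (Subgroup.zpowers u) :=
    IsOfFinOrder.finite_zpowers (isOfFinOrder_iff_pow_eq_one.2 ⟨p, hp.pos, hu⟩)
  haveI := Fintype.ofFinite (Subgroup.zpowers u)
  let τ : Representation ℂ (Subgroup.zpowers u) (Fin d → ℂ) :=
    (Units.coeHom _).comp (Subgroup.zpowers u).subtype
  let g : Subgroup.zpowers u := ⟨u, Subgroup.mem_zpowers u⟩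
  have hτg : τ g = R x := rfl
  have hgp : g ^ p = 1 := Subtype.ext hu
  by_contra hne
  have hg1 : g ≠ 1 := fun h => hne (by rw [← hτg, h, map_one])
  have hord : orderOf g = p := orderOf_eq_prime hgp hg1
  have hcard : Nat.card (Subgroup.zpowers u) = p := by
    rw [Nat.card_zpowers, ← Subgroup.orderOf_mk u (Subgroup.mem_zpowers u)]
    exact hord
  have hτ : Cfsg.IsCharacter _ τ.character := ⟨d, τ, rfl⟩
  -- the value is rational
  have hfix : ∀ ξ : ℂ ≃+* ℂ, ξ (τ.character g) = τ.character g := by
    intro ξ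
    obtain ⟨t0, ht0, hξ⟩ := exists_pow_of_ringEquiv hp.pos ξ
    obtain ⟨t, htp, htK⟩ := Nat.chineseRemainder (hp.coprime_iff_not_dvd.2 hK) t0 1
    have hcop : t.Coprime (p * Nat.card K) := by
      rw [Nat.coprime_mul_iff_right]
      exact ⟨by rw [Nat.Coprime, Nat.ModEq.gcd_eq htp]; exact ht0,
        by rw [Nat.Coprime, Nat.ModEq.gcd_eq htK]; exact Nat.gcd_one_left _⟩
    obtain ⟨η, hη⟩ := exists_ringEquiv_pow (Nat.mul_pos hp.pos Nat.card_pos) hcop
    have h1 : ξ (τ.character g) = τ.character (g ^ t0) :=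
      IsCharacter.map_ringEquiv_eq_pow hτ ξ fun z hz => hξ z (by rwa [hord] at hz)
    have h2 : η (τ.character g) = τ.character (g ^ t) :=
      IsCharacter.map_ringEquiv_eq_pow hτ η fun z hz => hη z (by
        rw [hord] at hz; rw [pow_mul, hz, one_pow])
    have h3 : g ^ t = g ^ t0 := pow_eq_pow_iff_modEq.2 (hord.symm ▸ htp)
    rw [h1, ← h3, ← h2]
    change η (R.character x) = R.character x
    -- the twisted representation agrees with `R` on `K`
    have hK' : ∀ k : K, (twistRep η R).character (k : G) = R.character (k : G) := fun k => by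
      rw [character_twistRep]
      have h4 := IsCharacter.map_ringEquiv_eq_pow (⟨d, σK, rfl⟩ : Cfsg.IsCharacter K σK.character) η
          (g := k) (t := t) (fun z hz => hη z (by
            obtain ⟨c, hc⟩ := orderOf_dvd_natCard k
            rw [mul_comm, pow_mul, hc, pow_mul, hz, one_pow, one_pow]))
      have h5 : k ^ t = k :=
        (pow_eq_pow_iff_modEq.2 (htK.of_dvd (orderOf_dvd_natCard k))).trans (pow_one k)
      rw [h5] at h4
      exact h4
    let R' := twistRep η R
    obtain ⟨e⟩ := equiv_of_character_eq (R'.comp K.subtype : Representation ℂ K (Fin d → ℂ)) σK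
      (funext hK')
    let R'' : Representation ℂ G (Fin d → ℂ) := conjRep R' e.toLinearEquiv
    have hR'' : ∀ k : K, R'' k = R k := fun k => by
      rw [conjRep_apply]; exact e.conj_apply_self k
    have hcomm : ∀ k, σK k * (R x⁻¹ * R'' x) = R x⁻¹ * R'' x * σK k := fun k => by
      have hk : x * k * x⁻¹ ∈ K := Subgroup.Normal.conj_mem inferInstance _ k.2 x
      show R k * (R x⁻¹ * R'' x) = R x⁻¹ * R'' x * R k
      have e1 : R'' x * R k = R (x * k * x⁻¹) * R'' x := by
        rw [← hR'' k, ← hR'' ⟨_, hk⟩, ← map_mul, ← map_mul]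
        simp
      rw [mul_assoc (R x⁻¹), e1, ← mul_assoc, ← mul_assoc, ← map_mul, ← map_mul]
      congr 2
      group
    obtain ⟨c, hc⟩ := scalar_of_commute_all σK _ hcomm
    have hRc : R'' x = c • R x := by
      have := congrArg (R x * ·) hc
      simp only [mul_smul_comm, mul_one, ← mul_assoc, ← map_mul, mul_inv_cancel, map_one,
        one_mul] at this
      exact this
    have hdet' : LinearMap.det (R'' x) = 1 := by
      rw [show R'' x = e.toLinearEquiv.conj (R' x) from conjRep_apply _ _ _,
        LinearEquiv.conj_apply, LinearMap.comp_assoc, LinearMap.det_conj]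
      rw [det_twistRep, hdet, map_one]
    have hcd : c ^ d = 1 := by
      rw [hRc, LinearMap.det_smul, hdet, mul_one, Module.finrank_fin_fun] at hdet'
      exact hdet'
    have hcp : c ^ p = 1 := by
      have h5 : R'' x ^ p = 1 := by
        have : R' x ^ p = 1 := by
          rw [← map_pow]
          change Matrix.toLin' ((LinearMap.toMatrix' (R (x ^ p))).map η) = 1
          rw [map_pow, hxp, Module.End.one_eq_id, LinearMap.toMatrix'_id, Matrix.map_one _ (map_zero η)
            (map_one η), Matrix.toLin'_one]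
        rw [← map_pow, show R'' (x ^ p) = e.toLinearEquiv.conj (R' (x ^ p)) from conjRep_apply _ _ _,
          map_pow R', this, Module.End.one_eq_id, LinearEquiv.conj_id]
      rw [hRc, smul_pow, hxp] at h5
      haveI : Nonempty (Fin d) := ⟨⟨0, hd0⟩⟩
      have h6 : c ^ p • (1 : Module.End ℂ (Fin d → ℂ)) = (1 : ℂ) • (1 : Module.End ℂ (Fin d → ℂ)) := by
        rw [h5, one_smul]
      exact smul_left_injective ℂ (show (1 : Module.End ℂ (Fin d → ℂ)) ≠ 0 from one_ne_zero) h6
    have hc1 : c = 1 := by
      have h7 := pow_gcd_eq_one.2 ⟨hcd, hcp⟩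
      rwa [show Nat.gcd d p = 1 from Nat.Coprime.symm
        (hp.coprime_iff_not_dvd.2 fun h => absurd (Nat.le_of_dvd hd0 h) (by omega)), pow_one] at h7
    rw [← character_twistRep]
    change LinearMap.trace ℂ _ (R' x) = LinearMap.trace ℂ _ (R x)
    rw [← LinearMap.trace_conj' (R' x) e.toLinearEquiv,
      show e.toLinearEquiv.conj (R' x) = R'' x from (conjRep_apply _ _ _).symm, hRc, hc1, one_smul]
  obtain ⟨s, hs⟩ := exists_int_of_fixed (IsCharacter.isIntegral hτ g) hfix
  -- constant off the identity
  have hconst : ∀ y : Subgroup.zpowers u, y ≠ 1 → τ.character y = s := by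
    intro y hy
    obtain ⟨i, rfl⟩ := (mem_powers_iff_mem_zpowers (x := g) (y := y)).2
      (by rw [show Subgroup.zpowers g = ⊤ from Subgroup.eq_top_of_card_eq _ (by
          rw [Nat.card_zpowers, hord, hcard])]; exact Subgroup.mem_top y)
    have hi : i.Coprime p := by
      refine Nat.coprime_comm.1 (hp.coprime_iff_not_dvd.2 fun ⟨j, hj⟩ => hy ?_)
      simp only [hj, pow_mul, hgp, one_pow]
    obtain ⟨ξ, hξ⟩ := exists_ringEquiv_pow hp.pos hi
    have := IsCharacter.map_ringEquiv_eq_pow hτ ξ (g := g) fun z hz => hξ z (by rwa [hord] at hz)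
    rw [hfix ξ, hs] at this
    exact this.symm
  -- multiplicities
  obtain ⟨lam, hlam⟩ := exists_hom_ne_one (G := Subgroup.zpowers u) (g := g) (by
    intro h
    apply hg1
    haveI : IsCyclic (Subgroup.zpowers u) := isCyclic_of_prime_card hcard
    rw [commutator_def, show ⁅(⊤ : Subgroup (Subgroup.zpowers u)), (⊤ : Subgroup _)⁆ = ⊥ from
      Subgroup.commutator_eq_bot_iff_le_centralizer.2 fun a _ b _ => mul_comm' b a] at h
    exact Subgroup.mem_bot.1 h)
  have hsum : ∀ μ : Subgroup.zpowers u →* ℂˣ,
      Cfsg.classInner τ.character (fun y => (μ y : ℂ)) =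
        (p : ℂ)⁻¹ * (((d : ℂ) - s) + s * ∑ y, conj (μ y : ℂ)) := by
    intro μ
    rw [classInner_def, hcard]
    congr 1
    rw [Finset.mul_sum]
    rw [← Finset.add_sum_erase _ _ (Finset.mem_univ (1 : Subgroup.zpowers u)),
      ← Finset.add_sum_erase _ _ (Finset.mem_univ (1 : Subgroup.zpowers u)),
      Finset.sum_congr rfl fun y hy => by rw [hconst y (Finset.ne_of_mem_erase hy)]]
    rw [τ.char_one, Module.finrank_fin_fun, map_one, Units.val_one, map_one]
    ring
  have hlam0 : ∑ y, conj ((lam y : ℂˣ) : ℂ) = 0 := by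
    have hne' : (fun y => (lam y : ℂ)) ≠ fun _ => 1 := fun h =>
      hlam (Units.ext (congrFun h g))
    have := IsIrrCharacter.classInner_of_ne isIrrCharacter_one (isIrrCharacter_ofHom lam) (Ne.symm hne')
    rw [classInner_def, mul_eq_zero, or_iff_right (inv_ne_zero (Nat.cast_ne_zero.2 Nat.card_pos.ne'))]
      at this
    simpa using this
  obtain ⟨a, ha⟩ := IsCharacter.exists_classInner_eq_natCast' hτ (isCharacter_ofHom lam)
  obtain ⟨b, hb⟩ := IsCharacter.exists_classInner_eq_natCast' hτ (isCharacter_ofHom 1)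
  rw [hsum, hlam0, mul_zero, add_zero] at ha
  rw [hsum] at hb
  simp only [MonoidHom.one_apply, Units.val_one, map_one, Finset.sum_const, Finset.card_univ,
    nsmul_eq_mul, mul_one, Fintype.card_eq_nat_card, hcard] at hb
  have hp0 : (p : ℂ) ≠ 0 := Nat.cast_ne_zero.2 hp.ne_zero
  field_simp at ha hb
  have ha' : (d : ℤ) - s = (p : ℤ) * a := by exact_mod_cast ha
  have hb' : (d : ℤ) - s + p * s = (p : ℤ) * b := by exact_mod_cast hb
  have hbd : (b : ℤ) = d - (p - 1) * a := by
    have hp0' : (p : ℤ) ≠ 0 := by exact_mod_cast hp.ne_zero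
    refine mul_left_cancel₀ hp0' ?_
    linear_combination -hb' + (1 - (p : ℤ)) * ha'
  have ha0 : a = 0 := by
    by_contra ha0
    have h1 : (1 : ℤ) ≤ a := by exact_mod_cast Nat.one_le_iff_ne_zero.2 ha0
    have h2 : (d : ℤ) + 1 < p := by exact_mod_cast hd
    nlinarith
  rw [ha0, Nat.cast_zero, mul_zero, sub_eq_zero] at ha'
  apply hne
  rw [← hτg]
  refine (character_eq_iff τ g).1 ?_
  rw [hconst g hg1, Module.finrank_fin_fun, ← ha']
  norm_cast

end CfsgLib.Char
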