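import Cfsg.Agent.Char.FeitThompsonBound
import Cfsg.Agent.Char.SmallDegreePComplement
import Cfsg.Agent.Char.DegreeRatio
import Cfsg.Agent.Char.ExtendGlue
import Mathlib.GroupTheory.Transfer
import Mathlib.GroupTheory.Sylow

/-!
# Feit–Thompson–Blichfeldt: a small faithful representation gives a normal Sylow subgroup
-/

set_option autoImplicit false
set_option linter.style.haveILetI false

namespace CfsgLib.Char

open Module
open scoped commutatorElement ComplexConjugate

universe u

/-- A central element of an abelian Sylow subgroup lying in the commutator subgroup is trivial. -/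
theorem eq_one_of_central_mem_commutator {G : Type u} [Group G] [Finite G] {p : ℕ} [Fact p.Prime]
    (P : Sylow p G) (hab : ∀ a ∈ (P : Subgroup G), ∀ b ∈ (P : Subgroup G), a * b = b * a)
    {z : G} (hz : z ∈ (P : Subgroup G)) (hzc : z ∈ Subgroup.center G) (hzd : z ∈ commutator G) :
    z = 1 := by
  let φ : (P : Subgroup G) →* Abelianization (P : Subgroup G) := Abelianization.of
  have hφ : Function.Injective φ := by
    rw [← MonoidHom.ker_eq_bot_iff, Abelianization.ker_of, commutator_def,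
      Subgroup.commutator_eq_bot_iff_le_centralizer]
    exact fun a _ b _ => Subtype.ext (hab b b.2 a a.2)
  have key : ∀ (k : ℕ) (g₀ : G), g₀⁻¹ * z ^ k * g₀ ∈ (P : Subgroup G) →
      g₀⁻¹ * z ^ k * g₀ = z ^ k := fun k g₀ _ => by
    rw [mul_assoc, ← Subgroup.mem_center_iff.1 (Subgroup.pow_mem _ hzc k) g₀, inv_mul_cancel_left]
  have h1 := MonoidHom.transfer_eq_pow φ z key
  rw [show MonoidHom.transfer φ z = 1 from
    MonoidHom.mem_ker.1 (Abelianization.commutator_subset_ker _ hzd)] at h1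
  have h2 : z ^ (P : Subgroup G).index = 1 :=
    congrArg Subtype.val (hφ (h1.symm.trans (map_one φ).symm))
  obtain ⟨j, hj⟩ := P.isPGroup' ⟨z, hz⟩
  have hj' : z ^ p ^ j = 1 := congrArg Subtype.val hj
  have h3 := pow_gcd_eq_one.2 ⟨hj', h2⟩
  rwa [show Nat.gcd (p ^ j) (P : Subgroup G).index = 1 from
    Nat.Coprime.pow_left _ ((Fact.out : p.Prime).coprime_iff_not_dvd.2 P.not_dvd_index),
    pow_one] at h3

/-- In degree below `p` the `p`-subgroups are abelian. -/
theorem commute_of_degree_lt {G : Type u} [Group G] [Finite G] {n : ℕ}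
    (ρ : Representation ℂ G (Fin n → ℂ)) (hρ : Function.Injective ρ) {p : ℕ} [Fact p.Prime]
    (hn : n < p) (P : Subgroup G) (hP : IsPGroup p P) :
    ∀ a ∈ P, ∀ b ∈ P, a * b = b * a := by
  classical
  intro a ha b hb
  haveI := Fintype.ofFinite P
  haveI := Fintype.ofFinite G
  have hp : p.Prime := Fact.out
  have hc : Cfsg.IsCharacter G ρ.character := ⟨n, ρ, rfl⟩
  have hres := IsCharacter.restrict hc P
  have hlin : ∀ ψ ∈ irrFinset P, Cfsg.classInner (fun x : P => ρ.character x) ψ ≠ 0 → ψ 1 = 1 := by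
    intro ψ hψ hne
    have hψ' := mem_irrFinset.1 hψ
    obtain ⟨e, he0, he⟩ := IsIrrCharacter.exists_degree hψ'
    obtain ⟨k, hk⟩ := IsPGroup.iff_card.1 hP
    obtain ⟨j, -, hj⟩ := (Nat.dvd_prime_pow hp).1 (hk ▸ IsIrrCharacter.degree_dvd_card hψ' he)
    obtain ⟨r, hr⟩ := IsCharacter.exists_degree (IsCharacter.sub_irr hres hψ' hne)
    rw [Pi.sub_apply, he, OneMemClass.coe_one, ρ.char_one, Module.finrank_fin_fun,
      sub_eq_iff_eq_add, ← Nat.cast_add, Nat.cast_inj] at hr
    rcases Nat.eq_zero_or_pos j with rfl | hj0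
    · rw [he, hj, pow_zero, Nat.cast_one]
    · have := Nat.le_self_pow hj0.ne' p
      omega
  have h1 : ρ.character (a * b * a⁻¹ * b⁻¹) = ρ.character 1 := by
    have e := eq_sum_irr (IsCharacter.isClassFunction hres)
    have e1 := congrFun e (⟨a, ha⟩ * ⟨b, hb⟩ * (⟨a, ha⟩ : P)⁻¹ * (⟨b, hb⟩ : P)⁻¹)
    have e2 := congrFun e 1
    simp only [Subgroup.coe_mul, Subgroup.coe_inv, OneMemClass.coe_one, Finset.sum_apply,
      Pi.smul_apply, smul_eq_mul] at e1 e2
    refine e1.trans (Eq.trans (Finset.sum_congr rfl fun φ hφ => ?_) e2.symm)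
    by_cases h0 : Cfsg.classInner (fun x : P => ρ.character x) φ = 0
    · rw [h0, zero_mul, zero_mul]
    · obtain ⟨lam, rfl⟩ := IsCharacter.exists_hom
        (IsIrrCharacter.isCharacter (mem_irrFinset.1 hφ)) (hlin φ hφ h0)
      simp only [map_mul, map_inv, mul_inv_cancel_comm, mul_inv_cancel, map_one]
  rw [ρ.char_one, character_eq_iff] at h1
  have h2 := hρ (h1.trans (map_one ρ).symm)
  have h3 := congrArg (fun z => z * (b * a)) h2
  simpa [mul_assoc] using h3

/-- The Sylow subgroup of a proper subgroup, seen in the group. -/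
theorem exists_core_of_normal_sylow {G : Type u} [Group G] [Finite G] {p : ℕ} [Fact p.Prime]
    (K : Subgroup G) (h : ∀ S : Sylow p K, (S : Subgroup K).Normal) :
    ∃ U : Subgroup G, U ≤ K ∧ IsPGroup p U ∧ (∀ k ∈ K, ∀ u ∈ U, k * u * k⁻¹ ∈ U) ∧
      ∀ A : Subgroup G, A ≤ K → IsPGroup p A → A ≤ U := by
  obtain ⟨S⟩ : Nonempty (Sylow p K) := inferInstance
  refine ⟨(S : Subgroup K).map K.subtype, Subgroup.map_subtype_le _, S.isPGroup'.map _, ?_, ?_⟩
  · rintro k hk _ ⟨u, hu, rfl⟩
    exact ⟨_, (h S).conj_mem u hu ⟨k, hk⟩, by simp⟩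
  · intro A hAK hA x hx
    have hA' : IsPGroup p (A.subgroupOf K) :=
      hA.of_equiv (Subgroup.subgroupOfEquivOfLe hAK).symm
    obtain ⟨T, hT⟩ := hA'.exists_le_sylow
    haveI := h S
    obtain ⟨g, rfl⟩ := MulAction.exists_smul_eq K S T
    rw [Sylow.smul_eq_iff_mem_normalizer.2 (by
      show g ∈ Subgroup.normalizer ((S : Subgroup K) : Set K)
      rw [Subgroup.normalizer_eq_top]; exact Subgroup.mem_top g)] at hT
    exact ⟨⟨x, hAK hx⟩, hT (show (⟨x, hAK hx⟩ : K) ∈ A.subgroupOf K from hx), rfl⟩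

/-- In a product of a group of order prime to `p` and an element of `p`-power order, a constituent
of degree below `p - 1` does not see the commutators, provided the `p`-th power is central. -/
theorem commutator_eq_one_of_degree_lt {G : Type u} [Group G] [Finite G] {p : ℕ} [Fact p.Prime]
    (K : Subgroup G) [K.Normal] (hK : ¬ p ∣ Nat.card K) (x : G) {k : ℕ}
    (hord : orderOf x = p ^ (k + 1)) (htop : K ⊔ Subgroup.zpowers x = ⊤)
    (hy : x ^ p ∈ Subgroup.center G) {d : ℕ} (σ : Representation ℂ G (Fin d → ℂ))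
    [σ.IsIrreducible] (hd : d + 1 < p) (g : G) : σ (g * x) = σ (x * g) := by
  classical
  haveI := Fintype.ofFinite G
  haveI := Fintype.ofFinite K
  have hp : p.Prime := Fact.out
  have hd0 : 0 < d := by
    have := finrank_pos_of_isIrreducible σ
    rwa [Module.finrank_fin_fun] at this
  haveI : Nonempty (Fin d) := ⟨⟨0, hd0⟩⟩
  have hχ : Cfsg.IsIrrCharacter G σ.character := isIrrCharacter_character σ
  have hindex : ∃ j, K.index = p ^ j := by
    have hsurj : Function.Surjective
        ((QuotientGroup.mk' K).comp (Subgroup.zpowers x).subtype) := by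
      intro q
      obtain ⟨y, rfl⟩ := QuotientGroup.mk_surjective q
      obtain ⟨a, ha, b, hb, rfl⟩ := Subgroup.mem_sup_of_normal_left.1
        (htop ▸ Subgroup.mem_top y : y ∈ K ⊔ Subgroup.zpowers x)
      exact ⟨⟨b, hb⟩, by simp [(QuotientGroup.eq_one_iff a).2 ha]⟩
    have hP : IsPGroup p (Subgroup.zpowers x) :=
      IsPGroup.of_card (n := k + 1) (by rw [Nat.card_zpowers, hord])
    obtain ⟨j, hj⟩ := IsPGroup.iff_card.1 (hP.of_surjective _ hsurj)
    exact ⟨j, by rw [Subgroup.index_eq_card]; exact hj⟩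
  obtain ⟨j, hj⟩ := hindex
  -- the restriction to `K` is irreducible
  obtain ⟨θ, hθ, hθc⟩ := exists_constituent_restrict (N := K) hχ
  obtain ⟨e, he, he1⟩ := exists_degree_ratio hχ hθ hθc
  obtain ⟨dθ, hdθ0, hdθ⟩ := IsIrrCharacter.exists_degree hθ
  rw [σ.char_one, Module.finrank_fin_fun, hdθ, ← Nat.cast_mul, Nat.cast_inj] at he1
  have he' : e = 1 := by
    obtain ⟨i, -, hi⟩ := (Nat.dvd_prime_pow hp).1 (hj ▸ he)
    rcases Nat.eq_zero_or_pos i with rfl | hi0
    · rw [hi, pow_zero]
    · have h1 := Nat.le_self_pow hi0.ne' p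
      have h2 : dθ ≠ 0 := by rintro rfl; simp at he1; omega
      have h3 : e ≤ d := he1 ▸ Nat.le_mul_of_pos_right e (Nat.pos_of_ne_zero h2)
      omega
  rw [he', one_mul] at he1
  have hres : Cfsg.IsIrrCharacter K (fun u : K => σ.character u) := by
    rw [IsCharacter.eq_of_constituent (IsCharacter.restrict ⟨d, σ, rfl⟩ K) hθ hθc (by
      rw [OneMemClass.coe_one, σ.char_one, Module.finrank_fin_fun, hdθ, he1])]
    exact hθ
  -- scale
  obtain ⟨ω, hω⟩ := exists_scalar_of_mem_scalarSubgroup σ (center_le_scalarSubgroup σ hy)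
  have hinjs : ∀ a b : ℂ, a • (1 : Module.End ℂ (Fin d → ℂ)) = b • 1 → a = b := fun a b h =>
    smul_left_injective ℂ (show (1 : Module.End ℂ (Fin d → ℂ)) ≠ 0 from one_ne_zero) h
  have hωpow : ω ^ p ^ k = 1 := by
    apply hinjs
    rw [one_smul, ← one_pow (M := Module.End ℂ (Fin d → ℂ)) (p ^ k), ← smul_pow, ← hω, ← map_pow,
      ← pow_mul, ← pow_succ', ← hord, pow_orderOf_eq_one, map_one, one_pow]
  have hω0 : ω ≠ 0 := fun h => by
    rw [h, zero_pow (pow_ne_zero k hp.ne_zero)] at hωpow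
    exact zero_ne_one hωpow
  obtain ⟨a0, ha0⟩ := IsAlgClosed.exists_pow_nat_eq ω⁻¹ hp.pos
  have hT0 : (a0 • σ x) ^ p = 1 := by
    rw [smul_pow, ← map_pow, hω, smul_smul, ha0, inv_mul_cancel₀ hω0, one_smul]
  set δ := LinearMap.det (a0 • σ x) with hδ
  have hδp : δ ^ p = 1 := by
    rw [hδ, ← map_pow, hT0, map_one]
  have hdp : ((d : ZMod p)) ≠ 0 := by
    rw [Ne, ZMod.natCast_eq_zero_iff]
    intro h
    have := Nat.le_of_dvd hd0 h
    omega
  set m := (-(d : ZMod p)⁻¹).val
  have hmd : p ∣ m * d + 1 := by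
    rw [← ZMod.natCast_eq_zero_iff, Nat.cast_add, Nat.cast_mul, ZMod.natCast_val, ZMod.cast_id,
      neg_mul, inv_mul_cancel₀ hdp, Nat.cast_one, neg_add_cancel]
  set a := a0 * δ ^ m with ha
  have hap : a ^ p = ω⁻¹ := by
    rw [ha, mul_pow, ← pow_mul, mul_comm m p, pow_mul, hδp, one_pow, mul_one, ha0]
  have ha0' : a ≠ 0 := fun h => by
    rw [h, zero_pow hp.ne_zero, eq_comm, inv_eq_zero] at hap
    exact hω0 hap
  have haord : (Units.mk0 a ha0') ^ orderOf x = 1 := Units.ext (by
    rw [Units.val_pow_eq_pow_val, Units.val_mk0, hord, pow_succ', pow_mul, hap, inv_pow, hωpow,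
      inv_one, Units.val_one])
  -- the twist
  let x' : Subgroup.zpowers x := ⟨x, Subgroup.mem_zpowers x⟩
  have hgen : ∀ q : Subgroup.zpowers x, q ∈ Subgroup.zpowers x' := by
    rintro ⟨q, hq⟩
    obtain ⟨i, rfl⟩ := Subgroup.mem_zpowers_iff.1 hq
    exact Subgroup.mem_zpowers_iff.2 ⟨i, Subtype.ext (by simp [x'])⟩
  let μ0 : Subgroup.zpowers x →* ℂˣ := monoidHomOfForallMemZpowers hgen (g' := Units.mk0 a ha0')
    (orderOf_dvd_of_pow_eq_one (by rwa [Subgroup.orderOf_mk]))
  obtain ⟨μ, hμK, hμx⟩ := exists_hom_glue K (Subgroup.zpowers x) htop (1 : K →* ℂˣ) μ0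
    (fun q hq1 hq2 => by
      have : q = 1 := by
        have h1 : orderOf q ∣ Nat.card K := by
          have := orderOf_dvd_natCard (⟨q, hq1⟩ : K); rwa [Subgroup.orderOf_mk] at this
        have h2 : orderOf q ∣ p ^ (k + 1) := by
          have := orderOf_dvd_natCard (⟨q, hq2⟩ : Subgroup.zpowers x)
          rwa [Subgroup.orderOf_mk, Nat.card_zpowers, hord] at this
        exact orderOf_eq_one_iff.1 (Nat.eq_one_of_dvd_coprimes
          (Nat.Coprime.pow_left _ (hp.coprime_iff_not_dvd.2 hK)).symm h1 h2)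
      subst this
      exact (map_one (1 : K →* ℂˣ)).trans (map_one μ0).symm)
    (fun _ _ => rfl)
  let R : Representation ℂ G (Fin d → ℂ) :=
    { toFun := fun q => (μ q : ℂ) • σ q
      map_one' := by simp
      map_mul' := fun u v => by rw [map_mul, map_mul, Units.val_mul, smul_mul_smul_comm] }
  have hRx : R x = a • σ x := by
    show (μ x : ℂ) • σ x = a • σ x
    rw [show μ x = μ0 x' from hμx x', monoidHomOfForallMemZpowers_apply_gen]
    rfl
  haveI : Representation.IsIrreducible (R.comp K.subtype : Representation ℂ K (Fin d → ℂ)) := by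
    obtain ⟨m', τ, hτ, hτc⟩ := id hres
    haveI := hτ
    obtain ⟨φ⟩ := equiv_of_character_eq τ (R.comp K.subtype : Representation ℂ K (Fin d → ℂ))
      (funext fun u => by
        rw [hτc]
        change σ.character u = LinearMap.trace ℂ _ ((μ (u : G) : ℂ) • σ u)
        rw [hμK, MonoidHom.one_apply, Units.val_one, one_smul]
        rfl)
    exact isIrreducible_of_equiv φ
  have hR1 := eq_one_of_degree_lt K hK R hd x (by rw [hRx, smul_pow, ← map_pow, hω, smul_smul, hap,
    inv_mul_cancel₀ hω0, one_smul]) (by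
    rw [hRx, ha, mul_comm a0, ← smul_smul, LinearMap.det_smul, ← hδ, Module.finrank_fin_fun,
      ← pow_mul, ← pow_succ]
    obtain ⟨r, hr⟩ := hmd
    rw [hr, pow_mul, hδp, one_pow])
  rw [hRx] at hR1
  have hx : σ x = a⁻¹ • (1 : Module.End ℂ (Fin d → ℂ)) := by
    rw [← hR1, smul_smul, inv_mul_cancel₀ ha0', one_smul]
  rw [map_mul, map_mul, hx, smul_mul_assoc, mul_smul_comm, one_mul, mul_one]

set_option maxHeartbeats 1000000 in
/-- Feit–Thompson–Blichfeldt. -/
theorem sylow_normal_of_small_degree (N : ℕ) : ∀ (G : Type u) [Group G] [Finite G],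
    Nat.card G = N → ∀ (n : ℕ) (ρ : Representation ℂ G (Fin n → ℂ)), Function.Injective ρ →
    ∀ (p : ℕ) [Fact p.Prime], ((n + 1) ^ 2 ≤ p ∨ (n + 1 < p ∧ ∀ K : Subgroup G,
      ¬ p ^ 2 ∣ Nat.card K → ∀ Q : Sylow p K, (Q : Subgroup K).Normal)) →
    ∀ P : Sylow p G, (P : Subgroup G).Normal := by
  induction N using Nat.strong_induction_on with
  | _ N ih =>
  intro G _ _ hN n ρ hρ p _ h P
  subst hN
  classical
  by_contra hP
  haveI := Fintype.ofFinite G
  have hp : p.Prime := Fact.out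
  set Z := Subgroup.center G
  have hn1 : n + 1 < p ∨ n = 0 := by
    rcases h with h | h
    · rcases Nat.eq_zero_or_pos n with h0 | h0
      · exact Or.inr h0
      · left; nlinarith
    · exact Or.inl h.1
  -- `G` is not commutative
  have hnab : ¬ ∀ a b : G, a * b = b * a := fun hab => hP
    ⟨fun y hy g => by rw [hab g y, mul_inv_cancel_right]; exact hy⟩
  have hn0 : n ≠ 0 := by
    intro h0
    subst h0
    apply hnab
    intro a b
    apply hρ
    exact Subsingleton.elim _ _
  have hn : n + 1 < p := hn1.resolve_right hn0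
  have hsub : ∀ K : Subgroup G, K ≠ ⊤ → ∃ U : Subgroup G, U ≤ K ∧ IsPGroup p U ∧
      (∀ k ∈ K, ∀ u ∈ U, k * u * k⁻¹ ∈ U) ∧
        ∀ A : Subgroup G, A ≤ K → IsPGroup p A → A ≤ U := by
    intro K hK
    refine exists_core_of_normal_sylow K fun S => ?_
    refine ih (Nat.card K) (lt_of_le_of_ne K.card_le_card_group fun h' =>
      hK (Subgroup.eq_top_of_card_eq _ h')) K rfl n (ρ.comp K.subtype)
      (hρ.comp K.subtype_injective) p ?_ S
    rcases h with h | ⟨h1, h2⟩
    · exact Or.inl h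
    · refine Or.inr ⟨h1, fun L hL Q => ?_⟩
      let e : L ≃* ↥(L.map K.subtype) := L.equivMapOfInjective _ K.subtype_injective
      have hcard : Nat.card ↥(L.map K.subtype) = Nat.card L := (Nat.card_congr e.toEquiv).symm
      obtain ⟨U, -, hU, hUc, hUmax⟩ := exists_core_of_normal_sylow (L.map K.subtype)
        (h2 (L.map K.subtype) (by rwa [hcard]))
      have hQU : ((Q : Subgroup L).map L.subtype).map K.subtype ≤ U :=
        hUmax _ (Subgroup.map_mono (Subgroup.map_subtype_le _)) ((Q.isPGroup'.map _).map _)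
      have hUQ : ∀ l : L, ((l : K) : G) ∈ U → l ∈ (Q : Subgroup L) := by
        intro l hl
        let U' : Subgroup L := (U.subgroupOf K).subgroupOf L
        have hU' : IsPGroup p U' := by
          refine hU.of_injective
            ({ toFun := fun u => ⟨(((u : L) : K) : G), u.2⟩, map_one' := rfl,
               map_mul' := fun _ _ => rfl } : U' →* U) fun a b hab => ?_
          exact Subtype.ext (Subtype.ext (Subtype.ext
            (congrArg (fun w : U => (w : G)) hab)))
        have hle : (Q : Subgroup L) ≤ U' := fun q hq =>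
          hQU (Subgroup.mem_map_of_mem _ (Subgroup.mem_map_of_mem _ hq))
        exact (Q.3 hU' hle) ▸ (hl : l ∈ U')
      refine ⟨fun q hq l => hUQ _ ?_⟩
      exact hUc _ (Subgroup.mem_map_of_mem K.subtype l.2) _
        (hQU (Subgroup.mem_map_of_mem _ (Subgroup.mem_map_of_mem _ hq)))
  have habP : ∀ (R : Sylow p G), ∀ a ∈ (R : Subgroup G), ∀ b ∈ (R : Subgroup G), a * b = b * a :=
    fun R => commute_of_degree_lt ρ hρ (by omega) _ R.isPGroup'
  -- a `p`-element of two Sylow subgroups is central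
  have hTI : ∀ (R S : Sylow p G), R ≠ S → ∀ x ∈ (R : Subgroup G), x ∈ (S : Subgroup G) → x ∈ Z := by
    intro R S hRS x hxR hxS
    by_contra hx
    obtain ⟨U, -, hU, -, hmax⟩ := hsub (Subgroup.centralizer ({x} : Set G)) fun htop => hx <| by
      rw [Subgroup.mem_center_iff]
      intro g
      exact Subgroup.mem_centralizer_singleton_iff.1 (htop ▸ Subgroup.mem_top g)
    have hR := hmax _ (fun y hy => Subgroup.mem_centralizer_singleton_iff.2 (habP R y hy x hxR))
      R.isPGroup'
    have hS := hmax _ (fun y hy => Subgroup.mem_centralizer_singleton_iff.2 (habP S y hy x hxS))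
      S.isPGroup'
    exact hRS (Sylow.ext ((R.3 hU hR).symm.trans (S.3 hU hS)))
  -- no proper normal subgroup contains `P`
  have hgen : ∀ M : Subgroup G, M.Normal → (P : Subgroup G) ≤ M → M = ⊤ := by
    intro M hM hPM
    by_contra hMtop
    obtain ⟨U, hUM, hU, -, hmax⟩ := hsub M hMtop
    apply hP
    have hUP : U = P := P.3 hU (hmax _ hPM P.isPGroup')
    refine ⟨fun y hy g => ?_⟩
    rw [← hUP] at hy ⊢
    have h1 : IsPGroup p (U.map (MulAut.conj g).toMonoidHom) := hU.map _
    exact hmax _ (by rintro _ ⟨z, hz, rfl⟩; exact hM.conj_mem z (hUM hz) g) h1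
      ⟨y, hy, rfl⟩
  by_cases hPZ : (P : Subgroup G) ⊓ Z = ⊥
  · -- `P` in general position
    obtain ⟨χ, hχ, hχc, hχ1⟩ : ∃ χ : G → ℂ, Cfsg.IsIrrCharacter G χ ∧
        Cfsg.classInner ρ.character χ ≠ 0 ∧ χ 1 ≠ 1 := by
      by_contra! hall
      apply hnab
      intro a b
      have hc : Cfsg.IsCharacter G ρ.character := ⟨n, ρ, rfl⟩
      have h1 : ρ.character (a * b * a⁻¹ * b⁻¹) = ρ.character 1 := by
        have e := eq_sum_irr (IsCharacter.isClassFunction hc)
        have e1 := congrFun e (a * b * a⁻¹ * b⁻¹)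
        have e2 := congrFun e 1
        simp only [Finset.sum_apply, Pi.smul_apply, smul_eq_mul] at e1 e2
        refine e1.trans (Eq.trans (Finset.sum_congr rfl fun φ hφ => ?_) e2.symm)
        by_cases h0 : Cfsg.classInner ρ.character φ = 0
        · rw [h0, zero_mul, zero_mul]
        · obtain ⟨lam, rfl⟩ := IsCharacter.exists_hom
            (IsIrrCharacter.isCharacter (mem_irrFinset.1 hφ)) (hall φ (mem_irrFinset.1 hφ) h0)
          simp
      rw [ρ.char_one, character_eq_iff] at h1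
      have h2 := congrArg (fun z => z * (b * a)) (hρ (h1.trans (map_one ρ).symm))
      simpa [mul_assoc] using h2
    obtain ⟨d, -, hd⟩ := IsIrrCharacter.exists_degree hχ
    obtain ⟨r, hr⟩ := IsCharacter.exists_degree (IsCharacter.sub_irr ⟨n, ρ, rfl⟩ hχ hχc)
    rw [Pi.sub_apply, hd, ρ.char_one, Module.finrank_fin_fun, sub_eq_iff_eq_add, ← Nat.cast_add,
      Nat.cast_inj] at hr
    haveI := Fintype.ofFinite (P : Subgroup G)
    have hmem : ∀ (g a : G) (u : G), u ∈ (P : Subgroup G).map (MulAut.conj a).toMonoidHom →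
        u ≠ 1 → u ∉ Z := by
      rintro g a _ ⟨w, hw, rfl⟩ hu hZ
      apply hu
      have hwZ : w ∈ Z := by
        have := (inferInstance : Z.Normal).conj_mem _ hZ a⁻¹
        simpa [mul_assoc] using this
      have : w = 1 := Subgroup.mem_bot.1 (hPZ ▸ ⟨hw, hwZ⟩)
      simp [this]
    have hone : ∀ g : G, g ∉ Subgroup.center G → ∀ a b : G,
        Subgroup.centralizer ({g} : Set G) ⊓ (P : Subgroup G).map (MulAut.conj a).toMonoidHom ≠ ⊥ →
        Subgroup.centralizer ({g} : Set G) ⊓ (P : Subgroup G).map (MulAut.conj b).toMonoidHom ≠ ⊥ →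
        (P : Subgroup G).map (MulAut.conj a).toMonoidHom =
          (P : Subgroup G).map (MulAut.conj b).toMonoidHom := by
      intro g hg a b ha hb
      obtain ⟨U, -, hU, -, hmax⟩ := hsub (Subgroup.centralizer ({g} : Set G)) fun htop => hg <| by
        rw [Subgroup.mem_center_iff]
        intro y
        exact Subgroup.mem_centralizer_singleton_iff.1 (htop ▸ Subgroup.mem_top y)
      obtain ⟨R, hR⟩ := hU.exists_le_sylow
      have key : ∀ a : G,
          Subgroup.centralizer ({g} : Set G) ⊓ (P : Subgroup G).map (MulAut.conj a).toMonoidHom ≠ ⊥ →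
          (P : Subgroup G).map (MulAut.conj a).toMonoidHom = R := by
        intro a ha
        haveI := (Subgroup.nontrivial_iff_ne_bot _).2 ha
        obtain ⟨⟨u, hu⟩, hu1⟩ := exists_ne (1 : ↥(Subgroup.centralizer ({g} : Set G) ⊓
          (P : Subgroup G).map (MulAut.conj a).toMonoidHom))
        have hu1' : u ≠ 1 := fun h => hu1 (Subtype.ext h)
        have huR : u ∈ (R : Subgroup G) := hR (hmax (Subgroup.zpowers u)
          (Subgroup.zpowers_le.2 hu.1)
          ((P.isPGroup'.map (MulAut.conj a).toMonoidHom).to_le (Subgroup.zpowers_le.2 hu.2))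
          (Subgroup.mem_zpowers u))
        by_contra hne
        refine hmem g a u hu.2 hu1' (hTI (a • P) R (fun h' => hne ?_) u ?_ huR)
        · rw [← h', Sylow.coe_subgroup_smul]
          rfl
        · rw [Sylow.coe_subgroup_smul]
          exact hu.2
      rw [key a ha, key b hb]
    have hlt := card_lt_one_add_degree_sq (P : Subgroup G) (habP P) hPZ hone hgen hχ hd
      (fun h' => hχ1 (by rw [hd, h', Nat.cast_one]))
    obtain ⟨j, hj⟩ := IsPGroup.iff_card.1 P.isPGroup'
    have hlt' : Nat.card (P : Subgroup G) < (1 + d) ^ 2 := by exact_mod_cast hlt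
    have hdn : (1 + d) ^ 2 ≤ (n + 1) ^ 2 := Nat.pow_le_pow_left (by omega) 2
    have hj0 : j ≠ 0 := by
      rintro rfl
      rw [pow_zero] at hj
      rw [Subgroup.card_eq_one.1 hj] at hP
      exact hP inferInstance
    rcases h with h | ⟨-, h2⟩
    · have : p ≤ Nat.card (P : Subgroup G) := hj ▸ Nat.le_self_pow hj0 p
      omega
    · by_cases hpp : p ^ 2 ∣ Nat.card G
      · have h3 : p ^ 2 ∣ Nat.card (P : Subgroup G) := P.pow_dvd_card_of_pow_dvd_card hpp
        have h4 := Nat.le_of_dvd Nat.card_pos h3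
        have : (n + 1) ^ 2 ≤ p ^ 2 := Nat.pow_le_pow_left hn.le 2
        omega
      · obtain ⟨U, -, hU, hUc, hUmax⟩ := exists_core_of_normal_sylow (⊤ : Subgroup G)
          (h2 ⊤ (by rwa [Subgroup.card_top]))
        apply hP
        have hUP : U = P := P.3 hU (hUmax _ le_top P.isPGroup')
        refine ⟨fun y hy g => ?_⟩
        rw [← hUP] at hy ⊢
        exact hUc g (Subgroup.mem_top g) y hy
  -- the commutator subgroup has order prime to `p`
  obtain ⟨Q, hQP⟩ : ∃ Q : Sylow p G, Q ≠ P := by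
    by_contra! hall
    haveI : Subsingleton (Sylow p G) := ⟨fun a b => (hall a).trans (hall b).symm⟩
    exact hP (Subgroup.normalizer_eq_top_iff.1 (top_le_iff.1 fun g _ =>
      Sylow.smul_eq_iff_mem_normalizer.1 (Subsingleton.elim _ _)))
  set K := commutator G with hKdef
  have hKZ : ∀ z ∈ (P : Subgroup G), z ∈ Z → z ∈ K → z = 1 := fun z h1 h2 h3 =>
    eq_one_of_central_mem_commutator P (habP P) h1 h2 h3
  have hKP : K ⊔ (P : Subgroup G) = ⊤ := hgen _ (by
    refine ⟨fun y hy g => ?_⟩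
    have h2 : ⁅g, y⁆ ∈ K := Subgroup.commutator_mem_commutator (Subgroup.mem_top g) (Subgroup.mem_top y)
    have : g * y * g⁻¹ = ⁅g, y⁆ * y := by rw [commutatorElement_def]; group
    rw [this]
    exact Subgroup.mul_mem _ (Subgroup.mem_sup_left h2) hy) le_sup_right
  have hKtop : K ≠ ⊤ := fun htop => hPZ (le_bot_iff.1 fun z hz =>
    Subgroup.mem_bot.2 (hKZ z hz.1 hz.2 (htop ▸ Subgroup.mem_top z)))
  obtain ⟨U, hUK, hU, -, hUmax⟩ := hsub K hKtop
  have hUn : U.Normal := ⟨fun y hy g => hUmax (U.map (MulAut.conj g).toMonoidHom)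
    (by rintro _ ⟨z, hz, rfl⟩; exact (inferInstance : K.Normal).conj_mem z (hUK hz) g) (hU.map _)
    ⟨y, hy, rfl⟩⟩
  have hUall : ∀ R : Sylow p G, U ≤ R := by
    intro R
    obtain ⟨S, hS⟩ := hU.exists_le_sylow
    obtain ⟨g, rfl⟩ := MulAction.exists_smul_eq G S R
    intro y hy
    rw [Sylow.coe_subgroup_smul, Subgroup.mem_pointwise_smul_iff_inv_smul_mem]
    have := hUn.conj_mem y hy g⁻¹
    exact hS (by simpa [MulAut.smul_def] using this)
  have hUbot : U = ⊥ := le_bot_iff.1 fun y hy => Subgroup.mem_bot.2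
    (hKZ y (hUall P hy) (hTI Q P hQP y (hUall Q hy) (hUall P hy)) (hUK hy))
  have hKp : ¬ p ∣ Nat.card K := by
    intro hd
    obtain ⟨y, hy⟩ := exists_prime_orderOf_dvd_card' (G := K) p hd
    have h1 : IsPGroup p (Subgroup.zpowers (y : G)) := IsPGroup.of_card (n := 1) (by
      rw [Nat.card_zpowers, Subgroup.orderOf_coe, hy, pow_one])
    have h2 := hUmax _ (Subgroup.zpowers_le.2 y.2) h1 (Subgroup.mem_zpowers (y : G))
    rw [hUbot, Subgroup.mem_bot, OneMemClass.coe_eq_one] at h2
    rw [h2, orderOf_one] at hy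
    exact hp.ne_one hy.symm
  have hcop : ∀ y, y ∈ K → y ∈ (P : Subgroup G) → y = 1 := fun y h1 h2 => by
    have h3 : Subgroup.zpowers y ≤ U :=
      hUmax _ (Subgroup.zpowers_le.2 h1) (P.isPGroup'.to_le (Subgroup.zpowers_le.2 h2))
    exact Subgroup.mem_bot.1 (hUbot ▸ h3 (Subgroup.mem_zpowers y))
  -- elements generating a proper subgroup with `K` are central
  have hcentral : ∀ x ∈ (P : Subgroup G), K ⊔ Subgroup.zpowers x ≠ ⊤ → x ∈ Z := by
    intro x hx htop
    obtain ⟨V, hVM, hV, hVn, hVmax⟩ := hsub _ htop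
    have hxV : x ∈ V := hVmax _ le_sup_right (P.isPGroup'.to_le (Subgroup.zpowers_le.2 hx))
      (Subgroup.mem_zpowers x)
    have hK : ∀ k ∈ K, k * x = x * k := by
      intro k hk
      have h1 : ⁅k, x⁆ ∈ V := by
        rw [commutatorElement_def]
        exact V.mul_mem (hVn k (Subgroup.mem_sup_left hk) x hxV) (V.inv_mem hxV)
      have h2 : ⁅k, x⁆ ∈ K :=
        Subgroup.commutator_mem_commutator (Subgroup.mem_top k) (Subgroup.mem_top x)
      have h3 : Subgroup.zpowers ⁅k, x⁆ ≤ U :=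
        hUmax _ (Subgroup.zpowers_le.2 h2) (hV.to_le (Subgroup.zpowers_le.2 h1))
      exact commutatorElement_eq_one_iff_mul_comm.1
        (Subgroup.mem_bot.1 (hUbot ▸ h3 (Subgroup.mem_zpowers _)))
    rw [Subgroup.mem_center_iff]
    intro g
    obtain ⟨k, hk, w, hw, rfl⟩ := Subgroup.mem_sup_of_normal_left.1
      (hKP ▸ Subgroup.mem_top g : g ∈ K ⊔ (P : Subgroup G))
    rw [mul_assoc, habP P w hw x hx, ← mul_assoc, hK k hk, mul_assoc]
  obtain ⟨x, hx, hxZ⟩ : ∃ x ∈ (P : Subgroup G), x ∉ Z := by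
    by_contra! hall
    exact hP ⟨fun y hy g => by
      rw [Subgroup.mem_center_iff.1 (hall y hy) g, mul_inv_cancel_right]; exact hy⟩
  have htop : K ⊔ Subgroup.zpowers x = ⊤ := by
    by_contra h'
    exact hxZ (hcentral x hx h')
  obtain ⟨j, hj⟩ := P.isPGroup' ⟨x, hx⟩
  obtain ⟨i, -, hi⟩ := (Nat.dvd_prime_pow hp).1
    (orderOf_dvd_of_pow_eq_one (show x ^ p ^ j = 1 from congrArg Subtype.val hj))
  obtain ⟨k, rfl⟩ : ∃ k, i = k + 1 := Nat.exists_eq_succ_of_ne_zero fun h0 => hxZ (by
    rw [h0, pow_zero, orderOf_eq_one_iff] at hi; rw [hi]; exact Z.one_mem)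
  have hxp : x ^ p ∈ Z := by
    refine hcentral _ (Subgroup.pow_mem _ hx p) fun h' => ?_
    obtain ⟨a, ha, b, hb, hab⟩ := Subgroup.mem_sup_of_normal_left.1
      (h' ▸ Subgroup.mem_top x : x ∈ K ⊔ Subgroup.zpowers (x ^ p))
    have hbP : b ∈ (P : Subgroup G) := (Subgroup.zpowers_le.2 (Subgroup.pow_mem _ hx p)) hb
    have ha' : a = 1 := hcop a ha (by
      rw [show a = x * b⁻¹ by rw [← hab, mul_inv_cancel_right]]
      exact Subgroup.mul_mem _ hx (Subgroup.inv_mem _ hbP))
    rw [ha', one_mul] at hab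
    subst hab
    have hle : orderOf b ≤ orderOf (b ^ p) := Nat.le_of_dvd (orderOf_pos _)
      (by
        have := orderOf_dvd_natCard (⟨b, hb⟩ : Subgroup.zpowers (b ^ p))
        rwa [Subgroup.orderOf_mk, Nat.card_zpowers] at this)
    rw [orderOf_pow' b hp.ne_zero, hi,
      Nat.gcd_eq_right (dvd_pow_self p (Nat.succ_ne_zero k))] at hle
    exact absurd hle (not_le.2 (Nat.div_lt_self (pow_pos hp.pos _) hp.one_lt))
  apply hxZ
  rw [Subgroup.mem_center_iff]
  intro g
  apply hρ
  have hc : Cfsg.IsCharacter G ρ.character := ⟨n, ρ, rfl⟩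
  have h1 : ρ.character ((x * g)⁻¹ * (g * x)) = ρ.character 1 := by
    have e := eq_sum_irr (IsCharacter.isClassFunction hc)
    have e1 := congrFun e ((x * g)⁻¹ * (g * x))
    have e2 := congrFun e 1
    simp only [Finset.sum_apply, Pi.smul_apply, smul_eq_mul] at e1 e2
    refine e1.trans (Eq.trans (Finset.sum_congr rfl fun φ hφ => ?_) e2.symm)
    by_cases h0 : Cfsg.classInner ρ.character φ = 0
    · rw [h0, zero_mul, zero_mul]
    · obtain ⟨d, σ, hσ, rfl⟩ := mem_irrFinset.1 hφ
      haveI := hσ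
      obtain ⟨r, hr⟩ := IsCharacter.exists_degree
        (IsCharacter.sub_irr hc (mem_irrFinset.1 hφ) h0)
      rw [Pi.sub_apply, σ.char_one, ρ.char_one, Module.finrank_fin_fun, Module.finrank_fin_fun,
        sub_eq_iff_eq_add, ← Nat.cast_add, Nat.cast_inj] at hr
      have hcom := commutator_eq_one_of_degree_lt K hKp x hi htop hxp σ (by omega) g
      congr 1
      change LinearMap.trace ℂ _ (σ _) = LinearMap.trace ℂ _ (σ 1)
      rw [map_mul, hcom, ← map_mul, inv_mul_cancel]
  rw [ρ.char_one, character_eq_iff, map_mul] at h1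
  have h2 := congrArg (ρ (x * g) * ·) h1
  rw [← mul_assoc, ← map_mul ρ (x * g), mul_inv_cancel, map_one, one_mul, mul_one] at h2
  exact h2

end CfsgLib.Char
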