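import Cfsg.Agent.Char.SmallTIBase
import Cfsg.Agent.Char.Kernel
import Mathlib.GroupTheory.Transfer
import Mathlib.Algebra.Order.Chebyshev

/-!
# Small characters when nontrivial elements of an abelian Sylow subgroup share their centralizer

If `χ(1)² < #P - 1` and no proper normal subgroup contains `P`, the character is linear and there
is a normal `p`-complement. The proof only uses positivity of the norm on `p`-regular elements.
-/

set_option autoImplicit false
set_option linter.style.haveILetI false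
set_option linter.unusedSectionVars false

namespace CfsgLib.Char.SmallTI

open Finset CfsgLib.GlaubermanCorr
open scoped ComplexConjugate Classical

universe u

/-- The arithmetic at the heart of the argument. -/
theorem arith_core {t k X z s q S Q : ℕ} (hq : q = s * t + 1) (ht : 1 ≤ t) (hk : 1 ≤ k)
    (hz : 1 ≤ z) (hzX : z * z ≤ X) (hS : k * t + X ≤ S)
    (hQ : Q ≤ (k * t) ^ 2 + 2 * (k * t) * z + X) (hP1 : q * S < t * q + Q)
    (hs1 : k + 2 ≤ s) (hs2 : t + 1 ≤ s) : k = 1 ∧ X = 1 ∧ s = t + 1 := by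
  subst hq
  have h0 : (s * t + 1) * (k * t + X) < t * (s * t + 1) + (k * t) ^ 2 + 2 * (k * t) * z + X := by
    calc (s * t + 1) * (k * t + X) ≤ (s * t + 1) * S := Nat.mul_le_mul_left _ hS
      _ < t * (s * t + 1) + Q := hP1
      _ ≤ _ := by omega
  have hk1 : k = 1 := by
    by_contra hne
    obtain ⟨j, rfl⟩ : ∃ j, k = j + 2 := ⟨k - 2, by omega⟩
    obtain ⟨r, rfl⟩ : ∃ r, s = j + 4 + r := ⟨s - (j + 4), by omega⟩
    obtain ⟨w, rfl⟩ : ∃ w, z = w + 1 := ⟨z - 1, by omega⟩
    nlinarith [Nat.mul_le_mul_left ((j + 4 + r) * t) hzX, Nat.zero_le (j * w * t),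
      Nat.zero_le (w * w * t * r), Nat.zero_le (j * t * t * r), Nat.zero_le (r * t),
      Nat.zero_le (j * t), Nat.zero_le (w * w * t * j), Nat.zero_le (w * t)]
  subst hk1
  refine ⟨rfl, ?_⟩
  obtain ⟨r, rfl⟩ : ∃ r, s = t + 1 + r := ⟨s - (t + 1), by omega⟩
  have hz1 : z = 1 := by
    by_contra hne
    obtain ⟨w, rfl⟩ : ∃ w, z = w + 2 := ⟨z - 2, by omega⟩
    nlinarith [Nat.mul_le_mul_left ((t + 1 + r) * t) hzX, Nat.zero_le (w * t * t),
      Nat.zero_le (w * w * t * t), Nat.zero_le (r * t)]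
  subst hz1
  have hX : X = 1 := by
    by_contra hne
    nlinarith [Nat.mul_le_mul_left ((t + 1 + r) * t) (show 2 ≤ X by omega)]
  refine ⟨hX, ?_⟩
  subst hX
  rcases Nat.eq_zero_or_pos r with rfl | hr
  · rfl
  · nlinarith [Nat.mul_le_mul_left (t * t) hr, Nat.mul_le_mul_left t hr]

/-- The final contradiction. -/
theorem arith_final {t S Q c h : ℕ} (hS : t + 1 ≤ S) (hQ : Q ≤ (t + 1) ^ 2) (hc : 1 ≤ c)
    (hh : h ≤ t + 1) :
    ¬ (t * t + t + 1) * (t ^ 2 * S + 2 * t * c + 1) <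
      t * (t * t + t + 1) * (t ^ 2 + 1) + (t ^ 2 * Q + 2 * t * h + 1) := by
  intro hlt
  have h1 := Nat.mul_le_mul_left (t ^ 2) hS
  have h2 := Nat.mul_le_mul_left (2 * t) hc
  have h3 := Nat.mul_le_mul_left (t ^ 2) hQ
  have h4 := Nat.mul_le_mul_left (2 * t) hh
  have h5 : (t * t + t + 1) * (t ^ 2 * (t + 1) + 2 * t * 1 + 1) ≤
      (t * t + t + 1) * (t ^ 2 * S + 2 * t * c + 1) := Nat.mul_le_mul_left _ (by omega)
  nlinarith

variable {G : Type u} [Group G] [Fintype G] {p : ℕ} {P H : Subgroup G} [Fintype P] [Fintype H]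
  [Fintype (Cfsg.IrrCharacter P)] [Fintype (Cfsg.IrrCharacter H)]

/-- The multiplicities of a function in the characters of `C(P) = P × H`. -/
noncomputable def Setup.coeff (hs : Setup p P H) (f : G → ℂ) (l : Cfsg.IrrCharacter P)
    (e : Cfsg.IrrCharacter H) : ℂ :=
  Cfsg.classInner (fun x : P × H => f (hs.mulHom x)) (pairFun (l : P → ℂ) (e : H → ℂ))

variable (hs : Setup p P H)

include hs

theorem Setup.linear (l : Cfsg.IrrCharacter P) : (l : P → ℂ) 1 = 1 :=
  abelian_iff_degree_one.1 (fun a b => Subtype.ext (hs.commP _ a.2 _ b.2)) _ l.2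

theorem Setup.exists_coeff {f : G → ℂ} (hf : Cfsg.IsCharacter G f) :
    ∃ m : Cfsg.IrrCharacter P → Cfsg.IrrCharacter H → ℕ, ∀ l e, hs.coeff f l e = m l e := by
  choose m hm using fun (l : Cfsg.IrrCharacter P) (e : Cfsg.IrrCharacter H) =>
    IsCharacter.exists_classInner_eq_natCast' (IsCharacter.comp hf hs.mulHom)
      (isCharacter_pairFun (IsIrrCharacter.isCharacter l.2) (IsIrrCharacter.isCharacter e.2))
  exact ⟨m, hm⟩

theorem Setup.range_le : hs.mulHom.range ≤ Subgroup.normalizer (P : Set G) := by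
  rintro _ ⟨x, rfl⟩
  refine hs.mem_normalizer_iff_of_centralizes fun y hy => ?_
  rw [Setup.mulHom_apply]
  have h2 := hs.commH y hy _ x.2.2
  have h1 := hs.commP y hy _ x.1.2
  rwa [mul_assoc (x.1 : G), ← h2, ← mul_assoc, ← h1, mul_assoc y, mul_inv_cancel_right]

theorem Setup.card_normalizer : Nat.card (Subgroup.normalizer (P : Set G)) =
    hs.mulHom.range.relIndex (Subgroup.normalizer (P : Set G)) * (Nat.card P * Nat.card H) := by
  rw [← Nat.card_prod, ← Nat.card_congr (MonoidHom.ofInjective hs.mulHom_injective).symm.toEquiv,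
    Subgroup.relIndex,
    ← Nat.card_congr (Subgroup.subgroupOfEquivOfLe hs.range_le).toEquiv, Subgroup.index_mul_card]

theorem Setup.norm_lt {t : ℕ} (ht : hs.mulHom.range.relIndex (Subgroup.normalizer (P : Set G)) = t)
    {u : G → ℂ} (hu : Cfsg.IsClassFunction G u) (hu1 : u 1 ≠ 0) {nrm : ℕ}
    (hn : Cfsg.classInner u u = nrm) {m : Cfsg.IrrCharacter P → Cfsg.IrrCharacter H → ℕ}
    (hm : ∀ l e, hs.coeff u l e = m l e) :
    Nat.card P * ∑ l, ∑ e, m l e ^ 2 <
      t * Nat.card P * nrm + ∑ e, (∑ l, m l e) ^ 2 := by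
  obtain ⟨F, hF⟩ : ∃ F : P × H → ℂ, F = fun x => u (hs.mulHom x) := ⟨_, rfl⟩
  have hFc : Cfsg.IsClassFunction (P × H) F := fun x y => by
    simp only [hF, map_mul, map_inv]
    exact hu _ _
  have hm' : ∀ (l : Cfsg.IrrCharacter P) (e : Cfsg.IrrCharacter H),
      Cfsg.classInner F (pairFun (l : P → ℂ) (e : H → ℂ)) = m l e := fun l e =>
    hF ▸ hm l e
  obtain ⟨S, hS⟩ : ∃ S, ∑ l, ∑ e, m l e ^ 2 = S := ⟨_, rfl⟩
  obtain ⟨Q, hQ⟩ : ∃ Q, ∑ e, (∑ l, m l e) ^ 2 = Q := ⟨_, rfl⟩
  rw [hS, hQ]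
  have hall : ∑ x : P × H, F x * conj (F x) = ((Nat.card P * Nat.card H * S : ℕ) : ℂ) := by
    rw [sum_eq_card_mul_classInner, parseval hFc, Nat.cast_mul, ← Nat.card_prod, ← hS,
      Nat.cast_sum]
    congr 1
    refine sum_congr rfl fun l _ => ?_
    rw [Nat.cast_sum]
    exact sum_congr rfl fun e _ => by rw [hm', Complex.conj_natCast, Nat.cast_pow, sq]
  have hslice : ∑ x ∈ univ.filter (fun x : P × H => ¬ x.1 ≠ 1), F x * conj (F x) =
      ((Nat.card H * Q : ℕ) : ℂ) := by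
    rw [sum_bij (t := (univ : Finset H)) (g := fun b => F (1, b) * conj (F (1, b)))
      (fun x _ => x.2) (fun _ _ => mem_univ _)
      (fun x hx y hy h => Prod.ext ((not_not.1 (mem_filter.1 hx).2).trans
        (not_not.1 (mem_filter.1 hy).2).symm) h)
      (fun b _ => ⟨(1, b), mem_filter.2 ⟨mem_univ _, fun h => h rfl⟩, rfl⟩)
      (fun x hx => by rw [show ((1 : P), x.2) = x from
        Prod.ext (not_not.1 (mem_filter.1 hx).2).symm rfl]),
      sum_eq_card_mul_classInner, parseval_slice (fun l => hs.linear l) hFc hFc, Nat.cast_mul,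
      ← hQ, Nat.cast_sum]
    congr 1
    refine sum_congr rfl fun e _ => ?_
    simp only [hm', ← Nat.cast_sum, Complex.conj_natCast, ← Nat.cast_mul, sq]
  have hsing := hs.sum_singular (φ := fun g => u g * conj (u g))
    (fun g x => by simp only [hu g x])
  have hsplit : ∑ x ∈ univ.filter (fun x : P × H => x.1 ≠ 1), F x * conj (F x) =
      ((Nat.card P * Nat.card H * S : ℕ) : ℂ) - ((Nat.card H * Q : ℕ) : ℂ) := by
    rw [← hall, ← hslice, ← sum_filter_add_sum_filter_not univ (fun x : P × H => x.1 ≠ 1)]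
    ring
  obtain ⟨Z, hZ⟩ : ∃ Z : ℝ,
      ∑ g ∈ univ.filter (fun g : G => ¬ p ∣ orderOf g), Complex.normSq (u g) = Z := ⟨_, rfl⟩
  have hZpos : 0 < Z := by
    rw [← hZ]
    refine sum_pos' (fun g _ => Complex.normSq_nonneg _) ⟨1, mem_filter.2 ⟨mem_univ _, ?_⟩,
      Complex.normSq_pos.2 hu1⟩
    rw [orderOf_one]
    exact hs.prime.not_dvd_one
  have hns : ∑ g ∈ univ.filter (fun g : G => ¬ p ∣ orderOf g), u g * conj (u g) = (Z : ℂ) := by
    rw [← hZ, Complex.ofReal_sum]
    exact sum_congr rfl fun g _ => Complex.mul_conj _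
  have htot : ∑ g ∈ univ.filter (fun g : G => p ∣ orderOf g), u g * conj (u g) =
      (Nat.card G : ℂ) * nrm - Z := by
    rw [← hn, ← sum_eq_card_mul_classInner, ← hns,
      ← sum_filter_add_sum_filter_not univ (fun g : G => p ∣ orderOf g)]
    ring
  simp only [← congrFun hF] at hsing
  rw [htot, hsplit, hs.card_normalizer, ht] at hsing
  have hR : ((t * (Nat.card P * Nat.card H) : ℕ) : ℝ) * ((Nat.card G : ℝ) * nrm - Z) =
      (Nat.card G : ℝ) * (((Nat.card P * Nat.card H * S : ℕ) : ℝ) - ((Nat.card H * Q : ℕ) : ℝ)) := by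
    exact_mod_cast hsing
  have ht0 : 0 < t := Nat.pos_of_ne_zero (ht ▸ Subgroup.index_ne_zero_of_finite)
  have hG0 : (0 : ℝ) < Nat.card G := Nat.cast_pos.2 Nat.card_pos
  have hH0 : (0 : ℝ) < Nat.card H := Nat.cast_pos.2 Nat.card_pos
  have hpos : (0 : ℝ) < (t : ℝ) * (Nat.card P : ℝ) * (Nat.card H : ℝ) * Z :=
    mul_pos (mul_pos (mul_pos (Nat.cast_pos.2 ht0) (Nat.cast_pos.2 Nat.card_pos)) hH0) hZpos
  push_cast at hR
  have key : (0 : ℝ) < (Nat.card G : ℝ) * (Nat.card H : ℝ) *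
      ((t : ℝ) * (Nat.card P : ℝ) * nrm + Q - (Nat.card P : ℝ) * S) := by
    linarith
  have := (mul_pos_iff_of_pos_left (mul_pos hG0 hH0)).1 key
  have h' : ((Nat.card P * S : ℕ) : ℝ) < ((t * Nat.card P * nrm + Q : ℕ) : ℝ) := by
    push_cast
    linarith
  exact_mod_cast h'

/-- Sums of invariant functions over the nontrivial characters of `P` are multiples of
`[N(P) : C(P)]`. -/
theorem Setup.dvd_sum {t : ℕ} (ht : hs.mulHom.range.relIndex (Subgroup.normalizer (P : Set G)) = t)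
    (f : Cfsg.IrrCharacter P → ℕ)
    (hf : ∀ n : Subgroup.normalizer (P : Set G), ∀ l : Cfsg.IrrCharacter P,
      f ((charAction (le_refl (Subgroup.normalizer (P : Set G)))).smul n l) = f l) :
    t ∣ ∑ l ∈ univ.filter (fun l : Cfsg.IrrCharacter P => (l : P → ℂ) ≠ fun _ => 1), f l := by
  letI := charAction (le_refl (Subgroup.normalizer (P : Set G)))
  let S : SubMulAction (Subgroup.normalizer (P : Set G)) (Cfsg.IrrCharacter P) :=
    ⟨{l | (l : P → ℂ) ≠ fun _ => 1}, fun n l hl h1 => hl (funext fun x => by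
      have h2 := congrFun h1 (conjSub (le_refl _) n x)
      change (l : P → ℂ) (conjSub (le_refl _) n⁻¹ (conjSub (le_refl _) n x)) = 1 at h2
      rwa [show conjSub (le_refl _) n⁻¹ (conjSub (le_refl _) n x) = x from
        Subtype.ext (by rw [conjSub_coe, conjSub_coe]; simp [mul_assoc])] at h2)⟩
  rw [Finset.sum_subtype (p := fun l => l ∈ S) (univ.filter fun l : Cfsg.IrrCharacter P =>
    (l : P → ℂ) ≠ fun _ => 1) (fun l => by rw [mem_filter]; exact and_iff_right (mem_univ l))]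
  refine index_dvd_sum (A := Subgroup.normalizer (P : Set G)) (fun l => ?_) _ fun n l => hf n l
  rw [← ht, Subgroup.relIndex]
  congr 1
  ext n
  rw [MulAction.mem_stabilizer_iff, Subgroup.mem_subgroupOf]
  obtain ⟨lam, hlam⟩ := IsCharacter.exists_hom (IsIrrCharacter.isCharacter l.1.2) (hs.linear l.1)
  constructor
  · intro hfix
    by_contra hn
    have hfix' : ∀ x : P, (l.1 : P → ℂ) (conjSub (le_refl _) n x) = (l.1 : P → ℂ) x := fun x => by
      have h1 : ((charAction (le_refl (Subgroup.normalizer (P : Set G)))).smul n l.1 :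
          Cfsg.IrrCharacter P) = l.1 := congrArg Subtype.val hfix
      conv_lhs => rw [← h1]
      change (l.1 : P → ℂ) (conjSub (le_refl _) n⁻¹ (conjSub (le_refl _) n x)) = _
      exact congrArg _ (Subtype.ext (by rw [conjSub_coe, conjSub_coe]; simp [mul_assoc]))
    have hinj : Function.Injective fun x : P => x⁻¹ * conjSub (le_refl _) n x := by
      intro x y hxy
      by_contra hne
      apply hn
      have h2 : conjSub (le_refl _) n (y * x⁻¹) = y * x⁻¹ := by
        rw [map_mul, map_inv]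
        have h3 : x⁻¹ * conjSub (le_refl _) n x = y⁻¹ * conjSub (le_refl _) n y := hxy
        have h4 : conjSub (le_refl _) n y = y * (x⁻¹ * conjSub (le_refl _) n x) := by
          rw [h3, mul_inv_cancel_left]
        rw [h4]; group
      have h5 : ((n : G)) * (y * x⁻¹ : P) * (n : G)⁻¹ = ((y * x⁻¹ : P) : G) :=
        (conjSub_coe _ n _).symm.trans (congrArg Subtype.val h2)
      obtain ⟨a, ha, b, hb, hab⟩ := hs.star _ (y * x⁻¹ : P).2
        (fun h => hne (mul_inv_eq_one.1 (Subtype.ext h : y * x⁻¹ = 1)).symm) (n : G) (by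
          conv_rhs => rw [← h5]
          rw [inv_mul_cancel_right])
      exact ⟨(⟨a, ha⟩, ⟨b, hb⟩), hab.symm⟩
    apply l.2
    funext z
    obtain ⟨x, rfl⟩ := Finite.surjective_of_injective hinj z
    have h2 := hfix' x
    rw [congrFun hlam] at h2 ⊢
    rw [congrFun hlam] at h2
    rw [map_mul, Units.ext h2, map_inv, inv_mul_cancel, Units.val_one]
  · rintro ⟨z, hz⟩
    refine Subtype.ext (Subtype.ext (funext fun x => ?_))
    refine congrArg (l.1 : P → ℂ) (Subtype.ext ?_)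
    rw [conjSub_coe, Subgroup.coe_inv, inv_inv, ← hz, Setup.mulHom_apply]
    have h1 := hs.commP _ x.2 _ z.1.2
    have h2 := hs.commH _ x.2 _ z.2.2
    calc ((z.1 : G) * z.2)⁻¹ * x * ((z.1 : G) * z.2)
        = ((z.1 : G) * z.2)⁻¹ * ((x : G) * z.1) * z.2 := by group
      _ = ((z.1 : G) * z.2)⁻¹ * (z.1 : G) * ((x : G) * z.2) := by rw [h1]; group
      _ = x := by rw [h2]; group

/-- Invariance of the coefficients under the normalizer. -/
theorem Setup.coeff_smul {f : G → ℂ} (hf : Cfsg.IsClassFunction G f)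
    (hN : Subgroup.normalizer (P : Set G) ≤ Subgroup.normalizer (H : Set G))
    (n : Subgroup.normalizer (P : Set G)) (l : Cfsg.IrrCharacter P) (e : Cfsg.IrrCharacter H) :
    hs.coeff f ((charAction (le_refl (Subgroup.normalizer (P : Set G)))).smul n l)
      ((charAction hN).smul n e) = hs.coeff f l e := by
  unfold Setup.coeff
  rw [← classInner_comp_equiv (MulEquiv.prodCongr (conjSub (le_refl _) n) (conjSub hN n))]
  congr 1
  · funext x
    show f ((conjSub (le_refl _) n x.1 : P) * (conjSub hN n x.2 : H) : G) = f (hs.mulHom x)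
    rw [conjSub_coe, conjSub_coe, Setup.mulHom_apply, ← hf ((x.1 : G) * x.2) n]
    congr 1
    group
  · funext x
    refine congrArg₂ (· * ·) (congrArg (l : P → ℂ) (Subtype.ext ?_))
      (congrArg (e : H → ℂ) (Subtype.ext ?_)) <;>
    · simp only [MulEquiv.prodCongr, MulEquiv.coe_mk, Equiv.coe_fn_mk, Equiv.prodCongr_apply,
        Prod.map, conjSub_coe, MulEquiv.toEquiv_eq_coe, MulEquiv.coe_toEquiv]
      simp [conjSub_coe, mul_assoc]

theorem Setup.normalizer_le : Subgroup.normalizer (P : Set G) ≤ Subgroup.normalizer (H : Set G) :=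
  fun n hn => Subgroup.mem_normalizer_iff.2 fun h => ⟨hs.normH n hn h, fun h' => by
    simpa [mul_assoc] using hs.normH _ ((Subgroup.normalizer (P : Set G)).inv_mem hn) _ h'⟩

/-- Total weight off the trivial character of `P` is a multiple of `[N(P) : C(P)]`. -/
theorem Setup.dvd_weight {t : ℕ}
    (ht : hs.mulHom.range.relIndex (Subgroup.normalizer (P : Set G)) = t) {f : G → ℂ}
    (hf : Cfsg.IsClassFunction G f) {m : Cfsg.IrrCharacter P → Cfsg.IrrCharacter H → ℕ}
    (hm : ∀ l e, hs.coeff f l e = m l e) (w : Cfsg.IrrCharacter H → ℕ)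
    (hw : ∀ (n : Subgroup.normalizer (P : Set G)) (e : Cfsg.IrrCharacter H),
      w ((charAction hs.normalizer_le).smul n e) = w e) :
    t ∣ ∑ l ∈ univ.filter (fun l : Cfsg.IrrCharacter P => (l : P → ℂ) ≠ fun _ => 1),
      ∑ e, m l e * w e := by
  refine hs.dvd_sum ht _ fun n l => ?_
  letI := charAction hs.normalizer_le
  rw [← Equiv.sum_comp (MulAction.toPerm n : Equiv.Perm (Cfsg.IrrCharacter H))]
  refine sum_congr rfl fun e _ => ?_
  have h := hs.coeff_smul hf hs.normalizer_le n l e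
  rw [hm, hm, Nat.cast_inj] at h
  show m _ ((charAction hs.normalizer_le).smul n e) * w ((charAction hs.normalizer_le).smul n e) = _
  rw [h, hw]

theorem Setup.apply_eq {f : G → ℂ} (hf : Cfsg.IsClassFunction G f)
    {m : Cfsg.IrrCharacter P → Cfsg.IrrCharacter H → ℕ} (hm : ∀ l e, hs.coeff f l e = m l e)
    {w : Cfsg.IrrCharacter H → ℕ} (hw : ∀ e : Cfsg.IrrCharacter H, (e : H → ℂ) 1 = w e) (x : P) :
    f (x : G) = ∑ l : Cfsg.IrrCharacter P, ((∑ e, m l e * w e : ℕ) : ℂ) * (l : P → ℂ) x := by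
  have hFc : Cfsg.IsClassFunction (P × H) fun y => f (hs.mulHom y) := fun a b => by
    simp only [map_mul, map_inv]
    exact hf _ _
  have h := expansion hFc x (1 : H)
  simp only [Setup.mulHom_apply, Subgroup.coe_one, mul_one] at h
  rw [h]
  refine sum_congr rfl fun l _ => ?_
  rw [Nat.cast_sum, Finset.sum_mul]
  refine sum_congr rfl fun e _ => ?_
  have h2 := hm l e
  unfold Setup.coeff at h2
  simp only [Setup.mulHom_apply] at h2
  rw [h2, hw, Nat.cast_mul]
  ring

theorem Setup.degree_eq {f : G → ℂ} (hf : Cfsg.IsClassFunction G f) {n : ℕ} (hn : f 1 = n)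
    {m : Cfsg.IrrCharacter P → Cfsg.IrrCharacter H → ℕ} (hm : ∀ l e, hs.coeff f l e = m l e)
    {w : Cfsg.IrrCharacter H → ℕ} (hw : ∀ e : Cfsg.IrrCharacter H, (e : H → ℂ) 1 = w e) :
    ∑ l, ∑ e, m l e * w e = n := by
  have h := hs.apply_eq hf hm hw 1
  simp only [hs.linear, mul_one, Subgroup.coe_one, hn, ← Nat.cast_sum, Nat.cast_inj] at h
  exact h.symm

theorem Setup.le_kernel {ρ : Cfsg.IrrCharacter G}
    {m : Cfsg.IrrCharacter P → Cfsg.IrrCharacter H → ℕ}
    (hm : ∀ l e, hs.coeff (ρ : G → ℂ) l e = m l e)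
    (hW : ∑ l ∈ univ.filter (fun l : Cfsg.IrrCharacter P => (l : P → ℂ) ≠ fun _ => 1),
      ∑ e, m l e = 0) (hcl : ∀ K : Subgroup G, K.Normal → P ≤ K → K = ⊤) :
    (ρ : G → ℂ) = fun _ => 1 := by
  have hf := IsIrrCharacter.isClassFunction ρ.2
  choose w hwp hw using fun e : Cfsg.IrrCharacter H => IsIrrCharacter.exists_degree e.2
  have hval : ∀ x : P, (ρ : G → ℂ) x = (ρ : G → ℂ) 1 := by
    intro x
    have h1 := hs.apply_eq hf hm hw x
    have h2 := hs.apply_eq hf hm hw 1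
    rw [Subgroup.coe_one] at h2
    rw [h1, h2]
    refine sum_congr rfl fun l _ => ?_
    by_cases hl : (l : P → ℂ) = fun _ => 1
    · rw [hl]
    · have h0 : ∀ e, m l e = 0 := fun e =>
        (sum_eq_zero_iff.1 ((sum_eq_zero_iff.1 hW) l (mem_filter.2 ⟨mem_univ _, hl⟩))) e (mem_univ e)
      simp [h0]
  obtain ⟨d, σ, hσ, hσρ⟩ := ρ.2
  have hker : σ.ker = ⊤ := hcl _ inferInstance fun x hx => by
    refine MonoidHom.mem_ker.2 (apply_eq_one_of_character_eq σ ?_)
    rw [← σ.char_one, hσρ]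
    exact hval ⟨x, hx⟩
  have hall : ∀ g : G, (ρ : G → ℂ) g = (ρ : G → ℂ) 1 := fun g => by
    rw [← hσρ, Representation.character, Representation.character,
      show σ g = 1 from MonoidHom.mem_ker.1 (hker ▸ Subgroup.mem_top g), map_one σ]
  by_contra hne
  have h0 := IsIrrCharacter.classInner_of_ne ρ.2 isIrrCharacter_one hne
  rw [classInner_def] at h0
  simp [hall, IsIrrCharacter.apply_one_ne_zero ρ.2] at h0

/-- The shape of a small nonprincipal character on `C(P)`. -/
theorem Setup.shape {t : ℕ} (ht : hs.mulHom.range.relIndex (Subgroup.normalizer (P : Set G)) = t)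
    (hcl : ∀ K : Subgroup G, K.Normal → P ≤ K → K = ⊤) (χ : Cfsg.IrrCharacter G)
    (h1 : (χ : G → ℂ) ≠ fun _ => 1) {n : ℕ} (hn : (χ : G → ℂ) 1 = n)
    (hnq : n * n < Nat.card P) {m : Cfsg.IrrCharacter P → Cfsg.IrrCharacter H → ℕ}
    (hm : ∀ l e, hs.coeff (χ : G → ℂ) l e = m l e) :
    ∑ l, ∑ e, m l e ^ 2 = t ∧
      ∑ l ∈ univ.filter (fun l : Cfsg.IrrCharacter P => (l : P → ℂ) ≠ fun _ => 1),
        ∑ e, m l e = t ∧
      ∀ l : Cfsg.IrrCharacter P, (l : P → ℂ) = (fun _ => 1) → ∀ e, m l e = 0 := by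
  have hf := IsIrrCharacter.isClassFunction χ.2
  choose w hwp hw using fun e : Cfsg.IrrCharacter H => IsIrrCharacter.exists_degree e.2
  have hW := hs.dvd_weight ht hf hm (fun _ => 1) fun _ _ => rfl
  simp only [mul_one] at hW
  obtain ⟨W, hWd⟩ : ∃ W, ∑ l ∈ univ.filter (fun l : Cfsg.IrrCharacter P => (l : P → ℂ) ≠ fun _ => 1),
      ∑ e, m l e = W := ⟨_, rfl⟩
  rw [hWd] at hW ⊢
  have hW0 : W ≠ 0 := fun h0 => h1 (hs.le_kernel hm (hWd.trans h0) hcl)
  have hlow : t ≤ W := Nat.le_of_dvd (Nat.pos_of_ne_zero hW0) hW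
  have hQ : ∑ e, (∑ l, m l e) ^ 2 ≤ n * n := by
    refine (sum_sq_le_sq_sum_of_nonneg fun _ _ => Nat.zero_le _).trans ?_
    rw [sq]
    have hle : ∑ e, ∑ l, m l e ≤ n := by
      rw [sum_comm, ← hs.degree_eq hf hn hm hw]
      exact sum_le_sum fun l _ => sum_le_sum fun e _ => Nat.le_mul_of_pos_right _ (hwp e)
    exact Nat.mul_le_mul hle hle
  have hP1 := hs.norm_lt ht hf (IsIrrCharacter.apply_one_ne_zero χ.2)
    (nrm := 1) (by rw [IsIrrCharacter.classInner_self χ.2, Nat.cast_one]) hm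
  obtain ⟨S, hS⟩ : ∃ S, ∑ l, ∑ e, m l e ^ 2 = S := ⟨_, rfl⟩
  rw [hS] at hP1 ⊢
  have hupp : S ≤ t := by
    by_contra hlt
    have := Nat.mul_le_mul_left (Nat.card P) (show t + 1 ≤ S by omega)
    rw [mul_add, mul_one, mul_comm _ t] at this
    omega
  have hsplit : W + ∑ l ∈ univ.filter (fun l : Cfsg.IrrCharacter P => ¬ (l : P → ℂ) ≠ fun _ => 1),
      ∑ e, m l e ^ 2 ≤ S := by
    rw [← hS, ← hWd, ← sum_filter_add_sum_filter_not univ
      (fun l : Cfsg.IrrCharacter P => (l : P → ℂ) ≠ fun _ => 1) (fun l => ∑ e, m l e ^ 2)]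
    exact Nat.add_le_add_right (sum_le_sum fun l _ => sum_le_sum fun e _ => Nat.le_self_pow (by norm_num) _) _
  refine ⟨by omega, by omega, fun l hl e => ?_⟩
  have h0 : ∑ l ∈ univ.filter (fun l : Cfsg.IrrCharacter P => ¬ (l : P → ℂ) ≠ fun _ => 1),
      ∑ e, m l e ^ 2 = 0 := by omega
  exact (pow_eq_zero_iff two_ne_zero).1 (sum_eq_zero_iff.1
    (sum_eq_zero_iff.1 h0 l (mem_filter.2 ⟨mem_univ _, fun h => h hl⟩)) e (mem_univ e))

/-- With trivial `[N(P) : C(P)]` a small character is linear. -/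
theorem Setup.linear_of_index_one
    (ht : hs.mulHom.range.relIndex (Subgroup.normalizer (P : Set G)) = 1)
    (hcl : ∀ K : Subgroup G, K.Normal → P ≤ K → K = ⊤) (χ : Cfsg.IrrCharacter G)
    (h1 : (χ : G → ℂ) ≠ fun _ => 1) {n : ℕ} (hn : (χ : G → ℂ) 1 = n)
    (hnq : n * n < Nat.card P) : n = 1 := by
  have hf := IsIrrCharacter.isClassFunction χ.2
  obtain ⟨m, hm⟩ := hs.exists_coeff (IsIrrCharacter.isCharacter χ.2)
  obtain ⟨hS, hW, h0⟩ := hs.shape ht hcl χ h1 hn hnq hm
  choose w hwp hw using fun e : Cfsg.IrrCharacter H => IsIrrCharacter.exists_degree e.2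
  obtain ⟨l₀, hl₀, hpos⟩ := exists_ne_zero_of_sum_ne_zero (hW.trans_ne one_ne_zero)
  have honly : ∀ l, l ≠ l₀ → ∀ e, m l e = 0 := by
    intro l hne e
    by_cases hl : (l : P → ℂ) = fun _ => 1
    · exact h0 l hl e
    have hpair : ({l, l₀} : Finset (Cfsg.IrrCharacter P)) ⊆
        univ.filter (fun l : Cfsg.IrrCharacter P => (l : P → ℂ) ≠ fun _ => 1) := by
      intro x hx
      rcases mem_insert.1 hx with rfl | hx
      · exact mem_filter.2 ⟨mem_univ _, hl⟩
      · rw [mem_singleton.1 hx]; exact hl₀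
    have := sum_le_sum_of_subset (f := fun l => ∑ e, m l e) hpair
    rw [hW, sum_pair hne] at this
    have h2 := single_le_sum (f := fun e => m l e) (fun _ _ => Nat.zero_le _) (mem_univ e)
    omega
  have hval : ∀ x : P, (χ : G → ℂ) x = (n : ℂ) * (l₀ : P → ℂ) x := by
    intro x
    have hd := hs.degree_eq hf hn hm hw
    rw [sum_eq_single l₀ (fun l _ hne => by simp [honly l hne])
      (fun h => absurd (mem_univ _) h)] at hd
    rw [hs.apply_eq hf hm hw x, sum_eq_single l₀ (fun l _ hne => by simp [honly l hne])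
      (fun h => absurd (mem_univ _) h), hd]
  obtain ⟨d, σ, hσ, hσχ⟩ := χ.2
  have hd : d = n := by
    rw [← hσχ, σ.char_one, Module.finrank_fin_fun] at hn
    exact_mod_cast hn
  obtain ⟨lam, hlam⟩ := IsCharacter.exists_hom (IsIrrCharacter.isCharacter l₀.2) (hs.linear l₀)
  have hnorm : ∀ x : P, ‖σ.character (x : G)‖ = (Module.finrank ℂ (Fin d → ℂ) : ℝ) := by
    intro x
    rw [hσχ, hval, hlam, norm_mul, Complex.norm_natCast, Module.finrank_fin_fun, hd]
    have hx : (lam x : ℂ) ^ Nat.card P = 1 := by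
      rw [← Units.val_pow_eq_pow_val, ← map_pow, pow_card_eq_one', map_one, Units.val_one]
    rw [Complex.norm_eq_one_of_pow_eq_one hx Nat.card_pos.ne', mul_one]
  let Z : Subgroup G :=
    { carrier := {g | ∃ c : ℂ, σ g = c • (LinearMap.id : (Fin d → ℂ) →ₗ[ℂ] _)}
      one_mem' := ⟨1, by rw [map_one, one_smul]; rfl⟩
      mul_mem' := by
        rintro a b ⟨c, hc⟩ ⟨c', hc'⟩
        exact ⟨c * c', by rw [map_mul, hc, hc']; ext v; simp [mul_smul, smul_comm c]⟩
      inv_mem' := by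
        rintro a ⟨c, hc⟩
        have h2 : σ a * σ a⁻¹ = 1 := by rw [← map_mul, mul_inv_cancel, map_one]
        rw [hc] at h2
        refine ⟨c⁻¹, ?_⟩
        by_cases hc0 : c = 0
        · subst hc0
          rw [zero_smul, zero_mul] at h2
          haveI : Subsingleton (Module.End ℂ (Fin d → ℂ)) := subsingleton_of_zero_eq_one h2
          exact Subsingleton.elim _ _
        · have h3 := congrArg (c⁻¹ • ·) h2
          simp only [smul_mul_assoc, smul_smul, inv_mul_cancel₀ hc0, one_smul] at h3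
          exact h3 }
  have hZn : Z.Normal := ⟨fun g ⟨c, hc⟩ y => ⟨c, by
    rw [map_mul, map_mul, hc, show σ y * (c • (LinearMap.id : (Fin d → ℂ) →ₗ[ℂ] _)) = c • σ y from by
      ext v; simp, smul_mul_assoc, ← map_mul, mul_inv_cancel, map_one]; rfl⟩⟩
  have hZ := hcl Z hZn fun x hx => (norm_character_eq_iff σ x).1 (hnorm ⟨x, hx⟩)
  have habs : ∀ g : G, (χ : G → ℂ) g * conj ((χ : G → ℂ) g) = ((n * n : ℕ) : ℂ) := by
    intro g
    have h2 : g ∈ Z := hZ ▸ Subgroup.mem_top g
    rw [← hσχ, Complex.mul_conj', (norm_character_eq_iff σ g).2 h2, Module.finrank_fin_fun, hd]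
    push_cast
    ring
  have hone := IsIrrCharacter.classInner_self χ.2
  rw [classInner_def, sum_congr rfl fun g _ => habs g, sum_const, card_univ, nsmul_eq_mul,
    ← Nat.card_eq_fintype_card, inv_mul_cancel_left₀ (Nat.cast_ne_zero.2 Nat.card_pos.ne'),
    Nat.cast_eq_one] at hone
  exact Nat.eq_one_of_mul_eq_one_right hone

/-- A nontrivial `[N(P) : C(P)]` excludes small characters. -/
theorem Setup.index_one {t : ℕ} (ht : hs.mulHom.range.relIndex (Subgroup.normalizer (P : Set G)) = t)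
    (hcl : ∀ K : Subgroup G, K.Normal → P ≤ K → K = ⊤) (χ : Cfsg.IrrCharacter G)
    (h1 : (χ : G → ℂ) ≠ fun _ => 1) {n : ℕ} (hn : (χ : G → ℂ) 1 = n)
    (hnq : n * n + 1 < Nat.card P) : t = 1 := by
  by_contra htne
  have ht0 : 0 < t := Nat.pos_of_ne_zero (ht ▸ Subgroup.index_ne_zero_of_finite)
  have hf := IsIrrCharacter.isClassFunction χ.2
  obtain ⟨m, hm⟩ := hs.exists_coeff (IsIrrCharacter.isCharacter χ.2)
  obtain ⟨hS, hW, h0⟩ := hs.shape ht hcl χ h1 hn (by omega) hm
  choose w hwp hw using fun e : Cfsg.IrrCharacter H => IsIrrCharacter.exists_degree e.2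
  obtain ⟨l0, hl0⟩ : ∃ l0 : Cfsg.IrrCharacter P, (l0 : P → ℂ) = fun _ => 1 :=
    ⟨⟨_, isIrrCharacter_one⟩, rfl⟩
  obtain ⟨e0, he0⟩ : ∃ e0 : Cfsg.IrrCharacter H, (e0 : H → ℂ) = fun _ => 1 :=
    ⟨⟨_, isIrrCharacter_one⟩, rfl⟩
  have hnot : univ.filter (fun l : Cfsg.IrrCharacter P => ¬ (l : P → ℂ) ≠ fun _ => 1) = {l0} :=
    Finset.ext fun l => by
      simp only [mem_filter, mem_univ, true_and, not_not, mem_singleton]
      exact ⟨fun h => Subtype.ext (h.trans hl0.symm), fun h => h ▸ hl0⟩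
  have hsum : ∀ f : Cfsg.IrrCharacter P → ℕ,
      ∑ l, f l = f l0 +
        ∑ l ∈ univ.filter (fun l : Cfsg.IrrCharacter P => (l : P → ℂ) ≠ fun _ => 1), f l := fun f => by
    rw [← sum_filter_add_sum_filter_not univ
      (fun l : Cfsg.IrrCharacter P => (l : P → ℂ) ≠ fun _ => 1) f, hnot, sum_singleton, add_comm]
  -- `#P = s t + 1`
  obtain ⟨s, hs'⟩ := hs.dvd_sum ht (fun _ => 1) fun _ _ => rfl
  have hq : Nat.card P = s * t + 1 := by
    have h2 := sum_degree_sq (G := P)
    rw [sum_congr rfl (g := fun _ => (1 : ℂ)) (fun l hl => by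
        rw [show l 1 = 1 from hs.linear ⟨l, mem_irrFinset.1 hl⟩, one_pow]), sum_const,
      nsmul_one, Nat.cast_inj, card_eq_sum_ones,
      sum_irrFinset (fun _ : P → ℂ => 1)] at h2
    rw [← h2, hsum, hs']
    ring
  -- the degrees on `P`
  obtain ⟨d, hd⟩ : ∃ d : Cfsg.IrrCharacter P → ℕ, ∀ l, d l = ∑ e, m l e * w e :=
    ⟨_, fun _ => rfl⟩
  have hwinv : ∀ (y : Subgroup.normalizer (P : Set G)) (e : Cfsg.IrrCharacter H),
      w ((charAction hs.normalizer_le).smul y e) = w e := fun y e => by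
    have h2 := hw ((charAction hs.normalizer_le).smul y e)
    change (e : H → ℂ) (conjSub hs.normalizer_le y⁻¹ 1) = _ at h2
    rw [map_one, hw e, Nat.cast_inj] at h2
    exact h2.symm
  obtain ⟨D, hD⟩ := hs.dvd_weight ht hf hm w hwinv
  have hnD : n = t * D := by
    rw [← hs.degree_eq hf hn hm hw, hsum, hD]
    simp only [h0 l0 hl0, zero_mul, sum_const_zero, zero_add]
  have hn0 : 0 < n := by
    obtain ⟨k, hk, hk'⟩ := IsIrrCharacter.exists_degree χ.2
    rw [hn, Nat.cast_inj] at hk'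
    omega
  have hD0 : 0 < D := Nat.pos_of_ne_zero fun h => by rw [h, mul_zero] at hnD; omega
  have hCS : t * (D * D) ≤ ∑ l, d l ^ 2 := by
    obtain ⟨T, hT⟩ : ∃ T, univ.filter (fun l : Cfsg.IrrCharacter P => d l ≠ 0) = T := ⟨_, rfl⟩
    have h2 : ∑ l, d l = ∑ l ∈ T, d l := by
      rw [← hT]; exact (sum_filter_ne_zero _).symm
    have h3 : T.card ≤ t := by
      rw [← hW, card_eq_sum_ones]
      refine (sum_le_sum (g := fun l => ∑ e, m l e) fun l hl => ?_).trans
        (sum_le_sum_of_subset fun l hl => ?_)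
      · rw [← hT, mem_filter, hd] at hl
        obtain ⟨e, -, he⟩ := exists_ne_zero_of_sum_ne_zero hl.2
        exact (Nat.one_le_iff_ne_zero.2 (left_ne_zero_of_mul he)).trans
          (single_le_sum (f := fun e => m l e) (fun _ _ => Nat.zero_le _) (mem_univ e))
      · rw [← hT, mem_filter, hd] at hl
        refine mem_filter.2 ⟨mem_univ _, fun h4 => hl.2 ?_⟩
        simp only [h0 l h4, zero_mul, sum_const_zero]
    have h4 : (∑ l, d l) ^ 2 ≤ t * ∑ l, d l ^ 2 := by
      rw [h2]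
      refine le_trans sq_sum_le_card_mul_sum_sq (Nat.mul_le_mul h3 ?_)
      exact sum_le_sum_of_subset (subset_univ _)
    rw [sum_congr rfl fun l _ => hd l, hs.degree_eq hf hn hm hw, hnD] at h4
    refine Nat.le_of_mul_le_mul_left ?_ ht0
    calc t * (t * (D * D)) = (t * D) ^ 2 := by ring
      _ ≤ _ := h4
  -- the square
  obtain ⟨ψ, hψdef⟩ : ∃ ψ : G → ℂ, ψ = (χ : G → ℂ) * fun g => conj ((χ : G → ℂ) g) := ⟨_, rfl⟩
  have hψ : Cfsg.IsCharacter G ψ := hψdef ▸ IsCharacter.mul (IsIrrCharacter.isCharacter χ.2)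
    (IsCharacter.conj (IsIrrCharacter.isCharacter χ.2))
  obtain ⟨mψ, hmψ⟩ := hs.exists_coeff hψ
  have hψ00 : mψ l0 e0 = t := by
    have hFc : Cfsg.IsClassFunction (P × H) fun x => (χ : G → ℂ) (hs.mulHom x) := fun a b => by
      simp only [map_mul, map_inv]
      exact hf _ _
    have h2 : hs.coeff ψ l0 e0 = ((t : ℕ) : ℂ) := by
      rw [← hS, Nat.cast_sum]
      have h3 := parseval hFc fun x => (χ : G → ℂ) (hs.mulHom x)
      refine Eq.trans ?_ (h3.trans (sum_congr rfl fun l _ => ?_))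
      · rw [Setup.coeff, classInner_def, classInner_def]
        congr 1
        refine sum_congr rfl fun x _ => ?_
        simp [hψdef, pairFun, hl0, he0]
      · rw [Nat.cast_sum]
        refine sum_congr rfl fun e _ => ?_
        have h4 := hm l e
        rw [Setup.coeff] at h4
        rw [h4, Complex.conj_natCast, Nat.cast_pow, sq]
    rw [hmψ, Nat.cast_inj] at h2
    exact h2
  haveI : Fintype (Cfsg.IrrCharacter G) := Fintype.ofFinite _
  choose μ hμ using fun ρ : Cfsg.IrrCharacter G => IsCharacter.exists_classInner_eq_natCast hψ ρ.2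
  choose mm hmm using fun ρ : Cfsg.IrrCharacter G =>
    hs.exists_coeff (IsIrrCharacter.isCharacter ρ.2)
  have hlin : ∀ l e, mψ l e = ∑ ρ : Cfsg.IrrCharacter G, μ ρ * mm ρ l e := by
    intro l e
    have h2 : hs.coeff ψ l e = ∑ ρ : Cfsg.IrrCharacter G, (μ ρ : ℂ) * hs.coeff (ρ : G → ℂ) l e := by
      have h3 : (fun x : P × H => ψ (hs.mulHom x)) = ∑ ρ : Cfsg.IrrCharacter G,
          (μ ρ : ℂ) • fun x : P × H => (ρ : G → ℂ) (hs.mulHom x) := funext fun x => by
        conv_lhs => rw [eq_sum_irr (IsCharacter.isClassFunction hψ),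
          Finset.sum_subtype (irrFinset G) (fun _ => mem_irrFinset)]
        rw [Finset.sum_apply, Finset.sum_apply]
        exact sum_congr rfl fun ρ _ => by rw [Pi.smul_apply, Pi.smul_apply, hμ]
      rw [Setup.coeff, h3, classInner_sum_left]
      exact sum_congr rfl fun ρ _ => classInner_smul_left _ _ _
    simp only [hmψ, hmm, ← Nat.cast_mul, ← Nat.cast_sum, Nat.cast_inj] at h2
    exact h2
  obtain ⟨ρ1, hρ1⟩ : ∃ ρ1 : Cfsg.IrrCharacter G, (ρ1 : G → ℂ) = fun _ => 1 :=
    ⟨⟨_, isIrrCharacter_one⟩, rfl⟩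
  have hμ1 : μ ρ1 = 1 := by
    have h2 := hμ ρ1
    rw [hρ1, show Cfsg.classInner ψ (fun _ => 1) =
      Cfsg.classInner (χ : G → ℂ) (χ : G → ℂ) by
        rw [classInner_def, classInner_def]; simp [hψdef],
      IsIrrCharacter.classInner_self χ.2, eq_comm, Nat.cast_eq_one] at h2
    exact h2
  have hm1 : mm ρ1 l0 e0 = 1 := by
    have h2 := hmm ρ1 l0 e0
    rw [Setup.coeff, hρ1, show pairFun (l0 : P → ℂ) (e0 : H → ℂ) = fun _ => 1 from
      funext fun x => by simp [pairFun, hl0, he0], classInner_one_one, eq_comm,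
      Nat.cast_eq_one] at h2
    exact h2
  obtain ⟨ρ, hρne, hμρ, hcρ⟩ : ∃ ρ, ρ ≠ ρ1 ∧ μ ρ ≠ 0 ∧ mm ρ l0 e0 ≠ 0 := by
    by_contra hno
    push Not at hno
    have h2 := hlin l0 e0
    rw [sum_eq_single ρ1 (fun ρ _ hne => by
      rcases Nat.eq_zero_or_pos (μ ρ) with h3 | h3
      · rw [h3, zero_mul]
      · rw [hno ρ hne h3.ne', mul_zero]) (fun h => absurd (mem_univ _) h), hψ00, hμ1, hm1] at h2
    omega
  obtain ⟨c, hc⟩ : ∃ c, mm ρ = c := ⟨_, rfl⟩
  have hmc : ∀ l e, hs.coeff (ρ : G → ℂ) l e = c l e := hc ▸ hmm ρ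
  have hρf := IsIrrCharacter.isClassFunction ρ.2
  have hcψ : ∀ l e, c l e ≤ mψ l e := fun l e => by
    rw [hlin, ← hc]
    exact (Nat.le_mul_of_pos_left _ (Nat.pos_of_ne_zero hμρ)).trans
      (single_le_sum (f := fun ρ => μ ρ * mm ρ l e) (fun _ _ => Nat.zero_le _) (mem_univ ρ))
  -- bounds for the constituent
  obtain ⟨k, hk⟩ : t ∣ ∑ l ∈ univ.filter (fun l : Cfsg.IrrCharacter P => (l : P → ℂ) ≠ fun _ => 1),
      ∑ e, c l e := by
    simpa using hs.dvd_weight ht hρf hmc (fun _ => 1) fun _ _ => rfl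
  have hk1 : 1 ≤ k := Nat.one_le_iff_ne_zero.2 fun h => hρne (Subtype.ext
    ((hs.le_kernel hmc (by rw [hk, h, mul_zero]) hcl).trans hρ1.symm))
  have hψ1 : ψ 1 = ((n * n : ℕ) : ℂ) := by simp [hψdef, hn]
  have hψd : ∑ l, ∑ e, mψ l e * w e = n * n :=
    hs.degree_eq (IsCharacter.isClassFunction hψ) hψ1 hmψ hw
  have hψtriv : ∑ e, mψ l0 e * w e = ∑ l, d l ^ 2 := by
    have h2 : Cfsg.classInner (fun x : P => ψ x) (l0 : P → ℂ) =
        Cfsg.classInner (fun x : P => (χ : G → ℂ) x) (fun x : P => (χ : G → ℂ) x) := by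
      rw [classInner_def, classInner_def]
      simp [hψdef, hl0]
    have hexp : ∀ {f : G → ℂ} (hf : Cfsg.IsClassFunction G f)
        {a : Cfsg.IrrCharacter P → Cfsg.IrrCharacter H → ℕ} (ha : ∀ l e, hs.coeff f l e = a l e),
        (fun x : P => f x) = ∑ l : Cfsg.IrrCharacter P,
          ((∑ e, a l e * w e : ℕ) : ℂ) • (l : P → ℂ) := fun hf _ ha => funext fun x => by
      rw [hs.apply_eq hf ha hw, Finset.sum_apply]
      rfl
    have hsingle : ∀ {a : Cfsg.IrrCharacter P → ℕ} (l : Cfsg.IrrCharacter P),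
        Cfsg.classInner (∑ i : Cfsg.IrrCharacter P, (a i : ℂ) • (i : P → ℂ)) (l : P → ℂ) = a l := by
      intro a l
      rw [classInner_sum_left, sum_eq_single l (fun i _ hne => by
        rw [classInner_smul_left, IsIrrCharacter.classInner_of_ne i.2 l.2
          fun h => hne (Subtype.ext h), mul_zero]) (fun h => absurd (mem_univ _) h),
        classInner_smul_left, IsIrrCharacter.classInner_self l.2, mul_one]
    rw [hexp (IsCharacter.isClassFunction hψ) hmψ, hsingle, hexp hf hm, classInner_sum_right] at h2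
    simp only [classInner_smul_right, hsingle, Complex.conj_natCast, ← Nat.cast_mul,
      ← Nat.cast_sum, Nat.cast_inj] at h2
    rw [h2]
    exact sum_congr rfl fun l _ => by rw [hd, sq]
  have hbound : k * t + t * (D * D) ≤ t * D * (t * D) := by
    have h2 : t * k ≤ ∑ l ∈ univ.filter (fun l : Cfsg.IrrCharacter P => (l : P → ℂ) ≠ fun _ => 1),
        ∑ e, mψ l e * w e := hk ▸ sum_le_sum fun l _ => sum_le_sum fun e _ =>
      (hcψ l e).trans (Nat.le_mul_of_pos_right _ (hwp e))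
    rw [hsum, hψtriv] at hψd
    have h3 : n * n = t * D * (t * D) := by rw [hnD]
    have h4 : k * t = t * k := mul_comm k t
    omega
  have hst : t * D * (t * D) + 1 ≤ s * t := by
    have h3 : n * n = t * D * (t * D) := by rw [hnD]
    omega
  have hs1 : k + 2 ≤ s := by
    refine Nat.lt_of_mul_lt_mul_right (a := t) (?_ : (k + 1) * t < s * t)
    have : 1 * 1 ≤ D * D := Nat.mul_le_mul hD0 hD0
    nlinarith
  have hs2 : t + 1 ≤ s := by
    refine Nat.lt_of_mul_lt_mul_right (a := t) (?_ : t * t < s * t)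
    have : 1 * 1 ≤ D * D := Nat.mul_le_mul hD0 hD0
    nlinarith
  obtain ⟨X, hX⟩ : ∃ X, ∑ e, c l0 e ^ 2 = X := ⟨_, rfl⟩
  have hc1 : 1 ≤ c l0 e0 := Nat.one_le_iff_ne_zero.2 (hc ▸ hcρ)
  have hcX : ∀ e, c l0 e * c l0 e ≤ X := fun e => by
    rw [← hX, ← sq]
    exact single_le_sum (f := fun e => c l0 e ^ 2) (fun _ _ => Nat.zero_le _) (mem_univ e)
  have hz1 : 1 ≤ Nat.sqrt X := (Nat.le_sqrt.2 (hcX e0)).trans' hc1
  obtain ⟨A, hA⟩ : ∃ A : Cfsg.IrrCharacter H → ℕ, ∀ e, A e =
      ∑ l ∈ univ.filter (fun l : Cfsg.IrrCharacter P => (l : P → ℂ) ≠ fun _ => 1), c l e :=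
    ⟨_, fun _ => rfl⟩
  have hAs : ∑ e, A e = k * t := by
    rw [sum_congr rfl fun e _ => hA e, sum_comm, hk, mul_comm]
  have hSρ : k * t + X ≤ ∑ l, ∑ e, c l e ^ 2 := by
    rw [hsum, hX, add_comm, mul_comm, ← hk]
    exact Nat.add_le_add_left (sum_le_sum fun l _ => sum_le_sum fun e _ => Nat.le_self_pow (by norm_num) _) X
  have hQρ : ∑ e, (∑ l, c l e) ^ 2 ≤ (k * t) ^ 2 + 2 * (k * t) * Nat.sqrt X + X := by
    calc ∑ e, (∑ l, c l e) ^ 2 = ∑ e, (c l0 e + A e) ^ 2 :=
          sum_congr rfl fun e _ => by rw [hsum, hA]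
      _ ≤ ∑ e, (A e ^ 2 + 2 * Nat.sqrt X * A e + c l0 e ^ 2) := sum_le_sum fun e _ => by
          have := Nat.mul_le_mul_right (A e) (Nat.le_sqrt.2 (hcX e))
          nlinarith
      _ ≤ _ := by
          rw [sum_add_distrib, sum_add_distrib, ← mul_sum, hAs, hX]
          have := sum_sq_le_sq_sum_of_nonneg (s := univ) (f := A) fun _ _ => Nat.zero_le _
          rw [hAs] at this
          linarith
  have hP1 := hs.norm_lt ht hρf (IsIrrCharacter.apply_one_ne_zero ρ.2)
    (nrm := 1) (by rw [IsIrrCharacter.classInner_self ρ.2, Nat.cast_one]) hmc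
  rw [mul_one] at hP1
  obtain ⟨rfl, hX1, rfl⟩ := arith_core hq ht0 hk1 hz1 (Nat.sqrt_le X) hSρ hQρ hP1 hs1 hs2
  -- the combination with the principal character
  obtain ⟨u, hu⟩ : ∃ u : G → ℂ, u = (t : ℂ) • (ρ : G → ℂ) + (ρ1 : G → ℂ) := ⟨_, rfl⟩
  have huc : Cfsg.IsClassFunction G u := fun g x => by
    simp [hu, hρf g x, hρ1]
  obtain ⟨dρ, hdρ0, hdρ⟩ := IsIrrCharacter.exists_degree ρ.2
  have hu1 : u 1 ≠ 0 := by
    rw [hu, Pi.add_apply, Pi.smul_apply, smul_eq_mul, hρ1, hdρ]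
    show (t : ℂ) * dρ + 1 ≠ 0
    exact_mod_cast Nat.succ_ne_zero (t * dρ)
  have hun : Cfsg.classInner u u = ((t ^ 2 + 1 : ℕ) : ℂ) := by
    have h10 : (ρ : G → ℂ) ≠ (ρ1 : G → ℂ) := fun h => hρne (Subtype.ext h)
    rw [hu]
    simp only [classInner_add_left, classInner_add_right, classInner_smul_left,
      classInner_smul_right, IsIrrCharacter.classInner_self ρ.2,
      IsIrrCharacter.classInner_self ρ1.2, IsIrrCharacter.classInner_of_ne ρ.2 ρ1.2 h10,
      IsIrrCharacter.classInner_of_ne ρ1.2 ρ.2 (Ne.symm h10), Complex.conj_natCast]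
    push_cast
    ring
  have hum : ∀ l e, hs.coeff u l e =
      ((t * c l e + if l = l0 ∧ e = e0 then 1 else 0 : ℕ) : ℂ) := by
    intro l e
    rw [Setup.coeff, show (fun x : P × H => u (hs.mulHom x)) =
      (t : ℂ) • (fun x : P × H => (ρ : G → ℂ) (hs.mulHom x)) + (fun _ => (1 : ℂ)) from
        funext fun x => by simp [hu, hρ1], classInner_add_left, classInner_smul_left]
    have h2 := hmc l e
    rw [Setup.coeff] at h2
    rw [h2, Nat.cast_add, Nat.cast_mul, classInner_pairFun]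
    congr 1
    simp only [← hl0]
    by_cases hl : l = l0
    · subst hl
      simp only [IsIrrCharacter.classInner_self l.2, ← he0]
      by_cases he : e = e0
      · subst he
        simp [IsIrrCharacter.classInner_self e.2]
      · rw [IsIrrCharacter.classInner_of_ne e0.2 e.2 fun h => he (Subtype.ext h).symm,
          if_neg fun h => he h.2, Nat.cast_zero]
    · simp only [IsIrrCharacter.classInner_of_ne l0.2 l.2 fun h => hl (Subtype.ext h).symm]
      rw [if_neg fun h => hl h.1, Nat.cast_zero]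
      exact classInner_zero_left _
  have hP2 := hs.norm_lt ht huc hu1 hun hum
  have hSu : ∑ l, ∑ e, (t * c l e + if l = l0 ∧ e = e0 then 1 else 0) ^ 2 =
      t ^ 2 * ∑ l, ∑ e, c l e ^ 2 + 2 * t * c l0 e0 + 1 := by
    have h2 : ∀ l e, (t * c l e + if l = l0 ∧ e = e0 then 1 else 0) ^ 2 =
        t ^ 2 * c l e ^ 2 + if l = l0 then (if e = e0 then 2 * t * c l e + 1 else 0) else 0 :=
      fun l e => by
        by_cases hl : l = l0 <;> by_cases he : e = e0 <;> simp [hl, he] <;> ring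
    rw [sum_congr rfl fun l _ => sum_congr rfl fun e _ => h2 l e]
    simp only [sum_add_distrib, ← mul_sum]
    rw [sum_comm (f := fun l e => if l = l0 then (if e = e0 then 2 * t * c l e + 1 else 0) else 0)]
    simp only [sum_ite_eq', mem_univ, if_true]
    ring
  have hQu : ∑ e, (∑ l, (t * c l e + if l = l0 ∧ e = e0 then 1 else 0)) ^ 2 =
      t ^ 2 * ∑ e, (∑ l, c l e) ^ 2 + 2 * t * (∑ l, c l e0) + 1 := by
    have h2 : ∀ e, (∑ l, (t * c l e + if l = l0 ∧ e = e0 then 1 else 0)) ^ 2 =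
        t ^ 2 * (∑ l, c l e) ^ 2 + if e = e0 then 2 * t * (∑ l, c l e) + 1 else 0 := fun e => by
      rw [sum_add_distrib, ← mul_sum]
      by_cases he : e = e0 <;> simp [he] <;> ring
    rw [sum_congr rfl fun e _ => h2 e]
    simp only [sum_add_distrib, ← mul_sum, sum_ite_eq', mem_univ, if_true]
    ring
  rw [hSu, hQu, hq, show (t + 1) * t + 1 = t * t + t + 1 by ring] at hP2
  refine arith_final (by rw [hX1, one_mul] at hSρ; exact hSρ) ?_ hc1 ?_ hP2
  · rw [hX1, Nat.sqrt_one, one_mul, mul_one] at hQρ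
    calc _ ≤ _ := hQρ
      _ = _ := by ring
  · rw [hsum, ← hA]
    have h2 : A e0 ≤ 1 * t := hAs ▸ single_le_sum (fun _ _ => Nat.zero_le _) (mem_univ e0)
    have h3 : c l0 e0 * c l0 e0 ≤ 1 := hX1 ▸ hcX e0
    have h4 : c l0 e0 ≤ 1 := by nlinarith
    omega

omit hs in
/-- Small nonprincipal characters under equal centralizers in an abelian Sylow subgroup. -/
theorem dichotomy (hp : p.Prime) (Q : Sylow p G)
    (hstar : ∀ x ∈ (Q : Subgroup G), x ≠ 1 →
      Subgroup.centralizer ({x} : Set G) = Subgroup.centralizer ((Q : Subgroup G) : Set G))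
    (hcl : ∀ K : Subgroup G, K.Normal → (Q : Subgroup G) ≤ K → K = ⊤) (χ : Cfsg.IrrCharacter G)
    (h1 : (χ : G → ℂ) ≠ fun _ => 1) {n : ℕ} (hn : (χ : G → ℂ) 1 = n)
    (hnq : n * n + 1 < Nat.card Q) :
    (∃ N : Subgroup G, N.Normal ∧ N.index = Nat.card Q) ∧ n = 1 := by
  haveI := Fact.mk hp
  obtain ⟨H, hs⟩ := exists_setup hp Q hstar
  haveI := Fintype.ofFinite (Q : Subgroup G)
  haveI := Fintype.ofFinite H
  haveI := Fintype.ofFinite (Cfsg.IrrCharacter (Q : Subgroup G))
  haveI := Fintype.ofFinite (Cfsg.IrrCharacter H)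
  have ht := hs.index_one rfl hcl χ h1 hn hnq
  have hle : Subgroup.normalizer ((Q : Subgroup G) : Set G) ≤
      Subgroup.centralizer ((Q : Subgroup G) : Set G) := fun g hg => by
    obtain ⟨x, rfl⟩ := Subgroup.relIndex_eq_one.1 ht hg
    refine Subgroup.mem_centralizer_iff.2 fun y hy => ?_
    rw [Setup.mulHom_apply, mul_assoc, ← hs.commH y hy _ x.2.2, ← mul_assoc,
      ← mul_assoc, hs.commP y hy _ x.1.2]
  exact ⟨⟨_, MonoidHom.normal_ker (MonoidHom.transferSylow Q hle),
    (MonoidHom.ker_transferSylow_isComplement' Q hle).symm.index_eq_card⟩,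
    hs.linear_of_index_one ht hcl χ h1 hn (by omega)⟩

end CfsgLib.Char.SmallTI

namespace CfsgLib.Char.SmallTI

open Finset
open scoped ComplexConjugate Classical

universe u

/-- A group with a faithful character that small has normal Sylow subgroup. -/
theorem normal_of_faithful {p : ℕ} (hp : p.Prime) : ∀ (N : ℕ) {G : Type u} [Group G] [Fintype G],
    Nat.card G = N → ∀ (P : Sylow p G),
    (∀ x ∈ (P : Subgroup G), x ≠ 1 →
      Subgroup.centralizer ({x} : Set G) = Subgroup.centralizer ((P : Subgroup G) : Set G)) →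
    ∀ (χ : G → ℂ), Cfsg.IsCharacter G χ → (∀ g, χ g = χ 1 → g = 1) → ∀ n : ℕ, χ 1 = n →
      n * n + 1 < Nat.card P → (P : Subgroup G).Normal := by
  intro N
  induction N using Nat.strong_induction_on with
  | _ N ih =>
  intro G _ _ hcard P hstar χ hχ hfaith n hn hnq
  haveI := Fact.mk hp
  by_cases hcl : ∀ K : Subgroup G, K.Normal → (P : Subgroup G) ≤ K → K = ⊤
  · haveI := Fintype.ofFinite (Cfsg.IrrCharacter G)
    choose μ hμ using fun ρ : Cfsg.IrrCharacter G =>
      IsCharacter.exists_classInner_eq_natCast hχ ρ.2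
    choose d hdp hd using fun ρ : Cfsg.IrrCharacter G => IsIrrCharacter.exists_degree ρ.2
    have hexp : ∀ g : G, χ g = ∑ ρ : Cfsg.IrrCharacter G, (μ ρ : ℂ) * (ρ : G → ℂ) g := fun g => by
      conv_lhs => rw [eq_sum_irr (IsCharacter.isClassFunction hχ),
        Finset.sum_subtype (irrFinset G) (fun _ => mem_irrFinset)]
      rw [Finset.sum_apply]
      exact sum_congr rfl fun ρ _ => by rw [Pi.smul_apply, hμ, smul_eq_mul]
    have hdeg : n = ∑ ρ : Cfsg.IrrCharacter G, μ ρ * d ρ := by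
      have h := hexp 1
      simp only [hn, hd, ← Nat.cast_mul, ← Nat.cast_sum, Nat.cast_inj] at h
      exact h
    have hlin : ∀ ρ : Cfsg.IrrCharacter G, μ ρ ≠ 0 → ∀ a b : G,
        (ρ : G → ℂ) (a * b * a⁻¹ * b⁻¹) = (ρ : G → ℂ) 1 := by
      intro ρ hρ a b
      by_cases h1 : (ρ : G → ℂ) = fun _ => 1
      · rw [h1]
      have hle : d ρ ≤ n := hdeg ▸ (Nat.le_mul_of_pos_left _ (Nat.pos_of_ne_zero hρ)).trans
        (single_le_sum (f := fun ρ => μ ρ * d ρ) (fun _ _ => Nat.zero_le _) (mem_univ ρ))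
      have hd1 := (dichotomy hp P hstar hcl ρ h1 (hd ρ)
        (by have := Nat.mul_le_mul hle hle; omega)).2
      obtain ⟨lam, hlam⟩ := IsCharacter.exists_hom (IsIrrCharacter.isCharacter ρ.2)
        (by rw [hd, hd1, Nat.cast_one])
      simp only [hlam, map_mul, map_inv, map_one, mul_comm (lam a) (lam b)]
      simp
    have hab : ∀ a b : G, a * b = b * a := fun a b => by
      have h1 : a * b * a⁻¹ * b⁻¹ = 1 := hfaith _ (by
        rw [hexp, hexp 1]
        refine sum_congr rfl fun ρ _ => ?_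
        by_cases hρ : μ ρ = 0
        · simp [hρ]
        · rw [hlin ρ hρ])
      calc a * b = (a * b * a⁻¹ * b⁻¹) * (b * a) := by group
        _ = b * a := by rw [h1, one_mul]
    exact ⟨fun x hx g => by rwa [hab g x, mul_inv_cancel_right]⟩
  · push Not at hcl
    obtain ⟨K, hKn, hPK, hK⟩ := hcl
    haveI := Fintype.ofFinite K
    have hlt : Nat.card K < N := hcard ▸ lt_of_le_of_ne (Subgroup.card_le_card_group K)
      fun h => hK (Subgroup.eq_top_of_card_eq K h)
    have hsub : ((P.subtype hPK : Sylow p K) : Subgroup K) = (P : Subgroup G).subgroupOf K := rfl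
    have hnorm := ih _ hlt (G := K) rfl (P.subtype hPK) (fun x hx hx1 => by
      rw [hsub, Subgroup.mem_subgroupOf] at hx
      have h := hstar x hx fun h => hx1 (Subtype.ext h)
      ext c
      rw [Subgroup.mem_centralizer_singleton_iff, Subgroup.mem_centralizer_iff]
      have h2 : (c : G) ∈ Subgroup.centralizer ({(x : G)} : Set G) ↔
          (c : G) ∈ Subgroup.centralizer ((P : Subgroup G) : Set G) := by rw [h]
      rw [Subgroup.mem_centralizer_singleton_iff, Subgroup.mem_centralizer_iff] at h2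
      constructor
      · intro hc y hy
        exact Subtype.ext (h2.1 (congrArg Subtype.val hc) y (Subgroup.mem_subgroupOf.1 (hsub ▸ hy)))
      · intro hc
        refine Subtype.ext (h2.2 fun y hy => ?_)
        exact congrArg Subtype.val (hc ⟨y, hPK hy⟩ (Subgroup.mem_subgroupOf.2 hy)))
      (fun x => χ x) (IsCharacter.restrict hχ K) (fun g hg => Subtype.ext (hfaith g hg)) n hn
      (by rwa [show Nat.card (P.subtype hPK : Sylow p K) = Nat.card P from
        Nat.card_congr (Subgroup.subgroupOfEquivOfLe hPK).toEquiv])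
    haveI := hKn
    haveI := hnorm
    haveI := Sylow.characteristic_of_normal (P.subtype hPK) hnorm
    have h := ConjAct.normal_of_characteristic_of_normal (H := K)
      (K := ((P.subtype hPK : Sylow p K) : Subgroup K))
    rwa [hsub, Subgroup.map_subgroupOf_eq_of_le hPK] at h

end CfsgLib.Char.SmallTI
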