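import Cfsg.Agent.Char.Basic
import Mathlib.Analysis.Complex.Basic
import Mathlib.Analysis.Complex.Polynomial.Basic
import Mathlib.RingTheory.IntegralClosure.IsIntegral.Basic

/-!
# Values of characters: sums of roots of unity
-/

set_option autoImplicit false
set_option linter.style.haveILetI false

namespace CfsgLib.Char

open Module Representation
open scoped ComplexConjugate

universe u v

variable {G : Type u} [Group G]

/-- A character of degree one is a homomorphism to the nonzero scalars. -/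
theorem IsCharacter.exists_hom {χ : G → ℂ} (h : Cfsg.IsCharacter G χ) (h1 : χ 1 = 1) :
    ∃ lam : G →* ℂˣ, χ = fun g => (lam g : ℂ) := by
  obtain ⟨n, ρ, rfl⟩ := h
  have hn : n = 1 := by
    have := ρ.char_one
    rw [h1, Module.finrank_fin_fun] at this
    exact_mod_cast this.symm
  subst hn
  have hs : ∀ g, ρ g = ρ.character g • LinearMap.id := by
    intro g
    obtain ⟨c, hc⟩ : ∃ c : ℂ, ρ g = c • LinearMap.id := by
      refine ⟨(ρ g (fun _ => 1)) 0, LinearMap.ext fun x => funext fun i => ?_⟩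
      obtain rfl := Subsingleton.elim i 0
      have hx : x = x 0 • (fun _ => (1 : ℂ)) := by
        funext j; simp [Subsingleton.elim j 0]
      conv_lhs => rw [hx]
      simp [mul_comm]
    rw [Representation.character, hc]
    simp
  have hmul : ∀ a b, ρ.character (a * b) = ρ.character a * ρ.character b := by
    intro a b
    have := congrArg (LinearMap.trace ℂ _) (map_mul ρ a b)
    rw [hs a, hs b, smul_mul_smul_comm, map_smul] at this
    rw [show (LinearMap.id : (Fin 1 → ℂ) →ₗ[ℂ] _) * LinearMap.id = LinearMap.id from rfl,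
      LinearMap.trace_id, Module.finrank_fin_fun] at this
    simpa [Representation.character] using this
  have hu : ∀ g, IsUnit (ρ.character g) := fun g =>
    IsUnit.of_mul_eq_one (ρ.character g⁻¹) (by rw [← hmul, mul_inv_cancel, h1])
  exact ⟨MonoidHom.mk' (fun g => (hu g).unit) (fun a b => Units.ext (hmul a b)), rfl⟩

theorem IsIrrCharacter.apply_one_eq_one {χ : G → ℂ} (h : Cfsg.IsIrrCharacter G χ) [Finite G]
    (hc : ∀ a b : G, a * b = b * a) : χ 1 = 1 := by
  obtain ⟨n, ρ, hρ, rfl⟩ := h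
  haveI : IsMulCommutative G := ⟨⟨hc⟩⟩
  rw [ρ.char_one, IsIrreducible.finrank_eq_one_of_isMulCommutative ρ, Nat.cast_one]

theorem norm_hom_eq_one [Finite G] (lam : G →* ℂˣ) (g : G) : ‖(lam g : ℂ)‖ = 1 := by
  have h : ((lam g : ℂ)) ^ Nat.card G = 1 := by
    rw [← Units.val_pow_eq_pow_val, ← map_pow, pow_card_eq_one', map_one, Units.val_one]
  exact Complex.norm_eq_one_of_pow_eq_one h Nat.card_pos.ne'

theorem conj_eq_inv_hom [Finite G] (lam : G →* ℂˣ) (g : G) :
    conj (lam g : ℂ) = (lam g⁻¹ : ℂ) := by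
  rw [map_inv, Units.val_inv_eq_inv_val, Complex.inv_eq_conj (norm_hom_eq_one lam g)]

/-- The values of a character on the powers of an element are power sums of roots of unity. -/
theorem IsCharacter.exists_roots [Finite G] {χ : G → ℂ} (h : Cfsg.IsCharacter G χ) (g : G) :
    ∃ s : Multiset ℂ, (Multiset.card s : ℂ) = χ 1 ∧ (∀ z ∈ s, z ^ orderOf g = 1) ∧
      ∀ k : ℕ, χ (g ^ k) = (s.map fun z => z ^ k).sum := by
  have main : ∀ ψ : ↥(Subgroup.zpowers g) → ℂ, Cfsg.IsCharacter _ ψ →
      ∃ s : Multiset ℂ, (Multiset.card s : ℂ) = ψ 1 ∧ (∀ z ∈ s, z ^ orderOf g = 1) ∧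
        ∀ k : ℕ, ψ (⟨g, Subgroup.mem_zpowers g⟩ ^ k) = (s.map fun z => z ^ k).sum := by
    intro ψ hψ
    refine IsCharacter.induction_irr (P := fun ψ => ∃ s : Multiset ℂ, (Multiset.card s : ℂ) = ψ 1 ∧
      (∀ z ∈ s, z ^ orderOf g = 1) ∧
        ∀ k : ℕ, ψ (⟨g, Subgroup.mem_zpowers g⟩ ^ k) = (s.map fun z => z ^ k).sum) ?_ ?_ ?_ hψ
    · exact ⟨0, by simp⟩
    · intro φ φ' h₁ h₂
      obtain ⟨s, a₁, b₁, c₁⟩ := h₁
      obtain ⟨t, a₂, b₂, c₂⟩ := h₂
      refine ⟨s + t, by simp [a₁, a₂], fun z hz => ?_, fun k => by rw [Pi.add_apply, c₁ k, c₂ k, Multiset.map_add, Multiset.sum_add]⟩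
      rcases Multiset.mem_add.1 hz with hz | hz
      exacts [b₁ z hz, b₂ z hz]
    · intro φ hφ
      have hc : ∀ a b : ↥(Subgroup.zpowers g), a * b = b * a := by
        rintro ⟨a, i, rfl⟩ ⟨b, j, rfl⟩
        ext
        exact (Commute.refl g).zpow_zpow i j
      obtain ⟨lam, rfl⟩ := IsCharacter.exists_hom (IsIrrCharacter.isCharacter hφ)
        (IsIrrCharacter.apply_one_eq_one hφ hc)
      refine ⟨{(lam ⟨g, Subgroup.mem_zpowers g⟩ : ℂ)}, by simp, fun z hz => ?_, fun k => by
        rw [Multiset.map_singleton, Multiset.sum_singleton, ← Units.val_pow_eq_pow_val, ← map_pow]⟩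
      obtain rfl := Multiset.mem_singleton.1 hz
      rw [← Units.val_pow_eq_pow_val, ← map_pow]
      have : (⟨g, Subgroup.mem_zpowers g⟩ : ↥(Subgroup.zpowers g)) ^ orderOf g = 1 := by
        ext; simp [pow_orderOf_eq_one]
      rw [this, map_one, Units.val_one]
  obtain ⟨s, a, b, c⟩ := main _ (IsCharacter.restrict h (Subgroup.zpowers g))
  exact ⟨s, by simpa using a, b, fun k => by simpa using c k⟩

theorem IsCharacter.apply_inv [Finite G] {χ : G → ℂ} (h : Cfsg.IsCharacter G χ) (g : G) :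
    χ g⁻¹ = conj (χ g) := by
  obtain ⟨s, -, hs, hk⟩ := IsCharacter.exists_roots h g
  have hpos : 0 < orderOf g := orderOf_pos g
  have hinv : g⁻¹ = g ^ (orderOf g - 1) := by
    rw [inv_eq_iff_mul_eq_one, ← pow_succ', Nat.sub_add_cancel hpos, pow_orderOf_eq_one]
  have h1 : χ g = (s.map fun z => z).sum := by simpa using hk 1
  rw [hinv, hk, h1, map_multiset_sum, Multiset.map_map]
  refine congrArg Multiset.sum (Multiset.map_congr rfl fun z hz => ?_)
  have hz1 : ‖z‖ = 1 := Complex.norm_eq_one_of_pow_eq_one (hs z hz) hpos.ne'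
  rw [Function.comp_apply, ← Complex.inv_eq_conj hz1]
  refine eq_inv_of_mul_eq_one_left ?_
  rw [← pow_succ, Nat.sub_add_cancel hpos, hs z hz]

theorem IsIrrCharacter.apply_inv [Finite G] {χ : G → ℂ} (h : Cfsg.IsIrrCharacter G χ) (g : G) :
    χ g⁻¹ = conj (χ g) :=
  IsCharacter.apply_inv (IsIrrCharacter.isCharacter h) g

theorem IsCharacter.isIntegral [Finite G] {χ : G → ℂ} (h : Cfsg.IsCharacter G χ) (g : G) :
    IsIntegral ℤ (χ g) := by
  obtain ⟨s, -, hs, hk⟩ := IsCharacter.exists_roots h g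
  have h1 : χ g = s.sum := by simpa using hk 1
  rw [h1]
  refine IsIntegral.multiset_sum fun z hz => ?_
  exact IsIntegral.of_pow (orderOf_pos g) (by rw [hs z hz]; exact isIntegral_one)

theorem IsCharacter.norm_apply_le [Finite G] {χ : G → ℂ} (h : Cfsg.IsCharacter G χ) (g : G) :
    ‖χ g‖ ≤ (χ 1).re := by
  obtain ⟨s, hcard, hs, hk⟩ := IsCharacter.exists_roots h g
  have h1 : χ g = s.sum := by simpa using hk 1
  rw [h1, ← hcard, Complex.natCast_re]
  refine (norm_multiset_sum_le s).trans (le_of_eq ?_)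
  rw [Multiset.map_congr rfl fun z hz =>
    Complex.norm_eq_one_of_pow_eq_one (hs z hz) (orderOf_pos g).ne']
  simp

/-- If a character takes the value of its degree at `g`, it does so on all powers of `g`. -/
theorem IsCharacter.apply_pow_eq_degree [Finite G] {χ : G → ℂ} (h : Cfsg.IsCharacter G χ) {g : G}
    (hg : χ g = χ 1) (k : ℕ) : χ (g ^ k) = χ 1 := by
  obtain ⟨s, hcard, hs, hk⟩ := IsCharacter.exists_roots h g
  have h1 : χ g = s.sum := by simpa using hk 1
  have key : ∀ z ∈ s, z = 1 := by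
    intro z hz
    obtain ⟨t, rfl⟩ := Multiset.exists_cons_of_mem hz
    have hn : ∀ w ∈ z ::ₘ t, ‖w‖ = 1 := fun w hw =>
      Complex.norm_eq_one_of_pow_eq_one (hs w hw) (orderOf_pos g).ne'
    rw [h1, ← hcard, Multiset.sum_cons, Multiset.card_cons] at hg
    have ht : t.sum.re ≤ Multiset.card t := by
      refine (Complex.re_le_norm _).trans ((norm_multiset_sum_le t).trans (le_of_eq ?_))
      rw [Multiset.map_congr rfl fun w hw => hn w (Multiset.mem_cons_of_mem hw)]
      simp
    have hre := congrArg Complex.re hg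
    rw [Complex.add_re, Complex.natCast_re, Nat.cast_succ] at hre
    have hz1 := hn z (Multiset.mem_cons_self z t)
    have hzre : z.re = 1 := le_antisymm (by linarith [Complex.re_le_norm z]) (by linarith)
    have hzim : z.im = 0 := by
      have := Complex.sq_norm z
      rw [hz1, Complex.normSq_apply, hzre] at this
      nlinarith
    exact Complex.ext hzre hzim
  have hall : s.map (fun z => z ^ k) = s.map (fun _ => (1 : ℂ)) :=
    Multiset.map_congr rfl fun z hz => by rw [key z hz, one_pow]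
  rw [hk, ← hcard, hall]
  simp

end CfsgLib.Char
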