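import Cfsg.Agent.Char.Generalized
import Mathlib.GroupTheory.Index

/-!
# Induced class functions
-/

set_option autoImplicit false
set_option linter.style.haveILetI false

namespace CfsgLib.Char

open scoped ComplexConjugate

universe u

variable {G : Type u} [Group G] {H : Subgroup G}

theorem extendByZero_apply (θ : H → ℂ) (x : H) : Cfsg.extendByZero H θ x = θ x :=
  Subtype.val_injective.extend_apply θ 0 x

theorem extendByZero_of_mem (θ : H → ℂ) {g : G} (hg : g ∈ H) :
    Cfsg.extendByZero H θ g = θ ⟨g, hg⟩ :=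
  extendByZero_apply θ ⟨g, hg⟩

theorem extendByZero_of_not_mem (θ : H → ℂ) {g : G} (hg : g ∉ H) :
    Cfsg.extendByZero H θ g = 0 :=
  Function.extend_apply' _ _ _ fun ⟨x, hx⟩ => hg (hx ▸ x.2)

theorem extendByZero_eq (θ : H → ℂ) (g : G) [Decidable (g ∈ H)] :
    Cfsg.extendByZero H θ g = if hg : g ∈ H then θ ⟨g, hg⟩ else 0 := by
  split_ifs with hg
  exacts [extendByZero_of_mem θ hg, extendByZero_of_not_mem θ hg]

theorem extendByZero_add (θ θ' : H → ℂ) (g : G) :
    Cfsg.extendByZero H (θ + θ') g = Cfsg.extendByZero H θ g + Cfsg.extendByZero H θ' g := by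
  classical
  by_cases hg : g ∈ H <;> simp [extendByZero_eq, hg]

theorem extendByZero_smul (c : ℂ) (θ : H → ℂ) (g : G) :
    Cfsg.extendByZero H (c • θ) g = c * Cfsg.extendByZero H θ g := by
  classical
  by_cases hg : g ∈ H <;> simp [extendByZero_eq, hg]

theorem sum_extendByZero [Fintype G] [Fintype H] (θ : H → ℂ) (F : G → ℂ) :
    ∑ g : G, Cfsg.extendByZero H θ g * F g = ∑ h : H, θ h * F h := by
  refine (Fintype.sum_of_injective _ Subtype.val_injective _ _ (fun g hg => ?_) fun h => ?_).symm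
  · rw [extendByZero_of_not_mem θ (fun hm => hg ⟨⟨g, hm⟩, rfl⟩), zero_mul]
  · rw [extendByZero_apply]

variable [Fintype G]

theorem indFun_def (θ : H → ℂ) (g : G) :
    Cfsg.indFun H θ g =
      (Nat.card H : ℂ)⁻¹ * ∑ x : G, Cfsg.extendByZero H θ (x⁻¹ * g * x) := rfl

theorem isClassFunction_indFun (H : Subgroup G) (θ : H → ℂ) :
    Cfsg.IsClassFunction G (Cfsg.indFun H θ) := by
  intro g h
  simp only [indFun_def]
  congr 1
  refine Fintype.sum_equiv (Equiv.mulLeft h⁻¹) _ _ fun x => ?_
  rw [Equiv.coe_mulLeft]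
  congr 1
  group

theorem indFun_add (θ θ' : H → ℂ) :
    Cfsg.indFun H (θ + θ') = Cfsg.indFun H θ + Cfsg.indFun H θ' := by
  funext g
  simp only [indFun_def, Pi.add_apply, extendByZero_add, Finset.sum_add_distrib, mul_add]

theorem indFun_smul (c : ℂ) (θ : H → ℂ) :
    Cfsg.indFun H (c • θ) = c • Cfsg.indFun H θ := by
  funext g
  simp only [indFun_def, Pi.smul_apply, smul_eq_mul, extendByZero_smul, Finset.mul_sum]
  exact Finset.sum_congr rfl fun x _ => by ring

theorem indFun_zero : Cfsg.indFun H (0 : H → ℂ) = 0 := by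
  simpa using indFun_smul (0 : ℂ) (0 : H → ℂ)

theorem indFun_neg (θ : H → ℂ) : Cfsg.indFun H (-θ) = -Cfsg.indFun H θ := by
  simpa using indFun_smul (-1 : ℂ) θ

theorem indFun_sub (θ θ' : H → ℂ) :
    Cfsg.indFun H (θ - θ') = Cfsg.indFun H θ - Cfsg.indFun H θ' := by
  rw [sub_eq_add_neg, indFun_add, indFun_neg, sub_eq_add_neg]

theorem indFun_sum {ι : Type*} (s : Finset ι) (f : ι → H → ℂ) :
    Cfsg.indFun H (∑ i ∈ s, f i) = ∑ i ∈ s, Cfsg.indFun H (f i) :=
  map_sum (AddMonoidHom.mk' (fun θ => Cfsg.indFun H θ) indFun_add) f s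

theorem card_div_card_subgroup :
    (Nat.card G : ℂ) / (Nat.card H : ℂ) = (H.index : ℂ) := by
  rw [← H.card_mul_index, Nat.cast_mul,
    mul_div_cancel_left₀ _ (by exact_mod_cast Nat.card_pos.ne')]

theorem indFun_one (θ : H → ℂ) : Cfsg.indFun H θ 1 = (H.index : ℂ) * θ 1 := by
  have : ∀ x : G, Cfsg.extendByZero H θ (x⁻¹ * 1 * x) = θ 1 := fun x => by
    rw [mul_one, inv_mul_cancel, extendByZero_of_mem θ H.one_mem]; rfl
  rw [indFun_def, Finset.sum_congr rfl fun x _ => this x, Finset.sum_const, Finset.card_univ,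
    nsmul_eq_mul, ← Nat.card_eq_fintype_card, ← card_div_card_subgroup (H := H)]
  ring

/-- The induced function vanishes at the elements with no conjugate in the subgroup. -/
theorem indFun_eq_zero (θ : H → ℂ) {g : G} (hg : ∀ x : G, x⁻¹ * g * x ∉ H) :
    Cfsg.indFun H θ g = 0 := by
  simp [indFun_def, extendByZero_of_not_mem θ (hg _)]

theorem indFun_eq_zero_of_normal [hN : H.Normal] (θ : H → ℂ) {g : G} (hg : g ∉ H) :
    Cfsg.indFun H θ g = 0 := by
  refine indFun_eq_zero θ fun x hx => hg ?_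
  simpa [mul_assoc] using hN.conj_mem _ hx x

/-- On a normal subgroup the induced function averages the conjugates. -/
theorem indFun_apply_normal [hN : H.Normal] (θ : H → ℂ) (h : H) :
    Cfsg.indFun H θ h =
      (Nat.card H : ℂ)⁻¹ * ∑ x : G, θ ⟨x * h * x⁻¹, hN.conj_mem h h.2 x⟩ := by
  rw [indFun_def]
  congr 1
  refine Fintype.sum_equiv (Equiv.inv G) _ _ fun x => ?_
  have hm : x⁻¹ * (h : G) * x ∈ H := by simpa using hN.conj_mem h h.2 x⁻¹
  rw [extendByZero_of_mem θ hm]
  congr 1
  ext
  simp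

/-- Frobenius reciprocity. -/
theorem classInner_indFun [Fintype H] (θ : H → ℂ) {χ : G → ℂ}
    (hχ : Cfsg.IsClassFunction G χ) :
    Cfsg.classInner (Cfsg.indFun H θ) χ = Cfsg.classInner θ (fun h : H => χ h) := by
  have hstep : ∀ x : G, ∑ g : G, Cfsg.extendByZero H θ (x⁻¹ * g * x) * conj (χ g) =
      ∑ h : H, θ h * conj (χ h) := fun x => by
    refine Eq.trans (Fintype.sum_equiv (MulAut.conj x⁻¹).toEquiv _
      (fun g => Cfsg.extendByZero H θ g * conj (χ g)) fun g => ?_) (sum_extendByZero θ _)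
    have : (MulAut.conj x⁻¹).toEquiv g = x⁻¹ * g * x := by simp
    have hg : χ (x⁻¹ * g * x) = χ g := by
      have := hχ g x⁻¹
      rwa [inv_inv] at this
    rw [this, hg]
  rw [classInner_def, classInner_def]
  simp only [indFun_def, mul_assoc, ← Finset.mul_sum, Finset.sum_mul]
  rw [Finset.sum_comm]
  simp only [mul_assoc] at hstep
  rw [Finset.sum_congr rfl fun x _ => hstep x, Finset.sum_const, Finset.card_univ, nsmul_eq_mul,
    ← Nat.card_eq_fintype_card]
  have h0 : (Nat.card G : ℂ) ≠ 0 := by exact_mod_cast (Nat.card_pos (α := G)).ne'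
  field_simp

/-- Frobenius reciprocity, with the two arguments in the other order. -/
theorem classInner_indFun_right [Fintype H] {χ : G → ℂ} (hχ : Cfsg.IsClassFunction G χ)
    (θ : H → ℂ) :
    Cfsg.classInner χ (Cfsg.indFun H θ) = Cfsg.classInner (fun h : H => χ h) θ := by
  rw [← classInner_conj, classInner_indFun θ hχ, classInner_conj]

/-- An induced character is a character. -/
theorem IsCharacter.indFun {θ : H → ℂ} (hθ : Cfsg.IsCharacter H θ) :
    Cfsg.IsCharacter G (Cfsg.indFun H θ) := by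
  classical
  refine isCharacter_of_classInner_nat (isClassFunction_indFun H θ) fun χ hχ => ?_
  rw [classInner_indFun θ (IsIrrCharacter.isClassFunction hχ)]
  exact IsCharacter.exists_classInner_eq_natCast' hθ
    (IsCharacter.restrict (IsIrrCharacter.isCharacter hχ) H)

theorem IsGeneralized.indFun {θ : H → ℂ} (hθ : Cfsg.IsGeneralizedCharacter H θ) :
    Cfsg.IsGeneralizedCharacter G (Cfsg.indFun H θ) := by
  obtain ⟨a, b, ha, hb, rfl⟩ := hθ
  exact ⟨_, _, IsCharacter.indFun ha, IsCharacter.indFun hb, indFun_sub a b⟩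

/-- Multiplying an induced function by a class function. -/
theorem indFun_mul_restrict (θ : H → ℂ) {χ : G → ℂ} (hχ : Cfsg.IsClassFunction G χ) :
    Cfsg.indFun H (θ * fun h : H => χ h) = Cfsg.indFun H θ * χ := by
  funext g
  simp only [indFun_def, Pi.mul_apply, mul_assoc, Finset.sum_mul]
  congr 1
  refine Finset.sum_congr rfl fun x _ => ?_
  have hg : χ (x⁻¹ * g * x) = χ g := by
    have := hχ g x⁻¹
    rwa [inv_inv] at this
  classical
  by_cases hm : x⁻¹ * (g * x) ∈ H
  · rw [extendByZero_of_mem _ hm, extendByZero_of_mem _ hm]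
    rw [mul_assoc] at hg
    simp [hg]
  · rw [extendByZero_of_not_mem _ hm, extendByZero_of_not_mem _ hm, zero_mul]

/-- Transitivity of induction. -/
theorem indFun_indFun {H K : Subgroup G} [Fintype K] (hHK : H ≤ K) (θ : H → ℂ) :
    Cfsg.indFun K (Cfsg.indFun (H.subgroupOf K)
      (fun x => θ ⟨(x : K), Subgroup.mem_subgroupOf.mp x.2⟩)) = Cfsg.indFun H θ := by
  classical
  funext g
  set θ' : H.subgroupOf K → ℂ := fun x => θ ⟨(x : K), Subgroup.mem_subgroupOf.mp x.2⟩
  have hcard : Nat.card (H.subgroupOf K) = Nat.card H :=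
    Nat.card_congr (Subgroup.subgroupOfEquivOfLe hHK).toEquiv
  have key : ∀ x : G, Cfsg.extendByZero K (Cfsg.indFun (H.subgroupOf K) θ') (x⁻¹ * g * x) =
      (Nat.card H : ℂ)⁻¹ * ∑ k : K, Cfsg.extendByZero H θ ((x * k)⁻¹ * g * (x * k)) := by
    intro x
    by_cases hx : x⁻¹ * g * x ∈ K
    · rw [extendByZero_of_mem _ hx, indFun_def, hcard]
      congr 1
      refine Finset.sum_congr rfl fun k _ => ?_
      have hval : ((k⁻¹ * ⟨x⁻¹ * g * x, hx⟩ * k : K) : G) = (x * k)⁻¹ * g * (x * k) := by
        simp [mul_assoc]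
      rw [← hval]
      by_cases hm : ((k⁻¹ * ⟨x⁻¹ * g * x, hx⟩ * k : K) : G) ∈ H
      · rw [extendByZero_of_mem θ hm, extendByZero_of_mem θ' (Subgroup.mem_subgroupOf.2 hm)]
      · rw [extendByZero_of_not_mem θ hm,
          extendByZero_of_not_mem θ' (mt Subgroup.mem_subgroupOf.1 hm)]
    · rw [extendByZero_of_not_mem _ hx, Finset.sum_eq_zero fun k _ => ?_, mul_zero]
      refine extendByZero_of_not_mem θ fun hm => hx ?_
      have h1 := hHK hm
      have : x⁻¹ * g * x = (k : G) * ((x * k)⁻¹ * g * (x * k)) * (k : G)⁻¹ := by group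
      rw [this]
      exact K.mul_mem (K.mul_mem k.2 h1) (K.inv_mem k.2)
  rw [indFun_def, indFun_def, Finset.sum_congr rfl fun x _ => key x, ← Finset.mul_sum,
    Finset.sum_comm]
  have hk : ∀ k : K, ∑ x : G, Cfsg.extendByZero H θ ((x * k)⁻¹ * g * (x * k)) =
      ∑ x : G, Cfsg.extendByZero H θ (x⁻¹ * g * x) := fun k =>
    Fintype.sum_equiv (Equiv.mulRight (k : G)) _ _ fun x => rfl
  rw [Finset.sum_congr rfl fun k _ => hk k, Finset.sum_const, Finset.card_univ, nsmul_eq_mul,
    ← Nat.card_eq_fintype_card]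
  have hK : (Nat.card K : ℂ) ≠ 0 := by exact_mod_cast Nat.card_pos.ne'
  field_simp

/-- The permutation character of a transitive action is induced from a point stabilizer. -/
theorem indFun_one_stabilizer {X : Type*} [MulAction G X] [Finite X]
    [MulAction.IsPretransitive G X] (x : X) :
    Cfsg.indFun (MulAction.stabilizer G x) (fun _ => 1) =
      fun g : G => (Nat.card (MulAction.fixedBy X g) : ℂ) := by
  classical
  haveI := Fintype.ofFinite X
  funext g
  have h1 : ∀ y : G, Cfsg.extendByZero (MulAction.stabilizer G x) (fun _ => 1) (y⁻¹ * g * y) =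
      if g • y • x = y • x then 1 else 0 := fun y => by
    have hiff : y⁻¹ * g * y ∈ MulAction.stabilizer G x ↔ g • y • x = y • x := by
      rw [MulAction.mem_stabilizer_iff, mul_smul, mul_smul, inv_smul_eq_iff]
    simp [extendByZero_eq, hiff]
  have hfib : ∀ z : X, (Finset.univ.filter fun y : G => y • x = z).card =
      Nat.card (MulAction.stabilizer G x) := fun z => by
    obtain ⟨y₀, rfl⟩ := MulAction.exists_smul_eq G x z
    rw [← Nat.card_eq_finsetCard]
    refine Nat.card_congr ((Equiv.mulLeft y₀⁻¹).subtypeEquiv fun y => ?_)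
    simp [MulAction.mem_stabilizer_iff, mul_smul, inv_smul_eq_iff]
  rw [indFun_def, Finset.sum_congr rfl fun y _ => h1 y, Finset.sum_boole]
  have : (Finset.univ.filter fun y : G => g • y • x = y • x).card =
      Nat.card (MulAction.stabilizer G x) * Nat.card (MulAction.fixedBy X g) := by
    rw [Finset.card_eq_sum_card_fiberwise (f := fun y => y • x)
      (t := Finset.univ.filter fun z : X => g • z = z) (fun y hy => by simpa using hy)]
    have hterm : ∀ z ∈ Finset.univ.filter (fun z : X => g • z = z),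
        ((Finset.univ.filter fun y : G => g • y • x = y • x).filter fun y => y • x = z).card =
          Nat.card (MulAction.stabilizer G x) := fun z hz => by
      rw [← hfib z, Finset.filter_filter]
      congr 1
      refine Finset.filter_congr fun y _ => ⟨And.right, fun h => ⟨?_, h⟩⟩
      rw [h]; exact (Finset.mem_filter.1 hz).2
    rw [Finset.sum_congr rfl hterm, Finset.sum_const, smul_eq_mul, mul_comm]
    congr 1
    rw [← Nat.card_eq_finsetCard]
    exact Nat.card_congr (Equiv.subtypeEquivRight fun z => by simp)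
  rw [this, Nat.cast_mul, inv_mul_cancel_left₀ (by exact_mod_cast Nat.card_pos.ne')]

end CfsgLib.Char
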