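import Cfsg.Agent.Char.Linear
import Mathlib.GroupTheory.PGroup
import Mathlib.GroupTheory.Subgroup.Centralizer

/-!
# Invariant linear characters of coprime normal subgroups
-/

namespace CfsgLib.Char

universe u

/-- An invariant linear character of `C` trivial on the centralizer of a `p`-group acting on `C`
coprimely is trivial. -/
theorem hom_eq_one_of_invariant {G : Type u} [Group G] [Finite G] {p : ℕ} [Fact p.Prime]
    {C P : Subgroup G} [hC : C.Normal] (hP : IsPGroup p P) (hcop : Nat.Coprime (Nat.card C) p)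
    (f : C →* ℂˣ)
    (hinv : ∀ g ∈ P, ∀ c : C, f ⟨g * c * g⁻¹, hC.conj_mem (c : G) c.2 g⟩ = f c)
    (hker : ∀ c : C, (c : G) ∈ Subgroup.centralizer (P : Set G) → f c = 1) : f = 1 := by
  classical
  refine MonoidHom.ext fun c => ?_
  let S := {d : C // f d = f c}
  let _ : MulAction P S :=
    { smul := fun g d => ⟨⟨(g : G) * d.1 * (g : G)⁻¹, hC.conj_mem _ d.1.2 _⟩,
        (hinv g g.2 d.1).trans d.2⟩
      one_smul := fun d => Subtype.ext (Subtype.ext (by
        show ((1 : P) : G) * d.1 * ((1 : P) : G)⁻¹ = d.1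
        simp))
      mul_smul := fun g h d => Subtype.ext (Subtype.ext (by
        show ((g * h : P) : G) * d.1 * ((g * h : P) : G)⁻¹ =
          (g : G) * ((h : G) * d.1 * (h : G)⁻¹) * (g : G)⁻¹
        simp [mul_assoc])) }
  have hcard : Nat.card S = Nat.card f.ker := Nat.card_congr
    { toFun := fun d => ⟨d.1 * c⁻¹, by simp [d.2]⟩
      invFun := fun k => ⟨k.1 * c, by rw [map_mul, MonoidHom.mem_ker.1 k.2, one_mul]⟩
      left_inv := fun d => Subtype.ext (inv_mul_cancel_right _ _)
      right_inv := fun k => Subtype.ext (mul_inv_cancel_right _ _) }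
  have hnd : ¬ p ∣ Nat.card S := fun h => by
    have h1 : p ∣ Nat.card C := (hcard ▸ h).trans (Subgroup.card_subgroup_dvd_card _)
    exact (Fact.out : p.Prime).one_lt.ne' (Nat.dvd_one.1 (hcop ▸ Nat.dvd_gcd h1 dvd_rfl))
  obtain ⟨d, hd⟩ := hP.nonempty_fixed_point_of_prime_not_dvd_card S hnd
  rw [MonoidHom.one_apply, ← d.2]
  refine hker d.1 (Subgroup.mem_centralizer_iff.2 fun g hg => ?_)
  have h1 : g * (d.1 : G) * g⁻¹ = d.1 := congrArg (fun e : S => ((e.1 : C) : G)) (hd ⟨g, hg⟩)
  calc g * (d.1 : G) = g * (d.1 : G) * g⁻¹ * g := (inv_mul_cancel_right _ _).symm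
    _ = _ := by rw [h1]

theorem eq_one_of_invariant {G : Type u} [Group G] [Finite G] {p : ℕ} [Fact p.Prime]
    {C P : Subgroup G} [hC : C.Normal] (hP : IsPGroup p P) (hcop : Nat.Coprime (Nat.card C) p)
    {lam : C → ℂ} (hlam : Cfsg.IsCharacter C lam) (hlam1 : lam 1 = 1)
    (hinv : ∀ g ∈ P, ∀ c : C, lam ⟨g * c * g⁻¹, hC.conj_mem (c : G) c.2 g⟩ = lam c)
    (hker : ∀ c : C, (c : G) ∈ Subgroup.centralizer (P : Set G) → lam c = 1) :
    lam = fun _ => 1 := by
  obtain ⟨f, hf⟩ := IsCharacter.exists_hom hlam hlam1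
  have h1 : f = 1 := hom_eq_one_of_invariant hP hcop f
    (fun g hg c => Units.ext (by
      have h := hinv g hg c
      simp only [hf] at h
      exact h))
    (fun c hc => Units.ext (by
      have h := hker c hc
      simp only [hf] at h
      exact h))
  funext c
  rw [hf, h1]
  rfl

end CfsgLib.Char
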