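import Cfsg.Agent.Char.Induction
import Mathlib.GroupTheory.GroupAction.Quotient
import Mathlib.GroupTheory.Coset.Card
import Mathlib.Algebra.BigOperators.Finsupp.Basic

/-!
# Permutation characters and their products
-/

namespace CfsgLib.Char

universe u v

variable {G : Type u} [Group G]

/-- The permutation character on the cosets of `H`. -/
noncomputable def permChar [Fintype G] (H : Subgroup G) : G → ℂ := Cfsg.indFun H (fun _ => 1)

theorem permChar_apply [Fintype G] (H : Subgroup G) (g : G) :
    permChar H g = (Nat.card (MulAction.fixedBy (G ⧸ H) g) : ℂ) := by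
  have h := congrFun (indFun_one_stabilizer (X := G ⧸ H) ((1 : G) : G ⧸ H)) g
  rw [MulAction.stabilizer_quotient] at h
  exact h

/-- Transitivity of induction, for a subgroup of a subgroup. -/
theorem indFun_indFun_map [Fintype G] {K : Subgroup G} [Fintype K] (E : Subgroup K)
    (θ : ↥(E.map K.subtype) → ℂ) :
    Cfsg.indFun K (Cfsg.indFun E
      (fun x => θ ⟨((x : K) : G), Subgroup.mem_map_of_mem _ x.2⟩)) =
      Cfsg.indFun (E.map K.subtype) θ := by
  have key : ∀ (F : Subgroup G) (_ : F ≤ K) (E : Subgroup K) (_ : E = F.subgroupOf K) (θ : F → ℂ)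
      (hm : ∀ x : E, ((x : K) : G) ∈ F),
      Cfsg.indFun K (Cfsg.indFun E (fun x => θ ⟨((x : K) : G), hm x⟩)) = Cfsg.indFun F θ := by
    intro F hF E hE θ hm
    subst hE
    exact indFun_indFun hF θ
  exact key _ (Subgroup.map_subtype_le E) E
    (Subgroup.comap_map_eq_self_of_injective K.subtype_injective E).symm θ _

/-- The restriction of a permutation character splits into orbits. -/
theorem fixedBy_eq_sum_orbits {H : Type u} [Group H] [Fintype H] (X : Type v) [MulAction H X]
    [Finite X] [Fintype (MulAction.orbitRel.Quotient H X)] :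
    (fun h : H => (Nat.card (MulAction.fixedBy X h) : ℂ)) =
      ∑ q : MulAction.orbitRel.Quotient H X, permChar (MulAction.stabilizer H q.out) := by
  classical
  funext h
  have key : ∀ x : X, permChar (MulAction.stabilizer H x) h =
      (Nat.card (MulAction.fixedBy (MulAction.orbit H x) h) : ℂ) := by
    intro x
    have hst : MulAction.stabilizer H (⟨x, MulAction.mem_orbit_self x⟩ : MulAction.orbit H x) =
        MulAction.stabilizer H x := by
      ext g
      simp only [MulAction.mem_stabilizer_iff]
      exact Subtype.ext_iff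
    have := congrFun (indFun_one_stabilizer (X := MulAction.orbit H x)
      ⟨x, MulAction.mem_orbit_self x⟩) h
    rw [hst] at this
    exact this
  rw [Finset.sum_apply, Finset.sum_congr rfl fun q _ => key q.out, ← Nat.cast_sum, ← Nat.card_sigma,
    Nat.cast_inj]
  refine Nat.card_congr
    { toFun := fun y => ⟨Quotient.mk'' y.1, ⟨y.1, ?_⟩, ?_⟩
      invFun := fun z => ⟨z.2.1.1, congrArg Subtype.val z.2.2⟩
      left_inv := fun y => rfl
      right_inv := ?_ }
  · exact MulAction.orbitRel_apply.1 (Quotient.exact' (Quotient.out_eq' _).symm)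
  · exact Subtype.ext y.2
  · rintro ⟨q, ⟨⟨x, hx⟩, hfix⟩⟩
    have hq : (Quotient.mk'' x : MulAction.orbitRel.Quotient H X) = q := by
      conv_rhs => rw [← q.out_eq']
      exact Quotient.sound' hx
    subst hq
    rfl

/-- The product of two permutation characters is a sum of permutation characters of subgroups of
the first. -/
theorem permChar_mul [Fintype G] (H K : Subgroup G) :
    ∃ a : Subgroup G → ℕ, (∀ U, a U ≠ 0 → U ≤ H) ∧
      permChar H * permChar K = ∑ U : Subgroup G, (a U : ℂ) • permChar U := by
  classical
  let U : MulAction.orbitRel.Quotient H (G ⧸ K) → Subgroup G :=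
    fun q => (MulAction.stabilizer H q.out).map H.subtype
  refine ⟨fun V => (Finset.univ.filter fun q => U q = V).card, fun V hV => ?_, ?_⟩
  · obtain ⟨q, hq⟩ := Finset.card_ne_zero.1 hV
    rw [← (Finset.mem_filter.1 hq).2]
    exact Subgroup.map_subtype_le _
  have hres : (fun h : H => permChar K h) =
      ∑ q : MulAction.orbitRel.Quotient H (G ⧸ K), permChar (MulAction.stabilizer H q.out) := by
    rw [← fixedBy_eq_sum_orbits]
    funext h
    rw [permChar_apply]
    rfl
  have hU : ∀ q, Cfsg.indFun H (permChar (MulAction.stabilizer H q.out)) = permChar (U q) := fun q =>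
    indFun_indFun_map (MulAction.stabilizer H q.out) (fun _ => 1)
  have h1 : permChar H * permChar K = Cfsg.indFun H (fun h : H => permChar K h) := by
    refine Eq.trans (indFun_mul_restrict (fun _ => 1)
      (χ := permChar K) (isClassFunction_indFun K _)).symm ?_
    congr 1
    funext h
    exact one_mul _
  rw [h1, hres, indFun_sum, Finset.sum_congr rfl fun q _ => hU q,
    ← Finset.sum_fiberwise' Finset.univ U permChar]
  refine Finset.sum_congr rfl fun V _ => ?_
  rw [Finset.sum_const, Nat.cast_smul_eq_nsmul]

end CfsgLib.Char
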