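import Cfsg.Agent.Char.CliffordCorrespondence
import Cfsg.Agent.Char.Kernel
import Cfsg.Agent.Char.Central
import Cfsg.Agent.Char.DegreeBounds
import Cfsg.Agent.Char.PermChar
import Mathlib.GroupTheory.Nilpotent

/-!
# Nilpotent groups are monomial
-/

namespace CfsgLib.Char

open scoped ComplexConjugate commutatorElement

universe u

variable {G : Type u} [Group G]

/-- An irreducible character whose kernel contains all commutators is linear. -/
theorem IsIrrCharacter.apply_one_eq_one_of_commutators [Finite G] {χ : G → ℂ}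
    (hχ : Cfsg.IsIrrCharacter G χ) (h : ∀ a b : G, χ (a * b * a⁻¹ * b⁻¹) = χ 1) : χ 1 = 1 := by
  have := Fintype.ofFinite G
  obtain ⟨d, hd0, hd⟩ := IsIrrCharacter.exists_degree hχ
  obtain ⟨n, ρ, hρ, hρχ⟩ := id hχ
  have hcomm : ∀ a b : G, ρ a * ρ b = ρ b * ρ a := fun a b => by
    have h1 := h a b
    rw [← hρχ, ρ.char_one, character_eq_iff] at h1
    calc ρ a * ρ b = ρ (a * b * a⁻¹ * b⁻¹) * (ρ b * ρ a) := by
          rw [← map_mul, ← map_mul, ← map_mul]; congr 1; group
      _ = ρ b * ρ a := by rw [h1, one_mul]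
  have hnorm : ∀ g : G, ‖χ g‖ = (d : ℝ) := fun g => by
    have hm : (Module.finrank ℂ (Fin n → ℂ) : ℂ) = d := by rw [← hd, ← hρχ, ρ.char_one]
    rw [← hρχ, (norm_character_eq_iff ρ g).2 ⟨_, eq_smul_one_of_commute ρ (ρ g) fun c => hcomm c g⟩]
    exact_mod_cast hm
  have h1 := IsIrrCharacter.classInner_self hχ
  rw [CfsgLib.Char.classInner_self, Complex.ofReal_eq_one,
    inv_mul_eq_one₀ (by exact_mod_cast Nat.card_pos.ne')] at h1
  simp only [hnorm, Finset.sum_const, nsmul_eq_mul, Finset.card_univ, ← Nat.card_eq_fintype_card] at h1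
  have h2 : (d : ℝ) ^ 2 = 1 :=
    mul_left_cancel₀ (show (Nat.card G : ℝ) ≠ 0 by exact_mod_cast Nat.card_pos.ne') (by linarith)
  have h3 : d ^ 2 = 1 := by exact_mod_cast h2
  rw [hd, show d = 1 by simpa using h3, Nat.cast_one]

/-- Every irreducible character of a nilpotent group is induced from a linear one. -/
theorem IsIrrCharacter.exists_indFun_linear [Fintype G] [Group.IsNilpotent G] {χ : G → ℂ}
    (hχ : Cfsg.IsIrrCharacter G χ) :
    ∃ (U : Subgroup G) (lam : U →* ℂˣ), χ = Cfsg.indFun U (fun u => (lam u : ℂ)) := by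
  classical
  induction hn : Nat.card G using Nat.strong_induction_on generalizing G with
  | _ n ih =>
  subst hn
  by_cases hlin : χ 1 = 1
  · obtain ⟨lam, hlam⟩ := IsCharacter.exists_hom (IsIrrCharacter.isCharacter hχ) hlin
    refine ⟨⊤, lam.comp (⊤ : Subgroup G).subtype, funext fun g => ?_⟩
    have hf : ∀ x : G, Cfsg.extendByZero (⊤ : Subgroup G)
        (fun u => ((lam.comp (⊤ : Subgroup G).subtype) u : ℂ)) (x⁻¹ * g * x) = χ g := fun x => by
      rw [extendByZero_of_mem _ (Subgroup.mem_top _), hlam]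
      simp
    rw [indFun_def, Finset.sum_congr rfl fun x _ => hf x, Finset.sum_const, Finset.card_univ,
      Subgroup.card_top, nsmul_eq_mul, Nat.card_eq_fintype_card]
    field_simp
  have hc := IsIrrCharacter.isCharacter hχ
  set K := kerSubgroup hc
  have : K.Normal := kerSubgroup_normal hc
  have hnab : ¬ ∀ a b : G, a * b * a⁻¹ * b⁻¹ ∈ K := fun h =>
    hlin (IsIrrCharacter.apply_one_eq_one_of_commutators hχ h)
  -- a noncentral element of the second centre of `G ⧸ K`
  obtain ⟨a, ha1, ha2⟩ : ∃ a : G, (∀ g : G, ∀ h : G, ⁅⁅a, g⁆, h⁆ ∈ K) ∧ ¬ ∀ g : G, ⁅a, g⁆ ∈ K := by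
    have hnil : Group.IsNilpotent (G ⧸ K) := inferInstance
    by_contra! hall
    apply hnab
    intro x y
    have hst : ∀ k : ℕ, Subgroup.upperCentralSeries (G ⧸ K) k ≤ Subgroup.center (G ⧸ K) := by
      intro k
      induction k with
      | zero => simp [Subgroup.upperCentralSeries_zero]
      | succ k ihk =>
        intro q hq
        obtain ⟨b, rfl⟩ := QuotientGroup.mk_surjective q
        rw [Subgroup.mem_center_iff]
        intro r
        obtain ⟨g, rfl⟩ := QuotientGroup.mk_surjective r
        have hb : ∀ g : G, ∀ h : G, ⁅⁅b, g⁆, h⁆ ∈ K := by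
          intro g h
          have h1 := Subgroup.mem_center_iff.1
            (ihk (Subgroup.mem_upperCentralSeries_succ_iff.1 hq (g : G ⧸ K))) (h : G ⧸ K)
          rw [← QuotientGroup.eq_one_iff, ← QuotientGroup.mk'_apply, map_commutatorElement,
            commutatorElement_eq_one_iff_commute]
          exact h1.symm
        have h2 := hall b hb g
        rw [← QuotientGroup.eq_one_iff, ← QuotientGroup.mk'_apply, map_commutatorElement,
          commutatorElement_eq_one_iff_commute] at h2
        exact h2.eq.symm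
    obtain ⟨k, hk⟩ := hnil.nilpotent
    have hcen : (QuotientGroup.mk' K x) ∈ Subgroup.center (G ⧸ K) := hst k (hk ▸ Subgroup.mem_top _)
    rw [← commutatorElement_def, ← QuotientGroup.eq_one_iff, ← QuotientGroup.mk'_apply,
      map_commutatorElement, commutatorElement_eq_one_iff_commute]
    exact (Subgroup.mem_center_iff.1 hcen _).symm
  let Z := (Subgroup.center (G ⧸ K)).comap (QuotientGroup.mk' K)
  set A := (Subgroup.closure ({QuotientGroup.mk' K a} ∪ (Subgroup.center (G ⧸ K) : Set (G ⧸ K)))).comap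
    (QuotientGroup.mk' K) with hA
  have haA : a ∈ A := Subgroup.subset_closure (Or.inl rfl)
  have hgen : IsMulCommutative (Subgroup.closure
      ({QuotientGroup.mk' K a} ∪ (Subgroup.center (G ⧸ K) : Set (G ⧸ K)))) :=
    Subgroup.isMulCommutative_closure (by
      intro u hu v hv
      rcases hu with hu | hu
      · rcases hv with hv | hv
        · rw [Set.mem_singleton_iff.1 hu, Set.mem_singleton_iff.1 hv]
        · exact Subgroup.mem_center_iff.1 hv u
      · exact (Subgroup.mem_center_iff.1 hu v).symm)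
  have hzA : ∀ z : G, QuotientGroup.mk' K z ∈ Subgroup.center (G ⧸ K) → z ∈ A := fun z hz =>
    Subgroup.subset_closure (Or.inr hz)
  have hcomA : ∀ x ∈ A, ∀ y ∈ A, x * y * x⁻¹ * y⁻¹ ∈ K := fun x hx y hy => by
    have h1 : Commute (QuotientGroup.mk' K x) (QuotientGroup.mk' K y) := congrArg Subtype.val
      (mul_comm' (⟨_, hx⟩ : Subgroup.closure
        ({QuotientGroup.mk' K a} ∪ (Subgroup.center (G ⧸ K) : Set (G ⧸ K)))) ⟨_, hy⟩)
    rw [← commutatorElement_def, ← QuotientGroup.eq_one_iff, ← QuotientGroup.mk'_apply,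
      map_commutatorElement, commutatorElement_eq_one_iff_commute]
    exact h1
  have hAn : A.Normal := by
    refine Subgroup.Normal.comap ⟨fun q hq r => ?_⟩ _
    induction hq using Subgroup.closure_induction with
    | mem u hu =>
      rcases hu with hu | hu
      · rw [Set.mem_singleton_iff.1 hu]
        obtain ⟨g, rfl⟩ := QuotientGroup.mk'_surjective K r
        have e : QuotientGroup.mk' K g * QuotientGroup.mk' K a * (QuotientGroup.mk' K g)⁻¹ =
            (QuotientGroup.mk' K ⁅a, g⁆)⁻¹ * QuotientGroup.mk' K a := by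
          rw [map_commutatorElement]; simp only [commutatorElement_def]; group
        rw [e]
        refine Subgroup.mul_mem _ (Subgroup.inv_mem _ (Subgroup.subset_closure (Or.inr ?_)))
          (Subgroup.subset_closure (Or.inl rfl))
        refine Subgroup.mem_center_iff.2 fun s => ?_
        obtain ⟨h, rfl⟩ := QuotientGroup.mk'_surjective K s
        have h1 := ha1 g h
        rw [← QuotientGroup.eq_one_iff, ← QuotientGroup.mk'_apply, map_commutatorElement,
          commutatorElement_eq_one_iff_commute] at h1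
        exact h1.eq.symm
      · rw [Subgroup.mem_center_iff.1 hu r, mul_inv_cancel_right]
        exact Subgroup.subset_closure (Or.inr hu)
    | one => simp [Subgroup.one_mem]
    | mul u v _ _ h1 h2 => rw [← conj_mul]; exact Subgroup.mul_mem _ h1 h2
    | inv u _ h1 => rw [← conj_inv]; exact Subgroup.inv_mem _ h1
  have hres := IsCharacter.restrict hc A
  obtain ⟨θ, hθ, hcon⟩ := exists_constituent_restrict (N := A) hχ
  have hθK : ∀ x : A, (x : G) ∈ K → θ x = θ 1 := fun x hx =>
    IsCharacter.apply_eq_of_add (IsIrrCharacter.isCharacter hθ) (IsCharacter.sub_irr hres hθ hcon)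
      (by simp only [add_sub_cancel, OneMemClass.coe_one]; exact hx)
  have hθ1 : θ 1 = 1 := IsIrrCharacter.apply_one_eq_one_of_commutators hθ fun x y =>
    hθK _ (hcomA x x.2 y y.2)
  have hinert : inertia θ ≠ ⊤ := by
    intro htop
    apply ha2
    intro g
    have h1 := restrict_eq_smul_sum hχ hθ hcon
    have horb : conjOrbit θ = {θ} := Finset.eq_singleton_iff_unique_mem.2
      ⟨self_mem_conjOrbit _, fun φ hφ => by
        obtain ⟨t, rfl⟩ := mem_conjOrbit.1 hφ
        exact (mem_inertia θ t).1 (htop ▸ Subgroup.mem_top t)⟩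
    rw [horb, Finset.sum_singleton] at h1
    obtain ⟨e, he⟩ := IsCharacter.exists_classInner_eq_natCast hres hθ
    rw [he] at h1
    obtain ⟨m, ρ, hρ, hρχ⟩ := id hχ
    obtain ⟨lam, hlam⟩ := IsCharacter.exists_hom (IsIrrCharacter.isCharacter hθ) hθ1
    have hd : χ 1 = (e : ℂ) := by
      have := congrFun h1 1
      simpa [hθ1] using this
    have hscal : ‖ρ.character a‖ = (Module.finrank ℂ (Fin m → ℂ) : ℝ) := by
      have h2 : ρ.character a = (e : ℂ) * θ ⟨a, haA⟩ := by rw [hρχ]; exact congrFun h1 ⟨a, haA⟩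
      have h3 : (Module.finrank ℂ (Fin m → ℂ) : ℂ) = (e : ℂ) := by
        rw [← ρ.char_one, hρχ, hd]
      rw [h2, norm_mul, Complex.norm_natCast, hlam, norm_hom_eq_one, mul_one]
      exact_mod_cast h3.symm
    obtain ⟨ω, hω⟩ := (norm_character_eq_iff ρ a).1 hscal
    change χ ⁅a, g⁆ = χ 1
    rw [← hρχ, ρ.char_one, character_eq_iff, commutatorElement_def, map_mul, map_mul, map_mul]
    rw [show ρ a * ρ g = ρ g * ρ a by rw [hω, ← Module.End.one_eq_id, smul_one_mul, mul_smul_one],
      mul_assoc (ρ g), ← map_mul ρ a, mul_inv_cancel, map_one, mul_one, ← map_mul, mul_inv_cancel,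
      map_one]
  set T := inertia θ with hT
  obtain ⟨ψ, hψ, hψχ, -⟩ := exists_indFun_eq_of_inertia
    (le_inertia (IsIrrCharacter.isClassFunction hθ)) hθ hT.symm hχ hcon
  have hlt : Nat.card T < Nat.card G :=
    lt_of_le_of_ne T.card_le_card_group fun h => hinert (Subgroup.eq_top_of_card_eq _ h)
  obtain ⟨U, lam, hU⟩ := ih _ hlt hψ rfl
  refine ⟨U.map T.subtype, lam.comp (U.equivMapOfInjective T.subtype T.subtype_injective).symm.toMonoidHom, ?_⟩
  rw [← hψχ, hU, ← indFun_indFun_map U]
  congr 2
  funext u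
  simp only [MonoidHom.comp_apply, MulEquiv.coe_toMonoidHom]
  congr 2
  exact ((MulEquiv.symm_apply_eq _).2 (Subtype.ext rfl)).symm

end CfsgLib.Char
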