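import Cfsg.Prelude.Def_Characters
import Cfsg.Agent.Solvable.Basics
import Cfsg.Agent.Char.Dade
import Mathlib.GroupTheory.Sylow
import Mathlib.GroupTheory.SpecificGroups.Cyclic
import Mathlib.GroupTheory.Nilpotent

/-!
# Elementary and quasi-elementary subgroups
-/

namespace CfsgLib.Char

universe u v

variable {G : Type u} [Group G]

/-- `H` has a cyclic normal `p`-complement. -/
def IsQuasiElem (p : ℕ) (H : Subgroup G) : Prop :=
  ∃ C : Subgroup G, C ≤ H ∧ H ≤ Subgroup.normalizer (C : Set G) ∧ IsCyclic C ∧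
    Nat.Coprime (Nat.card C) p ∧ ∃ k : ℕ, C.relIndex H = p ^ k

theorem exists_relIndex_inf_eq_pow [Finite G] {p k : ℕ} (hp : p.Prime) {C H U : Subgroup G}
    (hCH : C ≤ H) (hn : H ≤ Subgroup.normalizer (C : Set G)) (hk : C.relIndex H = p ^ k)
    (hU : U ≤ H) : ∃ j : ℕ, (C ⊓ U).relIndex U = p ^ j := by
  have : (C.subgroupOf H).Normal := (Subgroup.normal_subgroupOf_iff_le_normalizer hCH).2 hn
  have hd : (C.subgroupOf H).relIndex (U.subgroupOf H) ∣ (C.subgroupOf H).index :=
    Subgroup.relIndex_dvd_index_of_normal _ _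
  rw [Subgroup.relIndex_subgroupOf hU, ← Subgroup.inf_relIndex_right,
    show (C.subgroupOf H).index = C.relIndex H from rfl, hk] at hd
  obtain ⟨j, -, hj⟩ := (Nat.dvd_prime_pow hp).1 hd
  exact ⟨j, hj⟩

theorem IsQuasiElem.mono [Finite G] {p : ℕ} (hp : p.Prime) {H U : Subgroup G}
    (h : IsQuasiElem p H) (hU : U ≤ H) : IsQuasiElem p U := by
  obtain ⟨C, hCH, hn, hcyc, hcop, k, hk⟩ := h
  refine ⟨C ⊓ U, inf_le_right, Subgroup.le_set_normalizer_iff.2 fun u hu x hx =>
    ⟨(Subgroup.mem_normalizer_iff.1 (hn (hU hu)) x).1 hx.1, U.mul_mem (U.mul_mem hu hx.2)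
      (U.inv_mem hu)⟩, ?_, hcop.coprime_dvd_left (Subgroup.card_dvd_of_le inf_le_left),
    exists_relIndex_inf_eq_pow hp hCH hn hk hU⟩
  exact isCyclic_of_injective (Subgroup.inclusion (inf_le_left : C ⊓ U ≤ C))
    (Subgroup.inclusion_injective _)

theorem isElementary_of_mulEquiv {p : ℕ} {A : Type u} [Group A] {B : Type v} [Group B] (e : A ≃* B)
    (h : Cfsg.IsElementary p A) : Cfsg.IsElementary p B := by
  obtain ⟨x, hx, hcop, k, hk⟩ := h
  refine ⟨e x, ?_, by rwa [MulEquiv.orderOf_eq], k, ?_⟩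
  · refine Subgroup.mem_center_iff.2 fun g => ?_
    obtain ⟨a, rfl⟩ := e.surjective g
    rw [← map_mul, ← map_mul, Subgroup.mem_center_iff.1 hx a]
  · rw [show Subgroup.zpowers (e x) = (Subgroup.zpowers x).map (e : A →* B) from
      ((e : A →* B).map_zpowers x).symm, Subgroup.index_map_equiv, hk]

/-- Criterion: a cyclic central subgroup of order prime to `p` and `p`-power index. -/
theorem isElementary_of_central {p : ℕ} [Finite G] {Z : Subgroup G} (hZ : IsCyclic Z)
    (hc : Z ≤ Subgroup.center G) (hcop : (Nat.card Z).Coprime p) {k : ℕ} (hk : Z.index = p ^ k) :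
    Cfsg.IsElementary p G := by
  obtain ⟨⟨x, hx⟩, hgen⟩ := IsCyclic.exists_generator (α := Z)
  have heq : Subgroup.zpowers x = Z := le_antisymm (Subgroup.zpowers_le.2 hx) fun y hy => by
    obtain ⟨n, hn⟩ := Subgroup.mem_zpowers_iff.1 (hgen ⟨y, hy⟩)
    exact Subgroup.mem_zpowers_iff.2 ⟨n, by simpa using congrArg Subtype.val hn⟩
  refine ⟨x, hc hx, ?_, k, by rw [heq]; exact hk⟩
  rwa [← Nat.card_zpowers, heq]

theorem IsElementary.subgroup {p : ℕ} (hp : p.Prime) [Finite G] (h : Cfsg.IsElementary p G)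
    (U : Subgroup G) : Cfsg.IsElementary p U := by
  obtain ⟨x, hx, hcop, k, hk⟩ := h
  have hcen : Subgroup.zpowers x ≤ Subgroup.center G := Subgroup.zpowers_le.2 hx
  have : (Subgroup.zpowers x).Normal := ⟨fun n hn g => by
    rw [Subgroup.mem_center_iff.1 (hcen hn) g, mul_inv_cancel_right]; exact hn⟩
  have hd : (Subgroup.zpowers x).relIndex U ∣ (Subgroup.zpowers x).index :=
    Subgroup.relIndex_dvd_index_of_normal _ _
  rw [hk] at hd
  obtain ⟨j, -, hj⟩ := (Nat.dvd_prime_pow hp).1 hd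
  refine isElementary_of_central (Z := (Subgroup.zpowers x).subgroupOf U) ?_ ?_ ?_ (k := j) hj
  · refine isCyclic_of_injective (G' := Subgroup.zpowers x)
      { toFun := fun z => ⟨((z : U) : G), z.2⟩, map_one' := rfl, map_mul' := fun _ _ => rfl }
      fun a b hab => Subtype.ext (Subtype.ext (congrArg (fun w : Subgroup.zpowers x => (w : G)) hab))
  · intro z hz
    exact Subgroup.mem_center_iff.2 fun g => Subtype.ext (Subgroup.mem_center_iff.1 (hcen hz) g)
  · refine Nat.Coprime.coprime_dvd_left ?_ (Nat.card_zpowers x ▸ hcop)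
    exact Subgroup.card_dvd_of_injective
      (f := ({ toFun := fun z => ⟨((z : U) : G), z.2⟩, map_one' := rfl, map_mul' := fun _ _ => rfl } :
        (Subgroup.zpowers x).subgroupOf U →* Subgroup.zpowers x))
      fun a b hab => Subtype.ext (Subtype.ext (congrArg (fun w : Subgroup.zpowers x => (w : G)) hab))

theorem IsElementary.isNilpotent {p : ℕ} [Finite G] (hp : p.Prime) (h : Cfsg.IsElementary p G) :
    Group.IsNilpotent G := by
  obtain ⟨x, hx, -, k, hk⟩ := h
  have hcen : Subgroup.zpowers x ≤ Subgroup.center G := Subgroup.zpowers_le.2 hx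
  have : (Subgroup.zpowers x).Normal := ⟨fun n hn g => by
    rw [Subgroup.mem_center_iff.1 (hcen hn) g, mul_inv_cancel_right]; exact hn⟩
  have : Fact p.Prime := ⟨hp⟩
  have hP : IsPGroup p (G ⧸ Subgroup.zpowers x) := IsPGroup.of_card (n := k) hk
  have := hP.isNilpotent
  exact Subgroup.isNilpotent_of_ker_le_center (f := QuotientGroup.mk' (Subgroup.zpowers x))
    (by rw [QuotientGroup.ker_mk']; exact hcen)

/-- For every `x` some quasi-elementary subgroup contains `x` and is normalised-fixed only by cosets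
inside the normaliser. -/
theorem exists_quasiElem_fixed [Finite G] (x : G) {p : ℕ} (hp : p.Prime) :
    ∃ H : Subgroup G, IsQuasiElem p H ∧ ¬ p ∣ Nat.card (MulAction.fixedBy (G ⧸ H) x) := by
  classical
  have : Fact p.Prime := ⟨hp⟩
  have hne : orderOf x ≠ 0 := (orderOf_pos x).ne'
  obtain ⟨a, hdvd, hna⟩ : ∃ a, p ^ a ∣ orderOf x ∧ ¬ p ∣ orderOf x / p ^ a :=
    ⟨(orderOf x).factorization p, Nat.ordProj_dvd _ p, Nat.not_dvd_ordCompl hp hne⟩
  set m := orderOf x / p ^ a with hm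
  have hcop : Nat.Coprime (p ^ a) m := Nat.Coprime.pow_left _ (hp.coprime_iff_not_dvd.2 hna)
  obtain ⟨j, hj1, hj2⟩ := Nat.chineseRemainder hcop 0 1
  have hxm : x ^ (p ^ a * m) = 1 := by rw [hm, Nat.mul_div_cancel' hdvd, pow_orderOf_eq_one]
  set y := x ^ j with hy
  obtain ⟨z, hz⟩ : ∃ z, z = y⁻¹ * x := ⟨_, rfl⟩
  have hym : y ^ m = 1 := by
    obtain ⟨t, ht⟩ := Nat.modEq_zero_iff_dvd.1 hj1
    rw [hy, ht, ← pow_mul, show p ^ a * t * m = (p ^ a * m) * t by ring, pow_mul, hxm, one_pow]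
  have hzpa : z ^ p ^ a = 1 := by
    have h2 : orderOf x ∣ orderOf x := dvd_rfl
    have h1 : x ^ (j * p ^ a) = x ^ p ^ a := by
      rw [pow_eq_pow_iff_modEq, ← Nat.mul_div_cancel' hdvd, ← hm, Nat.mul_comm (p ^ a) m]
      conv_rhs => rw [← Nat.one_mul (p ^ a)]
      exact Nat.ModEq.mul_right' _ hj2
    rw [hz, (show Commute y⁻¹ x from ((Commute.self_pow x j).symm).inv_left).mul_pow, inv_pow, hy,
      ← pow_mul, h1, inv_mul_cancel]
  have hyz : y * z = x := by rw [hz, mul_inv_cancel_left]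
  set C := Subgroup.zpowers y with hC
  have hCcop : (Nat.card C).Coprime p := by
    rw [hC, Nat.card_zpowers]
    exact Nat.Coprime.coprime_dvd_left (orderOf_dvd_of_pow_eq_one hym)
      ((hp.coprime_iff_not_dvd.2 hna).symm)
  have hcyz : Commute z y := by
    rw [hz, hy]; exact (Commute.inv_left (Commute.refl (x ^ j))).mul_left (Commute.self_pow x j)
  set N := Subgroup.normalizer (C : Set G) with hN
  have hzN : z ∈ N := by
    refine Subgroup.centralizer_le_normalizer (C : Set G) ?_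
    rw [Subgroup.mem_centralizer_iff]
    intro c hc
    obtain ⟨n, rfl⟩ := Subgroup.mem_zpowers_iff.1 hc
    exact (hcyz.zpow_right n).eq.symm
  have hpz : IsPGroup p (Subgroup.zpowers (⟨z, hzN⟩ : N)) := by
    refine IsPGroup.of_card (n := ((orderOf (⟨z, hzN⟩ : N)).factorization p)) ?_
    rw [Nat.card_zpowers]
    obtain ⟨b, -, hb⟩ := (Nat.dvd_prime_pow hp).1 (orderOf_dvd_of_pow_eq_one
      (show (⟨z, hzN⟩ : N) ^ p ^ a = 1 from Subtype.ext hzpa))
    rw [hb, hp.factorization_pow, Finsupp.single_eq_same]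
  obtain ⟨S, hS⟩ := hpz.exists_le_sylow
  set P := (S : Subgroup N).map N.subtype
  have hPN : P ≤ N := Subgroup.map_subtype_le _
  have hPcard : Nat.card P = Nat.card (S : Subgroup N) :=
    Subgroup.card_map_of_injective N.subtype_injective
  obtain ⟨k, hk⟩ := IsPGroup.iff_card.1 S.isPGroup'
  have hdisj : P ⊓ C = ⊥ := disjoint_iff.1 (Subgroup.disjoint_of_coprime_natCard (by
    rw [hPcard, hk]; exact (Nat.Coprime.pow_left _ hCcop.symm)))
  have hcard : Nat.card ↥(P ⊔ C) = Nat.card P * Nat.card C :=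
    CfsgLib.Solvable.card_sup_of_disjoint hPN hdisj
  refine ⟨P ⊔ C, ⟨C, le_sup_right, sup_le hPN Subgroup.le_normalizer,
    Subgroup.isCyclic_zpowers y, hCcop, k, ?_⟩, ?_⟩
  · have := Subgroup.card_mul_index (C.subgroupOf (P ⊔ C))
    rw [Nat.card_congr (Subgroup.subgroupOfEquivOfLe (le_sup_right (a := P))).toEquiv, hcard,
      hPcard, hk, mul_comm (p ^ k)] at this
    exact Nat.eq_of_mul_eq_mul_left Nat.card_pos this
  set H := P ⊔ C with hH
  have hHN : H ≤ N := sup_le hPN Subgroup.le_normalizer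
  have hzH : z ∈ H := le_sup_left (a := P) ⟨⟨z, hzN⟩, hS (Subgroup.mem_zpowers _), rfl⟩
  have hyH : y ∈ H := le_sup_right (a := P) (Subgroup.mem_zpowers y)
  have hxN : x ∈ N := hyz ▸ N.mul_mem (Subgroup.le_normalizer (Subgroup.mem_zpowers y)) hzN
  -- fixed cosets lie in the normaliser
  have hfix : ∀ g : G, g⁻¹ * x * g ∈ H → g ∈ N := by
    intro g hg
    have hyg : g⁻¹ * y * g ∈ H := by
      have := H.pow_mem hg j
      have e : (g⁻¹ * x * g) ^ j = g⁻¹ * x ^ j * g := by simpa using conj_pow (a := g⁻¹) (b := x) (i := j)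
      rwa [e] at this
    have hmem : g⁻¹ * y * g ∈ C := by
      refine mem_of_coprime_orderOf (N := C) (L' := P) (C := H) (sup_comm C P)
        (fun c hc u hu => (Subgroup.mem_normalizer_iff.1 (hHN hc) u).1 hu) hyg ?_
      rw [show orderOf (g⁻¹ * y * g) = orderOf y by
        simpa using (MulAut.conj g⁻¹).orderOf_eq y, ← Nat.card_zpowers, hPcard, hk]
      exact Nat.Coprime.pow_right _ hCcop
    have hle : Subgroup.zpowers (g⁻¹ * y * g) = C := by
      refine Subgroup.eq_of_le_of_card_ge (Subgroup.zpowers_le.2 hmem) ?_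
      rw [hC, Nat.card_zpowers, Nat.card_zpowers,
        show orderOf (g⁻¹ * y * g) = orderOf y by simpa using (MulAut.conj g⁻¹).orderOf_eq y]
    have : g⁻¹ ∈ N := by
      rw [hN, Subgroup.mem_normalizer_iff_map_conj_eq]
      conv_rhs => rw [← hle]
      rw [hC, MonoidHom.map_zpowers]
      simp
    simpa using N.inv_mem this
  let Q := N ⧸ H.subgroupOf N
  have hQ : Nat.card (MulAction.fixedBy (G ⧸ H) x) =
      Nat.card (MulAction.fixedBy Q (⟨x, hxN⟩ : N)) := by
    let f : Q → G ⧸ H := Quotient.map' (fun n : N => (n : G)) fun a b hab => by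
      rw [QuotientGroup.leftRel_apply] at hab ⊢
      exact hab
    refine (Nat.card_congr (Equiv.ofBijective
      (fun q : MulAction.fixedBy Q (⟨x, hxN⟩ : N) => (⟨f q.1, ?_⟩ : MulAction.fixedBy (G ⧸ H) x))
      ⟨?_, ?_⟩)).symm
    · obtain ⟨q, hq⟩ := q
      obtain ⟨n, rfl⟩ := QuotientGroup.mk_surjective q
      exact congrArg f hq
    · rintro ⟨q, hq⟩ ⟨r, hr⟩ h
      obtain ⟨n, rfl⟩ := QuotientGroup.mk_surjective q
      obtain ⟨n', rfl⟩ := QuotientGroup.mk_surjective r
      refine Subtype.ext (QuotientGroup.eq.2 ?_)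
      have h' : ((n : G) : G ⧸ H) = ((n' : G) : G ⧸ H) := congrArg Subtype.val h
      rw [QuotientGroup.eq] at h'
      exact h'
    · rintro ⟨q, hq⟩
      obtain ⟨g, rfl⟩ := QuotientGroup.mk_surjective q
      have hq' : ((x * g : G) : G ⧸ H) = (g : G ⧸ H) := hq
      have hg : g ∈ N := hfix g (by
        have h := H.inv_mem (QuotientGroup.eq.1 hq')
        simpa [mul_assoc] using h)
      refine ⟨⟨((⟨g, hg⟩ : N) : Q), ?_⟩, rfl⟩
      change ((⟨x, hxN⟩ * ⟨g, hg⟩ : N) : Q) = ((⟨g, hg⟩ : N) : Q)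
      rw [QuotientGroup.eq, Subgroup.mem_subgroupOf]
      exact QuotientGroup.eq.1 hq'
  have hzx : MulAction.fixedBy Q (⟨x, hxN⟩ : N) = MulAction.fixedBy Q (⟨z, hzN⟩ : N) := by
    have hyN : y ∈ N := Subgroup.le_normalizer (Subgroup.mem_zpowers y)
    have hyfix : ∀ q : Q, (⟨y, hyN⟩ : N) • q = q := by
      intro q
      obtain ⟨n, rfl⟩ := QuotientGroup.mk_surjective q
      change ((⟨y, hyN⟩ * n : N) : Q) = (n : Q)
      rw [QuotientGroup.eq, Subgroup.mem_subgroupOf]
      refine le_sup_right (a := P) (show _ ∈ C from ?_)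
      have := (Subgroup.mem_normalizer_iff.1 (N.inv_mem n.2) y⁻¹).1 (C.inv_mem (Subgroup.mem_zpowers y))
      simpa [mul_assoc] using this
    ext q
    simp only [MulAction.mem_fixedBy]
    rw [show (⟨x, hxN⟩ : N) = ⟨y, hyN⟩ * ⟨z, hzN⟩ from Subtype.ext hyz.symm, mul_smul, hyfix]
  have hindex : ¬ p ∣ Nat.card Q := by
    intro h
    have hle : (S : Subgroup N) ≤ H.subgroupOf N := fun s hs =>
      le_sup_left (a := P) ⟨s, hs, rfl⟩
    exact S.not_dvd_index (h.trans (Subgroup.index_dvd_of_le hle))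
  have hmod : Nat.card Q ≡ Nat.card (MulAction.fixedBy Q (⟨z, hzN⟩ : N)) [MOD p] := by
    have h := hpz.card_modEq_card_fixedPoints Q
    rwa [show MulAction.fixedPoints (Subgroup.zpowers (⟨z, hzN⟩ : N)) Q =
      MulAction.fixedBy Q (⟨z, hzN⟩ : N) by
      ext q
      simp only [MulAction.mem_fixedPoints, MulAction.mem_fixedBy]
      refine ⟨fun h => h ⟨_, Subgroup.mem_zpowers _⟩, fun h => ?_⟩
      rintro ⟨g, hg⟩
      obtain ⟨n, rfl⟩ := Subgroup.mem_zpowers_iff.1 hg
      exact MulAction.fixedBy_subset_fixedBy_zpow _ _ n h] at h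
  rw [hQ, hzx]
  exact fun h => hindex (hmod.dvd_iff dvd_rfl |>.2 h)

end CfsgLib.Char
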