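import Cfsg.Agent.Char.PermChar
import Cfsg.Agent.Char.QuasiElementary

/-!
# Solomon's local induction theorem
-/

namespace CfsgLib.Char

universe u

/-- A function in a ring without unit all whose values are prime to `p` gives a constant prime to
`p` in the ring. -/
theorem exists_const_mem {S : Type u} [Finite S] {p : ℕ} (hp : p.Prime) (R : AddSubgroup (S → ℤ))
    (hmul : ∀ f ∈ R, ∀ g ∈ R, f * g ∈ R)
    (h : ∀ x : S, ∃ f ∈ R, ¬ (p : ℤ) ∣ f x) :
    ∃ m : ℤ, ¬ (p : ℤ) ∣ m ∧ (fun _ : S => m) ∈ R := by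
  classical
  have := Fintype.ofFinite S
  have h1 : ∀ x : S, ∃ f ∈ R, (p : ℤ) ∣ f x - 1 := by
    intro x
    obtain ⟨f, hf, hfx⟩ := h x
    obtain ⟨a, b, hab⟩ :=
      ((Nat.prime_iff_prime_int.1 hp).coprime_iff_not_dvd.2 hfx)
    exact ⟨b • f, R.zsmul_mem hf b, ⟨-a, by
      simp only [Pi.smul_apply, smul_eq_mul]; linear_combination hab⟩⟩
  have h2 : ∀ s : Finset S, ∃ f ∈ R, ∀ x ∈ s, (p : ℤ) ∣ f x - 1 := by
    intro s
    induction s using Finset.induction_on with
    | empty => exact ⟨0, R.zero_mem, by simp⟩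
    | insert a t _ ih =>
      obtain ⟨f, hf, hft⟩ := ih
      obtain ⟨g, hg, hga⟩ := h1 a
      refine ⟨f + g - f * g, R.sub_mem (R.add_mem hf hg) (hmul f hf g hg), fun x hx => ?_⟩
      simp only [Pi.sub_apply, Pi.add_apply, Pi.mul_apply]
      rw [show f x + g x - f x * g x - 1 = -((f x - 1) * (g x - 1)) by ring]
      rcases Finset.mem_insert.1 hx with rfl | hx
      · exact (dvd_mul_of_dvd_right hga _).neg_right
      · exact (dvd_mul_of_dvd_left (hft x hx) _).neg_right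
  obtain ⟨f, hf, hf1⟩ := h2 Finset.univ
  have hpoly : ∀ T : Finset ℤ, ∃ r ∈ R, ∀ x : S,
      r x = ∏ v ∈ T, (f x - v) - ∏ v ∈ T, (-v) := by
    intro T
    induction T using Finset.induction_on with
    | empty => exact ⟨0, R.zero_mem, by simp⟩
    | insert a T ha ih =>
      obtain ⟨r, hr, hrx⟩ := ih
      refine ⟨r * f + (∏ v ∈ T, (-v)) • f - a • r,
        R.sub_mem (R.add_mem (hmul r hr f hf) (R.zsmul_mem hf _)) (R.zsmul_mem hr _), fun x => ?_⟩
      simp only [Pi.sub_apply, Pi.add_apply, Pi.mul_apply, Pi.smul_apply, smul_eq_mul,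
        Finset.prod_insert ha, hrx x]
      ring
  obtain ⟨r, hr, hrx⟩ := hpoly (Finset.univ.image f)
  refine ⟨∏ v ∈ Finset.univ.image f, (-v), fun hd => ?_, ?_⟩
  · obtain ⟨v, hv, hpv⟩ := (Nat.prime_iff_prime_int.1 hp).exists_mem_finset_dvd hd
    obtain ⟨x, -, rfl⟩ := Finset.mem_image.1 hv
    rw [dvd_neg] at hpv
    have := dvd_sub hpv (hf1 x (Finset.mem_univ x))
    rw [sub_sub_cancel] at this
    exact (Nat.prime_iff_prime_int.1 hp).not_dvd_one this
  · have : (fun _ : S => ∏ v ∈ Finset.univ.image f, (-v)) = -r := funext fun x => by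
      rw [Pi.neg_apply, hrx x, neg_sub, Finset.prod_eq_zero (Finset.mem_image_of_mem f (Finset.mem_univ x))
        (sub_self _), sub_zero]
    exact this ▸ R.neg_mem hr

variable {G : Type u} [Group G] [Fintype G]

theorem exists_permChar_not_dvd (x : G) {p : ℕ} (hp : p.Prime) :
    ∃ H : Subgroup G, IsQuasiElem p H ∧ ∃ n : ℕ, permChar H x = (n : ℂ) ∧ ¬ p ∣ n := by
  obtain ⟨H, hH, hn⟩ := exists_quasiElem_fixed x hp
  exact ⟨H, hH, _, permChar_apply H x, hn⟩

/-- Solomon's theorem, local form. -/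
theorem solomon (p : ℕ) (hp : p.Prime) :
    ∃ (m : ℤ) (a : Subgroup G → ℤ), ¬ (p : ℤ) ∣ m ∧ (∀ H, a H ≠ 0 → IsQuasiElem p H) ∧
      (fun _ : G => (m : ℂ)) = ∑ H : Subgroup G, (a H : ℂ) • permChar H := by
  classical
  let M : AddSubgroup (G → ℂ) :=
    { carrier := {f | ∃ a : Subgroup G → ℤ, (∀ H, a H ≠ 0 → IsQuasiElem p H) ∧
        f = ∑ H : Subgroup G, (a H : ℂ) • permChar H}
      zero_mem' := ⟨0, by simp, by simp⟩
      add_mem' := by
        rintro _ _ ⟨a, ha, rfl⟩ ⟨b, hb, rfl⟩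
        refine ⟨a + b, fun H h => ?_, by simp [add_smul, Finset.sum_add_distrib]⟩
        by_cases h' : a H = 0
        · exact hb H fun hb' => h (by simp [h', hb'])
        · exact ha H h'
      neg_mem' := by
        rintro _ ⟨a, ha, rfl⟩
        exact ⟨-a, fun H h => ha H fun h' => h (by simp [h']), by simp [Finset.sum_neg_distrib]⟩ }
  have hbasic : ∀ H : Subgroup G, IsQuasiElem p H → permChar H ∈ M := fun H hH =>
    ⟨fun V => if V = H then 1 else 0, fun V hV => by
      simp only [ne_eq, ite_eq_right_iff, one_ne_zero, imp_false, not_not] at hV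
      exact hV ▸ hH, by simp⟩
  have hmul : ∀ f ∈ M, ∀ g ∈ M, f * g ∈ M := by
    rintro _ ⟨a, ha, rfl⟩ _ ⟨b, -, rfl⟩
    rw [Finset.sum_mul_sum]
    refine M.sum_mem fun H _ => M.sum_mem fun K _ => ?_
    by_cases h0 : a H = 0
    · simp [h0]
    obtain ⟨c, hc, hcp⟩ := permChar_mul H K
    rw [smul_mul_smul_comm, hcp, Finset.smul_sum]
    refine M.sum_mem fun U _ => ?_
    rw [smul_smul, show (a H : ℂ) * (b K : ℂ) * (c U : ℂ) = ((a H * b K * c U : ℤ) : ℂ) by push_cast; ring,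
      Int.cast_smul_eq_zsmul]
    by_cases hU : c U = 0
    · simp [hU]
    · exact M.zsmul_mem (hbasic U ((ha H h0).mono hp (hc U hU))) _
  let ι : (G → ℤ) →+ (G → ℂ) :=
    AddMonoidHom.mk' (fun f g => (f g : ℂ)) fun f g => funext fun x => by simp
  obtain ⟨m, hm, hmem⟩ := exists_const_mem hp (M.comap ι) (fun f hf g hg => by
    have hfg : ι (f * g) = ι f * ι g := funext fun x => by simp [ι]
    rw [AddSubgroup.mem_comap, hfg]
    exact hmul _ hf _ hg) (fun x => by
    obtain ⟨H, hH, n, hn, hnd⟩ := exists_permChar_not_dvd x hp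
    refine ⟨fun g => (Nat.card (MulAction.fixedBy (G ⧸ H) g) : ℤ), ?_, ?_⟩
    · rw [AddSubgroup.mem_comap]
      have : ι (fun g => (Nat.card (MulAction.fixedBy (G ⧸ H) g) : ℤ)) = permChar H :=
        funext fun g => by simp [ι, permChar_apply]
      rw [this]
      exact hbasic H hH
    · rw [Int.natCast_dvd_natCast]
      rw [permChar_apply, Nat.cast_inj] at hn
      rwa [hn])
  obtain ⟨a, ha, he⟩ := hmem
  exact ⟨m, a, hm, ha, he⟩

end CfsgLib.Char
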