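import Cfsg.Agent.Char.IndSpan
import Cfsg.Agent.Char.Solomon
import Cfsg.Agent.Char.Monomial
import Cfsg.Agent.Char.CoprimeLinear

/-!
# Brauer's induction theorem
-/

namespace CfsgLib.Char

open scoped ComplexConjugate

universe u

/-- Summation over a product of two subgroups. -/
theorem sum_sup_eq {G : Type u} [Group G] [Finite G] {A P : Subgroup G} [Fintype A] [Fintype P]
    (hP : P ≤ Subgroup.normalizer (A : Set G)) (hd : P ⊓ A = ⊥) (S : Subgroup G) [Fintype S]
    (hS : P ⊔ A = S) (f : G → ℂ) :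
    ∑ s : S, f s = ∑ a : A, ∑ x : P, f (a * x) := by
  subst hS
  rw [← Fintype.sum_prod_type' (f := fun (a : A) (x : P) => f (a * x))]
  let F : A × P → ↥(P ⊔ A) := fun y =>
    ⟨y.1 * y.2, Subgroup.mul_mem _ (le_sup_right (a := P) y.1.2) (le_sup_left (b := A) y.2.2)⟩
  refine (Fintype.sum_bijective F ?_ _ _ fun y => rfl).symm
  refine (Fintype.bijective_iff_injective_and_card F).2
    ⟨?_, by rw [← Nat.card_eq_fintype_card, ← Nat.card_eq_fintype_card, Nat.card_prod,
      CfsgLib.Solvable.card_sup_of_disjoint hP hd, mul_comm]⟩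
  rintro ⟨a, x⟩ ⟨b, y⟩ h
  have h' : (a : G) * x = b * y := congrArg Subtype.val h
  have h2 : (b : G)⁻¹ * a = y * (x : G)⁻¹ := by
    rw [eq_mul_inv_iff_mul_eq, mul_assoc, h', inv_mul_cancel_left]
  have h3 : (b : G)⁻¹ * a = 1 := by
    rw [← Subgroup.mem_bot, ← hd]
    exact ⟨h2 ▸ P.mul_mem y.2 (P.inv_mem x.2), A.mul_mem (A.inv_mem b.2) a.2⟩
  have hab : a = b := Subtype.ext (inv_mul_eq_one.1 h3).symm
  subst hab
  exact Prod.ext rfl (Subtype.ext (mul_left_cancel h'))

theorem one_mem_indSpan_of_quasiElementary {p : ℕ} (hp : p.Prime) (G : Type u) [Group G]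
    [Fintype G] (C : Subgroup G) [C.Normal] (hcyc : IsCyclic C)
    (hcop : (Nat.card C).Coprime p) {k : ℕ} (hk : C.index = p ^ k) :
    (fun _ : G => (1 : ℂ)) ∈ indSpan (fun E : Subgroup G => Cfsg.IsElementary p E) := by
  classical
  induction hn : Nat.card G using Nat.strong_induction_on generalizing G k with
  | _ n ih =>
  subst hn
  have : Fact p.Prime := ⟨hp⟩
  obtain ⟨S⟩ : Nonempty (Sylow p G) := inferInstance
  set P := (S : Subgroup G) with hPdef
  have hPC : Nat.card P = p ^ k := by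
    rw [hPdef, S.card_eq_multiplicity, ← C.card_mul_index, hk,
      Nat.factorization_mul Nat.card_pos.ne' (pow_ne_zero _ hp.ne_zero), Finsupp.add_apply,
      Nat.factorization_eq_zero_of_not_dvd (hp.coprime_iff_not_dvd.1 hcop.symm),
      hp.factorization_pow, Finsupp.single_eq_same, zero_add]
  have hnC : P ≤ Subgroup.normalizer (C : Set G) := by
    rw [Subgroup.normalizer_eq_top]; exact le_top
  have hdisj : P ⊓ C = ⊥ := disjoint_iff.1 (Subgroup.disjoint_of_coprime_natCard (by
    rw [hPC]; exact Nat.Coprime.pow_left _ hcop.symm))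
  have htop : P ⊔ C = ⊤ := Subgroup.eq_top_of_card_eq _ (by
    rw [CfsgLib.Solvable.card_sup_of_disjoint hnC hdisj, hPC, ← C.card_mul_index, hk, mul_comm])
  set Z := C ⊓ Subgroup.centralizer (P : Set G) with hZdef
  have hZcen : Z ≤ Subgroup.center G := by
    intro z hz
    rw [Subgroup.mem_center_iff]
    have : (⊤ : Subgroup G) ≤ Subgroup.centralizer {z} := htop ▸ sup_le
      (fun x hx => Subgroup.mem_centralizer_singleton_iff.2
        (Subgroup.mem_centralizer_iff.1 hz.2 x hx))
      (fun c hc => by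
        exact Subgroup.mem_centralizer_singleton_iff.2
          (congrArg Subtype.val (mul_comm' (⟨c, hc⟩ : C) ⟨z, hz.1⟩)))
    exact fun g => Subgroup.mem_centralizer_singleton_iff.1 (this (Subgroup.mem_top g))
  have hnZ : P ≤ Subgroup.normalizer (Z : Set G) := Subgroup.le_set_normalizer_iff.2 fun u _ z hz =>
    show u * z * u⁻¹ ∈ Z by
      rw [Subgroup.mem_center_iff.1 (hZcen hz) u, mul_inv_cancel_right]; exact hz
  have hdZ : P ⊓ Z = ⊥ := by
    rw [← le_bot_iff, ← hdisj]; exact inf_le_inf_left _ inf_le_left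
  set E := P ⊔ Z with hEdef
  have hZE : Z ≤ E := le_sup_right
  have hEel : Cfsg.IsElementary p E := by
    refine isElementary_of_central (Z := Z.subgroupOf E) ?_ ?_ ?_ (k := k) ?_
    · have hZC : Z ≤ C := inf_le_left
      exact isCyclic_of_injective ((Subgroup.inclusion hZC).comp
        (Subgroup.subgroupOfEquivOfLe hZE).toMonoidHom)
        ((Subgroup.inclusion_injective hZC).comp (Subgroup.subgroupOfEquivOfLe hZE).injective)
    · intro z hz
      exact Subgroup.mem_center_iff.2 fun g =>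
        Subtype.ext (Subgroup.mem_center_iff.1 (hZcen hz) g)
    · rw [Nat.card_congr (Subgroup.subgroupOfEquivOfLe hZE).toEquiv]
      exact hcop.coprime_dvd_left (Subgroup.card_dvd_of_le inf_le_left)
    · have h := Subgroup.card_mul_index (Z.subgroupOf E)
      rw [Nat.card_congr (Subgroup.subgroupOfEquivOfLe hZE).toEquiv, hEdef,
        CfsgLib.Solvable.card_sup_of_disjoint hnZ hdZ, hPC, mul_comm (p ^ k)] at h
      exact Nat.eq_of_mul_eq_mul_left Nat.card_pos h
  have hΦ : Cfsg.IsCharacter G (Cfsg.indFun E fun _ => 1) := IsCharacter.indFun isCharacter_one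
  have hone : Cfsg.IsClassFunction G (fun _ => (1 : ℂ)) := fun _ _ => rfl
  have h11 : Cfsg.classInner (Cfsg.indFun E fun _ => 1) (fun _ : G => (1 : ℂ)) = 1 := by
    rw [classInner_indFun _ hone]
    exact classInner_one_one
  have hexp := eq_sum_irr (isClassFunction_indFun E (fun _ => (1 : ℂ)))
  rw [← Finset.add_sum_erase _ _ (mem_irrFinset.2 (isIrrCharacter_one (G := G))), h11,
    one_smul, ← sub_eq_iff_eq_add] at hexp
  rw [← hexp]
  refine Submodule.sub_mem _ (indFun_mem_indSpan_of_char hEel isCharacter_one)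
    (Submodule.sum_mem _ fun χ hχ => ?_)
  obtain ⟨hχ1, hχ⟩ := Finset.mem_erase.1 hχ
  rw [mem_irrFinset] at hχ
  obtain ⟨m, hm⟩ := IsCharacter.exists_classInner_eq_natCast hΦ hχ
  rw [hm, Nat.cast_smul_eq_nsmul]
  by_cases hm0 : m = 0
  · simp [hm0]
  refine nsmul_mem ?_ m
  have hne : Cfsg.classInner (Cfsg.indFun E fun _ => 1) χ ≠ 0 := by
    rw [hm]; exact_mod_cast hm0
  have hχc := IsIrrCharacter.isCharacter hχ
  have hχZ : ∀ z ∈ Z, χ z = χ 1 := fun z hz => by
    refine IsCharacter.apply_eq_of_add hχc (IsCharacter.sub_irr hΦ hχ hne) ?_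
    rw [add_sub_cancel, indFun_one]
    have h : ∀ x : G, Cfsg.extendByZero E (fun _ => (1 : ℂ)) (x⁻¹ * z * x) = 1 := fun x => by
      rw [Subgroup.mem_center_iff.1 (hZcen hz) x⁻¹, inv_mul_cancel_right,
        extendByZero_of_mem _ (hZE hz)]
    rw [indFun_def, Finset.sum_congr rfl fun x _ => h x, Finset.sum_const, Finset.card_univ,
      nsmul_one, ← Nat.card_eq_fintype_card, ← E.card_mul_index]
    simp
  obtain ⟨lam, hlam, hcon⟩ := exists_constituent_restrict (N := C) hχ
  have hlam1 : lam 1 = 1 := by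
    refine IsIrrCharacter.apply_one_eq_one_of_commutators hlam fun a b => ?_
    rw [mul_comm' a b, mul_inv_cancel_right, mul_inv_cancel]
  have hlamZ : ∀ c : C, (c : G) ∈ Subgroup.centralizer (P : Set G) → lam c = 1 := fun c hc => by
    rw [← hlam1]
    refine IsCharacter.apply_eq_of_add (IsIrrCharacter.isCharacter hlam)
      (IsCharacter.sub_irr (IsCharacter.restrict hχc C) hlam hcon) ?_
    rw [add_sub_cancel]
    exact hχZ _ ⟨c.2, hc⟩
  by_cases hT : inertia lam = ⊤
  · exfalso
    have hlam' : lam = fun _ => 1 := eq_one_of_invariant S.isPGroup' hcop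
      (IsIrrCharacter.isCharacter hlam) hlam1
      (fun g _ c => (mem_inertia_iff lam g).1 (hT ▸ Subgroup.mem_top g) c) hlamZ
    have hres := restrict_eq_smul_sum hχ hlam hcon
    have horb : conjOrbit lam = {lam} := Finset.eq_singleton_iff_unique_mem.2
      ⟨self_mem_conjOrbit _, fun φ hφ => by
        obtain ⟨t, rfl⟩ := mem_conjOrbit.1 hφ
        exact (mem_inertia lam t).1 (hT ▸ Subgroup.mem_top t)⟩
    rw [horb, Finset.sum_singleton, hlam'] at hres
    have hker : ∀ c : C, χ c = χ 1 := fun c => by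
      have h1 := congrFun hres c
      have h2 := congrFun hres 1
      simp only [Pi.smul_apply, smul_eq_mul, OneMemClass.coe_one] at h1 h2
      rw [h1, h2]
    have hzero : ∑ g : G, χ g = 0 := by
      have := IsIrrCharacter.classInner_of_ne hχ isIrrCharacter_one hχ1
      rw [classInner_def] at this
      simpa using this
    have hG : ∑ g : G, χ g = (Nat.card C : ℂ) * ∑ x : P, χ (x : G) := by
      have h := sum_sup_eq hnC hdisj ⊤ htop χ
      rw [Fintype.sum_equiv Subgroup.topEquiv.toEquiv (fun s : (⊤ : Subgroup G) => χ s) χ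
        (fun _ => rfl)] at h
      have hcx : ∀ (c : C) (x : P), χ ((c : G) * x) = χ x := fun c x =>
        IsCharacter.apply_mul_of_apply_eq hχc (hker c) (x : G)
      simp only [h, hcx, Finset.sum_const, Finset.card_univ, nsmul_eq_mul,
        ← Nat.card_eq_fintype_card]
    have hP0 : ∑ x : P, χ (x : G) = 0 := by
      rw [hG, mul_eq_zero] at hzero
      exact hzero.resolve_left (by exact_mod_cast Nat.card_pos.ne')
    apply hne
    rw [classInner_indFun _ (IsIrrCharacter.isClassFunction hχ), classInner_def]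
    have hE : ∑ e : E, χ (e : G) = (Nat.card Z : ℂ) * ∑ x : P, χ (x : G) := by
      have hcx : ∀ (c : Z) (x : P), χ ((c : G) * x) = χ x := fun c x =>
        IsCharacter.apply_mul_of_apply_eq hχc (hχZ _ c.2) (x : G)
      simp only [sum_sup_eq hnZ hdZ E hEdef.symm χ, hcx, Finset.sum_const,
        Finset.card_univ, nsmul_eq_mul, ← Nat.card_eq_fintype_card]
    simp only [one_mul]
    rw [← map_sum, hE, hP0]
    simp
  · set T := inertia lam with hTdef
    have hCT : C ≤ T := le_inertia (IsIrrCharacter.isClassFunction hlam)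
    obtain ⟨ψ, hψ, hψχ, -⟩ := exists_indFun_eq_of_inertia hCT hlam hTdef.symm hχ hcon
    have hlt : Nat.card T < Nat.card G :=
      lt_of_le_of_ne T.card_le_card_group fun h => hT (Subgroup.eq_top_of_card_eq _ h)
    obtain ⟨j, -, hj⟩ := (Nat.dvd_prime_pow hp).1
      (hk ▸ Subgroup.relIndex_dvd_index_of_normal C T)
    have h1 := ih _ hlt T (C.subgroupOf T)
      (isCyclic_of_injective (Subgroup.subgroupOfEquivOfLe hCT).toMonoidHom
        (Subgroup.subgroupOfEquivOfLe hCT).injective)
      (by rwa [Nat.card_congr (Subgroup.subgroupOfEquivOfLe hCT).toEquiv]) (k := j) hj rfl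
    rw [← hψχ]
    exact indFun_mem_indSpan
      (fun F hF => isElementary_of_mulEquiv
        (F.equivMapOfInjective T.subtype T.subtype_injective) hF)
      (char_mem_indSpan_of_one (IsIrrCharacter.isCharacter hψ) h1)

variable {G : Type u} [Group G] [Fintype G]

/-- Brauer's induction theorem, local form. -/
theorem brauer_local (p : ℕ) (hp : p.Prime) : ∃ m : ℤ, ¬ (p : ℤ) ∣ m ∧
    (fun _ : G => (m : ℂ)) ∈ indSpan (fun E : Subgroup G => Cfsg.IsElementary p E) := by
  classical
  obtain ⟨m, a, hm, ha, he⟩ := solomon (G := G) p hp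
  refine ⟨m, hm, he ▸ Submodule.sum_mem _ fun H _ => ?_⟩
  rw [Int.cast_smul_eq_zsmul]
  by_cases h0 : a H = 0
  · simp [h0]
  refine zsmul_mem ?_ _
  obtain ⟨C, hCH, hn, hcyc, hcop, k, hk⟩ := ha H h0
  have : (C.subgroupOf H).Normal := (Subgroup.normal_subgroupOf_iff_le_normalizer hCH).2 hn
  exact indFun_mem_indSpan
    (fun F hF => isElementary_of_mulEquiv
      (F.equivMapOfInjective H.subtype H.subtype_injective) hF)
    (one_mem_indSpan_of_quasiElementary hp H (C.subgroupOf H)
      (isCyclic_of_injective (Subgroup.subgroupOfEquivOfLe hCH).toMonoidHom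
        (Subgroup.subgroupOfEquivOfLe hCH).injective)
      (by rwa [Nat.card_congr (Subgroup.subgroupOfEquivOfLe hCH).toEquiv]) hk)

/-- The class of elementary subgroups. -/
def IsElem (E : Subgroup G) : Prop := ∃ p : ℕ, p.Prime ∧ Cfsg.IsElementary p E

theorem one_mem_indSpan_elem : (fun _ : G => (1 : ℂ)) ∈ indSpan (IsElem (G := G)) := by
  let ι : ℤ →+ (G → ℂ) := AddMonoidHom.mk' (fun m => fun _ => (m : ℂ))
    fun a b => funext fun _ => Int.cast_add a b
  let M : AddSubgroup ℤ := (indSpan (IsElem (G := G))).toAddSubgroup.comap ι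
  obtain ⟨d, hd⟩ := Int.subgroup_cyclic M
  have hall : ∀ p : ℕ, p.Prime → ∃ m ∈ M, ¬ (p : ℤ) ∣ m := fun p hp => by
    obtain ⟨m, hm, hmem⟩ := brauer_local (G := G) p hp
    exact ⟨m, Submodule.span_mono (fun f hf => by
      obtain ⟨E, φ, hE, hφ⟩ := hf
      exact ⟨E, φ, ⟨p, hp, hE⟩, hφ⟩) hmem, hm⟩
  have hunit : d.natAbs = 1 := by
    by_contra h
    obtain ⟨p, hp, hpd⟩ := Nat.exists_prime_and_dvd h
    obtain ⟨m, hm, hnd⟩ := hall p hp
    rw [hd, AddSubgroup.mem_closure_singleton] at hm
    obtain ⟨j, rfl⟩ := hm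
    exact hnd (by rw [smul_eq_mul]; exact dvd_mul_of_dvd_right (Int.ofNat_dvd_left.2 hpd) j)
  have h1 : (1 : ℤ) ∈ M := by
    rw [hd, AddSubgroup.mem_closure_singleton]
    rcases Int.natAbs_eq_iff.1 hunit with h | h
    · exact ⟨1, by simp [h]⟩
    · exact ⟨-1, by simp [h]⟩
  have h2 : ι 1 ∈ indSpan (IsElem (G := G)) := h1
  have h3 : ι 1 = fun _ : G => (1 : ℂ) := funext fun _ => Int.cast_one
  exact h3 ▸ h2

/-- Brauer's induction theorem. -/
theorem brauer_induction {χ : G → ℂ} (hχ : Cfsg.IsCharacter G χ) :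
    χ ∈ linSpan (IsElem (G := G)) := by
  refine indSpan_le_linSpan (fun E hE _ ψ hψ => ?_)
    (char_mem_indSpan_of_one hχ one_mem_indSpan_elem)
  classical
  obtain ⟨p, hp, hE⟩ := hE
  have := IsElementary.isNilpotent hp hE
  obtain ⟨U, lam, hU⟩ := IsIrrCharacter.exists_indFun_linear hψ
  exact ⟨U, lam, ⟨p, hp, isElementary_of_mulEquiv
    (U.equivMapOfInjective E.subtype E.subtype_injective) (IsElementary.subgroup hp hE U)⟩, hU⟩

/-- Brauer's characterisation of characters. -/
theorem isGeneralized_of_restrict_elementary {θ : G → ℂ} (hθ : Cfsg.IsClassFunction G θ)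
    (hE : ∀ (E : Subgroup G) (p : ℕ), p.Prime → Cfsg.IsElementary p E →
      Cfsg.IsGeneralizedCharacter E (fun e : E => θ e)) :
    Cfsg.IsGeneralizedCharacter G θ := by
  have key : ∀ f ∈ indSpan (IsElem (G := G)), Cfsg.IsGeneralizedCharacter G (f * θ) := by
    intro f hf
    induction hf using Submodule.span_induction with
    | mem f hf =>
      obtain ⟨E, φ, ⟨p, hp, hel⟩, hφ, rfl⟩ := hf
      rw [← indFun_mul_restrict φ hθ]
      exact IsGeneralized.indFun
        (IsGeneralized.mul (IsCharacter.isGeneralized hφ) (hE E p hp hel))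
    | zero => rw [zero_mul]; exact isGeneralized_zero
    | add f g _ _ h1 h2 => rw [add_mul]; exact IsGeneralized.add h1 h2
    | smul n f _ h => rw [smul_mul_assoc]; exact IsGeneralized.zsmul h n
  have := key _ one_mem_indSpan_elem
  rwa [show (fun _ : G => (1 : ℂ)) * θ = θ from one_mul θ] at this

end CfsgLib.Char
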