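import Cfsg.Agent.Char.Induction
import Cfsg.Agent.Char.Kernel
import Mathlib.GroupTheory.Complement

/-!
# Frobenius's theorem on the kernel of a malnormal subgroup
-/

set_option autoImplicit false
set_option linter.style.haveILetI false

namespace CfsgLib.Char

open scoped ComplexConjugate

universe u

variable {G : Type u} [Group G]

/-- Induction from a malnormal subgroup keeps the values of a class function vanishing at `1`. -/
theorem indFun_apply_of_malnormal [Fintype G] {H : Subgroup G}
    (hTI : ∀ g : G, g ∉ H → ∀ h ∈ H, g * h * g⁻¹ ∈ H → h = 1) {φ : H → ℂ}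
    (hφ : Cfsg.IsClassFunction H φ) (h1 : φ 1 = 0) (h : H) : Cfsg.indFun H φ h = φ h := by
  classical
  by_cases hh : h = 1
  · subst hh; rw [OneMemClass.coe_one, indFun_one, h1, mul_zero]
  have hval : ∀ x : G, Cfsg.extendByZero H φ (x⁻¹ * h * x) = if x ∈ H then φ h else 0 := by
    intro x
    split_ifs with hx
    · have hm : x⁻¹ * (h : G) * x ∈ H := H.mul_mem (H.mul_mem (H.inv_mem hx) h.2) hx
      rw [extendByZero_of_mem φ hm]
      have := hφ h ⟨x, hx⟩⁻¹
      rw [← this]
      congr 1
      ext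
      simp
    · refine extendByZero_of_not_mem φ fun hm => hh (Subtype.ext ?_)
      exact hTI x⁻¹ (fun h' => hx (by simpa using H.inv_mem h')) h h.2 (by simpa using hm)
  rw [indFun_def, Finset.sum_congr rfl fun x _ => hval x, ← Finset.sum_filter, Finset.sum_const,
    nsmul_eq_mul, ← Nat.card_eq_finsetCard]
  have hc : Nat.card {x // x ∈ Finset.univ.filter (fun x : G => x ∈ H)} = Nat.card H :=
    Nat.card_congr (Equiv.subtypeEquivRight fun x => by simp)
  rw [hc, inv_mul_cancel_left₀ (by exact_mod_cast Nat.card_pos.ne')]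

/-- The extension of a character of a malnormal subgroup to the whole group. -/
noncomputable def frobExt [Fintype G] (H : Subgroup G) (θ : H → ℂ) : G → ℂ :=
  Cfsg.indFun H (θ - θ 1 • fun _ => 1) + θ 1 • fun _ => 1

theorem frobExt_apply [Fintype G] {H : Subgroup G}
    (hTI : ∀ g : G, g ∉ H → ∀ h ∈ H, g * h * g⁻¹ ∈ H → h = 1) {θ : H → ℂ}
    (hθ : Cfsg.IsClassFunction H θ) (h : H) : frobExt H θ h = θ h := by
  have hφ : Cfsg.IsClassFunction H (θ - θ 1 • fun _ => 1) := fun g x => by
    simp [hθ g x]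
  rw [frobExt, Pi.add_apply, indFun_apply_of_malnormal hTI hφ (by simp) h]
  simp

theorem frobExt_apply_of_no_conj [Fintype G] {H : Subgroup G} (θ : H → ℂ) {g : G}
    (hg : ∀ x : G, x⁻¹ * g * x ∉ H) : frobExt H θ g = θ 1 := by
  simp [frobExt, indFun_eq_zero _ hg]

theorem isIrrCharacter_frobExt [Fintype G] {H : Subgroup G}
    (hTI : ∀ g : G, g ∉ H → ∀ h ∈ H, g * h * g⁻¹ ∈ H → h = 1) {θ : H → ℂ}
    (hθ : Cfsg.IsIrrCharacter H θ) : Cfsg.IsIrrCharacter G (frobExt H θ) := by
  classical
  by_cases h0 : θ = fun _ => 1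
  · subst h0
    have : frobExt H (fun _ : H => (1 : ℂ)) = fun _ => 1 := by
      simp [frobExt, indFun_zero]
    rw [this]; exact isIrrCharacter_one
  obtain ⟨d, hd, hd'⟩ := IsIrrCharacter.exists_degree hθ
  have hθc := IsIrrCharacter.isClassFunction hθ
  have hgen : Cfsg.IsGeneralizedCharacter G (frobExt H θ) := by
    rw [frobExt, hd']
    exact IsGeneralized.add (IsGeneralized.indFun (IsGeneralized.sub
      (IsIrrCharacter.isGeneralized hθ) (IsGeneralized.intCast_smul isGeneralized_one (d : ℤ))))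
      (IsGeneralized.intCast_smul isGeneralized_one (d : ℤ))
  have h1 : frobExt H θ 1 = d := by
    have := frobExt_apply hTI hθc 1
    rwa [OneMemClass.coe_one, hd'] at this
  set φ : H → ℂ := θ - (d : ℂ) • fun _ => 1 with hφ
  have hcl1 : Cfsg.IsClassFunction G (fun _ : G => (1 : ℂ)) := fun _ _ => rfl
  have e1 : Cfsg.classInner θ (fun _ : H => (1 : ℂ)) = 0 :=
    IsIrrCharacter.classInner_of_ne hθ isIrrCharacter_one h0
  have e2 : Cfsg.classInner (Cfsg.indFun H φ) (fun _ => 1) = -(d : ℂ) := by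
    rw [classInner_indFun φ hcl1, hφ, classInner_sub_left, classInner_smul_left, e1,
      classInner_one_one]
    ring
  have e3 : Cfsg.classInner φ φ = 1 + (d : ℂ) ^ 2 := by
    have e1' : Cfsg.classInner (fun _ : H => (1 : ℂ)) θ = 0 := by
      rw [← classInner_conj, e1, map_zero]
    simp only [hφ, classInner_sub_left, classInner_sub_right, classInner_smul_left,
      classInner_smul_right, IsIrrCharacter.classInner_self hθ, e1, e1', classInner_one_one,
      Complex.conj_natCast]
    ring
  have e4 : Cfsg.classInner (Cfsg.indFun H φ) (Cfsg.indFun H φ) = 1 + (d : ℂ) ^ 2 := by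
    have hφc : Cfsg.IsClassFunction H φ := fun g x => by simp [hφ, hθc g x]
    rw [classInner_indFun φ (isClassFunction_indFun H φ), ← e3]
    congr 1
    funext h
    exact indFun_apply_of_malnormal hTI hφc (by simp [hφ, hd']) h
  have hnorm : Cfsg.classInner (frobExt H θ) (frobExt H θ) = 1 := by
    have e2' : Cfsg.classInner (fun _ => 1) (Cfsg.indFun H φ) = -(d : ℂ) := by
      rw [← classInner_conj, e2, map_neg, Complex.conj_natCast]
    simp only [frobExt, hd', ← hφ, classInner_add_left, classInner_add_right,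
      classInner_smul_left, classInner_smul_right, e2, e2', e4, classInner_one_one,
      Complex.conj_natCast]
    ring
  refine (IsGeneralized.isIrr_or_neg hgen hnorm).resolve_right fun hneg => ?_
  obtain ⟨m, -, hm⟩ := IsIrrCharacter.exists_degree hneg
  rw [Pi.neg_apply, h1] at hm
  have : (d : ℤ) + m = 0 := by
    have h' : (d : ℂ) + m = 0 := by rw [← hm, add_neg_cancel]
    exact_mod_cast h'
  omega

/-- Frobenius: a malnormal subgroup has a normal complement, made of the identity and the elements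
with no conjugate in the subgroup. -/
theorem exists_frobenius_kernel [Finite G] (H : Subgroup G)
    (hTI : ∀ g : G, g ∉ H → ∀ h ∈ H, g * h * g⁻¹ ∈ H → h = 1) :
    ∃ K : Subgroup G, K.Normal ∧ K ⊓ H = ⊥ ∧ K ⊔ H = ⊤ ∧ K.IsComplement' H ∧
      ∀ g : G, g ∈ K ↔ g = 1 ∨ ∀ x : G, x⁻¹ * g * x ∉ H := by
  classical
  haveI := Fintype.ofFinite G
  let κ : Cfsg.IrrCharacter H → Subgroup G := fun θ =>
    kerSubgroup (IsIrrCharacter.isCharacter (isIrrCharacter_frobExt hTI θ.2))
  let K : Subgroup G := ⨅ θ, κ θ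
  have hKn : K.Normal := Subgroup.normal_iInf_normal fun θ => kerSubgroup_normal _
  have hf1 : ∀ θ : Cfsg.IrrCharacter H, frobExt H θ.1 1 = θ.1 1 := fun θ => by
    have := frobExt_apply hTI (IsIrrCharacter.isClassFunction θ.2) 1
    rwa [OneMemClass.coe_one] at this
  have hinf : K ⊓ H = ⊥ := by
    rw [Subgroup.eq_bot_iff_forall]
    rintro g ⟨hgK, hgH⟩
    have : IsConj (⟨g, hgH⟩ : H) 1 := by
      rw [isConj_iff_irr_eq]
      intro θ hθ
      have hk : frobExt H θ g = frobExt H θ 1 :=
        (mem_kerSubgroup _ g).1 (Subgroup.mem_iInf.1 hgK ⟨θ, hθ⟩)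
      rwa [frobExt_apply hTI (IsIrrCharacter.isClassFunction hθ) ⟨g, hgH⟩, hf1 ⟨θ, hθ⟩] at hk
    exact congrArg Subtype.val (isConj_one_left.1 this)
  have hout : ∀ g : G, (∀ x : G, x⁻¹ * g * x ∉ H) → g ∈ K := fun g hg =>
    Subgroup.mem_iInf.2 fun θ => (mem_kerSubgroup _ g).2 (by
      rw [frobExt_apply_of_no_conj _ hg, hf1 θ])
  have hmem : ∀ g : G, g ∈ K ↔ g = 1 ∨ ∀ x : G, x⁻¹ * g * x ∉ H := by
    refine fun g => ⟨fun hg => or_iff_not_imp_left.2 fun h1 x hx => h1 ?_, ?_⟩
    · have : x⁻¹ * g * x ∈ K ⊓ H :=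
        ⟨by simpa using hKn.conj_mem g hg x⁻¹, hx⟩
      rw [hinf, Subgroup.mem_bot] at this
      have h2 : g = x * (x⁻¹ * g * x) * x⁻¹ := by group
      rw [h2, this, mul_one, mul_inv_cancel]
    · rintro (rfl | hg)
      exacts [K.one_mem, hout g hg]
  -- counting
  let T : Finset G := Finset.univ.filter fun g => g ≠ 1 ∧ ∃ x : G, x⁻¹ * g * x ∈ H
  let f : (G ⧸ H) × {h : H // h ≠ 1} → G := fun q => q.1.out * (q.2.1 : G) * q.1.out⁻¹
  have hTsub : T ⊆ Finset.univ.image f := by
    intro g hg
    simp only [T, Finset.mem_filter, Finset.mem_univ, true_and] at hg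
    obtain ⟨hg1, x, hx⟩ := hg
    obtain ⟨k, hk⟩ := QuotientGroup.mk_out_eq_mul H x
    have hmem' : (QuotientGroup.mk x : G ⧸ H).out⁻¹ * g * (QuotientGroup.mk x : G ⧸ H).out ∈ H := by
      rw [hk]
      have : (x * (k : G))⁻¹ * g * (x * k) = (k : G)⁻¹ * (x⁻¹ * g * x) * k := by group
      rw [this]
      exact H.mul_mem (H.mul_mem (H.inv_mem k.2) hx) k.2
    refine Finset.mem_image.2 ⟨(QuotientGroup.mk x, ⟨⟨_, hmem'⟩, fun h => hg1 ?_⟩),
      Finset.mem_univ _, by simp [f, mul_assoc]⟩
    have h3 : ∀ a b : G, a⁻¹ * b * a = 1 → b = 1 := fun a b hab => by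
      rw [show b = a * (a⁻¹ * b * a) * a⁻¹ by group, hab, mul_one, mul_inv_cancel]
    exact h3 _ _ (congrArg Subtype.val h)
  have hT : T.card ≤ H.index * (Nat.card H - 1) := by
    refine (Finset.card_le_card hTsub).trans (Finset.card_image_le.trans (le_of_eq ?_))
    rw [Finset.card_univ, Fintype.card_prod, Subgroup.index_eq_card, Nat.card_eq_fintype_card,
      Nat.card_eq_fintype_card (α := H)]
    congr 1
    rw [Fintype.card_subtype_compl, Fintype.card_subtype_eq]
  have hK : H.index ≤ Nat.card K := by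
    have hsub : Finset.univ \ T ⊆ Finset.univ.filter fun g : G => g ∈ K := by
      intro g hg
      simp only [T, Finset.mem_sdiff, Finset.mem_univ, true_and, Finset.mem_filter, not_and,
        not_exists] at hg ⊢
      exact (hmem g).2 ((em (g = 1)).imp_right fun h => hg h)
    have h2 := Finset.card_le_card hsub
    have hc : (Finset.univ.filter (fun g : G => g ∈ K)).card = Nat.card K := by
      rw [← Nat.card_eq_finsetCard]
      exact Nat.card_congr (Equiv.subtypeEquivRight fun x => by simp)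
    rw [Finset.card_sdiff_of_subset (Finset.subset_univ _), Finset.card_univ,
      ← Nat.card_eq_fintype_card, hc, ← H.card_mul_index] at h2
    have hm : H.index * (Nat.card H - 1) + H.index = Nat.card H * H.index := by
      rw [Nat.mul_sub_one, mul_comm (Nat.card H),
        Nat.sub_add_cancel (Nat.le_mul_of_pos_right _ Nat.card_pos)]
    omega
  have hprod : Nat.card K * Nat.card H = Nat.card G := by
    refine le_antisymm ?_ ?_
    · rw [← Nat.card_prod]
      refine Nat.card_le_card_of_injective (fun q : K × H => (q.1 : G) * q.2) ?_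
      exact Subgroup.mul_injective_of_disjoint (disjoint_iff.2 hinf)
    · rw [← H.card_mul_index, mul_comm (Nat.card H)]
      exact Nat.mul_le_mul_right _ hK
  have hcompl : K.IsComplement' H :=
    Subgroup.isComplement'_of_card_mul_and_disjoint hprod (disjoint_iff.2 hinf)
  exact ⟨K, hKn, hinf, hcompl.sup_eq_top, hcompl, hmem⟩

end CfsgLib.Char
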