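import Cfsg.Prelude.Def_LieExceptional
import Mathlib.GroupTheory.GroupAction.MultipleTransitivity
import Mathlib.GroupTheory.GroupAction.Quotient
import Mathlib.Tactic.Group

/-!
# Point and two-point stabilisers in Zassenhaus groups
-/

namespace CfsgLib.Char

universe u v

variable {G : Type u} {Ω : Type v} [Group G] [MulAction G Ω]

theorem zassenhaus_three_le [Fintype Ω] (hZ : Cfsg.IsZassenhausGroup G Ω) :
    3 ≤ Fintype.card Ω := by
  classical
  obtain ⟨hf, -, -, ⟨g, hg, a, b, hab, ha, hb⟩, -⟩ := hZ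
  by_contra hlt
  refine hg (hf.eq_of_smul_eq_smul fun c => ?_)
  rw [one_smul]
  rcases eq_or_ne c a with rfl | hca
  · exact ha
  rcases eq_or_ne c b with rfl | hcb
  · exact hb
  exact absurd (Finset.card_le_univ ({a, b, c} : Finset Ω))
    (by rw [Finset.card_eq_three.2 ⟨a, b, c, hab, hca.symm, hcb.symm, rfl⟩]; omega)

theorem zassenhaus_kernel_TI [Finite G] [Fintype Ω] (hZ : Cfsg.IsZassenhausGroup G Ω) (a : Ω)
    (H : Subgroup G) (hHa : H ≤ MulAction.stabilizer G a)
    (hHcard : Nat.card H + 1 = Fintype.card Ω)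
    (hHfix : ∀ u ∈ H, u ≠ 1 → ∀ c : Ω, u • c = c → c = a) :
    (∀ g : G, g ∉ MulAction.stabilizer G a → ∀ u ∈ H, g * u * g⁻¹ ∈ H → u = 1) ∧
      Subgroup.normalizer (H : Set G) = MulAction.stabilizer G a := by
  classical
  have hfix_conj : ∀ g u : G, u • a = a → (g * u * g⁻¹) • (g • a) = g • a := fun g u hu => by
    rw [← mul_smul, inv_mul_cancel_right, mul_smul, hu]
  have hTI : ∀ g : G, g ∉ MulAction.stabilizer G a → ∀ u ∈ H, g * u * g⁻¹ ∈ H → u = 1 := by
    intro g hg u hu hgu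
    by_contra h1
    exact hg (hHfix _ hgu (fun h => h1 (by simpa using h)) _ (hfix_conj g u (hHa hu)))
  refine ⟨hTI, le_antisymm (fun g hg => ?_) ?_⟩
  · have h2 : 2 ≤ Nat.card H := by have := zassenhaus_three_le hZ; omega
    have := Finite.one_lt_card_iff_nontrivial.1 h2
    obtain ⟨u, hu⟩ := exists_ne (1 : H)
    by_contra hga
    exact hu (Subtype.ext (hTI g hga u u.2 ((Subgroup.mem_normalizer_iff.1 hg u).1 u.2)))
  obtain ⟨-, h2t, hthree, -, -⟩ := hZ
  have := Fintype.ofFinite G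
  have hpre : ∀ {a b c d : Ω}, a ≠ b → c ≠ d → ∃ g : G, g • a = c ∧ g • b = d :=
    MulAction.is_two_pretransitive_iff.1 h2t
  have hEcard : ∀ c : Ω, c ≠ a → Nat.card ↥(MulAction.stabilizer G a ⊓ MulAction.stabilizer G c) *
      (Fintype.card Ω - 1) = Nat.card (MulAction.stabilizer G a) := by
    intro c hc
    have horb : MulAction.orbit (MulAction.stabilizer G a) c = {x : Ω | x ≠ a} := by
      ext x
      constructor
      · rintro ⟨g, rfl⟩ hx
        have hga : (g : G) • a = a := g.2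
        exact hc (smul_left_cancel (g : G) (hga.symm ▸ hx))
      · intro hx
        obtain ⟨g, hga, hgc⟩ := hpre hc.symm (Ne.symm hx)
        exact ⟨⟨g, hga⟩, hgc⟩
    have hcard := MulAction.index_stabilizer (MulAction.stabilizer G a) c
    rw [horb, ← Nat.card_coe_set_eq, Nat.card_eq_fintype_card (α := {x : Ω | x ≠ a})] at hcard
    have hc1 : Fintype.card {x : Ω | x ≠ a} = Fintype.card Ω - 1 := by
      simp only [Set.coe_setOf]
      rw [Fintype.card_subtype_compl, Fintype.card_subtype_eq]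
    rw [← hc1, ← hcard]
    conv_rhs => rw [← (MulAction.stabilizer (MulAction.stabilizer G a) c).card_mul_index]
    congr 1
    refine Nat.card_congr ⟨fun g => ⟨⟨g, g.2.1⟩, ?_⟩, fun g => ⟨(g.1 : G), g.1.2, ?_⟩,
      fun g => rfl, fun g => rfl⟩
    · exact g.2.2
    · exact g.2
  let O : Finset G :=
    Finset.univ.filter fun g => g • a = a ∧ g ≠ 1 ∧ ∀ c : Ω, g • c = c → c = a
  let T : Finset G :=
    Finset.univ.filter fun g => g • a = a ∧ g ≠ 1 ∧ ∃ c : Ω, c ≠ a ∧ g • c = c
  let Hs : Finset G := Finset.univ.filter fun g => g ∈ H ∧ g ≠ 1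
  have hHO : Hs ⊆ O := fun g hg => by
    simp only [Hs, O, Finset.mem_filter, Finset.mem_univ, true_and] at hg ⊢
    exact ⟨hHa hg.1, hg.2, hHfix g hg.1 hg.2⟩
  have hT : T.card = ∑ c ∈ Finset.univ.erase a,
      (Finset.univ.filter fun g : G => g • a = a ∧ g • c = c ∧ g ≠ 1).card := by
    rw [← Finset.card_biUnion]
    · congr 1
      ext g
      simp only [T, Finset.mem_filter, Finset.mem_univ, true_and, Finset.mem_biUnion,
        Finset.mem_erase, and_true]
      exact ⟨fun ⟨h1, h2, c, h3, h4⟩ => ⟨c, h3, h1, h4, h2⟩,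
        fun ⟨c, h3, h1, h4, h2⟩ => ⟨h1, h2, c, h3, h4⟩⟩
    · intro c hc d hd hne
      rw [Function.onFun, Finset.disjoint_left]
      intro g hg hg'
      simp only [Finset.mem_filter, Finset.mem_univ, true_and] at hg hg'
      exact hg.2.2 (hthree g a c d (Finset.ne_of_mem_erase hc).symm hne
        (Finset.ne_of_mem_erase hd).symm hg.1 hg.2.1 hg'.2.1)
  have hsub : ∀ P : Subgroup G,
      (Finset.univ.filter fun g : G => g ∈ P ∧ g ≠ 1).card + 1 = Nat.card P := fun P => by
    rw [Nat.card_eq_fintype_card, Fintype.card_subtype, ← Finset.filter_filter,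
      Finset.filter_ne', Finset.card_erase_add_one (by simp [P.one_mem])]
  have hS : O.card + T.card + 1 = Nat.card (MulAction.stabilizer G a) := by
    rw [← hsub, ← Finset.card_union_of_disjoint]
    · congr 2
      ext g
      simp only [O, T, Finset.mem_union, Finset.mem_filter, Finset.mem_univ, true_and,
        MulAction.mem_stabilizer_iff]
      constructor
      · rintro (⟨h1, h2, -⟩ | ⟨h1, h2, -⟩) <;> exact ⟨h1, h2⟩
      · rintro ⟨h1, h2⟩
        by_cases h : ∀ c : Ω, g • c = c → c = a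
        · exact Or.inl ⟨h1, h2, h⟩
        · push Not at h
          obtain ⟨c, h3, h4⟩ := h
          exact Or.inr ⟨h1, h2, c, h4, h3⟩
    · rw [Finset.disjoint_left]
      intro g hg hg'
      simp only [O, T, Finset.mem_filter, Finset.mem_univ, true_and] at hg hg'
      obtain ⟨c, hc, hgc⟩ := hg'.2.2
      exact hc (hg.2.2 c hgc)
  have hHs : Hs.card + 1 = Nat.card H := hsub H
  have hO : O.card = Hs.card := by
    have hE : ∀ c ∈ (Finset.univ : Finset Ω).erase a,
        ((Finset.univ.filter fun g : G => g • a = a ∧ g • c = c ∧ g ≠ 1).card + 1) *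
          (Fintype.card Ω - 1) = Nat.card (MulAction.stabilizer G a) := fun c hc => by
      rw [← hEcard c (Finset.ne_of_mem_erase hc), ← hsub]
      congr 3
      ext g
      simp [Subgroup.mem_inf, MulAction.mem_stabilizer_iff, and_assoc]
    have hn := Finset.sum_congr rfl hE
    rw [← Finset.sum_mul, Finset.sum_add_distrib, ← hT, Finset.sum_const, Finset.sum_const,
      Finset.card_erase_of_mem (Finset.mem_univ a), Finset.card_univ, smul_eq_mul, smul_eq_mul,
      mul_one, mul_comm (Fintype.card Ω - 1)] at hn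
    have hpos : 0 < Fintype.card Ω - 1 := by
      have : 0 < Nat.card H := Nat.card_pos
      omega
    have := Nat.eq_of_mul_eq_mul_right hpos hn
    omega
  intro g hg
  refine Subgroup.mem_normalizer_iff.2 fun u => ?_
  have key : ∀ g u : G, g • a = a → u ∈ H → g * u * g⁻¹ ∈ H := by
    intro g u hg hu
    by_cases h1 : u = 1
    · subst h1; simp
    have heq := Finset.eq_of_subset_of_card_le hHO hO.le
    have hm : g * u * g⁻¹ ∈ O := by
      simp only [O, Finset.mem_filter, Finset.mem_univ, true_and]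
      refine ⟨?_, fun h => h1 (by simpa using h), fun c hc => ?_⟩
      · have := hfix_conj g u (hHa hu)
        rwa [hg] at this
      · have h3 : u • (g⁻¹ • c) = g⁻¹ • c := by
          rw [← mul_smul]
          conv_rhs => rw [← hc, ← mul_smul]
          congr 1; group
        have := hHfix u hu h1 _ h3
        rw [inv_smul_eq_iff, hg] at this
        exact this
    rw [← heq] at hm
    simp only [Hs, Finset.mem_filter, Finset.mem_univ, true_and] at hm
    exact hm.1
  refine ⟨key g u hg, fun h => ?_⟩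
  have := key g⁻¹ _ (MulAction.mem_stabilizer_iff.1 (inv_mem hg)) h
  simpa [mul_assoc] using this

theorem zassenhaus_pair_TI [Finite G] [Fintype Ω] (hZ : Cfsg.IsZassenhausGroup G Ω) {a b : Ω}
    (hab : a ≠ b) :
    (∀ g : G, g ∉ Subgroup.normalizer
        ((MulAction.stabilizer G a ⊓ MulAction.stabilizer G b : Subgroup G) : Set G) →
      ∀ x ∈ (MulAction.stabilizer G a ⊓ MulAction.stabilizer G b : Subgroup G),
      g * x * g⁻¹ ∈ (MulAction.stabilizer G a ⊓ MulAction.stabilizer G b : Subgroup G) → x = 1) ∧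
    ((MulAction.stabilizer G a ⊓ MulAction.stabilizer G b : Subgroup G).subgroupOf
      (Subgroup.normalizer
        ((MulAction.stabilizer G a ⊓ MulAction.stabilizer G b : Subgroup G) : Set G))).index = 2 := by
  classical
  obtain ⟨hf, h2t, hthree, ⟨g₀, hg₀, a₀, b₀, hab₀, ha₀, hb₀⟩, -⟩ := hZ
  have hpre : ∀ {a b c d : Ω}, a ≠ b → c ≠ d → ∃ g : G, g • a = c ∧ g • b = d :=
    MulAction.is_two_pretransitive_iff.1 h2t
  set E := (MulAction.stabilizer G a ⊓ MulAction.stabilizer G b : Subgroup G) with hE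
  obtain ⟨x₀, hx₀, hx₀1⟩ : ∃ x ∈ E, x ≠ 1 := by
    obtain ⟨g, hga, hgb⟩ := hpre hab₀ hab
    refine ⟨g * g₀ * g⁻¹, ⟨?_, ?_⟩, fun h => hg₀ (by simpa using h)⟩
    · change (g * g₀ * g⁻¹) • a = a
      rw [← hga, ← mul_smul, inv_mul_cancel_right, mul_smul, ha₀]
    · change (g * g₀ * g⁻¹) • b = b
      rw [← hgb, ← mul_smul, inv_mul_cancel_right, mul_smul, hb₀]
  have hset : ∀ g x : G, x ∈ E → x ≠ 1 → g * x * g⁻¹ ∈ E →
      (g • a = a ∧ g • b = b) ∨ (g • a = b ∧ g • b = a) := by
    intro g x hx hx1 hgx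
    have hne : g * x * g⁻¹ ≠ 1 := fun h => hx1 (by simpa using h)
    have h1 : ∀ c : Ω, x • c = c → (g * x * g⁻¹) • (g • c) = g • c := fun c hc => by
      rw [← mul_smul, inv_mul_cancel_right, mul_smul, hc]
    have h2 : ∀ c : Ω, (g * x * g⁻¹) • c = c → c = a ∨ c = b := fun c hc => by
      by_contra! h
      exact hne (hthree _ a b c hab h.2.symm h.1.symm hgx.1 hgx.2 hc)
    rcases h2 _ (h1 a hx.1) with h | h <;> rcases h2 _ (h1 b hx.2) with h' | h'
    · exact absurd (smul_left_cancel g (h.trans h'.symm)) hab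
    · exact Or.inl ⟨h, h'⟩
    · exact Or.inr ⟨h, h'⟩
    · exact absurd (smul_left_cancel g (h.trans h'.symm)) hab
  have hN : ∀ g : G, (g • a = a ∧ g • b = b) ∨ (g • a = b ∧ g • b = a) →
      g ∈ Subgroup.normalizer (E : Set G) := by
    intro g hg
    have hg' : (g⁻¹ • a = a ∧ g⁻¹ • b = b) ∨ (g⁻¹ • a = b ∧ g⁻¹ • b = a) := by
      simp only [inv_smul_eq_iff]
      rcases hg with ⟨h1, h2⟩ | ⟨h1, h2⟩
      · exact Or.inl ⟨h1.symm, h2.symm⟩
      · exact Or.inr ⟨h2.symm, h1.symm⟩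
    have key : ∀ g x : G, ((g⁻¹ • a = a ∧ g⁻¹ • b = b) ∨ (g⁻¹ • a = b ∧ g⁻¹ • b = a)) →
        x ∈ E → g * x * g⁻¹ ∈ E := by
      intro g x hg hx
      have h1 : ∀ c d : Ω, g⁻¹ • c = d → x • d = d → (g * x * g⁻¹) • c = c := fun c d h h' => by
        rw [mul_smul, mul_smul, h, h', ← h, smul_inv_smul]
      rcases hg with ⟨u1, u2⟩ | ⟨u1, u2⟩
      · exact ⟨h1 a a u1 hx.1, h1 b b u2 hx.2⟩
      · exact ⟨h1 a b u1 hx.2, h1 b a u2 hx.1⟩
    refine Subgroup.mem_normalizer_iff.2 fun x => ⟨key g x hg', fun hx => ?_⟩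
    have := key g⁻¹ _ (by rwa [inv_inv]) hx
    simpa [mul_assoc] using this
  refine ⟨fun g hg x hx hgx => ?_, ?_⟩
  · by_contra h1
    exact hg (hN g (hset g x hx h1 hgx))
  obtain ⟨s, hsa, hsb⟩ := hpre hab hab.symm
  rw [Subgroup.index_eq_two_iff]
  refine ⟨⟨s, hN s (Or.inr ⟨hsa, hsb⟩)⟩, fun n => ?_⟩
  have hn := hset n x₀ hx₀ hx₀1 ((Subgroup.mem_normalizer_iff.1 n.2 x₀).1 hx₀)
  simp only [Subgroup.mem_subgroupOf, Subgroup.coe_mul]
  rcases hn with ⟨h1, h2⟩ | ⟨h1, h2⟩
  · refine Or.inr ⟨⟨h1, h2⟩, fun h => hab ?_⟩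
    have h3 : ((n : G) * s) • a = a := h.1
    rw [mul_smul, hsa, h2] at h3
    exact h3.symm
  · refine Or.inl ⟨⟨?_, ?_⟩, fun h => hab ?_⟩
    · change ((n : G) * s) • a = a; rw [mul_smul, hsa, h2]
    · change ((n : G) * s) • b = b; rw [mul_smul, hsb, h1]
    · have h3 : (n : G) • a = a := h.1
      exact h3.symm.trans h1

end CfsgLib.Char
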