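import Cfsg.Agent.Char.Zassenhaus
import Cfsg.Agent.Zass.Basic
import Cfsg.Agent.Zass.PairStabilizer
import Cfsg.Agent.Zass.OddPair
import Mathlib

/-!
# Counting in Zassenhaus groups with two-point stabilisers of odd order
-/

set_option autoImplicit false
set_option linter.style.haveILetI false

namespace CfsgLib.Char

open MulAction

variable {G Ω : Type*} [Group G] [MulAction G Ω]

theorem zass_card_fixedBy_le [Fintype Ω] [DecidableEq Ω] (hZ : Cfsg.IsZassenhausGroup G Ω) {g : G}
    (hg : g ≠ 1) : (Finset.univ.filter fun c : Ω => g • c = c).card ≤ 2 := by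
  by_contra h
  obtain ⟨x, hx, y, hy, z, hz, hxy, hxz, hyz⟩ := Finset.two_lt_card.1 (not_le.1 h)
  simp only [Finset.mem_filter, Finset.mem_univ, true_and] at hx hy hz
  exact hg (hZ.2.2.1 g x y z hxy hyz hxz hx hy hz)

theorem zass_one_lt_card_pair [Finite G] (hZ : Cfsg.IsZassenhausGroup G Ω) {a b : Ω} (hab : a ≠ b) :
    1 < Nat.card ↥(stabilizer G a ⊓ stabilizer G b) := by
  obtain ⟨g, hg, hga, hgb⟩ := CfsgLib.Zass.fix_two hZ hab
  haveI : Nontrivial ↥(stabilizer G a ⊓ stabilizer G b) :=
    ⟨⟨⟨g, hga, hgb⟩, 1, fun h => hg (congrArg Subtype.val h)⟩⟩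
  exact Finite.one_lt_card

theorem zass_three_le_pair [Finite G] (hZ : Cfsg.IsZassenhausGroup G Ω) {a b : Ω} (hab : a ≠ b)
    (hodd : Odd (Nat.card ↥(stabilizer G a ⊓ stabilizer G b))) :
    3 ≤ Nat.card ↥(stabilizer G a ⊓ stabilizer G b) := by
  have := zass_one_lt_card_pair hZ hab
  obtain ⟨j, hj⟩ := hodd
  omega

theorem zass_card_group [Finite G] [Fintype Ω] (hZ : Cfsg.IsZassenhausGroup G Ω) {a b : Ω}
    (hab : a ≠ b) :
    Nat.card G =
      Fintype.card Ω * ((Fintype.card Ω - 1) * Nat.card ↥(stabilizer G a ⊓ stabilizer G b)) := by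
  rw [← (stabilizer G a ⊓ stabilizer G b).card_mul_index, CfsgLib.Zass.index_pair hZ hab]
  ring

theorem zass_card_stab [Finite G] [Fintype Ω] (hZ : Cfsg.IsZassenhausGroup G Ω) {a b : Ω}
    (hab : a ≠ b) :
    Nat.card (stabilizer G a) =
      (Fintype.card Ω - 1) * Nat.card ↥(stabilizer G a ⊓ stabilizer G b) := by
  haveI : IsPretransitive G Ω := ⟨fun p q => by
    obtain ⟨c, hc⟩ := Fintype.exists_ne_of_one_lt_card (by have := zassenhaus_three_le hZ; omega) p
    obtain ⟨d, hd⟩ := Fintype.exists_ne_of_one_lt_card (by have := zassenhaus_three_le hZ; omega) q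
    obtain ⟨g, hg, -⟩ := CfsgLib.Zass.two_trans hZ hc.symm hd.symm
    exact ⟨g, hg⟩⟩
  have h := (stabilizer G a).card_mul_index
  rw [index_stabilizer_of_transitive, Nat.card_eq_fintype_card (α := Ω), zass_card_group hZ hab,
    mul_comm] at h
  exact Nat.eq_of_mul_eq_mul_left (by have := zassenhaus_three_le hZ; omega) h

/-- Twice the number of elements without fixed points. -/
theorem zass_two_mul_fpf [Fintype G] [Fintype Ω] [DecidableEq Ω]
    (hZ : Cfsg.IsZassenhausGroup G Ω) {a b : Ω} (hab : a ≠ b) :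
    2 * (Finset.univ.filter fun g : G => ∀ c : Ω, g • c ≠ c).card +
        (Fintype.card Ω - 1) * (Fintype.card Ω - 2) = Nat.card G := by
  classical
  have hn3 := zassenhaus_three_le hZ
  set n := Fintype.card Ω with hn
  set e := Nat.card ↥(stabilizer G a ⊓ stabilizer G b) with he
  let fx : G → ℕ := fun g => (Finset.univ.filter fun c : Ω => g • c = c).card
  have hs1 : ∑ g : G, fx g = n * ((n - 1) * e) := by
    simp only [fx, Finset.card_filter]
    rw [Finset.sum_comm, Finset.sum_congr rfl (g := fun _ : Ω => (n - 1) * e), Finset.sum_const,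
      Finset.card_univ, smul_eq_mul, hn]
    intro c _
    rw [← Finset.card_filter, ← Fintype.card_subtype, ← Nat.card_eq_fintype_card]
    obtain ⟨d, hd⟩ := Fintype.exists_ne_of_one_lt_card (by omega) c
    rw [he, ← CfsgLib.Zass.card_pair hZ hab hd.symm, ← zass_card_stab hZ hd.symm]
    exact Nat.card_congr (Equiv.refl _)
  have hs2 : ∑ g : G, fx g * fx g = n * ((n - 1) * e) + n * ((n - 1) * e) := by
    have hsplit : ∀ g : G, fx g * fx g = ∑ c : Ω, ∑ d : Ω, if g • c = c ∧ g • d = d then 1 else 0 := by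
      intro g
      simp only [fx, Finset.card_filter, Finset.sum_mul_sum]
      refine Finset.sum_congr rfl fun c _ => Finset.sum_congr rfl fun d _ => ?_
      by_cases h1 : g • c = c <;> by_cases h2 : g • d = d <;> simp [h1, h2]
    simp only [hsplit]
    rw [Finset.sum_comm, Finset.sum_congr rfl (g := fun _ : Ω => (n - 1) * e + (n - 1) * e),
      Finset.sum_const, Finset.card_univ, smul_eq_mul, ← hn]
    · ring
    intro c _
    rw [Finset.sum_comm, ← Finset.add_sum_erase _ _ (Finset.mem_univ c)]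
    congr 1
    · rw [← Finset.card_filter, ← Fintype.card_subtype, ← Nat.card_eq_fintype_card]
      obtain ⟨d, hd⟩ := Fintype.exists_ne_of_one_lt_card (by omega) c
      rw [he, ← CfsgLib.Zass.card_pair hZ hab hd.symm, ← zass_card_stab hZ hd.symm]
      exact Nat.card_congr (Equiv.subtypeEquivRight fun g => and_self_iff)
    · rw [Finset.sum_congr rfl (g := fun _ : Ω => e), Finset.sum_const,
        Finset.card_erase_of_mem (Finset.mem_univ c), Finset.card_univ, smul_eq_mul, ← hn]
      intro d hd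
      rw [← Finset.card_filter, ← Fintype.card_subtype, ← Nat.card_eq_fintype_card, he,
        ← CfsgLib.Zass.card_pair hZ hab (Finset.ne_of_mem_erase hd).symm]
      exact Nat.card_congr (Equiv.subtypeEquivRight fun g => Iff.rfl)
  have hkey : ∀ g : G, fx g * fx g + 2 = 3 * fx g +
      ((if g = 1 then (n - 1) * (n - 2) else 0) + (if ∀ c : Ω, g • c ≠ c then 2 else 0)) := by
    intro g
    rcases eq_or_ne g 1 with rfl | hg
    · have h1 : fx 1 = n := by simp [fx, hn]
      haveI : Nonempty Ω := ⟨a⟩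
      rw [h1, if_pos rfl, if_neg (fun h => h a (one_smul G a))]
      obtain ⟨m, hm⟩ : ∃ m, n = m + 3 := ⟨n - 3, by omega⟩
      rw [hm, show m + 3 - 1 = m + 2 by omega, show m + 3 - 2 = m + 1 by omega]
      ring
    · rw [if_neg hg, zero_add]
      have h2 : fx g ≤ 2 := zass_card_fixedBy_le hZ hg
      by_cases hf : ∀ c : Ω, g • c ≠ c
      · have : fx g = 0 := Finset.card_eq_zero.2 (Finset.filter_eq_empty_iff.2 fun c _ => hf c)
        rw [if_pos hf, this]
      · have : fx g ≠ 0 := fun h0 => hf fun c hc =>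
          (Finset.filter_eq_empty_iff.1 (Finset.card_eq_zero.1 h0) (Finset.mem_univ c)) hc
        rw [if_neg hf]
        rcases (show fx g = 1 ∨ fx g = 2 by omega) with h | h <;> rw [h]
  have hsum := Finset.sum_congr rfl (s₁ := Finset.univ) fun g _ => hkey g
  rw [Finset.sum_add_distrib, Finset.sum_add_distrib, Finset.sum_add_distrib, ← Finset.mul_sum,
    hs1, hs2, Finset.sum_const, smul_eq_mul, Finset.card_univ, Finset.sum_ite_eq' Finset.univ,
    if_pos (Finset.mem_univ _), ← Finset.sum_filter, Finset.sum_const, smul_eq_mul] at hsum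
  rw [← Nat.card_eq_fintype_card] at hsum
  have hG := zass_card_group hZ hab
  rw [← hn, ← he] at hG
  linarith

/-- In a simple group the two-point stabiliser is cyclic, self-centralising, and inverted by
every element interchanging the two points. -/
theorem zass_simple_pair [Finite G] [Fintype Ω] [IsSimpleGroup G]
    (hZ : Cfsg.IsZassenhausGroup G Ω) {a b : Ω} (hab : a ≠ b)
    (hodd : Odd (Nat.card ↥(stabilizer G a ⊓ stabilizer G b))) :
    IsCyclic ↥(stabilizer G a ⊓ stabilizer G b) ∧
      Subgroup.centralizer ((stabilizer G a ⊓ stabilizer G b : Subgroup G) : Set G) =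
        stabilizer G a ⊓ stabilizer G b ∧
      ∀ s : G, s • a = b → s • b = a → ∀ h ∈ stabilizer G a ⊓ stabilizer G b,
        s * h * s⁻¹ = h⁻¹ := by
  refine CfsgLib.Zass.odd_pair hZ hab hodd fun q hq hqd => ?_
  rintro ⟨N, hN, hidx⟩
  have hn3 := zassenhaus_three_le hZ
  have hG := zass_card_group hZ hab
  have hqG : q ∣ Nat.card G := hqd.trans (Subgroup.card_subgroup_dvd_card _)
  rcases hN.eq_bot_or_eq_top with h | h
  · subst h
    rw [Subgroup.index_bot] at hidx
    obtain ⟨j, hj⟩ := hodd
    have hq2 : q ≠ 2 := by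
      rintro rfl
      obtain ⟨i, hi⟩ := hqd
      omega
    have h2 : 2 ∣ Nat.card G := by
      rw [hG]
      rcases Nat.even_or_odd (Fintype.card Ω) with h | h
      · exact dvd_mul_of_dvd_left h.two_dvd _
      · obtain ⟨i, hi⟩ := h
        exact dvd_mul_of_dvd_right (dvd_mul_of_dvd_left ⟨i, by omega⟩ _) _
    rw [hidx] at h2
    exact hq2 ((Nat.prime_dvd_prime_iff_eq Nat.prime_two hq).1
      (Nat.prime_two.dvd_of_dvd_pow h2)).symm
  · subst h
    rw [Subgroup.index_top] at hidx
    have hpos : 0 < (Nat.card G).factorization q :=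
      hq.factorization_pos_of_dvd Nat.card_pos.ne' hqG
    exact absurd hidx.symm (Nat.one_lt_pow hpos.ne' hq.one_lt).ne'

/-- With odd two-point stabilisers of order less than `n - 2` the elements without fixed points
do not form a single conjugacy class. -/
theorem zass_two_fpf_classes [Finite G] [Fintype Ω] (hZ : Cfsg.IsZassenhausGroup G Ω) {a b : Ω}
    (hab : a ≠ b) (hodd : Odd (Nat.card ↥(stabilizer G a ⊓ stabilizer G b))) :
    ∃ x y : G, (∀ c : Ω, x • c ≠ c) ∧ (∀ c : Ω, y • c ≠ c) ∧ ¬ IsConj x y := by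
  classical
  haveI := Fintype.ofFinite G
  have hn3 := zassenhaus_three_le hZ
  have he3 := zass_three_le_pair hZ hab hodd
  have hcount := zass_two_mul_fpf hZ hab
  have hG := zass_card_group hZ hab
  set e := Nat.card ↥(stabilizer G a ⊓ stabilizer G b) with he
  set F := (Finset.univ.filter fun g : G => ∀ c : Ω, g • c ≠ c) with hF
  obtain ⟨r, hr⟩ := hodd
  obtain ⟨m, hm⟩ : ∃ m, Fintype.card Ω = m + 3 := ⟨Fintype.card Ω - 3, by omega⟩
  rw [hm, show m + 3 - 1 = m + 2 by omega, show m + 3 - 2 = m + 1 by omega] at hcount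
  rw [hm, show m + 3 - 1 = m + 2 by omega] at hG
  have hFc : F.card = (m + 2) * ((m + 3) * r + 1) := by
    have : 2 * F.card + (m + 2) * (m + 1) =
        2 * ((m + 2) * ((m + 3) * r + 1)) + (m + 2) * (m + 1) := by
      rw [hcount, hG, hr]; ring
    omega
  obtain ⟨x, hx⟩ : ∃ x, x ∈ F := Finset.card_pos.1 (by rw [hFc]; positivity)
  simp only [hF, Finset.mem_filter, Finset.mem_univ, true_and] at hx
  by_contra hne
  push Not at hne
  have hcl : F = Finset.univ.filter fun y => IsConj x y := by
    ext y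
    simp only [hF, Finset.mem_filter, Finset.mem_univ, true_and]
    refine ⟨fun hy => hne x y hx hy, fun hy c hc => ?_⟩
    obtain ⟨g, rfl⟩ := isConj_iff.1 hy
    rw [mul_smul, mul_smul] at hc
    exact hx _ (eq_inv_smul_iff.2 hc)
  have hdvd : F.card ∣ Nat.card G := by
    refine ⟨Nat.card (stabilizer (ConjAct G) x), ?_⟩
    rw [← Nat.card_congr (ConjAct.toConjAct (G := G)).toEquiv.symm,
      ← (stabilizer (ConjAct G) x).card_mul_index, index_stabilizer, mul_comm]
    congr 1
    rw [hcl, ← Fintype.card_subtype, ← Nat.card_eq_fintype_card]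
    refine Nat.card_congr (Equiv.subtypeEquivRight fun y => ?_)
    rw [ConjAct.mem_orbit_conjAct]
    exact isConj_comm
  rw [hFc, hG, show (m + 3) * ((m + 2) * e) = (m + 2) * ((m + 3) * e) by ring,
    Nat.mul_dvd_mul_iff_left (by omega)] at hdvd
  have hcop : Nat.Coprime ((m + 3) * r + 1) (m + 3) := by
    rw [Nat.coprime_mul_left_add_left]
    exact Nat.coprime_one_left _
  have hle := Nat.le_of_dvd (by omega) (hcop.dvd_of_dvd_mul_left hdvd)
  rw [hr] at hle
  nlinarith

end CfsgLib.Char
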