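import Cfsg.Agent.Char.Orthogonality
import Cfsg.Agent.Char.Kernel
import Mathlib.GroupTheory.QuotientGroup.Basic

/-!
# Inflation from a quotient and vanishing off centralised elements
-/

namespace CfsgLib.Char

open scoped ComplexConjugate

universe u

variable {G : Type u} [Group G] [Finite G] (H : Subgroup G) [H.Normal]

/-- The inflation of functions on the quotient. -/
def inflate (ψ : G ⧸ H → ℂ) : G → ℂ := fun g => ψ (g : G ⧸ H)

omit [Finite G] in
theorem inflate_injective : Function.Injective (inflate H) := fun _ _ h =>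
  funext fun q => QuotientGroup.induction_on q (congrFun h)

omit [Finite G] in
theorem IsIrrCharacter.inflate {ψ : G ⧸ H → ℂ} (hψ : Cfsg.IsIrrCharacter (G ⧸ H) ψ) :
    Cfsg.IsIrrCharacter G (inflate H ψ) :=
  IsIrrCharacter.comp_surjective hψ (QuotientGroup.mk' H) (QuotientGroup.mk'_surjective H)

omit [Finite G] in
theorem inflate_apply_mem (ψ : G ⧸ H → ℂ) {h : G} (hh : h ∈ H) :
    inflate H ψ h = inflate H ψ 1 := by
  simp [CfsgLib.Char.inflate, (QuotientGroup.eq_one_iff h).2 hh]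

/-- If `g` centralises no nonidentity element of the normal subgroup `H`, the characters whose
kernel does not contain `H` vanish at `g`. -/
theorem IsIrrCharacter.apply_eq_zero_of_not_centralized {χ : G → ℂ}
    (hχ : Cfsg.IsIrrCharacter G χ) (hker : ∃ h ∈ H, χ h ≠ χ 1) {g : G}
    (hg : ∀ h ∈ H, h * g = g * h → h = 1) : χ g = 0 := by
  classical
  set S := (irrFinset (G ⧸ H)).image (CfsgLib.Char.inflate H)
  have hS : S ⊆ irrFinset G := fun θ hθ => by
    obtain ⟨ψ, hψ, rfl⟩ := Finset.mem_image.1 hθ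
    exact mem_irrFinset.2 (IsIrrCharacter.inflate H (mem_irrFinset.1 hψ))
  have hχS : χ ∉ S := fun hm => by
    obtain ⟨ψ, -, rfl⟩ := Finset.mem_image.1 hm
    obtain ⟨h, hh, hne⟩ := hker
    exact hne (inflate_apply_mem H ψ hh)
  have hle : Nat.card (Subgroup.centralizer ({g} : Set G)) ≤
      Nat.card (Subgroup.centralizer ({(g : G ⧸ H)} : Set (G ⧸ H))) := by
    refine Nat.card_le_card_of_injective (fun c => ⟨((c : G) : G ⧸ H), ?_⟩) fun a b hab => ?_
    · rw [Subgroup.mem_centralizer_singleton_iff, ← QuotientGroup.mk_mul, ← QuotientGroup.mk_mul,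
        Subgroup.mem_centralizer_singleton_iff.1 c.2]
    · have h1 : (a : G)⁻¹ * b ∈ H := QuotientGroup.eq.1 (congrArg Subtype.val hab)
      have ha := Subgroup.mem_centralizer_singleton_iff.1 a.2
      have hb := Subgroup.mem_centralizer_singleton_iff.1 b.2
      refine Subtype.ext (inv_mul_eq_one.1 (hg _ h1 ?_))
      calc (a : G)⁻¹ * b * g = (a : G)⁻¹ * (g * b) := by rw [mul_assoc, hb]
        _ = (a : G)⁻¹ * (g * a) * ((a : G)⁻¹ * b) := by group
        _ = g * ((a : G)⁻¹ * b) := by rw [← ha]; group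
  have hsum : ∀ (L : Type u) [Group L] [Finite L] (x : L),
      ∑ θ ∈ irrFinset L, ‖θ x‖ ^ 2 = (Nat.card (Subgroup.centralizer ({x} : Set L)) : ℝ) := by
    intro L _ _ x
    have := sum_irr_mul_conj x x
    rw [if_pos (IsConj.refl x)] at this
    simp only [Complex.mul_conj'] at this
    exact_mod_cast this
  have hSsum : ∑ θ ∈ S, ‖θ g‖ ^ 2 =
      (Nat.card (Subgroup.centralizer ({(g : G ⧸ H)} : Set (G ⧸ H))) : ℝ) := by
    rw [Finset.sum_image (fun a _ b _ h => inflate_injective H h), ← hsum (G ⧸ H) g]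
    rfl
  have h := hsum G g
  rw [← Finset.sum_sdiff hS, hSsum] at h
  have hle' : ∑ θ ∈ irrFinset G \ S, ‖θ g‖ ^ 2 ≤ 0 := by
    have : (Nat.card (Subgroup.centralizer ({g} : Set G)) : ℝ) ≤
      (Nat.card (Subgroup.centralizer ({(g : G ⧸ H)} : Set (G ⧸ H))) : ℝ) := by exact_mod_cast hle
    linarith
  have h0 := (Finset.sum_eq_zero_iff_of_nonneg fun θ _ => sq_nonneg ‖θ g‖).1
    (le_antisymm hle' (Finset.sum_nonneg fun θ _ => sq_nonneg _)) χ
    (Finset.mem_sdiff.2 ⟨mem_irrFinset.2 hχ, hχS⟩)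
  exact norm_eq_zero.1 (pow_eq_zero_iff (two_ne_zero) |>.1 h0)

end CfsgLib.Char
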