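import Cfsg.Agent.Char.DegreeRatio
import Cfsg.Agent.Char.AlgInt
import Cfsg.Agent.BlocksB.ClassSum
import Cfsg.Agent.Blocks.Principal
import Mathlib.GroupTheory.Nilpotent
import Cfsg.Prelude.Def_Transfer

/-!
# Irreducible characters which are nonzero on exactly two conjugacy classes
-/

set_option autoImplicit false
set_option linter.style.haveILetI false

namespace CfsgLib.Char.TwoClass

open scoped ComplexConjugate

universe u

variable {G : Type u} [Group G]

/-- An irreducible character trivial on a normal subgroup comes from the quotient. -/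
theorem exists_deflate [Finite G] {N : Subgroup G} [N.Normal] {ψ : G → ℂ} (hψ : Cfsg.IsIrrCharacter G ψ)
    (h : ∀ y ∈ N, ψ y = ψ 1) :
    ∃ σ : G ⧸ N → ℂ, Cfsg.IsIrrCharacter (G ⧸ N) σ ∧ ψ = fun g : G => σ (g : G ⧸ N) := by
  obtain ⟨n, ρ, hρ, hρψ⟩ := hψ
  have hker : N ≤ ρ.ker := fun g hg =>
    apply_eq_one_of_character_eq ρ (by rw [hρψ, h g hg, ← ρ.char_one, hρψ])
  let σ : Representation ℂ (G ⧸ N) (Fin n → ℂ) := QuotientGroup.lift N ρ hker
  have hσ : σ.comp (QuotientGroup.mk' N) = ρ := MonoidHom.ext fun g => rfl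
  exact ⟨σ.character, ⟨n, σ, Block.isIrreducible_of_comp (QuotientGroup.mk' N)
    (QuotientGroup.mk'_surjective N) σ (by rw [hσ]; exact hρ), rfl⟩, hρψ ▸ rfl⟩

/-- The average of a character over a coset of a subgroup by a central element is an algebraic
integer. -/
theorem isIntegral_average [Fintype G] {χ : G → ℂ} (hχ : Cfsg.IsCharacter G χ) {x : G}
    (hx : x ∈ Subgroup.center G) (Q : Subgroup G) [Fintype Q] :
    IsIntegral ℤ ((Nat.card Q : ℂ)⁻¹ * ∑ y : Q, χ (x * y)) := by
  classical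
  have hcent : ∀ g : G, g * x = x * g := Subgroup.mem_center_iff.1 hx
  have hterm : ∀ φ ∈ irrFinset G,
      IsIntegral ℤ ((Nat.card Q : ℂ)⁻¹ * ∑ y : Q, φ (x * y)) := by
    intro φ hφ
    have hφ' := mem_irrFinset.1 hφ
    let δ : G → ℂ := fun g => if g = x then 1 else 0
    have hδ : Cfsg.IsClassFunction G δ := fun g h => by
      refine if_congr ⟨fun e => ?_, fun e => ?_⟩ rfl rfl
      · have : g = h⁻¹ * x * h := by rw [← e]; group
        rw [this, mul_assoc, ← hcent, inv_mul_cancel_left]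
      · rw [e, hcent, mul_inv_cancel_right]
    obtain ⟨c, hc1, hc⟩ := BlocksB.exists_scalar hφ' hδ
    have hc' : ∀ y, φ (x * y) = c * φ y := fun y => by
      rw [← hc y, Finset.sum_eq_single x] <;> simp +contextual [δ]
    have hcint : IsIntegral ℤ c := by
      have hi := BlocksB.isIntegral_centralChar hφ' x
      have h1 : Subgroup.centralizer ({x} : Set G) = ⊤ := by
        rw [eq_top_iff]
        intro g _
        exact Subgroup.mem_centralizer_singleton_iff.2 (hcent g)
      rw [Cfsg.centralChar, h1, Subgroup.index_top, Nat.cast_one, one_mul] at hi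
      have h2 := hc' 1
      rw [mul_one] at h2
      rwa [h2, mul_div_cancel_right₀ _ (IsIrrCharacter.apply_one_ne_zero hφ')] at hi
    simp only [hc', ← Finset.mul_sum]
    rw [mul_left_comm]
    refine hcint.mul ?_
    obtain ⟨n, hn⟩ := IsCharacter.exists_classInner_eq_natCast'
      (IsCharacter.restrict (IsIrrCharacter.isCharacter hφ') Q) (isCharacter_one (G := Q))
    simp only [classInner_def, map_one, mul_one] at hn
    rw [hn]
    exact map_natCast (algebraMap ℤ ℂ) n ▸ isIntegral_algebraMap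
  have hexp := eq_sum_irr (IsCharacter.isClassFunction hχ)
  have : (Nat.card Q : ℂ)⁻¹ * ∑ y : Q, χ (x * y) = ∑ φ ∈ irrFinset G,
      Cfsg.classInner χ φ * ((Nat.card Q : ℂ)⁻¹ * ∑ y : Q, φ (x * y)) := by
    simp only [Finset.mul_sum]
    rw [Finset.sum_comm]
    refine Finset.sum_congr rfl fun y _ => ?_
    conv_lhs => rw [hexp]
    rw [Finset.sum_apply, Finset.mul_sum]
    exact Finset.sum_congr rfl fun φ _ => by rw [Pi.smul_apply, smul_eq_mul]; ring
  rw [this]
  refine IsIntegral.sum _ fun φ hφ => ?_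
  obtain ⟨n, hn⟩ := IsCharacter.exists_classInner_eq_natCast hχ (mem_irrFinset.1 hφ)
  rw [hn]
  exact (map_natCast (algebraMap ℤ ℂ) n ▸ isIntegral_algebraMap).mul (hterm φ hφ)

/-- The data attached to a character which is nonzero on exactly two classes. -/
structure Data (χ : G → ℂ) (N : Subgroup G) (x : G) (m : ℕ) : Prop where
  normal : N.Normal
  mem : ∀ g : G, g ∈ N ↔ χ g ≠ 0
  x_mem : x ∈ N
  x_ne : x ≠ 1
  isConj : ∀ y ∈ N, y ≠ 1 → IsConj x y
  val : ∀ y ∈ N, y ≠ 1 → χ y = -(m : ℂ)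
  pos : 0 < m
  deg : χ 1 = ((m * (Nat.card N - 1) : ℕ) : ℂ)
  card : Nat.card G = m * m * Nat.card N * (Nat.card N - 1)
  trivialOn : ∀ ψ : G → ℂ, Cfsg.IsIrrCharacter G ψ → ψ ≠ χ → ∀ y ∈ N, ψ y = ψ 1
  faithful : ∀ g : G, χ g = χ 1 → g = 1
  minimal : ∀ K : Subgroup G, K.Normal → K ≠ ⊥ → N ≤ K

theorem exists_other_class [Finite G] (χ : Cfsg.IrrCharacter G)
    (hχ : Nat.card {C : ConjClasses G // ∃ g ∈ C.carrier, (χ : G → ℂ) g ≠ 0} = 2) :
    ∃ x : G, x ≠ 1 ∧ (χ : G → ℂ) x ≠ 0 ∧
      ∀ g : G, (χ : G → ℂ) g ≠ 0 → g ≠ 1 → IsConj x g := by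
  classical
  let one : {C : ConjClasses G // ∃ g ∈ C.carrier, (χ : G → ℂ) g ≠ 0} :=
    ⟨ConjClasses.mk 1, 1, ConjClasses.mem_carrier_mk, IsIrrCharacter.apply_one_ne_zero χ.2⟩
  obtain ⟨⟨C, x, hxC, hx⟩, hne, huniq⟩ := (Nat.card_eq_two_iff' one).1 hχ
  rw [ConjClasses.mem_carrier_iff_mk_eq] at hxC
  refine ⟨x, fun h => hne (Subtype.ext (show C = ConjClasses.mk 1 from hxC ▸ h ▸ rfl)), hx, fun g hg hg1 => ?_⟩
  have hne' : (⟨ConjClasses.mk g, g, ConjClasses.mem_carrier_mk, hg⟩ :
      {C : ConjClasses G // ∃ g ∈ C.carrier, (χ : G → ℂ) g ≠ 0}) ≠ one := fun h => hg1 <| by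
    have := congrArg Subtype.val h
    exact isConj_one_right.1 (ConjClasses.mk_eq_mk_iff_isConj.1 this).symm
  have := congrArg Subtype.val (huniq _ hne')
  simp only at this
  rw [← hxC] at this
  exact (ConjClasses.mk_eq_mk_iff_isConj.1 this).symm

theorem exists_data [Finite G] (hG : 2 < Nat.card G) (χ : Cfsg.IrrCharacter G)
    (hχ : Nat.card {C : ConjClasses G // ∃ g ∈ C.carrier, (χ : G → ℂ) g ≠ 0} = 2) :
    ∃ (N : Subgroup G) (x : G) (m : ℕ), Data (χ : G → ℂ) N x m := by
  classical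
  haveI := Fintype.ofFinite G
  obtain ⟨x, hx1, hx0, hclass⟩ := exists_other_class χ hχ
  obtain ⟨f, hf⟩ : ∃ f, f = (χ : G → ℂ) := ⟨_, rfl⟩
  have hirr : Cfsg.IsIrrCharacter G f := hf ▸ χ.2
  rw [← hf] at hx0 hclass ⊢
  clear hf hχ χ
  obtain ⟨hd, hdpos⟩ := BlocksB.charDegree_spec hirr
  obtain ⟨d, rfl⟩ : ∃ d, Cfsg.charDegree f = d := ⟨_, rfl⟩
  obtain ⟨k, hk⟩ : ∃ k, Nat.card {y : G // IsConj x y} = k := ⟨_, rfl⟩
  have hk0 : 0 < k := by
    haveI : Nonempty {y : G // IsConj x y} := ⟨⟨x, IsConj.refl x⟩⟩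
    exact hk ▸ Nat.card_pos
  have hkdvd : k ∣ Nat.card G := ⟨_, (hk ▸ card_conj_class_mul_card_centralizer x).symm⟩
  -- sums against class functions
  have hsum : ∀ φ : G → ℂ, Cfsg.IsClassFunction G φ →
      ∑ g, f g * conj (φ g) = f 1 * conj (φ 1) + (k : ℂ) * (f x * conj (φ x)) := by
    intro φ hφ
    rw [← Finset.sum_subset (Finset.subset_univ
      (insert 1 (Finset.univ.filter fun y => IsConj x y))) (fun g _ hg => ?_),
      Finset.sum_insert (by simpa using hx1),
      Finset.sum_congr rfl fun g hg => by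
        rw [← IsClassFunction.apply_eq_of_isConj (IsIrrCharacter.isClassFunction hirr)
          (Finset.mem_filter.1 hg).2,
          ← IsClassFunction.apply_eq_of_isConj hφ (Finset.mem_filter.1 hg).2]]
    · rw [Finset.sum_const, nsmul_eq_mul, ← hk, Nat.card_eq_fintype_card, Fintype.card_subtype]
    · by_contra h0
      simp only [Finset.mem_insert, Finset.mem_filter, Finset.mem_univ, true_and, not_or] at hg
      exact hg.2 (hclass g (left_ne_zero_of_mul h0) hg.1)
  have hone : f ≠ fun _ => 1 := by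
    intro h1
    have hall : ∀ g : G, g ≠ 1 → IsConj x g := fun g hg => hclass g (by simp [h1]) hg
    have hkG : k + 1 = Nat.card G := by
      rw [← hk, Nat.card_eq_fintype_card, Nat.card_eq_fintype_card, Fintype.card_subtype,
        ← Finset.card_insert_of_notMem (a := (1 : G))
          (by simpa using hx1)]
      refine Eq.trans ?_ Finset.card_univ
      congr 1
      rw [Finset.eq_univ_iff_forall]
      intro g
      simp only [Finset.mem_insert, Finset.mem_filter, Finset.mem_univ, true_and]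
      exact or_iff_not_imp_left.2 (hall g)
    rw [← hkG] at hkdvd hG
    have := Nat.le_of_dvd one_pos ((Nat.dvd_add_right dvd_rfl).1 hkdvd)
    omega
  have horth : ∀ φ : G → ℂ, Cfsg.IsIrrCharacter G φ →
      f 1 * conj (φ 1) + (k : ℂ) * (f x * conj (φ x)) =
        if f = φ then (Nat.card G : ℂ) else 0 := by
    intro φ hφ
    rw [← hsum φ (IsIrrCharacter.isClassFunction hφ), sum_eq_card_mul_classInner,
      IsIrrCharacter.classInner_eq hirr hφ, mul_ite, mul_one, mul_zero]
  have hka : (k : ℂ) * f x = -f 1 := by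
    have := horth _ isIrrCharacter_one
    rw [if_neg hone, map_one, mul_one, mul_one] at this
    linear_combination this
  -- every other character is trivial on the class
  have htriv : ∀ φ : G → ℂ, Cfsg.IsIrrCharacter G φ → φ ≠ f → φ x = φ 1 := by
    intro φ hφ hne
    have := horth φ hφ
    rw [if_neg (Ne.symm hne), ← mul_assoc, hka, neg_mul, ← sub_eq_add_neg, ← mul_sub, mul_eq_zero,
      sub_eq_zero] at this
    rcases this with h | h
    · exact absurd h (IsIrrCharacter.apply_one_ne_zero hirr)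
    · exact ((starRingEnd ℂ).injective h).symm
  -- the value on the class
  have hkC : (k : ℂ) ≠ 0 := by exact_mod_cast hk0.ne'
  obtain ⟨m, hm⟩ : k ∣ Cfsg.charDegree f := by
    refine dvd_of_isIntegral_div hk0.ne' ?_
    have : ((Cfsg.charDegree f : ℕ) : ℂ) / (k : ℂ) = -f x := by
      rw [← hd, div_eq_iff hkC]; linear_combination hka
    rw [this]
    exact (IsCharacter.isIntegral (IsIrrCharacter.isCharacter hirr) x).neg
  have hmpos : 0 < m := Nat.pos_of_ne_zero fun h0 => by rw [h0, mul_zero] at hm; omega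
  have hfx : f x = -(m : ℂ) := by
    refine mul_left_cancel₀ hkC ?_
    rw [hka, hd, hm]; push_cast; ring
  have hGC : (Nat.card G : ℂ) = ((m * m * (k + 1) * k : ℕ) : ℂ) := by
    have := horth f hirr
    rw [if_pos rfl, hfx, hd, hm] at this
    rw [← this]
    simp only [map_neg, Complex.conj_natCast]
    push_cast; ring
  -- the common kernel of the other characters
  let N : Subgroup G :=
    { carrier := {y | ∀ φ : G → ℂ, Cfsg.IsIrrCharacter G φ → φ ≠ f → φ y = φ 1}
      one_mem' := fun φ _ _ => rfl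
      mul_mem' := fun {a b} ha hb φ hφ hne =>
        (IsCharacter.apply_mul_of_apply_eq (IsIrrCharacter.isCharacter hφ) (ha φ hφ hne) b).trans
          (hb φ hφ hne)
      inv_mem' := fun {a} ha φ hφ hne => by
        have := IsCharacter.apply_mul_of_apply_eq (IsIrrCharacter.isCharacter hφ) (ha φ hφ hne) a⁻¹
        rwa [mul_inv_cancel, eq_comm] at this }
  have hNn : N.Normal := ⟨fun a ha g φ hφ hne =>
    (IsIrrCharacter.isClassFunction hφ a g).trans (ha φ hφ hne)⟩
  have hconjN : ∀ y, IsConj x y → y ∈ N := fun y hy φ hφ hne =>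
    (IsClassFunction.apply_eq_of_isConj (IsIrrCharacter.isClassFunction hφ) hy).symm.trans
      (htriv φ hφ hne)
  have hNne : ∀ y ∈ N, y ≠ 1 → f y ≠ 0 := by
    intro y hy hy1 h0
    have h1 := sum_irr_mul_conj y (1 : G)
    rw [if_neg fun h => hy1 (isConj_one_right.1 h.symm)] at h1
    have h2 := sum_irr_mul_conj (1 : G) 1
    rw [if_pos (IsConj.refl 1)] at h2
    rw [← Finset.add_sum_erase _ _ (mem_irrFinset.2 hirr)] at h1 h2
    have hsame : ∀ φ ∈ (irrFinset G).erase f, φ y * conj (φ 1) = φ 1 * conj (φ 1) := fun φ hφ => by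
      rw [hy φ (mem_irrFinset.1 (Finset.mem_of_mem_erase hφ)) (Finset.ne_of_mem_erase hφ)]
    rw [Finset.sum_congr rfl hsame, h0, zero_mul, zero_add] at h1
    rw [h1, add_zero] at h2
    have hc : Subgroup.centralizer ({1} : Set G) = ⊤ :=
      eq_top_iff.2 fun g _ => Subgroup.mem_centralizer_singleton_iff.2 (by simp)
    rw [hc, Subgroup.card_top, hGC, hd, hm, Complex.conj_natCast, ← Nat.cast_mul,
      Nat.cast_inj] at h2
    nlinarith [Nat.mul_pos (Nat.mul_pos hmpos hmpos) hk0]
  have hmem : ∀ g : G, g ∈ N ↔ f g ≠ 0 := by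
    intro g
    rcases eq_or_ne g 1 with rfl | hg
    · exact ⟨fun _ => IsIrrCharacter.apply_one_ne_zero hirr, fun _ => N.one_mem⟩
    · exact ⟨fun h => hNne g h hg, fun h => hconjN g (hclass g h hg)⟩
  have hconj : ∀ y ∈ N, y ≠ 1 → IsConj x y := fun y hy hy1 => hclass y ((hmem y).1 hy) hy1
  have hcardN : Nat.card N = k + 1 := by
    rw [← hk, Nat.card_eq_fintype_card, Nat.card_eq_fintype_card, Fintype.card_subtype,
      Fintype.card_subtype, ← Finset.card_insert_of_notMem (a := (1 : G))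
        (by simpa using hx1)]
    congr 1
    ext g
    simp only [Finset.mem_insert, Finset.mem_filter, Finset.mem_univ, true_and]
    exact ⟨fun h => or_iff_not_imp_left.2 (hconj g h),
      fun h => h.elim (fun h => h ▸ N.one_mem) (hconjN g)⟩
  have hval : ∀ y ∈ N, y ≠ 1 → f y = -(m : ℂ) := fun y hy hy1 => by
    rw [← IsClassFunction.apply_eq_of_isConj (IsIrrCharacter.isClassFunction hirr)
      (hconj y hy hy1), hfx]
  have hfaith : ∀ g : G, f g = f 1 → g = 1 := by
    intro g hg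
    by_contra hg1
    rw [hval g ((hmem g).2 (hg ▸ IsIrrCharacter.apply_one_ne_zero hirr)) hg1, hd,
      neg_eq_iff_add_eq_zero, ← Nat.cast_add, Nat.cast_eq_zero] at hg
    omega
  refine ⟨N, x, m, hNn, hmem, hconjN x (IsConj.refl x), hx1, hconj, hval, hmpos, ?_, ?_,
    fun φ hφ hne y hy => hy φ hφ hne, hfaith, ?_⟩
  · rw [hcardN, Nat.add_sub_cancel, hd, hm, mul_comm]
  · rw [hcardN, Nat.add_sub_cancel]
    exact_mod_cast hGC
  · intro K hK hKne
    haveI := hK
    have hxK : x ∈ K := by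
      rw [← QuotientGroup.eq_one_iff x, ← isConj_one_right]
      refine ((isConj_iff_irr_eq (1 : G ⧸ K) (x : G ⧸ K)).2 fun σ hσ => ?_)
      have hirr' := IsIrrCharacter.comp_surjective hσ (QuotientGroup.mk' K)
        (QuotientGroup.mk'_surjective K)
      refine (htriv _ hirr' fun he => hKne ?_).symm.trans ?_
      · rw [eq_bot_iff]
        intro g hg
        refine Subgroup.mem_bot.2 (hfaith g ?_)
        rw [← congrFun he g, ← congrFun he 1]
        simp [(QuotientGroup.eq_one_iff g).2 hg]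
      · rfl
    intro y hy
    rcases eq_or_ne y 1 with rfl | hy1
    · exact K.one_mem
    · obtain ⟨c, rfl⟩ := isConj_iff.1 (hconj y hy hy1)
      exact hK.conj_mem x hxK c

namespace Data

variable {χ : G → ℂ} {N : Subgroup G} {x : G} {m : ℕ}

theorem ne_bot (D : Data χ N x m) : N ≠ ⊥ := fun h => D.x_ne (by simpa [h] using D.x_mem)

theorem unique (D : Data χ N x m) {N' : Subgroup G} (h : ∀ g : G, g ∈ N' ↔ χ g ≠ 0) : N' = N :=
  Subgroup.ext fun g => (h g).trans (D.mem g).symm

theorem exists_prime [Finite G] (D : Data χ N x m) :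
    ∃ p : ℕ, p.Prime ∧ IsPGroup p N ∧ Cfsg.IsElementaryAbelian p N := by
  have h1 : Nat.card N ≠ 1 := fun h => D.ne_bot (Subgroup.card_eq_one.1 h)
  obtain ⟨p, hp, hpdvd⟩ := Nat.exists_prime_and_dvd h1
  haveI := Fact.mk hp
  obtain ⟨z, hz⟩ := exists_prime_orderOf_dvd_card' p hpdvd
  have hord : ∀ y ∈ N, y ^ p = 1 := by
    intro y hy
    rcases eq_or_ne y 1 with rfl | hy1
    · exact one_pow p
    · have hz1 : (z : G) ≠ 1 := fun h => hp.one_lt.ne (by
        rw [← hz, show z = 1 from Subtype.ext h, orderOf_one])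
      obtain ⟨c, rfl⟩ := isConj_iff.1 ((D.isConj z z.2 hz1).symm.trans (D.isConj y hy hy1))
      have hzp : (z : G) ^ p = 1 := by
        rw [← hz, ← Subgroup.orderOf_coe]; exact pow_orderOf_eq_one _
      rw [conj_pow, hzp, mul_one, mul_inv_cancel]
  have hpg : IsPGroup p N := fun y => ⟨1, Subtype.ext (by simpa using hord y y.2)⟩
  refine ⟨p, hp, hpg, ⟨⟨fun a b => ?_⟩⟩, hord⟩
  haveI : Nontrivial N := (Subgroup.nontrivial_iff_ne_bot N).2 D.ne_bot
  haveI := hpg.center_nontrivial
  obtain ⟨w, hw⟩ := exists_ne (1 : Subgroup.center N)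
  have hwc := Subgroup.mem_center_iff.1 w.2
  rcases eq_or_ne a 1 with rfl | ha1
  · simp
  have hw1 : ((w : N) : G) ≠ 1 := fun h => hw (Subtype.ext (Subtype.ext h))
  obtain ⟨c, hc⟩ := isConj_iff.1 ((D.isConj _ (w : N).2 hw1).symm.trans
    (D.isConj _ a.2 (fun h => ha1 (Subtype.ext h))))
  have := congrArg Subtype.val (hwc ⟨c⁻¹ * b * c, by simpa using D.normal.conj_mem _ b.2 c⁻¹⟩)
  simp only [Subgroup.coe_mul] at this
  ext
  simp only [Subgroup.coe_mul]
  rw [← hc]
  calc c * ((w : N) : G) * c⁻¹ * (b : G) = c * (((w : N) : G) * (c⁻¹ * b * c)) * c⁻¹ := by group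
    _ = c * ((c⁻¹ * b * c) * ((w : N) : G)) * c⁻¹ := by rw [this]
    _ = _ := by group

theorem card_centralizer [Finite G] (D : Data χ N x m) {y : G} (hy : y ∈ N) (hy1 : y ≠ 1) :
    Nat.card (Subgroup.centralizer ({y} : Set G)) = m * m * Nat.card N := by
  classical
  haveI := Fintype.ofFinite G
  have hclass : Nat.card {z : G // IsConj y z} = Nat.card N - 1 := by
    rw [Nat.card_eq_fintype_card, Nat.card_eq_fintype_card, Fintype.card_subtype,
      Fintype.card_subtype, ← Finset.card_erase_of_mem (a := (1 : G)) (by simp)]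
    congr 1
    ext z
    simp only [Finset.mem_erase, Finset.mem_filter, Finset.mem_univ, true_and]
    refine ⟨fun h => ⟨?_, ?_⟩, fun h => (D.isConj y hy hy1).symm.trans (D.isConj z h.2 h.1)⟩
    · rintro rfl; exact hy1 (isConj_one_left.1 h)
    · obtain ⟨c, rfl⟩ := isConj_iff.1 h; exact D.normal.conj_mem y hy c
  have h := card_conj_class_mul_card_centralizer y
  rw [hclass, D.card, mul_comm _ (Nat.card N - 1)] at h
  refine Nat.eq_of_mul_eq_mul_left ?_ h
  have : 1 < Nat.card N :=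
    Finite.one_lt_card_iff_nontrivial.2 ((Subgroup.nontrivial_iff_ne_bot N).2 D.ne_bot)
  omega

/-- The parameter `m` is a power of the prime. -/
theorem exists_pow [Finite G] (D : Data χ N x m) (hχ : Cfsg.IsIrrCharacter G χ) {p : ℕ}
    [Fact p.Prime] (hN : IsPGroup p N) : ∃ e, m = p ^ e := by
  classical
  haveI := Fintype.ofFinite G
  refine ⟨_, Nat.eq_prime_pow_of_unique_prime_dvd D.pos.ne' fun {q} hq hqm => ?_⟩
  by_contra hne
  haveI := Fact.mk hq
  obtain ⟨n, hn⟩ := IsPGroup.iff_card.1 hN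
  obtain ⟨H, hH⟩ : ∃ H, H = Subgroup.centralizer ({x} : Set G) := ⟨_, rfl⟩
  have hcard : Nat.card H = m * m * p ^ n := by rw [hH, D.card_centralizer D.x_mem D.x_ne, hn]
  have hxH : x ∈ H := hH ▸ Subgroup.mem_centralizer_singleton_iff.2 rfl
  have hxc : (⟨x, hxH⟩ : H) ∈ Subgroup.center H := Subgroup.mem_center_iff.2 fun g => by
    have hg := g.2
    simp only [hH] at hg
    exact Subtype.ext (Subgroup.mem_centralizer_singleton_iff.1 hg)
  obtain ⟨Q⟩ : Nonempty (Sylow q H) := inferInstance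
  haveI : Fintype H := Fintype.ofFinite _
  haveI : Fintype (Q : Subgroup H) := Fintype.ofFinite _
  have hint := isIntegral_average (IsCharacter.restrict (IsIrrCharacter.isCharacter hχ) H) hxc
    (Q : Subgroup H)
  rw [Finset.sum_eq_single (1 : (Q : Subgroup H))] at hint
  rotate_left
  · intro y _ hy
    by_contra h0
    have hyN : (((y : H) : G)) ∈ N := by
      have := N.mul_mem (N.inv_mem D.x_mem) ((D.mem _).2 h0)
      simpa using this
    obtain ⟨i, hi⟩ := Q.2 y
    obtain ⟨j, hj⟩ := hN ⟨_, hyN⟩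
    have h1 : orderOf ((y : H) : G) ∣ q ^ i := orderOf_dvd_of_pow_eq_one (by
      simpa using congrArg (fun t : (Q : Subgroup H) => ((t : H) : G)) hi)
    have h2 : orderOf ((y : H) : G) ∣ p ^ j := orderOf_dvd_of_pow_eq_one (by
      simpa using congrArg Subtype.val hj)
    have h3 := Nat.eq_one_of_dvd_coprimes
      (Nat.Coprime.pow i j ((Nat.coprime_primes hq (Fact.out : p.Prime)).2 hne)) h1 h2
    rw [orderOf_eq_one_iff] at h3
    exact hy (Subtype.ext (Subtype.ext h3))
  · exact fun h => absurd (Finset.mem_univ _) h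
  have hx' : χ (((⟨x, hxH⟩ : H) * ((1 : (Q : Subgroup H)) : H) : H) : G) = -(m : ℂ) := by
    simpa using D.val x D.x_mem D.x_ne
  rw [hx', mul_neg, IsIntegral.neg_iff, inv_mul_eq_div] at hint
  have hdvd := dvd_of_isIntegral_div Nat.card_pos.ne' hint
  rw [Q.card_eq_multiplicity, hcard, Nat.factorization_mul (mul_ne_zero D.pos.ne' D.pos.ne')
    (pow_ne_zero _ (Fact.out : p.Prime).ne_zero), Nat.factorization_mul D.pos.ne' D.pos.ne',
    Finsupp.add_apply, Finsupp.add_apply, (Fact.out : p.Prime).factorization_pow,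
    Finsupp.single_eq_of_ne hne, add_zero, hq.pow_dvd_iff_le_factorization D.pos.ne'] at hdvd
  have := hq.factorization_pos_of_dvd D.pos.ne' hqm
  omega

/-- The centralisers of the nontrivial elements of `N` are Sylow subgroups. -/
theorem exists_sylow_centralizer [Finite G] (D : Data χ N x m) (hχ : Cfsg.IsIrrCharacter G χ)
    {p : ℕ} [Fact p.Prime] (hN : IsPGroup p N) {y : G} (hy : y ∈ N) (hy1 : y ≠ 1) :
    ∃ P : Sylow p G, Subgroup.centralizer ({y} : Set G) = P := by
  obtain ⟨e, he⟩ := D.exists_pow hχ hN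
  obtain ⟨n, hn⟩ := IsPGroup.iff_card.1 hN
  have hp : p.Prime := Fact.out
  have hn0 : n ≠ 0 := fun h => D.ne_bot (Subgroup.card_eq_one.1 (by rw [hn, h, pow_zero]))
  have hc := D.card_centralizer hy hy1
  rw [he, hn, ← pow_add, ← pow_add] at hc
  have hnd : ¬ p ∣ (Subgroup.centralizer ({y} : Set G)).index := by
    have h := (Subgroup.centralizer ({y} : Set G)).card_mul_index
    rw [hc, D.card, he, hn, ← pow_add, ← pow_add] at h
    rw [Nat.eq_of_mul_eq_mul_left (pow_pos hp.pos _) h]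
    intro hd
    have h1 : p ∣ p ^ n := dvd_pow_self p hn0
    have := Nat.dvd_sub h1 hd
    rw [Nat.sub_sub_self (Nat.one_le_pow _ _ hp.pos)] at this
    exact hp.not_dvd_one this
  exact ⟨(IsPGroup.of_card hc).toSylow hnd, rfl⟩

end Data

end CfsgLib.Char.TwoClass
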