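import Cfsg.Agent.Char.Orthogonality
import Cfsg.Agent.Char.Linear
import Cfsg.Agent.GlaubermanCorr.Action
import Mathlib.GroupTheory.SchurZassenhaus

/-!
# Characters and an abelian Sylow subgroup with all nontrivial centralizers equal

Coordinates of class functions on `C(P) = P × H`, and the positivity of the part of the norm
supported on the `p`-regular elements.
-/

set_option autoImplicit false
set_option linter.style.haveILetI false
set_option linter.unusedSectionVars false

namespace CfsgLib.Char.SmallTI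

open Finset
open scoped ComplexConjugate

universe u v

section pair

variable {A : Type u} {B : Type u} [Group A] [Group B] [Fintype A] [Fintype B]

/-- The outer product of functions on two groups. -/
def pairFun (l : A → ℂ) (e : B → ℂ) : A × B → ℂ := fun x => l x.1 * e x.2

theorem isCharacter_pairFun {l : A → ℂ} {e : B → ℂ} (hl : Cfsg.IsCharacter A l)
    (he : Cfsg.IsCharacter B e) : Cfsg.IsCharacter (A × B) (pairFun l e) :=
  IsCharacter.mul (IsCharacter.comp hl (MonoidHom.fst A B)) (IsCharacter.comp he (MonoidHom.snd A B))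

theorem classInner_pairFun (F : A × B → ℂ) (l : A → ℂ) (e : B → ℂ) :
    Cfsg.classInner F (pairFun l e) =
      Cfsg.classInner (fun b => Cfsg.classInner (fun a => F (a, b)) l) e := by
  simp only [classInner_def, pairFun, map_mul, Nat.card_prod, Nat.cast_mul, mul_inv,
    Fintype.sum_prod_type, Finset.mul_sum, Finset.sum_mul]
  rw [Finset.sum_comm]
  exact sum_congr rfl fun b _ => sum_congr rfl fun a _ => by ring

variable [Fintype (Cfsg.IrrCharacter A)] [Fintype (Cfsg.IrrCharacter B)]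

theorem sum_irrFinset {M : Type*} [AddCommMonoid M] (f : (A → ℂ) → M) :
    ∑ l ∈ irrFinset A, f l = ∑ l : Cfsg.IrrCharacter A, f l :=
  Finset.sum_subtype (irrFinset A) (fun _ => mem_irrFinset) f

/-- Expansion of a class function on a product. -/
theorem expansion {F : A × B → ℂ} (hF : Cfsg.IsClassFunction (A × B) F) (a : A) (b : B) :
    F (a, b) = ∑ l : Cfsg.IrrCharacter A, ∑ e : Cfsg.IrrCharacter B,
      Cfsg.classInner F (pairFun (l : A → ℂ) (e : B → ℂ)) * (l : A → ℂ) a * (e : B → ℂ) b := by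
  have h1 : ∀ b, Cfsg.IsClassFunction A fun a => F (a, b) := fun b a x => by
    have := hF (a, b) (x, 1)
    simpa using this
  have h2 : ∀ l : A → ℂ, Cfsg.IsClassFunction B fun b => Cfsg.classInner (fun a => F (a, b)) l :=
    fun l b y => by
      refine congrArg (fun f => Cfsg.classInner f l) (funext fun a => ?_)
      have := hF (a, b) (1, y)
      simpa using this
  have h3 := congrFun (eq_sum_irr (h1 b)) a
  rw [Finset.sum_apply, sum_irrFinset] at h3
  refine h3.trans (sum_congr rfl fun l _ => ?_)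
  have h4 := congrFun (eq_sum_irr (h2 l)) b
  rw [Finset.sum_apply, sum_irrFinset] at h4
  rw [Pi.smul_apply, smul_eq_mul, h4, Finset.sum_mul]
  refine sum_congr rfl fun e _ => ?_
  rw [Pi.smul_apply, smul_eq_mul, classInner_pairFun]
  ring

/-- Parseval on a product. -/
theorem parseval {F : A × B → ℂ} (hF : Cfsg.IsClassFunction (A × B) F) (F' : A × B → ℂ) :
    Cfsg.classInner F F' = ∑ l : Cfsg.IrrCharacter A, ∑ e : Cfsg.IrrCharacter B,
      Cfsg.classInner F (pairFun (l : A → ℂ) (e : B → ℂ)) *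
        conj (Cfsg.classInner F' (pairFun (l : A → ℂ) (e : B → ℂ))) := by
  conv_lhs => rw [show F = ∑ l : Cfsg.IrrCharacter A, ∑ e : Cfsg.IrrCharacter B,
      Cfsg.classInner F (pairFun (l : A → ℂ) (e : B → ℂ)) • pairFun (l : A → ℂ) (e : B → ℂ) from
    funext fun ⟨a, b⟩ => by
      rw [expansion hF, Finset.sum_apply]
      refine sum_congr rfl fun l _ => ?_
      rw [Finset.sum_apply]
      exact sum_congr rfl fun e _ => by simp [pairFun, mul_assoc]]
  rw [classInner_sum_left]
  refine sum_congr rfl fun l _ => ?_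
  rw [classInner_sum_left]
  exact sum_congr rfl fun e _ => by rw [classInner_smul_left, classInner_conj]

/-- Parseval on the slice at the identity of an abelian first factor. -/
theorem parseval_slice (hA : ∀ l : Cfsg.IrrCharacter A, (l : A → ℂ) 1 = 1) {F : A × B → ℂ}
    (hF : Cfsg.IsClassFunction (A × B) F) {F' : A × B → ℂ}
    (hF' : Cfsg.IsClassFunction (A × B) F') :
    Cfsg.classInner (fun b => F (1, b)) (fun b => F' (1, b)) =
      ∑ e : Cfsg.IrrCharacter B,
        (∑ l : Cfsg.IrrCharacter A, Cfsg.classInner F (pairFun (l : A → ℂ) (e : B → ℂ))) *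
          conj (∑ l : Cfsg.IrrCharacter A,
            Cfsg.classInner F' (pairFun (l : A → ℂ) (e : B → ℂ))) := by
  classical
  have hexp : ∀ {F : A × B → ℂ}, Cfsg.IsClassFunction (A × B) F → (fun b => F (1, b)) =
      ∑ e : Cfsg.IrrCharacter B,
        (∑ l : Cfsg.IrrCharacter A, Cfsg.classInner F (pairFun (l : A → ℂ) (e : B → ℂ))) •
          (e : B → ℂ) := fun {F} hF => funext fun b => by
    rw [expansion hF, Finset.sum_apply, Finset.sum_comm]
    refine sum_congr rfl fun e _ => ?_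
    rw [Pi.smul_apply, smul_eq_mul, Finset.sum_mul]
    exact sum_congr rfl fun l _ => by rw [hA, mul_one]
  rw [hexp hF, hexp hF', classInner_sum_left]
  refine sum_congr rfl fun e _ => ?_
  rw [classInner_smul_left, classInner_sum_right, sum_eq_single e]
  · rw [classInner_smul_right, IsIrrCharacter.classInner_self e.2, mul_one]
  · intro e' _ hne
    rw [classInner_smul_right, IsIrrCharacter.classInner_of_ne e.2 e'.2
      fun h => hne (Subtype.ext h).symm, mul_zero]
  · exact fun h => absurd (mem_univ _) h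

end pair

/-- An invariant function on a set with a semiregular action sums to a multiple of the group
order. -/
theorem index_dvd_sum {A : Type*} [Group A] {α : Type*} [Fintype α] [MulAction A α] {t : ℕ}
    (hstab : ∀ a : α, (MulAction.stabilizer A a).index = t) (f : α → ℕ)
    (hf : ∀ (g : A) (a : α), f (g • a) = f a) : t ∣ ∑ a, f a := by
  classical
  haveI := Fintype.ofFinite (Quotient (MulAction.orbitRel A α))
  rw [← sum_fiberwise univ (fun a => Quotient.mk (MulAction.orbitRel A α) a) f]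
  refine dvd_sum fun o _ => ?_
  obtain ⟨a, rfl⟩ := Quotient.exists_rep o
  have hmem : ∀ b, b ∈ univ.filter (fun b => Quotient.mk (MulAction.orbitRel A α) b =
      Quotient.mk (MulAction.orbitRel A α) a) ↔ b ∈ MulAction.orbit A a := fun b => by
    rw [mem_filter, Quotient.eq, MulAction.orbitRel_apply]
    simp
  rw [sum_congr rfl (g := fun _ => f a) fun b hb => by
    obtain ⟨g, rfl⟩ := MulAction.mem_orbit_iff.1 ((hmem b).1 hb)
    exact hf g a, sum_const, smul_eq_mul]
  refine Dvd.dvd.mul_right ?_ _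
  rw [← hstab a, MulAction.index_stabilizer, ← Nat.card_coe_set_eq, ← Nat.card_eq_finsetCard]
  exact dvd_of_eq (Nat.card_congr (Equiv.subtypeEquivRight fun b => (hmem b).symm))

section setup

variable {G : Type u} [Group G]

/-- `P` is a nontrivial Sylow subgroup, `H` a normal complement of `P` in `C(P)`, and every
nontrivial element of `P` has centralizer `C(P)`. -/
structure Setup (p : ℕ) (P H : Subgroup G) : Prop where
  prime : p.Prime
  pgroup : IsPGroup p P
  index : ¬ p ∣ P.index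
  commP : ∀ x ∈ P, ∀ y ∈ P, x * y = y * x
  commH : ∀ x ∈ P, ∀ h ∈ H, x * h = h * x
  cardH : ¬ p ∣ Nat.card H
  star : ∀ x ∈ P, x ≠ 1 → ∀ g : G, g * x = x * g → ∃ a ∈ P, ∃ b ∈ H, g = a * b
  normH : ∀ n ∈ Subgroup.normalizer (P : Set G), ∀ h ∈ H, n * h * n⁻¹ ∈ H

variable {p : ℕ} {P H : Subgroup G}

theorem Setup.eq_one_of_mem [Finite G] (hs : Setup p P H) {g : G} (hP : g ∈ P) (hH : g ∈ H) :
    g = 1 := by
  obtain ⟨k, hk⟩ := hs.pgroup ⟨g, hP⟩
  have h1 : orderOf g ∣ p ^ k := orderOf_dvd_of_pow_eq_one (congrArg Subtype.val hk)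
  have h2 : orderOf g ∣ Nat.card H := Subgroup.orderOf_dvd_natCard H hH
  exact orderOf_eq_one_iff.1 (Nat.eq_one_of_dvd_coprimes
    ((hs.prime.coprime_iff_not_dvd.2 hs.cardH).pow_left k) h1 h2)

theorem exists_setup [Finite G] (hp : p.Prime) (P : Sylow p G)
    (hstar : ∀ x ∈ (P : Subgroup G), x ≠ 1 →
      Subgroup.centralizer ({x} : Set G) = Subgroup.centralizer ((P : Subgroup G) : Set G)) :
    ∃ H : Subgroup G, Setup p (P : Subgroup G) H := by
  haveI := Fact.mk hp
  obtain ⟨C, hC⟩ : ∃ C, Subgroup.centralizer ((P : Subgroup G) : Set G) = C := ⟨_, rfl⟩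
  have hab : ∀ x ∈ (P : Subgroup G), ∀ y ∈ (P : Subgroup G), x * y = y * x := by
    intro x hx y hy
    by_cases h1 : x = 1
    · simp [h1]
    have : x ∈ Subgroup.centralizer ({x} : Set G) := Subgroup.mem_centralizer_singleton_iff.2 rfl
    rw [hstar x hx h1] at this
    exact (Subgroup.mem_centralizer_iff.1 this y hy).symm
  have hPC : (P : Subgroup G) ≤ C := hC ▸ fun x hx =>
    Subgroup.mem_centralizer_iff.2 fun y hy => hab y hy x hx
  haveI : ((P : Subgroup G).subgroupOf C).Normal :=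
    (Subgroup.normal_subgroupOf_iff_le_normalizer hPC).2
      (hC ▸ Subgroup.centralizer_le_normalizer (s := ((P : Subgroup G) : Set G)))
  have hidx : ¬ p ∣ ((P : Subgroup G).subgroupOf C).index := fun h =>
    P.not_dvd_index (h.trans (Dvd.intro _ (Subgroup.relIndex_mul_index hPC)))
  obtain ⟨k, hk⟩ := P.isPGroup'.exists_card_eq
  have hcP : Nat.card ((P : Subgroup G).subgroupOf C) = p ^ k :=
    (Nat.card_congr (Subgroup.subgroupOfEquivOfLe hPC).toEquiv).trans hk
  obtain ⟨K, hK⟩ := Subgroup.exists_right_complement'_of_coprime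
    (N := (P : Subgroup G).subgroupOf C)
    (hcP ▸ (hp.coprime_iff_not_dvd.2 hidx).pow_left k)
  obtain ⟨H, hH⟩ : ∃ H, K.map C.subtype = H := ⟨_, rfl⟩
  have hHC : H ≤ C := hH ▸ Subgroup.map_subtype_le K
  have hcH : Nat.card H = ((P : Subgroup G).subgroupOf C).index := by
    rw [← hH, Subgroup.card_map_of_injective C.subtype_injective, hK.symm.index_eq_card]
  have hcomm : ∀ x ∈ (P : Subgroup G), ∀ h ∈ H, x * h = h * x := fun x hx h hh =>
    Subgroup.mem_centralizer_iff.1 (hC.symm ▸ hHC hh) x hx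
  have hdec : ∀ c ∈ C, ∃ a ∈ (P : Subgroup G), ∃ b ∈ H, c = a * b := by
    intro c hc
    obtain ⟨⟨a, b⟩, hab'⟩ := hK.2 ⟨c, hc⟩
    exact ⟨_, a.2, _, hH ▸ ⟨_, b.2, rfl⟩, (congrArg Subtype.val hab').symm⟩
  refine ⟨H, hp, P.isPGroup', P.not_dvd_index, hab, hcomm, hcH ▸ hidx, fun x hx hx1 g hg =>
    hdec g ?_, fun n hn h hh => ?_⟩
  · rw [← hC, ← hstar x hx hx1]
    exact Subgroup.mem_centralizer_singleton_iff.2 hg
  · have hnhC : n * h * n⁻¹ ∈ C := by
      rw [← hC, Subgroup.mem_centralizer_iff]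
      intro x hx
      have hx' : n⁻¹ * x * n ∈ (P : Subgroup G) := (Subgroup.mem_normalizer_iff''.1 hn x).1 hx
      have h1 := hcomm _ hx' h hh
      calc x * (n * h * n⁻¹) = n * (n⁻¹ * x * n * h) * n⁻¹ := by group
        _ = n * (h * (n⁻¹ * x * n)) * n⁻¹ := by rw [h1]
        _ = n * h * n⁻¹ * x := by group
    obtain ⟨a, ha, b, hb, he⟩ := hdec _ hnhC
    have hpow : (n * h * n⁻¹) ^ Nat.card H = 1 := by
      rw [conj_pow, show h ^ Nat.card H = 1 from congrArg Subtype.val
        (pow_card_eq_one' (x := (⟨h, hh⟩ : H))), mul_one, mul_inv_cancel]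
    rw [he, (show Commute a b from hcomm a ha b hb).mul_pow, show b ^ Nat.card H = 1 from
      congrArg Subtype.val (pow_card_eq_one' (x := (⟨b, hb⟩ : H))), mul_one] at hpow
    obtain ⟨j, hj⟩ := P.isPGroup' ⟨a, ha⟩
    have ha1 : a = 1 := orderOf_eq_one_iff.1 (Nat.eq_one_of_dvd_coprimes
      ((hp.coprime_iff_not_dvd.2 (hcH ▸ hidx)).pow_left j)
      (orderOf_dvd_of_pow_eq_one (congrArg Subtype.val hj)) (orderOf_dvd_of_pow_eq_one hpow))
    rwa [he, ha1, one_mul]

/-- The multiplication map `P × H → G`. -/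
noncomputable def Setup.mulHom (hs : Setup p P H) : P × H →* G where
  toFun x := (x.1 : G) * (x.2 : G)
  map_one' := by simp
  map_mul' x y := by
    simp only [Prod.fst_mul, Prod.snd_mul, Subgroup.coe_mul]
    rw [mul_assoc, ← mul_assoc (y.1 : G), hs.commH _ y.1.2 _ x.2.2]
    simp [mul_assoc]

theorem Setup.mulHom_apply (hs : Setup p P H) (x : P × H) :
    hs.mulHom x = (x.1 : G) * (x.2 : G) := rfl

theorem Setup.mulHom_injective [Finite G] (hs : Setup p P H) :
    Function.Injective hs.mulHom := by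
  refine (injective_iff_map_eq_one _).2 fun x hx => ?_
  rw [mulHom_apply] at hx
  have h1 : (x.1 : G) = 1 := hs.eq_one_of_mem x.1.2 (by
    rw [eq_inv_of_mul_eq_one_left hx]; exact H.inv_mem x.2.2)
  rw [h1, one_mul] at hx
  exact Prod.ext (Subtype.ext h1) (Subtype.ext hx)

theorem Setup.dvd_orderOf_iff [Finite G] (hs : Setup p P H) (x : P × H) :
    p ∣ orderOf (hs.mulHom x) ↔ x.1 ≠ 1 := by
  rw [orderOf_injective _ hs.mulHom_injective, Prod.orderOf]
  constructor
  · intro h h1
    rw [h1, orderOf_one, Nat.lcm_one_left] at h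
    exact hs.cardH (h.trans (orderOf_dvd_natCard x.2))
  · intro h1
    obtain ⟨k, hk⟩ := hs.pgroup x.1
    obtain ⟨i, -, hi⟩ := (Nat.dvd_prime_pow hs.prime).1 (orderOf_dvd_of_pow_eq_one hk)
    refine dvd_trans ?_ (Nat.dvd_lcm_left _ _)
    rw [hi]
    exact dvd_pow_self p fun h0 => h1 (orderOf_eq_one_iff.1 (by rw [hi, h0, pow_zero]))

theorem Setup.mem_normalizer_iff_of_centralizes [Finite G] (hs : Setup p P H) {g : G}
    (hg : ∀ x ∈ P, g * x * g⁻¹ ∈ P) : g ∈ Subgroup.normalizer (P : Set G) := by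
  have h1 : P.map (MulAut.conj g).toMonoidHom = P := Subgroup.eq_of_le_of_card_ge
    (by rintro _ ⟨x, hx, rfl⟩; exact hg x hx)
    (by rw [Subgroup.card_map_of_injective (MulEquiv.injective _)])
  refine Subgroup.mem_normalizer_iff.2 fun x => ⟨hg x, fun hx => ?_⟩
  rw [← h1] at hx
  obtain ⟨y, hy, he⟩ := hx
  rwa [← (MulAut.conj g).injective (he : MulAut.conj g y = MulAut.conj g x)]

/-- Two elements of `C(P)` outside `H` conjugate in `G` are conjugate in `N(P)`. -/
theorem Setup.mem_normalizer_of_conj [Finite G] (hs : Setup p P H) {n : G} {x y : P × H}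
    (hx : x.1 ≠ 1) (h : n * hs.mulHom x * n⁻¹ = hs.mulHom y) :
    n ∈ Subgroup.normalizer (P : Set G) := by
  haveI := Fact.mk hs.prime
  obtain ⟨k, hk⟩ := hs.pgroup.exists_card_eq
  have hH1 : ∀ z : P × H, hs.mulHom z ^ Nat.card H = ((z.1 : G)) ^ Nat.card H := fun z => by
    rw [mulHom_apply, (show Commute (z.1 : G) (z.2 : G) from
      hs.commH _ z.1.2 _ z.2.2).mul_pow, show (z.2 : G) ^ Nat.card H = 1 from
        congrArg Subtype.val (pow_card_eq_one' (x := z.2)), mul_one]
  have hxh : (x.1 : G) ^ Nat.card H ≠ 1 := fun h1 => hx (Subtype.ext (orderOf_eq_one_iff.1 (by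
    refine Nat.eq_one_of_dvd_coprimes ((hs.prime.coprime_iff_not_dvd.2 hs.cardH).pow_left k) ?_
      (orderOf_dvd_of_pow_eq_one h1)
    rw [← hk]
    exact Subgroup.orderOf_dvd_natCard P x.1.2)))
  have hconj : n * (x.1 : G) ^ Nat.card H * n⁻¹ = (y.1 : G) ^ Nat.card H := by
    rw [← hH1, ← hH1, ← h, conj_pow]
  have hyh : (y.1 : G) ^ Nat.card H ≠ 1 := by
    rw [← hconj]
    simp [hxh]
  refine hs.mem_normalizer_iff_of_centralizes fun a ha => ?_
  obtain ⟨b, hb, c, hc, hbc⟩ := hs.star _ (P.pow_mem y.1.2 _) hyh (n * a * n⁻¹) (by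
    rw [← hconj]
    have h1 := hs.commP a ha _ (P.pow_mem x.1.2 (Nat.card H))
    calc n * a * n⁻¹ * (n * (x.1 : G) ^ Nat.card H * n⁻¹)
        = n * (a * (x.1 : G) ^ Nat.card H) * n⁻¹ := by group
      _ = n * ((x.1 : G) ^ Nat.card H * a) * n⁻¹ := by rw [h1]
      _ = _ := by group)
  have h2 : (n * a * n⁻¹) ^ p ^ k = 1 := by
    rw [conj_pow, ← hk, show a ^ Nat.card P = 1 from
      congrArg Subtype.val (pow_card_eq_one' (x := (⟨a, ha⟩ : P))), mul_one, mul_inv_cancel]
  rw [hbc, (show Commute b c from hs.commH b hb c hc).mul_pow, ← hk,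
    show b ^ Nat.card P = 1 from congrArg Subtype.val (pow_card_eq_one' (x := (⟨b, hb⟩ : P))),
    one_mul, hk] at h2
  have hc1 : c = 1 := orderOf_eq_one_iff.1 (Nat.eq_one_of_dvd_coprimes
    ((hs.prime.coprime_iff_not_dvd.2 hs.cardH).pow_left k) (orderOf_dvd_of_pow_eq_one h2)
    (Subgroup.orderOf_dvd_natCard H hc))
  rwa [hbc, hc1, mul_one]

theorem Setup.exists_conj_mem [Finite G] (hs : Setup p P H) {g : G} (hg : p ∣ orderOf g) :
    ∃ (a : G) (x : P × H), x.1 ≠ 1 ∧ a⁻¹ * g * a = hs.mulHom x := by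
  haveI := Fact.mk hs.prime
  let P' : Sylow p G := hs.pgroup.toSylow hs.index
  have hP' : (P' : Subgroup G) = P := IsPGroup.toSylow_coe hs.pgroup hs.index
  obtain ⟨m, hm⟩ := hg
  have hzo : orderOf (g ^ m) = p := by
    rw [orderOf_pow_of_dvd (fun h0 => (orderOf_pos g).ne' (by rw [hm, h0, mul_zero]))
      (by rw [hm]; exact dvd_mul_left _ _), hm, Nat.mul_div_cancel _ (Nat.pos_of_ne_zero
        fun h0 => (orderOf_pos g).ne' (by rw [hm, h0, mul_zero]))]
  have hzp : IsPGroup p (Subgroup.zpowers (g ^ m)) :=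
    IsPGroup.of_card (n := 1) (by rw [Nat.card_zpowers, hzo, pow_one])
  obtain ⟨Q, hQ⟩ := hzp.exists_le_sylow
  obtain ⟨a, ha⟩ := MulAction.exists_smul_eq G P' Q
  have hmem : a⁻¹ * g ^ m * a ∈ P := by
    have h1 := hQ (Subgroup.mem_zpowers (g ^ m))
    rw [← ha, Sylow.coe_subgroup_smul, Subgroup.mem_pointwise_smul_iff_inv_smul_mem, hP'] at h1
    exact h1
  have hne : a⁻¹ * g ^ m * a ≠ 1 := fun h1 => by
    have : g ^ m = 1 := by
      calc g ^ m = a * (a⁻¹ * g ^ m * a) * a⁻¹ := by group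
        _ = 1 := by rw [h1]; group
    rw [this, orderOf_one] at hzo
    exact hs.prime.one_lt.ne hzo
  obtain ⟨b, hb, c, hc, hbc⟩ := hs.star _ hmem hne (a⁻¹ * g * a) (by
    calc a⁻¹ * g * a * (a⁻¹ * g ^ m * a) = a⁻¹ * (g * g ^ m) * a := by group
      _ = a⁻¹ * (g ^ m * g) * a := by rw [(Commute.self_pow g m).eq]
      _ = _ := by group)
  refine ⟨a, (⟨b, hb⟩, ⟨c, hc⟩), ?_, hbc⟩
  rw [← hs.dvd_orderOf_iff, mulHom_apply, ← hbc]
  have h2 : orderOf (a⁻¹ * g * a) = orderOf g := by
    rw [← orderOf_injective (MulAut.conj a).toMonoidHom (MulEquiv.injective _)]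
    simp [mul_assoc]
  rw [h2, hm]
  exact dvd_mul_right p m

open scoped Classical in
/-- Integration over the `p`-singular elements. -/
theorem Setup.sum_singular [Fintype G] [Fintype P] [Fintype H] (hs : Setup p P H) {φ : G → ℂ}
    (hφ : Cfsg.IsClassFunction G φ) :
    (Nat.card (Subgroup.normalizer (P : Set G)) : ℂ) *
        ∑ g ∈ univ.filter (fun g : G => p ∣ orderOf g), φ g =
      (Nat.card G : ℂ) * ∑ x ∈ univ.filter (fun x : P × H => x.1 ≠ 1), φ (hs.mulHom x) := by
  classical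
  set N := Subgroup.normalizer (P : Set G)
  set T := (univ.filter (fun x : P × H => x.1 ≠ 1)).image hs.mulHom
  have hT : ∑ x ∈ univ.filter (fun x : P × H => x.1 ≠ 1), φ (hs.mulHom x) = ∑ c ∈ T, φ c :=
    (sum_image fun _ _ _ _ h => hs.mulHom_injective h).symm
  have hcount : ∀ g : G, ((univ.filter fun y : G => y⁻¹ * g * y ∈ T).card : ℂ) =
      if p ∣ orderOf g then (Nat.card N : ℂ) else 0 := by
    intro g
    split_ifs with hg
    · obtain ⟨a, x, hx, hax⟩ := hs.exists_conj_mem hg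
      rw [Nat.cast_inj, Nat.card_eq_fintype_card, ← Fintype.card_coe]
      refine Fintype.card_congr ((Equiv.mulLeft a⁻¹).subtypeEquiv fun y => ?_)
      simp only [mem_filter, mem_univ, true_and, Equiv.coe_mulLeft]
      constructor
      · intro hy
        obtain ⟨z, hz, hzy⟩ := mem_image.1 hy
        refine hs.mem_normalizer_of_conj (mem_filter.1 hz).2 (y := x) ?_
        rw [hzy, ← hax]; group
      · intro hn
        have hnP := (Subgroup.mem_normalizer_iff''.1 hn)
        refine mem_image.2 ⟨(⟨(a⁻¹ * y)⁻¹ * x.1 * (a⁻¹ * y), (hnP _).1 x.1.2⟩,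
          ⟨(a⁻¹ * y)⁻¹ * x.2 * (a⁻¹ * y), by
            simpa using hs.normH _ (N.inv_mem hn) _ x.2.2⟩), mem_filter.2 ⟨mem_univ _, fun h1 => hx ?_⟩, ?_⟩
        · refine Subtype.ext ?_
          have h2 : (a⁻¹ * y)⁻¹ * (x.1 : G) * (a⁻¹ * y) = 1 := congrArg Subtype.val h1
          calc (x.1 : G) = (a⁻¹ * y) * ((a⁻¹ * y)⁻¹ * x.1 * (a⁻¹ * y)) * (a⁻¹ * y)⁻¹ := by group
            _ = 1 := by rw [h2]; group
        · have hax' : a⁻¹ * g * a = (x.1 : G) * x.2 := hax
          simp only [Setup.mulHom_apply]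
          calc (a⁻¹ * y)⁻¹ * (x.1 : G) * (a⁻¹ * y) * ((a⁻¹ * y)⁻¹ * x.2 * (a⁻¹ * y))
              = (a⁻¹ * y)⁻¹ * ((x.1 : G) * x.2) * (a⁻¹ * y) := by group
            _ = y⁻¹ * g * y := by rw [← hax']; group
    · rw [Nat.cast_eq_zero, card_eq_zero, filter_eq_empty_iff]
      intro y _ hy
      obtain ⟨z, hz, hzy⟩ := mem_image.1 hy
      apply hg
      have := (hs.dvd_orderOf_iff z).2 (mem_filter.1 hz).2
      rw [hzy, ← orderOf_injective (MulAut.conj y).toMonoidHom (MulEquiv.injective _)] at this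
      simpa [mul_assoc] using this
  calc (Nat.card N : ℂ) * ∑ g ∈ univ.filter (fun g : G => p ∣ orderOf g), φ g
      = ∑ g : G, ((univ.filter fun y : G => y⁻¹ * g * y ∈ T).card : ℂ) * φ g := by
        rw [mul_sum, sum_filter]
        exact sum_congr rfl fun g _ => by rw [hcount g]; split_ifs <;> simp
    _ = ∑ g : G, ∑ y : G, if y⁻¹ * g * y ∈ T then φ g else 0 := sum_congr rfl fun g _ => by
        rw [← sum_filter, sum_const, nsmul_eq_mul]
    _ = ∑ y : G, ∑ c ∈ T, φ c := by
        rw [sum_comm]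
        refine sum_congr rfl fun y _ => ?_
        rw [← sum_filter]
        refine sum_bij (fun g _ => y⁻¹ * g * y) (fun g hg => (mem_filter.1 hg).2)
          (fun _ _ _ _ h => mul_left_cancel (mul_right_cancel h)) (fun c hc => ?_) (fun g _ => ?_)
        · exact ⟨y * c * y⁻¹, mem_filter.2 ⟨mem_univ _, by simpa [mul_assoc] using hc⟩,
            by group⟩
        · rw [← hφ (y⁻¹ * g * y) y]; congr 1; group
    _ = _ := by rw [sum_const, card_univ, nsmul_eq_mul, hT, Nat.card_eq_fintype_card]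

end setup

end CfsgLib.Char.SmallTI
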