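import Cfsg.Agent.Char.Clifford

/-!
# The Clifford correspondence
-/

set_option autoImplicit false
set_option linter.style.haveILetI false

namespace CfsgLib.Char

open scoped ComplexConjugate

universe u v

variable {G : Type u} [Group G]

theorem classInner_comp_mulEquiv {H : Type v} [Group H] [Fintype G] [Fintype H] (e : H ≃* G)
    (φ ψ : G → ℂ) :
    Cfsg.classInner (fun h => φ (e h)) (fun h => ψ (e h)) = Cfsg.classInner φ ψ := by
  rw [classInner_def, classInner_def, Nat.card_congr e.toEquiv]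
  congr 1
  exact Fintype.sum_equiv e.toEquiv _ _ fun _ => rfl

/-- A function on a subgroup, seen on the same subgroup inside a bigger one. -/
def pullBack {N T : Subgroup G} (θ : N → ℂ) : N.subgroupOf T → ℂ :=
  fun x => θ ⟨(x : T), Subgroup.mem_subgroupOf.mp x.2⟩

theorem classInner_pullBack [Fintype G] {N T : Subgroup G} [Fintype N]
    [Fintype (N.subgroupOf T)] (h : N ≤ T) (φ ψ : N → ℂ) :
    Cfsg.classInner (pullBack (T := T) φ) (pullBack (T := T) ψ) = Cfsg.classInner φ ψ :=
  classInner_comp_mulEquiv (Subgroup.subgroupOfEquivOfLe h) φ ψ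

theorem isIrrCharacter_pullBack {N T : Subgroup G} (h : N ≤ T) {θ : N → ℂ}
    (hθ : Cfsg.IsIrrCharacter N θ) : Cfsg.IsIrrCharacter (N.subgroupOf T) (pullBack θ) :=
  IsIrrCharacter.comp_surjective hθ (Subgroup.subgroupOfEquivOfLe h).toMonoidHom
    (Subgroup.subgroupOfEquivOfLe h).surjective

variable [Fintype G] {N T : Subgroup G} [hN : N.Normal] [Fintype N] [Fintype T]

theorem indFun_pullBack_inner (hNT : N ≤ T) (θ : N → ℂ) {ψ : T → ℂ}
    (hψ : Cfsg.IsCharacter T ψ) :
    Cfsg.classInner (Cfsg.indFun (N.subgroupOf T) (pullBack θ)) ψ =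
      Cfsg.classInner θ (fun n : N => ψ (Subgroup.inclusion hNT n)) := by
  haveI := Fintype.ofFinite (N.subgroupOf T)
  rw [classInner_indFun _ (IsCharacter.isClassFunction hψ), ← classInner_pullBack hNT]
  rfl

/-- In the inertia group, a character over `θ` restricts to a multiple of `θ`. -/
theorem restrict_inertia_eq (hNT : N ≤ T) {θ : N → ℂ} (hθ : Cfsg.IsIrrCharacter N θ)
    (hT : T ≤ inertia θ) {ψ : T → ℂ} (hψ : Cfsg.IsIrrCharacter T ψ)
    (hc : Cfsg.classInner (fun n : N => ψ (Subgroup.inclusion hNT n)) θ ≠ 0) :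
    (fun n : N => ψ (Subgroup.inclusion hNT n)) =
      Cfsg.classInner (fun n : N => ψ (Subgroup.inclusion hNT n)) θ • θ := by
  classical
  haveI := Fintype.ofFinite (N.subgroupOf T)
  have hres : Cfsg.classInner (fun x : N.subgroupOf T => ψ x) (pullBack θ) =
      Cfsg.classInner (fun n : N => ψ (Subgroup.inclusion hNT n)) θ := by
    rw [← classInner_pullBack hNT]; rfl
  have horb : conjOrbit (pullBack (T := T) θ) = {pullBack θ} := by
    refine Finset.eq_singleton_iff_unique_mem.2 ⟨self_mem_conjOrbit _, fun φ hφ => ?_⟩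
    obtain ⟨t, rfl⟩ := mem_conjOrbit.1 hφ
    funext x
    have := congrFun ((mem_inertia θ (t : G)).1 (hT t.2))
      ⟨((x : T) : G), Subgroup.mem_subgroupOf.mp x.2⟩
    simp only [conjOn_apply] at this
    simp only [pullBack, conjOn_apply]
    exact this
  have h1 := restrict_eq_smul_sum hψ (isIrrCharacter_pullBack hNT hθ) (by rwa [hres])
  rw [hres, horb, Finset.sum_singleton] at h1
  funext n
  exact congrFun h1 ⟨Subgroup.inclusion hNT n, Subgroup.mem_subgroupOf.2 n.2⟩

/-- Induction from the inertia group sends irreducible characters over `θ` to irreducible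
characters, with the same multiplicity. -/
theorem isIrrCharacter_indFun_of_inertia (hNT : N ≤ T) {θ : N → ℂ}
    (hθ : Cfsg.IsIrrCharacter N θ) (hT : inertia θ = T) {ψ : T → ℂ}
    (hψ : Cfsg.IsIrrCharacter T ψ)
    (hc : Cfsg.classInner (fun n : N => ψ (Subgroup.inclusion hNT n)) θ ≠ 0) :
    Cfsg.IsIrrCharacter G (Cfsg.indFun T ψ) ∧
      Cfsg.classInner (fun n : N => Cfsg.indFun T ψ n) θ =
        Cfsg.classInner (fun n : N => ψ (Subgroup.inclusion hNT n)) θ := by
  classical
  have hψc := IsIrrCharacter.isCharacter hψ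
  have hI := IsCharacter.indFun (G := G) hψc
  obtain ⟨χ, hχ, hχc⟩ := IsCharacter.exists_constituent hI (fun h0 => by
    have h1 := congrFun h0 1
    rw [indFun_one, Pi.zero_apply, mul_eq_zero] at h1
    exact h1.elim (by exact_mod_cast T.index_ne_zero_of_finite)
      (IsIrrCharacter.apply_one_ne_zero hψ))
  have hχT : Cfsg.classInner (fun t : T => χ t) ψ ≠ 0 := fun h0 => hχc (by
    rw [classInner_indFun ψ (IsIrrCharacter.isClassFunction hχ), ← classInner_conj, h0, map_zero])
  obtain ⟨e, he⟩ := IsCharacter.exists_classInner_eq_natCast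
    (IsCharacter.comp hψc (Subgroup.inclusion hNT)) hθ
  have hrest : Cfsg.IsCharacter N (fun n : N => ((fun t : T => χ t) - ψ)
      (Subgroup.inclusion hNT n)) :=
    IsCharacter.comp (IsCharacter.sub_irr
      (IsCharacter.restrict (IsIrrCharacter.isCharacter hχ) T) hψ hχT) (Subgroup.inclusion hNT)
  obtain ⟨k, hk⟩ := IsCharacter.exists_classInner_eq_natCast hrest hθ
  have hf : Cfsg.classInner (fun n : N => χ n) θ = ((e + k : ℕ) : ℂ) := by
    rw [Nat.cast_add, ← he, ← hk, ← classInner_add_left]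
    congr 1
    funext n
    simp [Subgroup.coe_inclusion]
  have he0 : e ≠ 0 := fun h0 => hc (by rw [he, h0, Nat.cast_zero])
  have hf0 : Cfsg.classInner (fun n : N => χ n) θ ≠ 0 := by
    rw [hf, Nat.cast_ne_zero]; omega
  have hχ1 := degree_eq_mul hχ hθ hf0
  rw [hf, hT] at hχ1
  have hψ1 : ψ 1 = (e : ℂ) * θ 1 := by
    have := congrFun (restrict_inertia_eq hNT hθ hT.ge hψ hc) 1
    rw [he] at this
    simpa using this
  obtain ⟨d, hd, hd'⟩ := IsIrrCharacter.exists_degree hθ
  have hle := IsCharacter.re_constituent_le hI hχ hχc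
  rw [indFun_one, hψ1, hχ1, hd', ← Nat.cast_mul, ← Nat.cast_mul, ← Nat.cast_mul, ← Nat.cast_mul,
    Complex.natCast_re, Complex.natCast_re, Nat.cast_le] at hle
  have hk0 : k = 0 := by
    by_contra hk0
    have hTi : 0 < T.index := Nat.pos_of_ne_zero T.index_ne_zero_of_finite
    have : T.index * (e * d) < (e + k) * T.index * d := by
      have h3 : (e + k) * T.index * d = T.index * (e * d) + k * T.index * d := by ring
      have h4 : 0 < k * T.index * d := Nat.mul_pos (Nat.mul_pos (Nat.pos_of_ne_zero hk0) hTi) hd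
      omega
    omega
  subst hk0
  have heq : Cfsg.indFun T ψ = χ := IsCharacter.eq_of_constituent hI hχ hχc (by
    rw [indFun_one, hψ1, hχ1, Nat.add_zero]; ring)
  refine ⟨heq ▸ hχ, ?_⟩
  rw [heq, hf, Nat.add_zero, he]

/-- Induction from the inertia group is injective on the characters over `θ`. -/
theorem indFun_injective_of_inertia (hNT : N ≤ T) {θ : N → ℂ}
    (hθ : Cfsg.IsIrrCharacter N θ) (hT : inertia θ = T) {ψ ψ' : T → ℂ}
    (hψ : Cfsg.IsIrrCharacter T ψ) (hψ' : Cfsg.IsIrrCharacter T ψ')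
    (hc : Cfsg.classInner (fun n : N => ψ (Subgroup.inclusion hNT n)) θ ≠ 0)
    (hc' : Cfsg.classInner (fun n : N => ψ' (Subgroup.inclusion hNT n)) θ ≠ 0)
    (heq : Cfsg.indFun T ψ = Cfsg.indFun T ψ') : ψ = ψ' := by
  classical
  by_contra hne
  obtain ⟨hirr, hmul⟩ := isIrrCharacter_indFun_of_inertia hNT hθ hT hψ hc
  set χ := Cfsg.indFun T ψ with hχ
  have hres := IsCharacter.restrict (IsIrrCharacter.isCharacter hirr) T
  have hin : ∀ φ : T → ℂ, Cfsg.indFun T φ = χ →
      Cfsg.classInner (fun t : T => χ t) φ ≠ 0 := fun φ hφ h0 => by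
    have h1 : Cfsg.classInner χ (Cfsg.indFun T φ) = 1 := by
      rw [hφ]; exact IsIrrCharacter.classInner_self hirr
    rw [classInner_indFun_right (IsIrrCharacter.isClassFunction hirr), h0] at h1
    exact zero_ne_one h1
  have h1 := hin ψ rfl
  have h2 : Cfsg.classInner ((fun t : T => χ t) - ψ) ψ' ≠ 0 := by
    rw [classInner_sub_left, IsIrrCharacter.classInner_of_ne hψ hψ' hne, sub_zero]
    exact hin ψ' heq.symm
  have hd := IsCharacter.sub_irr hres hψ h1
  obtain ⟨e, he⟩ := IsCharacter.exists_classInner_eq_natCast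
    (IsCharacter.comp (IsIrrCharacter.isCharacter hψ) (Subgroup.inclusion hNT)) hθ
  obtain ⟨e', he'⟩ := IsCharacter.exists_classInner_eq_natCast
    (IsCharacter.comp (IsIrrCharacter.isCharacter hψ') (Subgroup.inclusion hNT)) hθ
  obtain ⟨k, hk⟩ := IsCharacter.exists_classInner_eq_natCast
    (IsCharacter.comp (IsCharacter.sub_irr hd hψ' h2) (Subgroup.inclusion hNT)) hθ
  have h3 : Cfsg.classInner (fun n : N => χ n) θ = ((e + e' + k : ℕ) : ℂ) := by
    rw [Nat.cast_add, Nat.cast_add, ← he, ← he', ← hk, ← classInner_add_left,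
      ← classInner_add_left]
    congr 1
    funext n
    simp [Subgroup.coe_inclusion]
  rw [hmul, he, Nat.cast_inj] at h3
  have : e' ≠ 0 := fun h0 => hc' (by rw [he', h0, Nat.cast_zero])
  omega

/-- Every irreducible character over `θ` is induced from the inertia group. -/
theorem exists_indFun_eq_of_inertia (hNT : N ≤ T) {θ : N → ℂ}
    (hθ : Cfsg.IsIrrCharacter N θ) (hT : inertia θ = T) {χ : G → ℂ}
    (hχ : Cfsg.IsIrrCharacter G χ) (hc : Cfsg.classInner (fun n : N => χ n) θ ≠ 0) :
    ∃ ψ : T → ℂ, Cfsg.IsIrrCharacter T ψ ∧ Cfsg.indFun T ψ = χ ∧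
      Cfsg.classInner (fun n : N => ψ (Subgroup.inclusion hNT n)) θ =
        Cfsg.classInner (fun n : N => χ n) θ := by
  classical
  have hres := IsCharacter.restrict (IsIrrCharacter.isCharacter hχ) T
  have h1 : Cfsg.classInner (fun n : N => χ n) θ = ∑ ψ ∈ irrFinset T,
      Cfsg.classInner (fun t : T => χ t) ψ *
        Cfsg.classInner (fun n : N => ψ (Subgroup.inclusion hNT n)) θ := by
    have h2 : (fun n : N => χ n) = ∑ ψ ∈ irrFinset T, Cfsg.classInner (fun t : T => χ t) ψ •
        (fun n : N => ψ (Subgroup.inclusion hNT n)) := by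
      funext n
      have := congrFun (eq_sum_irr (IsCharacter.isClassFunction hres)) (Subgroup.inclusion hNT n)
      simpa [Finset.sum_apply] using this
    rw [h2, classInner_sum_left]
    simp_rw [classInner_smul_left]
  obtain ⟨ψ, hψ, hne⟩ := Finset.exists_ne_zero_of_sum_ne_zero (h1 ▸ hc)
  rw [mem_irrFinset] at hψ
  obtain ⟨hne1, hne2⟩ := mul_ne_zero_iff.1 hne
  obtain ⟨hirr, hmul⟩ := isIrrCharacter_indFun_of_inertia hNT hθ hT hψ hne2
  have heq : Cfsg.indFun T ψ = χ := by
    by_contra hh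
    refine hne1 ?_
    rw [← classInner_indFun_right (IsIrrCharacter.isClassFunction hχ),
      IsIrrCharacter.classInner_of_ne hχ hirr (Ne.symm hh)]
  exact ⟨ψ, hψ, heq, by rw [← hmul, heq]⟩

end CfsgLib.Char
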