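import Cfsg.Agent.Char.FrobeniusSchur
import Cfsg.Agent.Char.Equivalence

/-!
# An invariant alternating form makes fixed-point spaces even-dimensional
-/

set_option autoImplicit false

namespace CfsgLib.Char

open Matrix
open scoped ComplexConjugate

universe u
variable {G : Type u} [Group G]

theorem exists_splitting {n : ℕ} {E : Matrix (Fin n) (Fin n) ℂ} (hE : E * E = E) :
    ∃ (r : ℕ) (P : Matrix (Fin n) (Fin r) ℂ) (L : Matrix (Fin r) (Fin n) ℂ),
      L * P = 1 ∧ P * L = E := by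
  obtain ⟨e, he⟩ : ∃ e, e = Matrix.toLin' E := ⟨_, rfl⟩
  have hee : ∀ v, e (e v) = e v := fun v => by
    rw [he, Matrix.toLin'_apply, Matrix.toLin'_apply, Matrix.mulVec_mulVec, hE]
  let b := (Module.finBasis ℂ (LinearMap.range e)).equivFun
  refine ⟨_, LinearMap.toMatrix' ((LinearMap.range e).subtype.comp b.symm.toLinearMap),
    LinearMap.toMatrix' (b.toLinearMap.comp e.rangeRestrict), ?_, ?_⟩
  · rw [← LinearMap.toMatrix'_comp, ← LinearMap.toMatrix'_id]
    congr 1
    refine LinearMap.ext fun c => b.symm.injective ?_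
    simp only [LinearMap.comp_apply, LinearEquiv.coe_coe, LinearEquiv.symm_apply_apply,
      LinearMap.id_apply]
    refine Subtype.ext ?_
    obtain ⟨v, hv⟩ := (b.symm c).2
    change e ((b.symm c : LinearMap.range e) : Fin n → ℂ) = _
    rw [← hv, hee]
  · rw [← LinearMap.toMatrix'_comp]
    have : ((LinearMap.range e).subtype.comp b.symm.toLinearMap).comp
        (b.toLinearMap.comp e.rangeRestrict) = e := LinearMap.ext fun v => by simp
    rw [this, he, LinearMap.toMatrix'_toLin']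

/-- With an invariant invertible skew form, the trivial character occurs an even number of times
on every subgroup. -/
theorem exists_even_fixed [Fintype G] {n : ℕ} (ρ : Representation ℂ G (Fin n → ℂ))
    {Bm : Matrix (Fin n) (Fin n) ℂ} (hdet : IsUnit Bm.det) (hskew : Bmᵀ = -Bm)
    (hinv : ∀ g, LinearMap.toMatrix' (ρ g) * Bm * (LinearMap.toMatrix' (ρ g))ᵀ = Bm)
    (H : Subgroup G) [Fintype H] :
    ∃ r : ℕ, Even r ∧ Cfsg.classInner (fun h : H => ρ.character h) (fun _ => (1 : ℂ)) = r := by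
  classical
  let M : G → Matrix (Fin n) (Fin n) ℂ := fun g => LinearMap.toMatrix' (ρ g)
  have hMmul : ∀ g h, M g * M h = M (g * h) := fun g h => by
    simp only [M, map_mul, Module.End.mul_eq_comp, LinearMap.toMatrix'_comp]
  have hMinv : ∀ g, M g⁻¹ * M g = 1 := fun g => by
    rw [hMmul, inv_mul_cancel]
    simp [M, Module.End.one_eq_id, LinearMap.toMatrix'_id]
  have hcomm : ∀ g, M g * Bm = Bm * (M g⁻¹)ᵀ := fun g => by
    conv_rhs => rw [← hinv g]
    rw [mul_assoc, ← Matrix.transpose_mul, hMinv, Matrix.transpose_one, mul_one]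
  let E : Matrix (Fin n) (Fin n) ℂ := (Nat.card H : ℂ)⁻¹ • ∑ h : H, M h
  have hEB : E * Bm = Bm * Eᵀ := by
    simp only [E, smul_mul, Matrix.transpose_smul, Matrix.mul_smul, Finset.sum_mul,
      Matrix.transpose_sum, Finset.mul_sum, hcomm]
    congr 1
    exact Fintype.sum_equiv (Equiv.inv H) _ _ fun h => by simp
  have hE : E * E = E := by
    have h1 : ∀ h : H, M h * E = E := fun h => by
      simp only [E, Matrix.mul_smul, Finset.mul_sum, hMmul, ← Subgroup.coe_mul]
      congr 1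
      exact Equiv.sum_comp (Equiv.mulLeft h) (fun k : H => M k)
    conv_lhs => arg 1; simp only [E]
    rw [smul_mul, Finset.sum_mul]
    simp only [h1, Finset.sum_const, Finset.card_univ, ← Nat.card_eq_fintype_card,
      ← Nat.cast_smul_eq_nsmul ℂ, smul_smul]
    rw [inv_mul_cancel₀ (by simp), one_smul]
  obtain ⟨r, P, L, hLP, hPL⟩ := exists_splitting hE
  refine ⟨r, ?_, ?_⟩
  · have hX : (L * Bm * Lᵀ)ᵀ = -(L * Bm * Lᵀ) := by
      simp only [Matrix.transpose_mul, Matrix.transpose_transpose, hskew, Matrix.neg_mul,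
        Matrix.mul_neg, Matrix.mul_assoc]
    have hB1 : Bm * Bm⁻¹ = 1 := Matrix.mul_nonsing_inv _ hdet
    have hright : (L * Bm * Lᵀ) * (Pᵀ * Bm⁻¹ * P) = 1 := by
      have h1 : (L * Bm * Lᵀ) * (Pᵀ * Bm⁻¹ * P) = L * (Bm * Eᵀ) * Bm⁻¹ * P := by
        rw [← hPL, Matrix.transpose_mul]
        simp only [Matrix.mul_assoc]
      have h2 : L * E = L := by rw [← hPL, ← Matrix.mul_assoc, hLP, Matrix.one_mul]
      rw [h1, ← hEB, ← Matrix.mul_assoc L E, h2, Matrix.mul_assoc L Bm, hB1, Matrix.mul_one, hLP]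
    have hXdet : (L * Bm * Lᵀ).det ≠ 0 := fun h0 => by
      have := congrArg Matrix.det hright
      rw [Matrix.det_mul, h0, zero_mul, Matrix.det_one] at this
      exact zero_ne_one this
    have h2 := congrArg Matrix.det hX
    rw [Matrix.det_transpose, Matrix.det_neg, Fintype.card_fin] at h2
    by_contra hodd
    rw [Nat.not_even_iff_odd] at hodd
    rw [hodd.neg_one_pow] at h2
    exact hXdet (by linear_combination h2 / 2)
  · have htr : E.trace = (r : ℂ) := by
      rw [← hPL, Matrix.trace_mul_comm, hLP, Matrix.trace_one, Fintype.card_fin]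
    rw [← htr, classInner_def]
    simp only [E, trace_smul, trace_sum, smul_eq_mul, map_one, mul_one]
    congr 1
    refine Finset.sum_congr rfl fun h _ => ?_
    exact (LinearMap.trace_eq_matrix_trace ℂ (Pi.basisFun ℂ (Fin n)) _).trans
      (by rw [LinearMap.toMatrix_eq_toMatrix'])

theorem isUnit_det_of_invariant [Finite G] {n : ℕ} (ρ : Representation ℂ G (Fin n → ℂ))
    [ρ.IsIrreducible] {Bm : Matrix (Fin n) (Fin n) ℂ} (h0 : Bm ≠ 0)
    (hinv : ∀ g, LinearMap.toMatrix' (ρ g) * Bm * (LinearMap.toMatrix' (ρ g))ᵀ = Bm) :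
    IsUnit Bm.det := by
  let M : G → Matrix (Fin n) (Fin n) ℂ := fun g => LinearMap.toMatrix' (ρ g)
  have hMinv : ∀ g, M g⁻¹ * M g = 1 := fun g => by
    simp only [M, ← LinearMap.toMatrix'_comp, ← Module.End.mul_eq_comp, ← map_mul, inv_mul_cancel,
      map_one, Module.End.one_eq_id, LinearMap.toMatrix'_id]
  have hcomm : ∀ g, M g * Bm = Bm * (M g⁻¹)ᵀ := fun g => by
    conv_rhs => rw [← hinv g]
    rw [mul_assoc, ← Matrix.transpose_mul, hMinv, Matrix.transpose_one, mul_one]
  let U : Subrepresentation ρ :=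
    ⟨LinearMap.range (Matrix.toLin' Bm), fun g v hv => by
      obtain ⟨w, rfl⟩ := hv
      refine ⟨(M g⁻¹)ᵀ *ᵥ w, ?_⟩
      change Matrix.toLin' Bm _ = ρ g (Matrix.toLin' Bm w)
      rw [← Matrix.toLin'_toMatrix' (ρ g)]
      change Matrix.toLin' Bm _ = Matrix.toLin' (M g) _
      simp only [Matrix.toLin'_apply, Matrix.mulVec_mulVec, hcomm]⟩
  rcases IsSimpleOrder.eq_bot_or_eq_top U with hU | hU
  · have h1 : LinearMap.range (Matrix.toLin' Bm) = ⊥ := congrArg Subrepresentation.toSubmodule hU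
    exact absurd (Matrix.toLin'.injective ((LinearMap.range_eq_bot.1 h1).trans (map_zero _).symm)) h0
  · have h1 : LinearMap.range (Matrix.toLin' Bm) = ⊤ := congrArg Subrepresentation.toSubmodule hU
    exact (Matrix.isUnit_iff_isUnit_det _).1 (Matrix.isUnit_toLin'_iff.1
      ((LinearMap.isUnit_iff_range_eq_top _).2 h1))

/-- A real irreducible character with an odd number of fixed vectors of some subgroup has
indicator one. -/
theorem IsIrrCharacter.indicator_eq_one_of_odd_fixed [Fintype G] {χ : G → ℂ}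
    (hχ : Cfsg.IsIrrCharacter G χ) (hreal : ∀ g, (χ g).im = 0) (H : Subgroup G) [Fintype H]
    {r : ℕ} (hr : Cfsg.classInner (fun h : H => χ h) (fun _ => (1 : ℂ)) = r) (hodd : Odd r) :
    (Nat.card G : ℂ)⁻¹ * ∑ g : G, χ (g * g) = 1 := by
  classical
  obtain ⟨n, ρ, hρ, rfl⟩ := hχ
  obtain ⟨A, B, hsum, hdiff, hB⟩ := exists_fs_pair ρ
  have hχ : Cfsg.IsIrrCharacter G ρ.character := ⟨n, ρ, hρ, rfl⟩
  rw [IsIrrCharacter.classInner_eq hχ (IsIrrCharacter.conj hχ),
    if_pos (funext fun g => (Complex.conj_eq_iff_im.2 (hreal g)).symm)] at hsum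
  have hAB : A + B = 1 := by exact_mod_cast hsum.symm
  rcases Nat.eq_zero_or_pos B with h | h
  · rw [hdiff, h, show A = 1 by omega]; simp
  · exfalso
    obtain ⟨Bm, h0, hs, hi⟩ := hB h.ne'
    obtain ⟨r', hr', hr'e⟩ := exists_even_fixed ρ (isUnit_det_of_invariant ρ h0 hi) hs hi H
    rw [hr, Nat.cast_inj] at hr'e
    exact Nat.not_even_iff_odd.2 hodd (hr'e ▸ hr')

end CfsgLib.Char
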