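import Cfsg.Agent.Char.CosetSquare
import Cfsg.Agent.Char.CliffordCorrespondence
import Cfsg.Agent.Char.SkewFixed
import Cfsg.Agent.Char.Linear
import Cfsg.Agent.BlocksB.ClassSum

/-!
# Twisting induced extensions by linear characters
-/

set_option autoImplicit false
set_option linter.style.haveILetI false

namespace CfsgLib.Char

open scoped ComplexConjugate

universe u

variable {G : Type u} [Group G]

/-- Real irreducible characters with odd restriction multiplicity have the same indicator. -/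
theorem indicator_mul_eq_one_of_odd [Fintype G] {I : Subgroup G} [Fintype I] {χ : G → ℂ}
    {ψ : I → ℂ} (hχ : Cfsg.IsIrrCharacter G χ) (hψ : Cfsg.IsIrrCharacter I ψ)
    (hχr : ∀ g, (χ g).im = 0) (hψr : ∀ g, (ψ g).im = 0) {r : ℕ}
    (hr : Cfsg.classInner (fun h : I => χ h) ψ = r) (hodd : Odd r) :
    ((Nat.card G : ℂ)⁻¹ * ∑ g : G, χ (g * g)) * ((Nat.card I : ℂ)⁻¹ * ∑ g : I, ψ (g * g)) = 1 := by
  classical
  obtain ⟨T, hT⟩ : ∃ T : G × I → ℂ, T = fun x => χ x.1 * ψ x.2 := ⟨_, rfl⟩
  have hTc : Cfsg.IsCharacter (G × I) T := hT ▸ IsCharacter.mul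
    (IsCharacter.comp (IsIrrCharacter.isCharacter hχ) (MonoidHom.fst G I))
    (IsCharacter.comp (IsIrrCharacter.isCharacter hψ) (MonoidHom.snd G I))
  have hTi : Cfsg.IsIrrCharacter (G × I) T := by
    refine IsCharacter.isIrrCharacter_of_classInner_self hTc ?_
    have h : Cfsg.classInner T T = Cfsg.classInner χ χ * Cfsg.classInner ψ ψ := by
      simp only [hT, classInner_def, Nat.card_prod, Nat.cast_mul, Fintype.sum_prod_type,
        Finset.mul_sum, Finset.sum_mul, map_mul, mul_inv]
      conv_rhs => rw [Finset.sum_comm]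
      exact Finset.sum_congr rfl fun x _ => Finset.sum_congr rfl fun y _ => by ring
    rw [h, IsIrrCharacter.classInner_self hχ, IsIrrCharacter.classInner_self hψ, one_mul]
  have hTr : ∀ x, (T x).im = 0 := fun x => by
    simp [hT, Complex.mul_im, hχr, hψr]
  let f : I →* G × I := MonoidHom.prod I.subtype (MonoidHom.id I)
  haveI : Fintype f.range := Fintype.ofFinite _
  have hfix : Cfsg.classInner (fun h : f.range => T h) (fun _ => (1 : ℂ)) = r := by
    rw [← hr, classInner_def, classInner_def]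
    have hinj : Function.Injective f := fun a b h => congrArg Prod.snd h
    have e : I ≃ f.range := (MonoidHom.ofInjective hinj).toEquiv
    rw [← Nat.card_congr (MonoidHom.ofInjective hinj).toEquiv]
    congr 1
    refine (Fintype.sum_equiv (MonoidHom.ofInjective hinj).toEquiv _ _ fun y => ?_).symm
    simp [hT, f, MonoidHom.ofInjective_apply, Complex.conj_eq_iff_im.2 (hψr y)]
  have h := IsIrrCharacter.indicator_eq_one_of_odd_fixed hTi hTr f.range hfix hodd
  rw [← h]
  simp only [hT, Nat.card_prod, Nat.cast_mul, Fintype.sum_prod_type, Finset.mul_sum,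
    Finset.sum_mul, Prod.fst_mul, Prod.snd_mul, mul_inv]
  rw [Finset.sum_comm]
  exact Finset.sum_congr rfl fun x _ => Finset.sum_congr rfl fun y _ => by ring

theorem classInner_mul_hom [Fintype G] (χ : G → ℂ) (lam : G →* ℂˣ) :
    Cfsg.classInner (χ * fun g => (lam g : ℂ)) (χ * fun g => (lam g : ℂ)) =
      Cfsg.classInner χ χ := by
  rw [classInner_def, classInner_def]
  congr 1
  refine Finset.sum_congr rfl fun g _ => ?_
  have h : (lam g : ℂ) * conj (lam g : ℂ) = 1 := by
    rw [conj_eq_inv_hom, ← Units.val_mul, ← map_mul, mul_inv_cancel, map_one, Units.val_one]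
  rw [Pi.mul_apply, map_mul]
  calc χ g * (lam g : ℂ) * (conj (χ g) * conj (lam g : ℂ))
      = χ g * conj (χ g) * ((lam g : ℂ) * conj (lam g : ℂ)) := by ring
    _ = _ := by rw [h, mul_one]

theorem IsIrrCharacter.mul_hom [Fintype G] {χ : G → ℂ} (hχ : Cfsg.IsIrrCharacter G χ)
    (lam : G →* ℂˣ) : Cfsg.IsIrrCharacter G (χ * fun g => (lam g : ℂ)) :=
  IsCharacter.isIrrCharacter_of_classInner_self
    (IsCharacter.mul (IsIrrCharacter.isCharacter hχ)
      (IsIrrCharacter.isCharacter (isIrrCharacter_ofHom lam)))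
    (by rw [classInner_mul_hom, IsIrrCharacter.classInner_self hχ])

/-- There are at most `[G:I]` linear characters trivial on a subgroup. -/
theorem card_hom_trivial_le [Finite G] (I : Subgroup G) :
    Nat.card {lam : G →* ℂˣ // ∀ x ∈ I, lam x = 1} ≤ I.index := by
  obtain ⟨J, hJ⟩ : ∃ J, J = I ⊔ commutator G := ⟨_, rfl⟩
  haveI hJn : J.Normal := Subgroup.Normal.of_commutator_le _ (by rw [hJ]; exact le_sup_right)
  have hker : ∀ lam : {lam : G →* ℂˣ // ∀ x ∈ I, lam x = 1}, J ≤ lam.1.ker := fun lam => by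
    rw [hJ, sup_le_iff]
    exact ⟨fun x hx => lam.2 x hx, Abelianization.commutator_subset_ker lam.1⟩
  haveI : Finite (G ⧸ J →* ℂˣ) := Finite.of_equiv _ (linearCharEquiv (G := G ⧸ J)).symm
  refine le_trans ?_ (Nat.le_of_dvd (Nat.pos_of_ne_zero Subgroup.index_ne_zero_of_finite)
    (Subgroup.index_dvd_of_le (show I ≤ J by rw [hJ]; exact le_sup_left)))
  refine (Nat.card_le_card_of_injective (fun lam => QuotientGroup.lift J lam.1 (hker lam))
    fun a b h => Subtype.ext (MonoidHom.ext fun g => ?_)).trans ?_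
  · have := DFunLike.congr_fun h (g : G ⧸ J)
    simpa using this
  · rw [card_hom_eq_index_commutator]
    exact Nat.le_of_dvd Nat.card_pos (Subgroup.index_dvd_card _)

/-- The setting: `ψ` extends `φ` to the inertia group and `N` is in the derived group. -/
theorem twist_data [Fintype G] {N : Subgroup G} [N.Normal] {I : Subgroup G} (hNI : N ≤ I)
    {φ : N → ℂ} (hφ : Cfsg.IsIrrCharacter N φ) (hI : inertia φ = I)
    {ψ : I → ℂ} (hψ : Cfsg.IsIrrCharacter I ψ)
    (hext : ∀ n : N, ψ (Subgroup.inclusion hNI n) = φ n) (hN : N ≤ commutator G) :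
    Cfsg.IsIrrCharacter G (Cfsg.indFun I ψ) ∧
      ∀ lam mu : G →* ℂˣ,
        (Cfsg.indFun I ψ * fun g => (lam g : ℂ)) = (Cfsg.indFun I ψ * fun g => (mu g : ℂ)) →
        ∀ x ∈ I, lam x = mu x := by
  classical
  haveI := Fintype.ofFinite N
  haveI := Fintype.ofFinite I
  have hres : Cfsg.classInner (fun n : N => ψ (Subgroup.inclusion hNI n)) φ ≠ 0 := by
    rw [funext hext, IsIrrCharacter.classInner_self hφ]; exact one_ne_zero
  refine ⟨(isIrrCharacter_indFun_of_inertia hNI hφ hI hψ hres).1, fun lam mu h x hx => ?_⟩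
  have hmem : ∀ (l : G →* ℂˣ) (n : N), l n = 1 := fun l n =>
    Abelianization.commutator_subset_ker l (hN n.2)
  have hmul : ∀ l : G →* ℂˣ, Cfsg.indFun I (ψ * fun y : I => (l y : ℂ)) =
      Cfsg.indFun I ψ * fun g => (l g : ℂ) := fun l =>
    indFun_mul_restrict ψ (IsIrrCharacter.isClassFunction (isIrrCharacter_ofHom l))
  rw [← hmul, ← hmul] at h
  have hirr : ∀ l : G →* ℂˣ, Cfsg.IsIrrCharacter I (ψ * fun y : I => (l y : ℂ)) := fun l =>
    IsIrrCharacter.mul_hom hψ (l.comp I.subtype)
  have hc : ∀ l : G →* ℂˣ, Cfsg.classInner (fun n : N =>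
      (ψ * fun y : I => (l y : ℂ)) (Subgroup.inclusion hNI n)) φ ≠ 0 := fun l => by
    have : (fun n : N => (ψ * fun y : I => (l y : ℂ)) (Subgroup.inclusion hNI n)) =
        fun n : N => ψ (Subgroup.inclusion hNI n) := funext fun n => by
      simp [hmem l n]
    rw [this]; exact hres
  have heq := indFun_injective_of_inertia hNI hφ hI (hirr lam) (hirr mu) (hc lam) (hc mu) h
  obtain ⟨K, hK⟩ : ∃ K, K = N.subgroupOf I := ⟨_, rfl⟩
  haveI : K.Normal := hK ▸ inferInstance
  have hKirr : Cfsg.IsIrrCharacter K (fun y : K => ψ y) := by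
    subst hK
    have := IsIrrCharacter.comp_surjective hφ (Subgroup.subgroupOfEquivOfLe hNI).toMonoidHom
      (Subgroup.subgroupOfEquivOfLe hNI).surjective
    convert this using 1
    funext y
    exact (congrArg ψ (show (y : I) = Subgroup.inclusion hNI (Subgroup.subgroupOfEquivOfLe hNI y)
      from Subtype.ext rfl)).trans (hext _)
  obtain ⟨y, hy⟩ := (isIrr_restrict_iff_no_zero_coset K hψ).1 hKirr ⟨x, hx⟩
  have hyN : ((y : I) : G) ∈ N := by
    have := y.2
    simp only [hK] at this
    exact Subgroup.mem_subgroupOf.1 this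
  have h1 := congrFun heq ((y : I) * ⟨x, hx⟩)
  simp only [Pi.mul_apply, Subgroup.coe_mul, map_mul, Units.val_mul, hmem lam ⟨_, hyN⟩,
    hmem mu ⟨_, hyN⟩, Units.val_one, one_mul] at h1
  exact Units.ext (mul_left_cancel₀ hy h1)

/-- A nonabelian minimal normal subgroup lies in the derived group. -/
theorem le_commutator_of_minimal {N : Subgroup G} (hN : N.Normal)
    (hmin : ∀ M : Subgroup G, M.Normal → M ≤ N → M = ⊥ ∨ M = N) (hna : ¬ IsMulCommutative N) :
    N ≤ commutator G := by
  haveI := hN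
  rcases hmin ⁅N, N⁆ inferInstance (Subgroup.commutator_le_self N) with h | h
  · refine absurd ⟨⟨fun a b => Subtype.ext ?_⟩⟩ hna
    have := Subgroup.commutator_mem_commutator (H₁ := N) (H₂ := N) a.2 b.2
    rw [h, Subgroup.mem_bot, commutatorElement_eq_one_iff_mul_comm] at this
    exact this
  · calc N = ⁅N, N⁆ := h.symm
      _ ≤ commutator G := by rw [commutator_def]; exact Subgroup.commutator_mono le_top le_top

/-- Counting through a map with small fibres. -/
theorem card_le_index_mul [Finite G] (I : Subgroup G) (S : (G →* ℂˣ) → Prop) {β : Type*} [Finite β]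
    (f : {lam : G →* ℂˣ // S lam} → β) (hf : ∀ a b, f a = f b → ∀ x ∈ I, a.1 x = b.1 x) :
    Nat.card {lam : G →* ℂˣ // S lam} ≤ I.index * Nat.card β := by
  classical
  haveI : Finite (G →* ℂˣ) := Finite.of_equiv _ (linearCharEquiv (G := G)).symm
  refine le_trans ?_ (Nat.mul_le_mul_right _ (card_hom_trivial_le I))
  rw [← Nat.card_prod]
  have h : ∀ b : β, (∃ a, f a = b) → {a // f a = b} := fun b hb => ⟨hb.choose, hb.choose_spec⟩
  refine Nat.card_le_card_of_injective (fun a =>
    ((⟨a.1 / (h (f a) ⟨a, rfl⟩).1.1, fun x hx => ?_⟩ : {lam : G →* ℂˣ // ∀ x ∈ I, lam x = 1}),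
      f a)) fun a b hab => ?_
  · rw [MonoidHom.div_apply, hf a _ (h (f a) ⟨a, rfl⟩).2.symm x hx, div_self']
  · simp only [Prod.mk.injEq, Subtype.mk.injEq] at hab
    have hh : ∀ c d : β, c = d → ∀ hc hd, (h c hc).1 = (h d hd).1 := by rintro c _ rfl _ _; rfl
    have := hab.1
    rw [hh _ _ hab.2 _ ⟨b, rfl⟩] at this
    exact Subtype.ext (div_left_injective this)

end CfsgLib.Char
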