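import Cfsg.Agent.Char.Induction
import Mathlib.GroupTheory.QuotientGroup.Basic

/-!
# Induction commutes with inflation
-/

namespace CfsgLib.Char

universe u

variable {G : Type u} [Group G] [Fintype G]

theorem sum_comp_mk' (A : Subgroup G) [A.Normal] [Fintype (G ⧸ A)] (F : G ⧸ A → ℂ) :
    ∑ x : G, F (QuotientGroup.mk' A x) = (Nat.card A : ℂ) * ∑ y, F y := by
  classical
  rw [← Finset.sum_fiberwise' Finset.univ (QuotientGroup.mk' A) F, Finset.mul_sum]
  refine Finset.sum_congr rfl fun y _ => ?_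
  rw [Finset.sum_const, nsmul_eq_mul]
  congr 2
  obtain ⟨x, rfl⟩ := QuotientGroup.mk'_surjective A y
  rw [← Fintype.card_subtype, ← Nat.card_eq_fintype_card]
  let e : A ≃ {z : G // QuotientGroup.mk' A z = QuotientGroup.mk' A x} :=
    { toFun := fun a => ⟨x * a, by simp⟩
      invFun := fun z => ⟨x⁻¹ * z.1, QuotientGroup.eq.1 z.2.symm⟩
      left_inv := fun a => Subtype.ext (by simp)
      right_inv := fun z => Subtype.ext (by simp) }
  exact (Nat.card_congr e).symm

theorem indFun_inflate (A H : Subgroup G) [A.Normal] (hAH : A ≤ H) [Fintype (G ⧸ A)]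
    (θ : H → ℂ) (θ₁ : ↥(H.map (QuotientGroup.mk' A)) → ℂ)
    (hθ : ∀ x : H, θ₁ ⟨QuotientGroup.mk' A x, Subgroup.mem_map_of_mem _ x.2⟩ = θ x) (g : G) :
    Cfsg.indFun (H.map (QuotientGroup.mk' A)) θ₁ (QuotientGroup.mk' A g) = Cfsg.indFun H θ g := by
  classical
  have hmem : ∀ x : G, (QuotientGroup.mk' A) x ∈ H.map (QuotientGroup.mk' A) ↔ x ∈ H := fun x => by
    rw [← Subgroup.mem_comap, Subgroup.comap_map_eq, QuotientGroup.ker_mk', sup_eq_left.2 hAH]
  have hext : ∀ x : G, Cfsg.extendByZero (H.map (QuotientGroup.mk' A)) θ₁ ((QuotientGroup.mk' A) x) = Cfsg.extendByZero H θ x := fun x => by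
    by_cases hx : x ∈ H
    · rw [extendByZero_of_mem θ₁ ((hmem x).2 hx), extendByZero_of_mem θ hx, ← hθ ⟨x, hx⟩]
    · rw [extendByZero_of_not_mem θ₁ (fun h => hx ((hmem x).1 h)), extendByZero_of_not_mem θ hx]
  have hcard : (Nat.card H : ℂ) = (Nat.card A : ℂ) * Nat.card (H.map (QuotientGroup.mk' A)) := by
    have e1 : Nat.card G = Nat.card H * H.index := H.card_mul_index.symm
    have e2 : (H.map (QuotientGroup.mk' A)).index = H.index := by
      exact H.index_map_eq (QuotientGroup.mk'_surjective A) (by rw [QuotientGroup.ker_mk']; exact hAH)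
    have e3 : Nat.card G = Nat.card A * (Nat.card (H.map (QuotientGroup.mk' A)) * (H.map (QuotientGroup.mk' A)).index) := by
      rw [Subgroup.card_mul_index, mul_comm, ← A.card_eq_card_quotient_mul_card_subgroup]
    rw [e2, ← mul_assoc, e1] at e3
    rw [← Nat.cast_mul, Nat.eq_of_mul_eq_mul_right (Nat.pos_of_ne_zero H.index_ne_zero_of_finite) e3]
  have hA : (Nat.card A : ℂ) ≠ 0 := by simp
  rw [indFun_def, indFun_def, hcard]
  conv_rhs => arg 2; arg 2; ext x; rw [← hext, map_mul, map_mul, map_inv]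
  rw [sum_comp_mk' A (fun y => Cfsg.extendByZero (H.map (QuotientGroup.mk' A)) θ₁ (y⁻¹ * (QuotientGroup.mk' A) g * y))]
  field_simp

end CfsgLib.Char
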