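import Cfsg.Agent.Char.Clifford
import Cfsg.Agent.Char.Constituents
import Cfsg.Agent.Char.Monomial
import Cfsg.Agent.Char.InflationInduction

/-!
# Invariant characters of a normal subgroup

Gallagher's theorem, fully ramified characters and abelian quotients.
-/

set_option autoImplicit false
set_option linter.style.haveILetI false

namespace CfsgLib.Char

open scoped ComplexConjugate

universe u

variable {G : Type u} [Group G] {N : Subgroup G} [hN : N.Normal]

theorem inertia_eq_top {θ : N → ℂ}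
    (hinv : ∀ (g : G) (n : N), θ ⟨g * n * g⁻¹, hN.conj_mem (n : G) n.2 g⟩ = θ n) :
    inertia θ = ⊤ :=
  eq_top_iff.2 fun g _ => (mem_inertia_iff θ g).2 (hinv g)

variable [Fintype G]

theorem classInner_indFun_self_of_invariant [Fintype N] {θ : N → ℂ}
    (hθ : Cfsg.IsIrrCharacter N θ) (hI : inertia θ = ⊤) :
    Cfsg.classInner (Cfsg.indFun N θ) (Cfsg.indFun N θ) = (N.index : ℂ) := by
  rw [classInner_indFun_self hθ, hI, Subgroup.card_top, card_div_card_subgroup]

theorem restrict_eq_smul_of_invariant [Fintype N] {χ : G → ℂ} (hχ : Cfsg.IsIrrCharacter G χ)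
    {θ : N → ℂ} (hθ : Cfsg.IsIrrCharacter N θ) (hI : inertia θ = ⊤)
    (h : Cfsg.classInner (fun n : N => χ n) θ ≠ 0) :
    (fun n : N => χ n) = Cfsg.classInner (fun n : N => χ n) θ • θ := by
  have horb : conjOrbit θ = {θ} :=
    Finset.eq_singleton_iff_unique_mem.2 ⟨self_mem_conjOrbit _, fun φ hφ => by
      obtain ⟨t, rfl⟩ := mem_conjOrbit.1 hφ
      exact (mem_inertia θ t).1 (hI ▸ Subgroup.mem_top t)⟩
  have h1 := restrict_eq_smul_sum hχ hθ h
  rwa [horb, Finset.sum_singleton] at h1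

omit hN in
/-- Constituents of an induced character, seen from the restriction. -/
theorem classInner_indFun_ne_zero_iff [Fintype N] {χ : G → ℂ} (hχ : Cfsg.IsClassFunction G χ)
    (θ : N → ℂ) :
    Cfsg.classInner (Cfsg.indFun N θ) χ ≠ 0 ↔
      Cfsg.classInner (fun n : N => χ n) θ ≠ 0 := by
  rw [classInner_indFun θ hχ, ← classInner_conj (fun n : N => χ n) θ, Ne, map_eq_zero]

/-- Multiplication by a character sending one constituent family to another of the same norm is
a bijection on the constituents. -/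
theorem mul_bijOn_of_norm {Φ : G → ℂ} (hΦ : Cfsg.IsCharacter G Φ) {χ : G → ℂ}
    (hχ : Cfsg.IsCharacter G χ) (hχ1 : χ 1 ≠ 0)
    (hnorm : Cfsg.classInner (Φ * χ) (Φ * χ) = Cfsg.classInner Φ Φ) :
    Set.BijOn (fun β : G → ℂ => β * χ)
      {β | Cfsg.IsIrrCharacter G β ∧ Cfsg.classInner Φ β ≠ 0}
      {ψ | Cfsg.IsIrrCharacter G ψ ∧ Cfsg.classInner (Φ * χ) ψ ≠ 0} := by
  classical
  obtain ⟨S, hS⟩ : ∃ S : Finset (G → ℂ),
      ∀ β, β ∈ S ↔ Cfsg.IsIrrCharacter G β ∧ Cfsg.classInner Φ β ≠ 0 :=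
    ⟨(irrFinset G).filter (fun β => Cfsg.classInner Φ β ≠ 0), fun β => by simp⟩
  have hex : ∀ β ∈ S, ∃ e : ℕ, Cfsg.classInner Φ β = e := fun β hβ =>
    IsCharacter.exists_classInner_eq_natCast hΦ ((hS β).1 hβ).1
  choose! e he using hex
  have hkex : ∀ β ∈ S, ∀ β' ∈ S, ∃ k : ℕ, Cfsg.classInner (β * χ) (β' * χ) = k :=
    fun β hβ β' hβ' => IsCharacter.exists_classInner_eq_natCast'
      (IsCharacter.mul (IsIrrCharacter.isCharacter ((hS β).1 hβ).1) hχ)
      (IsCharacter.mul (IsIrrCharacter.isCharacter ((hS β').1 hβ').1) hχ)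
  choose! k hk using hkex
  have he0 : ∀ β ∈ S, 0 < e β := fun β hβ => Nat.pos_of_ne_zero fun h0 =>
    ((hS β).1 hβ).2 (by rw [he β hβ, h0, Nat.cast_zero])
  have hk0 : ∀ β ∈ S, 0 < k β β := fun β hβ => Nat.pos_of_ne_zero fun h0 => by
    have h1 := hk β hβ β hβ
    rw [h0, Nat.cast_zero] at h1
    have := congrFun (classInner_self_eq_zero h1) 1
    simp only [Pi.mul_apply, Pi.zero_apply, mul_eq_zero] at this
    exact this.elim (IsIrrCharacter.apply_one_ne_zero ((hS β).1 hβ).1) hχ1
  have hexp : Φ = ∑ β ∈ S, (e β : ℂ) • β := by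
    conv_lhs => rw [eq_sum_irr (IsCharacter.isClassFunction hΦ)]
    rw [← Finset.sum_subset (s₁ := S) (fun β hβ => mem_irrFinset.2 ((hS β).1 hβ).1)
      (fun β hβ hn => ?_)]
    · exact Finset.sum_congr rfl fun β hβ => by rw [he β hβ]
    · have : Cfsg.classInner Φ β = 0 := by
        by_contra h
        exact hn ((hS β).2 ⟨mem_irrFinset.1 hβ, h⟩)
      rw [this, zero_smul]
  have hexp' : Φ * χ = ∑ β ∈ S, (e β : ℂ) • (β * χ) := by
    conv_lhs => rw [hexp]
    rw [Finset.sum_mul]
    exact Finset.sum_congr rfl fun β _ => smul_mul_assoc _ _ _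
  have hinner : ∀ β ∈ S, Cfsg.classInner (Φ * χ) (β * χ) =
      ((∑ β' ∈ S, e β' * k β' β : ℕ) : ℂ) := fun β hβ => by
    rw [hexp', classInner_sum_left, Nat.cast_sum]
    exact Finset.sum_congr rfl fun β' hβ' => by
      rw [classInner_smul_left, hk β' hβ' β hβ, Nat.cast_mul]
  have hsum : ∑ β ∈ S, e β * ∑ β' ∈ S, e β' * k β' β = ∑ β ∈ S, e β * e β := by
    have h1 : Cfsg.classInner (Φ * χ) (Φ * χ) =
        ((∑ β ∈ S, e β * ∑ β' ∈ S, e β' * k β' β : ℕ) : ℂ) := by
      conv_lhs => arg 2; rw [hexp']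
      rw [classInner_sum_right, Nat.cast_sum]
      exact Finset.sum_congr rfl fun β hβ => by
        rw [classInner_smul_right, Complex.conj_natCast, hinner β hβ, Nat.cast_mul]
    have h2 : Cfsg.classInner Φ Φ = ((∑ β ∈ S, e β * e β : ℕ) : ℂ) := by
      conv_lhs => arg 2; rw [hexp]
      rw [classInner_sum_right, Nat.cast_sum]
      exact Finset.sum_congr rfl fun β hβ => by
        rw [classInner_smul_right, Complex.conj_natCast, he β hβ, Nat.cast_mul]
    rw [hnorm, h2] at h1
    exact_mod_cast h1.symm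
  have hle : ∀ β ∈ S, e β * e β ≤ e β * ∑ β' ∈ S, e β' * k β' β := fun β hβ =>
    Nat.mul_le_mul_left _ ((Nat.le_mul_of_pos_right _ (hk0 β hβ)).trans
      (Finset.single_le_sum (f := fun β' => e β' * k β' β) (fun i _ => Nat.zero_le _) hβ))
  have heq : ∀ β ∈ S, ∑ β' ∈ S, e β' * k β' β = e β := fun β hβ =>
    (Nat.eq_of_mul_eq_mul_left (he0 β hβ)
      ((Finset.sum_eq_sum_iff_of_le hle).1 hsum.symm β hβ)).symm
  have hdiag : ∀ β ∈ S, k β β = 1 ∧ ∀ β' ∈ S, β' ≠ β → k β' β = 0 := fun β hβ => by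
    have h1 := heq β hβ
    rw [← Finset.add_sum_erase S (fun β' => e β' * k β' β) hβ] at h1
    have h2 : e β * 1 ≤ e β * k β β := Nat.mul_le_mul_left _ (hk0 β hβ)
    have h3 : e β * k β β = e β * 1 ∧ ∑ x ∈ S.erase β, e x * k x β = 0 := by omega
    refine ⟨Nat.eq_of_mul_eq_mul_left (he0 β hβ) h3.1, fun β' hβ' hne => ?_⟩
    have h4 := Finset.sum_eq_zero_iff.1 h3.2 β' (Finset.mem_erase.2 ⟨hne, hβ'⟩)
    exact (Nat.mul_eq_zero.1 h4).resolve_left (he0 β' hβ').ne'
  have hirr : ∀ β ∈ S, Cfsg.IsIrrCharacter G (β * χ) := fun β hβ =>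
    IsCharacter.isIrrCharacter_of_classInner_self
      (IsCharacter.mul (IsIrrCharacter.isCharacter ((hS β).1 hβ).1) hχ)
      (by rw [hk β hβ β hβ, (hdiag β hβ).1, Nat.cast_one])
  refine ⟨fun β hβ => ?_, fun β hβ β' hβ' h => ?_, fun ψ hψ => ?_⟩
  · have hβ' := (hS β).2 hβ
    refine ⟨hirr β hβ', ?_⟩
    rw [hinner β hβ', heq β hβ', Nat.cast_ne_zero]
    exact (he0 β hβ').ne'
  · by_contra hne
    have hb := (hS β).2 hβ
    have hb' := (hS β').2 hβ'
    have h1 := hk β hb β' hb'
    simp only at h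
    rw [(hdiag β' hb').2 β hb hne, Nat.cast_zero, h,
      IsIrrCharacter.classInner_self (hirr β' hb')] at h1
    exact one_ne_zero h1
  · obtain ⟨hψi, hψc⟩ := hψ
    rw [hexp', classInner_sum_left] at hψc
    obtain ⟨β, hβ, hne⟩ := Finset.exists_ne_zero_of_sum_ne_zero hψc
    refine ⟨β, (hS β).1 hβ, ?_⟩
    by_contra hne'
    rw [classInner_smul_left, IsIrrCharacter.classInner_of_ne (hirr β hβ) hψi hne',
      mul_zero] at hne
    exact hne rfl

/-- Gallagher's theorem. -/
theorem gallagher_bijOn [Fintype N] {φ ϑ : N → ℂ} (hφ : Cfsg.IsIrrCharacter N φ)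
    (hφI : inertia φ = ⊤) (hϑI : inertia ϑ = ⊤) (hprod : Cfsg.IsIrrCharacter N (φ * ϑ))
    {χ : G → ℂ} (hχ : Cfsg.IsIrrCharacter G χ) (hext : ∀ n : N, χ n = ϑ n) :
    Set.BijOn (fun β : G → ℂ => β * χ)
      {β | Cfsg.IsIrrCharacter G β ∧ Cfsg.classInner (Cfsg.indFun N φ) β ≠ 0}
      {ψ | Cfsg.IsIrrCharacter G ψ ∧
        Cfsg.classInner (Cfsg.indFun N (φ * ϑ)) ψ ≠ 0} := by
  have h : Cfsg.indFun N (φ * ϑ) = Cfsg.indFun N φ * χ := by
    rw [← indFun_mul_restrict φ (IsIrrCharacter.isClassFunction hχ)]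
    congr 1
    funext n
    rw [Pi.mul_apply, Pi.mul_apply, hext]
  have hI : inertia (φ * ϑ) = ⊤ := inertia_eq_top fun g n => by
    have h1 := (mem_inertia_iff φ g).1 (hφI ▸ Subgroup.mem_top g) n
    have h2 := (mem_inertia_iff ϑ g).1 (hϑI ▸ Subgroup.mem_top g) n
    rw [Pi.mul_apply, Pi.mul_apply, h1, h2]
  rw [h]
  refine mul_bijOn_of_norm (IsCharacter.indFun (IsIrrCharacter.isCharacter hφ))
    (IsIrrCharacter.isCharacter hχ) (IsIrrCharacter.apply_one_ne_zero hχ) ?_
  rw [← h, classInner_indFun_self_of_invariant hprod hI,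
    classInner_indFun_self_of_invariant hφ hφI]

theorem inertia_one : inertia (fun _ : N => (1 : ℂ)) = ⊤ := inertia_eq_top fun _ _ => rfl

/-- The constituents of the permutation character on `G / N`. -/
theorem classInner_indFun_one_ne_zero_iff [Fintype N] {β : G → ℂ}
    (hβ : Cfsg.IsIrrCharacter G β) :
    Cfsg.classInner (Cfsg.indFun N fun _ => 1) β ≠ 0 ↔ ∀ n ∈ N, β n = β 1 := by
  rw [classInner_indFun_ne_zero_iff (IsIrrCharacter.isClassFunction hβ)]
  constructor
  · intro h n hn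
    have h1 := restrict_eq_smul_of_invariant hβ isIrrCharacter_one inertia_one h
    have h2 := congrFun h1 ⟨n, hn⟩
    have h3 := congrFun h1 1
    simp only [Pi.smul_apply, smul_eq_mul, mul_one, OneMemClass.coe_one] at h2 h3
    rw [h2, h3]
  · intro h
    have : (fun n : N => β n) = β 1 • fun _ : N => (1 : ℂ) := funext fun n => by
      rw [Pi.smul_apply, smul_eq_mul, mul_one, h n n.2]
    rw [this, classInner_smul_left, classInner_one_one, mul_one]
    exact IsIrrCharacter.apply_one_ne_zero hβ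

/-- The case of the trivial character: irreducible characters over an extendible character. -/
theorem gallagher_one [Fintype N] {χ : G → ℂ} (hχ : Cfsg.IsIrrCharacter G χ)
    (hres : Cfsg.IsIrrCharacter N (fun n : N => χ n)) :
    Set.BijOn (fun β : G → ℂ => β * χ)
      {β | Cfsg.IsIrrCharacter G β ∧ ∀ n ∈ N, β n = β 1}
      {ψ | Cfsg.IsIrrCharacter G ψ ∧
        Cfsg.classInner (fun n : N => ψ n) (fun n : N => χ n) ≠ 0} := by
  have hone : ((fun _ : N => (1 : ℂ)) * fun n : N => χ n) = fun n : N => χ n :=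
    funext fun n => one_mul (χ n)
  have h := gallagher_bijOn (φ := fun _ : N => (1 : ℂ)) isIrrCharacter_one inertia_one
    (inertia_eq_top fun g n => IsIrrCharacter.isClassFunction hχ n g) (by rw [hone]; exact hres)
    hχ (fun _ => rfl)
  rw [hone] at h
  convert h using 1
  · ext β
    exact and_congr_right fun hβ => (classInner_indFun_one_ne_zero_iff hβ).symm
  · ext ψ
    exact and_congr_right fun hψ =>
      (classInner_indFun_ne_zero_iff (IsIrrCharacter.isClassFunction hψ) _).symm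

theorem indFun_one_apply_of_mem {n : G} (hn : n ∈ N) :
    Cfsg.indFun N (fun _ => (1 : ℂ)) n = (N.index : ℂ) := by
  rw [show n = ((⟨n, hn⟩ : N) : G) from rfl, indFun_apply_normal, Finset.sum_const,
    Finset.card_univ, nsmul_eq_mul, mul_one, ← Nat.card_eq_fintype_card,
    ← card_div_card_subgroup (H := N), div_eq_inv_mul]

/-- Fully ramified characters. -/
theorem fully_ramified_tfae [Fintype N] {χ : G → ℂ} (hχ : Cfsg.IsIrrCharacter G χ) {ϑ : N → ℂ}
    (hϑ : Cfsg.IsIrrCharacter N ϑ) (hcon : Cfsg.classInner (fun n : N => χ n) ϑ ≠ 0) :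
    ((∃ e : ℕ, (fun n : N => χ n) = (e : ℂ) • ϑ ∧ e ^ 2 = N.index) ↔
        ((∀ g : G, g ∉ N → χ g = 0) ∧ inertia ϑ = ⊤)) ∧
      ((∃ e : ℕ, (fun n : N => χ n) = (e : ℂ) • ϑ ∧ e ^ 2 = N.index) ↔
        (inertia ϑ = ⊤ ∧ ∀ ψ : G → ℂ, Cfsg.IsIrrCharacter G ψ →
          Cfsg.classInner (Cfsg.indFun N ϑ) ψ ≠ 0 → ψ = χ)) := by
  classical
  have hcl := IsIrrCharacter.isClassFunction hχ
  obtain ⟨e, he⟩ := IsCharacter.exists_classInner_eq_natCast
    (IsCharacter.restrict (IsIrrCharacter.isCharacter hχ) N) hϑ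
  have he0 : (e : ℂ) ≠ 0 := he ▸ hcon
  have hIc : Cfsg.classInner (Cfsg.indFun N ϑ) χ = (e : ℂ) := by
    rw [classInner_indFun ϑ hcl, ← classInner_conj, he, Complex.conj_natCast]
  have hcI : Cfsg.classInner χ (Cfsg.indFun N ϑ) = (e : ℂ) := by
    rw [classInner_indFun_right hcl, he]
  -- consequences of (a)
  have key : ∀ e' : ℕ, (fun n : N => χ n) = (e' : ℂ) • ϑ → e' ^ 2 = N.index →
      inertia ϑ = ⊤ ∧ Cfsg.indFun N ϑ = (e : ℂ) • χ := by
    intro e' h1 h2
    have hee : e' = e := by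
      have := he
      rw [h1, classInner_smul_left, IsIrrCharacter.classInner_self hϑ, mul_one] at this
      exact_mod_cast this
    subst hee
    have hI : inertia ϑ = ⊤ := inertia_eq_top fun g n => by
      have h3 := congrFun h1 ⟨g * n * g⁻¹, hN.conj_mem (n : G) n.2 g⟩
      have h4 := congrFun h1 n
      simp only [Pi.smul_apply, smul_eq_mul] at h3 h4
      rw [hcl, h4] at h3
      exact (mul_left_cancel₀ he0 h3).symm
    refine ⟨hI, sub_eq_zero.1 (classInner_self_eq_zero ?_)⟩
    rw [classInner_sub_left, classInner_sub_right, classInner_sub_right, classInner_smul_left,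
      classInner_smul_left, classInner_smul_right, classInner_smul_right, Complex.conj_natCast,
      classInner_indFun_self_of_invariant hϑ hI, hIc, hcI, IsIrrCharacter.classInner_self hχ,
      ← h2]
    push_cast
    ring
  refine ⟨⟨?_, ?_⟩, ⟨?_, ?_⟩⟩
  · rintro ⟨e', h1, h2⟩
    obtain ⟨hI, hind⟩ := key e' h1 h2
    refine ⟨fun g hg => ?_, hI⟩
    have := congrFun hind g
    rw [indFun_eq_zero_of_normal _ hg, Pi.smul_apply, smul_eq_mul] at this
    exact (mul_eq_zero.1 this.symm).resolve_left he0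
  · rintro ⟨hvan, hI⟩
    have h1 : (fun n : N => χ n) = (e : ℂ) • ϑ := by
      rw [← he]; exact restrict_eq_smul_of_invariant hχ hϑ hI hcon
    refine ⟨e, h1, ?_⟩
    have h2 : (N.index : ℂ) • χ = (e : ℂ) • Cfsg.indFun N ϑ := by
      have h3 := indFun_mul_restrict (fun _ : N => (1 : ℂ)) hcl
      rw [show ((fun _ : N => (1 : ℂ)) * fun n : N => χ n) = (e : ℂ) • ϑ by
        rw [← h1]; funext n; simp, indFun_smul] at h3
      rw [h3]
      funext g
      rw [Pi.smul_apply, Pi.mul_apply, smul_eq_mul]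
      by_cases hg : g ∈ N
      · rw [indFun_one_apply_of_mem hg]
      · rw [hvan g hg, mul_zero, mul_zero]
    have h4 := congrArg (fun f => Cfsg.classInner f χ) h2
    simp only [classInner_smul_left, hIc, IsIrrCharacter.classInner_self hχ, mul_one] at h4
    have h5 : N.index = e * e := by exact_mod_cast h4
    rw [h5, sq]
  · rintro ⟨e', h1, h2⟩
    obtain ⟨hI, hind⟩ := key e' h1 h2
    refine ⟨hI, fun ψ hψ hne => ?_⟩
    by_contra h
    rw [hind, classInner_smul_left, IsIrrCharacter.classInner_of_ne hχ hψ (Ne.symm h),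
      mul_zero] at hne
    exact hne rfl
  · rintro ⟨hI, honly⟩
    refine ⟨e, by rw [← he]; exact restrict_eq_smul_of_invariant hχ hϑ hI hcon, ?_⟩
    have hind : Cfsg.indFun N ϑ = (e : ℂ) • χ := by
      conv_lhs => rw [eq_sum_irr (isClassFunction_indFun N ϑ)]
      rw [Finset.sum_eq_single χ (fun ψ hψ hne => ?_)
        (fun h => absurd (mem_irrFinset.2 hχ) h), hIc]
      by_cases h0 : Cfsg.classInner (Cfsg.indFun N ϑ) ψ = 0
      · rw [h0, zero_smul]
      · exact absurd (honly ψ (mem_irrFinset.1 hψ) h0) hne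
    have h1 := classInner_indFun_self_of_invariant (G := G) hϑ hI
    rw [hind, classInner_smul_left, classInner_smul_right, Complex.conj_natCast,
      IsIrrCharacter.classInner_self hχ, mul_one] at h1
    have h5 : e * e = N.index := by exact_mod_cast h1
    rw [sq, h5]

/-- An invariant character with abelian quotient: all constituents of the induced character are
twists of one another. -/
theorem exists_indFun_eq_smul_sum [Fintype N] {θ : N → ℂ} (hθ : Cfsg.IsIrrCharacter N θ)
    (hI : inertia θ = ⊤) (hab : ∀ x y : G, x * y * x⁻¹ * y⁻¹ ∈ N) :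
    ∃ (e : ℕ) (C : Finset (G → ℂ)), 0 < e ∧
      (∀ χ ∈ C, Cfsg.IsIrrCharacter G χ ∧ χ 1 = (e : ℂ) * θ 1 ∧
        Cfsg.classInner (fun n : N => χ n) θ = (e : ℂ)) ∧
      e ^ 2 * C.card = N.index ∧ Cfsg.indFun N θ = (e : ℂ) • ∑ χ ∈ C, χ := by
  classical
  have hΦ : Cfsg.IsCharacter G (Cfsg.indFun N θ) :=
    IsCharacter.indFun (IsIrrCharacter.isCharacter hθ)
  obtain ⟨C, hC⟩ : ∃ C : Finset (G → ℂ), ∀ χ,
      χ ∈ C ↔ Cfsg.IsIrrCharacter G χ ∧ Cfsg.classInner (fun n : N => χ n) θ ≠ 0 :=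
    ⟨(irrFinset G).filter (fun χ => Cfsg.classInner (fun n : N => χ n) θ ≠ 0),
      fun χ => by simp⟩
  have hne : C.Nonempty := by
    obtain ⟨ψ, hψ, hψc⟩ := IsCharacter.exists_constituent hΦ fun h0 => by
      have := congrFun h0 1
      rw [indFun_one, Pi.zero_apply, mul_eq_zero] at this
      exact this.elim (by exact_mod_cast N.index_ne_zero_of_finite)
        (IsIrrCharacter.apply_one_ne_zero hθ)
    exact ⟨ψ, (hC ψ).2 ⟨hψ,
      (classInner_indFun_ne_zero_iff (IsIrrCharacter.isClassFunction hψ) θ).1 hψc⟩⟩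
  obtain ⟨ψ₀, hψ₀⟩ := hne
  obtain ⟨hψ₀i, hψ₀c⟩ := (hC ψ₀).1 hψ₀
  obtain ⟨e, he⟩ := IsCharacter.exists_classInner_eq_natCast
    (IsCharacter.restrict (IsIrrCharacter.isCharacter hψ₀i) N) hθ
  have he0 : e ≠ 0 := fun h0 => hψ₀c (by rw [he, h0, Nat.cast_zero])
  have hr₀ : (fun n : N => ψ₀ n) = (e : ℂ) • θ :=
    he ▸ restrict_eq_smul_of_invariant hψ₀i hθ hI hψ₀c
  have hall : ∀ χ ∈ C, Cfsg.IsIrrCharacter G χ ∧ χ 1 = (e : ℂ) * θ 1 ∧
      Cfsg.classInner (fun n : N => χ n) θ = (e : ℂ) := by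
    intro χ hχC
    obtain ⟨hχ, hχc⟩ := (hC χ).1 hχC
    have hind : Cfsg.indFun N (fun n : N => ψ₀ n) = Cfsg.indFun N (fun _ => 1) * ψ₀ := by
      rw [← indFun_mul_restrict _ (IsIrrCharacter.isClassFunction hψ₀i)]
      congr 1
      funext n
      exact (one_mul _).symm
    have h1 : Cfsg.classInner (Cfsg.indFun N (fun n : N => ψ₀ n)) χ ≠ 0 := by
      rw [hr₀, indFun_smul, classInner_smul_left]
      exact mul_ne_zero (Nat.cast_ne_zero.2 he0)
        ((classInner_indFun_ne_zero_iff (IsIrrCharacter.isClassFunction hχ) θ).2 hχc)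
    rw [hind, eq_sum_irr (isClassFunction_indFun N fun _ => (1 : ℂ)), Finset.sum_mul,
      classInner_sum_left] at h1
    obtain ⟨β, hβ, hβne⟩ := Finset.exists_ne_zero_of_sum_ne_zero h1
    rw [mem_irrFinset] at hβ
    rw [smul_mul_assoc, classInner_smul_left, mul_ne_zero_iff] at hβne
    have hker := (classInner_indFun_one_ne_zero_iff hβ).1 hβne.1
    have hβ1 : β 1 = 1 := IsIrrCharacter.apply_one_eq_one_of_commutators hβ
      fun a b => hker _ (hab a b)
    have heq : β * ψ₀ = χ := by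
      refine IsCharacter.eq_of_constituent (IsCharacter.mul (IsIrrCharacter.isCharacter hβ)
        (IsIrrCharacter.isCharacter hψ₀i)) hχ hβne.2 ?_
      -- both sides have the same restriction
      have hle := IsCharacter.re_constituent_le (IsCharacter.mul (IsIrrCharacter.isCharacter hβ)
        (IsIrrCharacter.isCharacter hψ₀i)) hχ hβne.2
      obtain ⟨lam, hlam⟩ := IsCharacter.exists_hom (IsIrrCharacter.isCharacter hβ) hβ1
      have hirr : Cfsg.IsIrrCharacter G (β * ψ₀) := by
        refine IsCharacter.isIrrCharacter_of_classInner_self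
          (IsCharacter.mul (IsIrrCharacter.isCharacter hβ) (IsIrrCharacter.isCharacter hψ₀i)) ?_
        rw [← IsIrrCharacter.classInner_self hψ₀i, classInner_def, classInner_def]
        congr 1
        refine Finset.sum_congr rfl fun g _ => ?_
        have h2 : β g * conj (β g) = 1 := by
          rw [← IsCharacter.apply_inv (IsIrrCharacter.isCharacter hβ) g, hlam]
          simp
        simp only [Pi.mul_apply, map_mul]
        rw [mul_mul_mul_comm, h2, one_mul]
      by_contra hne2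
      exact hβne.2 (IsIrrCharacter.classInner_of_ne hirr hχ fun h => hne2 (by rw [h]))
    have hres : (fun n : N => χ n) = (e : ℂ) • θ := by
      rw [← heq, ← hr₀]
      funext n
      rw [Pi.mul_apply, hker n n.2, hβ1, one_mul]
    refine ⟨hχ, ?_, by rw [hres, classInner_smul_left, IsIrrCharacter.classInner_self hθ,
      mul_one]⟩
    have := congrFun hres 1
    simpa using this
  have hind : Cfsg.indFun N θ = (e : ℂ) • ∑ χ ∈ C, χ := by
    conv_lhs => rw [eq_sum_irr (isClassFunction_indFun N θ)]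
    rw [← Finset.sum_subset (s₁ := C) (fun χ hχ => mem_irrFinset.2 ((hC χ).1 hχ).1)
      (fun χ hχ hn => ?_), Finset.smul_sum]
    · refine Finset.sum_congr rfl fun χ hχ => ?_
      rw [classInner_indFun θ (IsIrrCharacter.isClassFunction ((hC χ).1 hχ).1),
        ← classInner_conj, (hall χ hχ).2.2, Complex.conj_natCast]
    · by_cases h0 : Cfsg.classInner (Cfsg.indFun N θ) χ = 0
      · rw [h0, zero_smul]
      · exact absurd ((hC χ).2 ⟨mem_irrFinset.1 hχ, (classInner_indFun_ne_zero_iff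
          (IsIrrCharacter.isClassFunction (mem_irrFinset.1 hχ)) θ).1 h0⟩) hn
  refine ⟨e, C, Nat.pos_of_ne_zero he0, hall, ?_, hind⟩
  have h1 := classInner_indFun_self_of_invariant (G := G) hθ hI
  rw [hind, classInner_smul_left, classInner_smul_right, Complex.conj_natCast,
    classInner_sum_left] at h1
  rw [Finset.sum_congr rfl fun χ hχ => show Cfsg.classInner χ (∑ x ∈ C, x) = 1 by
    rw [classInner_sum_right, Finset.sum_eq_single χ (fun x hx hne =>
      IsIrrCharacter.classInner_of_ne ((hC χ).1 hχ).1 ((hC x).1 hx).1 (Ne.symm hne))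
      (fun h => absurd hχ h), IsIrrCharacter.classInner_self ((hC χ).1 hχ).1],
    Finset.sum_const, nsmul_eq_mul, mul_one] at h1
  have h5 : e * (e * C.card) = N.index := by exact_mod_cast h1
  rw [← h5]; ring

/-- The averages of `ψ χ̄` over the cosets of a normal subgroup on which `χ` stays irreducible. -/
theorem cosetAverage_spec [Fintype N] {χ : G → ℂ} (hχ : Cfsg.IsIrrCharacter G χ)
    (hres : Cfsg.IsIrrCharacter N (fun n : N => χ n)) {ψ : G → ℂ}
    (hψ : Cfsg.IsIrrCharacter G ψ) :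
    (Cfsg.classInner (fun n : N => ψ n) (fun n : N => χ n) ≠ 0 → Cfsg.IsIrrCharacter G
      fun g => (Nat.card N : ℂ)⁻¹ * ∑ n : N, ψ ((n : G) * g) * conj (χ ((n : G) * g))) ∧
    (Cfsg.classInner (fun n : N => ψ n) (fun n : N => χ n) = 0 →
      (fun g => (Nat.card N : ℂ)⁻¹ * ∑ n : N, ψ ((n : G) * g) * conj (χ ((n : G) * g))) = 0) ∧
    (ψ = χ → (fun g => (Nat.card N : ℂ)⁻¹ *
      ∑ n : N, ψ ((n : G) * g) * conj (χ ((n : G) * g))) = fun _ => 1) := by
  classical
  let av : (G → ℂ) → G → ℂ := fun f g =>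
    (Nat.card N : ℂ)⁻¹ * ∑ n : N, f ((n : G) * g) * conj (χ ((n : G) * g))
  have hshift : ∀ (f : G → ℂ) (m : N) (g : G), av f ((m : G) * g) = av f g := by
    intro f m g
    change (Nat.card N : ℂ)⁻¹ * _ = (Nat.card N : ℂ)⁻¹ * _
    congr 1
    refine Fintype.sum_equiv (Equiv.mulRight m) _ _ fun n => ?_
    simp [mul_assoc]
  have hclass : ∀ {f : G → ℂ}, Cfsg.IsClassFunction G f → Cfsg.IsClassFunction G (av f) := by
    intro f hf g h
    change (Nat.card N : ℂ)⁻¹ * _ = (Nat.card N : ℂ)⁻¹ * _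
    congr 1
    refine Fintype.sum_equiv (MulAut.conjNormal h⁻¹ : MulAut N).toEquiv _ _ fun n => ?_
    have h1 : (n : G) * (h * g * h⁻¹) =
        h * (((MulAut.conjNormal h⁻¹ : MulAut N) n : G) * g) * h⁻¹ := by
      rw [MulAut.conjNormal_apply]; group
    rw [h1, hf, IsIrrCharacter.isClassFunction hχ]
    rfl
  -- a coset-invariant class function orthogonal to all characters of the quotient vanishes
  have hzero : ∀ F : G → ℂ, Cfsg.IsClassFunction G F → (∀ (m : N) g, F ((m : G) * g) = F g) →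
      (∀ β, Cfsg.IsIrrCharacter G β → (∀ n ∈ N, β n = β 1) → Cfsg.classInner F β = 0) →
      F = 0 := by
    intro F hF hinv horth
    haveI := Fintype.ofFinite (G ⧸ N)
    let f : G ⧸ N → ℂ := fun q => F q.out
    have hf : ∀ g : G, f (g : G ⧸ N) = F g := fun g => by
      obtain ⟨m, hm⟩ := QuotientGroup.mk_out_eq_mul N g
      change F (Quotient.out (g : G ⧸ N)) = F g
      rw [hm]
      have : g * (m : G) = (⟨g * m * g⁻¹, hN.conj_mem _ m.2 g⟩ : N) * g := by simp
      rw [this, hinv]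
    have hfcl : Cfsg.IsClassFunction (G ⧸ N) f := by
      intro a b
      induction a using QuotientGroup.induction_on with | _ a =>
      induction b using QuotientGroup.induction_on with | _ b =>
      rw [← QuotientGroup.mk_mul, ← QuotientGroup.mk_inv, ← QuotientGroup.mk_mul, hf, hf, hF]
    have h0 : f = 0 := eq_zero_of_classInner_eq_zero hfcl fun ν hν => by
      have hβ : Cfsg.IsIrrCharacter G (fun g => ν (QuotientGroup.mk' N g)) :=
        IsIrrCharacter.comp_surjective hν (QuotientGroup.mk' N) (QuotientGroup.mk'_surjective N)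
      have h1 := horth _ hβ fun n hn => by
        simp only [QuotientGroup.mk'_apply, (QuotientGroup.eq_one_iff n).2 hn,
          QuotientGroup.mk_one]
      rw [classInner_def, mul_eq_zero] at h1 ⊢
      right
      have h2 := h1.resolve_left (inv_ne_zero (by exact_mod_cast Nat.card_pos.ne'))
      have h3 : ∑ g : G, (fun q => f q * conj (ν q)) (QuotientGroup.mk' N g) = 0 := by
        rw [← h2]
        exact Finset.sum_congr rfl fun g _ => by
          simp only [QuotientGroup.mk'_apply, hf]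
      rw [sum_comp_mk' N fun q => f q * conj (ν q), mul_eq_zero] at h3
      replace h2 := h3
      exact h2.resolve_left (by exact_mod_cast Nat.card_pos.ne')
    funext g
    have := congrFun h0 (g : G ⧸ N)
    rwa [hf] at this
  have hinner : ∀ f β : G → ℂ, (∀ (m : N) g, β ((m : G) * g) = β g) →
      Cfsg.classInner (av f) β = Cfsg.classInner f (β * χ) := by
    intro f β hβ
    rw [classInner_def, classInner_def]
    congr 1
    simp only [av, mul_assoc, Finset.sum_mul, ← Finset.mul_sum]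
    rw [Finset.sum_comm]
    have hn : ∀ n : N, ∑ g : G, f ((n : G) * g) * (conj (χ ((n : G) * g)) * conj (β g)) =
        ∑ g : G, f g * conj ((β * χ) g) := fun n => by
      refine Fintype.sum_equiv (Equiv.mulLeft (n : G)) _ _ fun g => ?_
      rw [Equiv.coe_mulLeft, Pi.mul_apply, map_mul, hβ]
      ring
    rw [Finset.sum_congr rfl fun n _ => hn n, Finset.sum_const, Finset.card_univ, nsmul_eq_mul,
      ← Nat.card_eq_fintype_card, inv_mul_cancel_left₀ (by exact_mod_cast Nat.card_pos.ne')]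
  have hbij := gallagher_one hχ hres
  have hconst : ∀ β : G → ℂ, Cfsg.IsIrrCharacter G β → (∀ n ∈ N, β n = β 1) →
      ∀ (m : N) g, β ((m : G) * g) = β g := fun β hβ hk m g =>
    IsCharacter.apply_mul_of_apply_eq (IsIrrCharacter.isCharacter hβ) (hk m m.2) g
  have havχ : ∀ g, av χ g = 1 := fun g => by
    have hcl : Cfsg.IsClassFunction G (av χ - fun _ => 1) := fun a b => by
      rw [Pi.sub_apply, Pi.sub_apply, hclass (IsIrrCharacter.isClassFunction hχ) a b]
    have h0 := hzero _ hcl (fun m a => by rw [Pi.sub_apply, Pi.sub_apply, hshift])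
      fun β hβ hk => by
        rw [classInner_sub_left, hinner χ β (hconst β hβ hk), sub_eq_zero]
        have hβχ := (hbij.mapsTo ⟨hβ, hk⟩).1
        by_cases h1 : β = fun _ => 1
        · subst h1
          rw [show ((fun _ : G => (1 : ℂ)) * χ) = χ from funext fun x => one_mul (χ x),
            IsIrrCharacter.classInner_self hχ, classInner_one_one]
        · rw [IsIrrCharacter.classInner_of_ne hχ hβχ, IsIrrCharacter.classInner_of_ne
            isIrrCharacter_one hβ (Ne.symm h1)]
          intro h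
          refine h1 (hbij.injOn ⟨hβ, hk⟩ ⟨isIrrCharacter_one, fun _ _ => rfl⟩ ?_)
          change β * χ = (fun _ => 1) * χ
          rw [← h]
          exact funext fun x => (one_mul (χ x)).symm
    exact sub_eq_zero.1 (congrFun h0 g)
  refine ⟨fun h => ?_, fun h => ?_, fun h => ?_⟩
  · obtain ⟨β, ⟨hβ, hk⟩, hβψ⟩ := hbij.surjOn ⟨hψ, h⟩
    simp only at hβψ
    subst hβψ
    change Cfsg.IsIrrCharacter G (av (β * χ))
    convert hβ using 1
    funext g
    calc av (β * χ) g = β g * av χ g := by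
          simp only [av, Pi.mul_apply, hconst β hβ hk, mul_assoc, ← Finset.mul_sum]
          ring
      _ = β g := by rw [havχ, mul_one]
  · refine hzero _ (hclass (IsIrrCharacter.isClassFunction hψ)) (hshift ψ) fun β hβ hk => ?_
    change Cfsg.classInner (av ψ) β = 0
    obtain ⟨hirr, hover⟩ := hbij.mapsTo ⟨hβ, hk⟩
    rw [hinner ψ β (hconst β hβ hk), IsIrrCharacter.classInner_of_ne hψ hirr]
    intro he
    rw [he] at h
    exact hover h
  · subst h
    exact funext havχ

end CfsgLib.Char
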