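import Cfsg.Agent.Char.ExtendExp
import Cfsg.Agent.Char.NormalSub
import Cfsg.Agent.Char.Projective
import Cfsg.Agent.Char.GaloisTwist
import Cfsg.Agent.Char.LinearTwist
import Cfsg.Agent.Char.Central

/-!
# Extending invariant irreducible characters

A homomorphism trick: the group of intertwiners maps onto `G`, and an extension exists as soon as
the scalar part extends to a homomorphism on it.
-/

set_option autoImplicit false
set_option linter.style.haveILetI false
set_option linter.unusedSectionVars false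

namespace CfsgLib.Char

open Module Representation
open scoped ComplexConjugate

universe u v

variable {G : Type u} [Group G] [Finite G] {N : Subgroup G} [hN : N.Normal]
  {W : Type v} [AddCommGroup W] [Module ℂ W] [FiniteDimensional ℂ W]

/-- The pairs of a group element and an invertible operator intertwining a representation of a
normal subgroup with its conjugate by that element. -/
def intertwiners (σ : Representation ℂ N W) : Subgroup (G × (Module.End ℂ W)ˣ) where
  carrier := {p | ∀ n : N, (p.2 : Module.End ℂ W) * σ n =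
      σ ⟨p.1 * n * p.1⁻¹, hN.conj_mem n n.2 p.1⟩ * (p.2 : Module.End ℂ W)}
  one_mem' := fun n => by simp
  mul_mem' := by
    rintro ⟨a, A⟩ ⟨b, B⟩ hA' hB' n
    simp only [Set.mem_ofPred_eq, Prod.snd_mul, Prod.fst_mul, Units.val_mul] at *
    rw [mul_assoc, hB' n, ← mul_assoc, hA', mul_assoc]
    congr 2
    ext
    simp [mul_assoc]
  inv_mem' := by
    rintro ⟨a, A⟩ hA' n
    simp only [Set.mem_ofPred_eq, Prod.snd_inv, Prod.fst_inv] at *
    have h := hA' ⟨a⁻¹ * n * a, by simpa using hN.conj_mem n n.2 a⁻¹⟩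
    have e1 : (⟨a * (a⁻¹ * n * a) * a⁻¹,
        hN.conj_mem _ (by simpa using hN.conj_mem n n.2 a⁻¹) a⟩ : N) = n := by
      ext; simp [mul_assoc]
    rw [e1] at h
    have e2 : (⟨a⁻¹ * n * a⁻¹⁻¹, hN.conj_mem n n.2 a⁻¹⟩ : N) =
        ⟨a⁻¹ * n * a, by simpa using hN.conj_mem n n.2 a⁻¹⟩ := by ext; simp
    rw [e2]
    calc ((A⁻¹ : (Module.End ℂ W)ˣ) : Module.End ℂ W) * σ n
        = (A⁻¹ : (Module.End ℂ W)ˣ) * (σ n * (A : Module.End ℂ W)) *
            (A⁻¹ : (Module.End ℂ W)ˣ) := by simp [mul_assoc]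
      _ = _ := by rw [← h]; simp [← mul_assoc]

/-- The projection to the group. -/
def intertwinersProj (σ : Representation ℂ N W) : intertwiners σ →* G :=
  (MonoidHom.fst G _).comp (intertwiners σ).subtype

variable (σ : Representation ℂ N W) [hirr : σ.IsIrreducible]

theorem intertwinersProj_surjective (hinv : ∀ g : G, conjOn g σ.character = σ.character) :
    Function.Surjective (intertwinersProj σ) := fun g => by
  obtain ⟨A, hA⟩ := exists_mem_detOneExt σ hinv g
  exact ⟨⟨(g, A), hA.2⟩, rfl⟩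

variable {P : Subgroup G} (hNP : N ≤ P) (R : Representation ℂ P W)
  (hR : ∀ n : N, R ⟨(n : G), hNP n.2⟩ = σ n)

include hirr in
theorem nontrivial_end : (1 : Module.End ℂ W) ≠ 0 := fun h => by
  have := Module.nontrivial_of_finrank_pos (R := ℂ) (finrank_pos_of_isIrreducible σ)
  obtain ⟨x, hx⟩ := exists_ne (0 : W)
  exact hx (by simpa using congrArg (fun f : Module.End ℂ W => f x) h)

include hirr in
theorem smul_rep_injective (x : P) {c c' : ℂ} (h : c • R x = c' • R x) : c = c' := by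
  have h1 := congrArg (· * R x⁻¹) h
  simp only [smul_mul_assoc, ← map_mul, mul_inv_cancel, map_one] at h1
  exact smul_left_injective ℂ (nontrivial_end σ) h1

include hirr hR in
theorem exists_scalar (γ : (P.comap (intertwinersProj σ) : Subgroup (intertwiners σ))) :
    ∃ c : ℂˣ, ((γ : intertwiners σ).1.2 : Module.End ℂ W) =
      (c : ℂ) • R ⟨(γ : intertwiners σ).1.1, γ.2⟩ := by
  obtain ⟨⟨⟨g, T⟩, hT⟩, hg⟩ := γ
  replace hg : g ∈ P := hg
  change ∃ c : ℂˣ, (T : Module.End ℂ W) = (c : ℂ) • R ⟨g, hg⟩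
  have hcomm : ∀ n, σ n * (R ⟨g, hg⟩⁻¹ * (T : Module.End ℂ W)) =
      R ⟨g, hg⟩⁻¹ * (T : Module.End ℂ W) * σ n := fun n => by
    rw [mul_assoc (R ⟨g, hg⟩⁻¹), show (T : Module.End ℂ W) * σ n =
      σ ⟨g * n * g⁻¹, hN.conj_mem n n.2 g⟩ * (T : Module.End ℂ W) from hT n,
      ← hR, ← hR, ← mul_assoc, ← mul_assoc, ← map_mul, ← map_mul]
    congr 2
    ext
    simp [mul_assoc]
  obtain ⟨c, hc⟩ := scalar_of_commute_all σ _ hcomm
  have h1 : (T : Module.End ℂ W) = c • R ⟨g, hg⟩ := by
    have := congrArg (R ⟨g, hg⟩ * ·) hc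
    simp only [mul_smul_comm, mul_one, ← mul_assoc, ← map_mul, mul_inv_cancel, map_one,
      one_mul] at this
    exact this
  have : Nontrivial (Module.End ℂ W) := nontrivial_of_ne _ _ (nontrivial_end σ)
  exact ⟨Units.mk0 c fun h0 => T.ne_zero (by rw [h1, h0, zero_smul]), h1⟩

/-- The scalar part on the preimage of a subgroup carrying an extension. -/
noncomputable def scalarPart :
    (P.comap (intertwinersProj σ) : Subgroup (intertwiners σ)) →* ℂˣ where
  toFun γ := Classical.choose (exists_scalar σ hNP R hR γ)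
  map_one' := by
    have h := Classical.choose_spec (exists_scalar σ hNP R hR 1)
    refine Units.ext (smul_rep_injective σ R (1 : P) ?_)
    rw [Units.val_one, one_smul]
    refine Eq.trans ?_ (map_one R).symm
    exact h.symm
  map_mul' a b := by
    have ha := Classical.choose_spec (exists_scalar σ hNP R hR a)
    have hb := Classical.choose_spec (exists_scalar σ hNP R hR b)
    have hab := Classical.choose_spec (exists_scalar σ hNP R hR (a * b))
    refine Units.ext (smul_rep_injective σ R ⟨_, (a * b).2⟩ ?_)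
    refine hab.symm.trans ?_
    simp only [Units.val_mul, Subgroup.coe_mul, Prod.snd_mul]
    refine (congrArg₂ (· * ·) ha hb).trans ?_
    rw [smul_mul_smul_comm, ← map_mul]
    rfl

theorem scalarPart_spec (γ : (P.comap (intertwinersProj σ) : Subgroup (intertwiners σ))) :
    ((γ : intertwiners σ).1.2 : Module.End ℂ W) =
      (scalarPart σ hNP R hR γ : ℂ) • R ⟨(γ : intertwiners σ).1.1, γ.2⟩ :=
  Classical.choose_spec (exists_scalar σ hNP R hR γ)

/-- The scalar part on the preimage of the normal subgroup. -/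
noncomputable def scalarBase :
    (N.comap (intertwinersProj σ) : Subgroup (intertwiners σ)) →* ℂˣ :=
  scalarPart σ le_rfl σ fun _ => rfl

theorem scalarBase_spec (γ : (N.comap (intertwinersProj σ) : Subgroup (intertwiners σ))) :
    ((γ : intertwiners σ).1.2 : Module.End ℂ W) =
      (scalarBase σ γ : ℂ) • σ ⟨(γ : intertwiners σ).1.1, γ.2⟩ :=
  scalarPart_spec σ le_rfl σ (fun _ => rfl) γ

theorem scalarPart_eq_base (c : (N.comap (intertwinersProj σ) : Subgroup (intertwiners σ))) :
    scalarPart σ hNP R hR ⟨c, hNP c.2⟩ = scalarBase σ c := by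
  have h1 := scalarPart_spec σ hNP R hR ⟨c, hNP c.2⟩
  have h2 := scalarBase_spec σ c
  have h3 : R ⟨((c : intertwiners σ) : G × (Module.End ℂ W)ˣ).1, hNP c.2⟩ = σ ⟨_, c.2⟩ :=
    hR ⟨_, c.2⟩
  refine Units.ext (smul_rep_injective σ R ⟨_, hNP c.2⟩ ?_)
  exact h1.symm.trans (h2.trans (congrArg ((scalarBase σ c : ℂ) • ·) h3.symm))

theorem scalarBase_conj (γ : intertwiners σ)
    (c : (N.comap (intertwinersProj σ) : Subgroup (intertwiners σ))) :
    scalarBase σ ⟨γ * c * γ⁻¹, Subgroup.Normal.conj_mem inferInstance (c : intertwiners σ) c.2 γ⟩ =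
      scalarBase σ c := by
  have h1 := scalarBase_spec σ
    ⟨γ * c * γ⁻¹, Subgroup.Normal.conj_mem inferInstance (c : intertwiners σ) c.2 γ⟩
  have h2 := scalarBase_spec σ c
  refine Units.ext (smul_rep_injective σ σ ⟨_, Subgroup.Normal.conj_mem inferInstance
    (c : intertwiners σ) c.2 γ⟩ ?_)
  refine h1.symm.trans ?_
  have h4 : (γ.1.2 : Module.End ℂ W) * σ ⟨(c : intertwiners σ).1.1, c.2⟩ =
      σ ⟨γ.1.1 * (c : intertwiners σ).1.1 * γ.1.1⁻¹, hN.conj_mem _ c.2 _⟩ *
        (γ.1.2 : Module.End ℂ W) := γ.2 ⟨_, c.2⟩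
  simp only [Subgroup.coe_mul, Subgroup.coe_inv, Prod.snd_mul, Prod.snd_inv, Units.val_mul]
  rw [h2, mul_smul_comm, smul_mul_assoc, h4, Units.mul_inv_cancel_right]
  rfl

/-- An invariant irreducible representation extends once the exponents of the extendible powers
of the scalar part have no common prime divisor. -/
theorem exists_extension_of_exponents (hinv : ∀ g : G, conjOn g σ.character = σ.character)
    (h : ∀ p : ℕ, p.Prime → ∃ k : ℕ, ¬ p ∣ k ∧ (k : ℤ) ∈ extExponents (scalarBase σ)) :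
    ∃ E : Representation ℂ G W, ∀ n : N, E n = σ n := by
  obtain ⟨F, hF⟩ := exists_extend_of_exponents (scalarBase σ) h
  let Ψ : intertwiners σ →* Module.End ℂ W :=
    { toFun := fun γ => ((F γ)⁻¹ : ℂˣ).val • (γ.1.2 : Module.End ℂ W)
      map_one' := by simp
      map_mul' := fun a b => by
        simp only [map_mul, mul_inv, Units.val_mul, Subgroup.coe_mul, Prod.snd_mul,
          smul_mul_smul_comm] }
  have hsurj := intertwinersProj_surjective σ hinv
  have hB : ∀ c : (N.comap (intertwinersProj σ) : Subgroup (intertwiners σ)),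
      Ψ c = σ ⟨(c : intertwiners σ).1.1, c.2⟩ := fun c => by
    change ((F c)⁻¹ : ℂˣ).val • (((c : intertwiners σ)).1.2 : Module.End ℂ W) = _
    rw [hF c, scalarBase_spec σ c, smul_smul, ← Units.val_mul, inv_mul_cancel, Units.val_one,
      one_smul]
  have hker : (intertwinersProj σ).ker ≤ Ψ.toHomUnits.ker := fun γ hγ => by
    rw [MonoidHom.mem_ker] at hγ ⊢
    have hγN : γ ∈ N.comap (intertwinersProj σ) := by
      rw [Subgroup.mem_comap, hγ]; exact N.one_mem
    refine Units.ext ?_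
    rw [MonoidHom.coe_toHomUnits, Units.val_one, hB ⟨γ, hγN⟩, ← map_one σ]
    congr 1
    exact Subtype.ext hγ
  let E0 : G →* (Module.End ℂ W)ˣ :=
    MonoidHom.liftOfSurjective (intertwinersProj σ) hsurj ⟨Ψ.toHomUnits, hker⟩
  refine ⟨(Units.coeHom _).comp E0, fun n => ?_⟩
  obtain ⟨γ, hγ⟩ := hsurj (n : G)
  have hγN : γ ∈ N.comap (intertwinersProj σ) := by
    rw [Subgroup.mem_comap, hγ]; exact n.2
  change (E0 (n : G) : Module.End ℂ W) = σ n
  rw [← hγ, MonoidHom.liftOfRightInverse_comp_apply, MonoidHom.coe_toHomUnits, hB ⟨γ, hγN⟩]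
  congr 1
  exact Subtype.ext hγ

theorem finiteIndex_comap (hinv : ∀ g : G, conjOn g σ.character = σ.character)
    (P : Subgroup G) : (P.comap (intertwinersProj σ)).FiniteIndex :=
  ⟨by rw [Subgroup.index_comap_of_surjective P (intertwinersProj_surjective σ hinv)]
      exact Subgroup.index_ne_zero_of_finite⟩

include hR in
/-- An extension to a subgroup gives its index as an exponent. -/
theorem index_mem_extExponents_scalar (hinv : ∀ g : G, conjOn g σ.character = σ.character) :
    (P.index : ℤ) ∈ extExponents (scalarBase σ) := by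
  have := finiteIndex_comap σ hinv P
  rw [← Subgroup.index_comap_of_surjective P (intertwinersProj_surjective σ hinv)]
  exact index_mem_extExponents (Subgroup.comap_mono hNP) (scalarBase σ)
    (scalarPart σ hNP R hR) (scalarPart_eq_base σ hNP R hR) (scalarBase_conj σ)

/-- The determinant as a homomorphism to the nonzero scalars. -/
noncomputable def detHom {K : Type*} [Group K] (τ : Representation ℂ K W) : K →* ℂˣ :=
  (Units.map (LinearMap.det : Module.End ℂ W →* ℂ)).comp
    (MonoidHom.toHomUnits (G := K) (M := Module.End ℂ W) τ)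

theorem detHom_apply {K : Type*} [Group K] (τ : Representation ℂ K W) (x : K) :
    (detHom τ x : ℂ) = LinearMap.det (τ x) := rfl

/-- An extension of a power of the determinant gives an exponent. -/
theorem det_mem_extExponents_scalar (m : ℕ) (μ : G →* ℂˣ)
    (hμ : ∀ n : N, μ n = detHom σ n ^ m) :
    ((finrank ℂ W * m : ℕ) : ℤ) ∈ extExponents (scalarBase σ) := by
  let D : intertwiners σ →* ℂˣ :=
    (Units.map (LinearMap.det : Module.End ℂ W →* ℂ)).comp
      ((MonoidHom.snd G _).comp (intertwiners σ).subtype)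
  refine ⟨D ^ m * (μ.comp (intertwinersProj σ))⁻¹, fun c => ?_⟩
  have h1 : (D (c : intertwiners σ) : ℂˣ) =
      scalarBase σ c ^ finrank ℂ W * detHom σ ⟨(c : intertwiners σ).1.1, c.2⟩ := by
    refine Units.ext ?_
    rw [Units.val_mul, Units.val_pow_eq_pow_val, detHom_apply]
    change LinearMap.det ((c : intertwiners σ).1.2 : Module.End ℂ W) = _
    rw [scalarBase_spec σ c, LinearMap.det_smul]
  rw [MonoidHom.mul_apply, MonoidHom.pow_apply, MonoidHom.inv_apply, MonoidHom.comp_apply μ, h1,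
    zpow_natCast, mul_pow, pow_mul,
    show μ (intertwinersProj σ c) = detHom σ ⟨(c : intertwiners σ).1.1, c.2⟩ ^ m from
      hμ ⟨_, c.2⟩, mul_assoc, mul_inv_cancel, mul_one]

/-- A representation whose restriction to a subgroup is irreducible is irreducible. -/
theorem isIrreducible_of_restrict {K : Type*} [Group K] {H : Subgroup K}
    (E : Representation ℂ K W) (τ : Representation ℂ H W) [hτ : τ.IsIrreducible]
    (h : ∀ x : H, E x = τ x) : E.IsIrreducible := by
  have := Module.nontrivial_of_finrank_pos (R := ℂ) (finrank_pos_of_isIrreducible τ)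
  refine isIrreducible_of_no_sub E fun S => ?_
  let S' : Subrepresentation τ := ⟨S.toSubmodule, fun x v hv => by
    have := S.apply_mem_toSubmodule (x : K) hv
    rwa [h] at this⟩
  rcases hτ.eq_bot_or_eq_top S' with h0 | h0
  · exact Or.inl (Subrepresentation.toSubmodule_injective
      (congrArg Subrepresentation.toSubmodule h0 :))
  · exact Or.inr (Subrepresentation.toSubmodule_injective
      (congrArg Subrepresentation.toSubmodule h0 :))

omit σ hirr in
theorem exists_extension_char {ϑ : N → ℂ} {n : ℕ} (σ : Representation ℂ N (Fin n → ℂ))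
    [σ.IsIrreducible] (hσ : σ.character = ϑ)
    (E : Representation ℂ G (Fin n → ℂ)) (hE : ∀ x : N, E x = σ x) :
    ∃ χ : G → ℂ, Cfsg.IsIrrCharacter G χ ∧ ∀ x : N, χ x = ϑ x :=
  ⟨E.character, ⟨n, E, isIrreducible_of_restrict E σ hE, rfl⟩, fun x => by
    rw [← hσ]
    change LinearMap.trace ℂ _ (E x) = LinearMap.trace ℂ _ (σ x)
    rw [hE]⟩

theorem conjOn_eq_of_invariant {ϑ : N → ℂ}
    (hinv : ∀ (g : G) (n : N), ϑ ⟨g * n * g⁻¹, hN.conj_mem (n : G) n.2 g⟩ = ϑ n) (g : G) :
    conjOn g ϑ = ϑ := funext (hinv g)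

/-- An invariant character extending to a Sylow preimage for every prime extends. -/
theorem exists_extension_of_sylow {ϑ : N → ℂ} (hϑ : Cfsg.IsIrrCharacter N ϑ)
    (hinv : ∀ (g : G) (n : N), ϑ ⟨g * n * g⁻¹, hN.conj_mem (n : G) n.2 g⟩ = ϑ n)
    (hsyl : ∀ p : ℕ, p.Prime → ∃ (P : Subgroup G) (hNP : N ≤ P) (η : P → ℂ), ¬ p ∣ P.index ∧
      Cfsg.IsCharacter P η ∧ ∀ n : N, η ⟨(n : G), hNP n.2⟩ = ϑ n) :
    ∃ χ : G → ℂ, Cfsg.IsIrrCharacter G χ ∧ ∀ x : N, χ x = ϑ x := by
  obtain ⟨n, σ, hσ, rfl⟩ := hϑ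
  haveI := hσ
  have hinv' : ∀ g : G, conjOn g σ.character = σ.character := conjOn_eq_of_invariant hinv
  obtain ⟨E, hE⟩ := exists_extension_of_exponents σ hinv' fun p hp => by
    obtain ⟨P, hNP, η, hind, ⟨m, τ, rfl⟩, hη⟩ := hsyl p hp
    obtain ⟨e⟩ := equiv_of_character_eq (τ.comp (Subgroup.inclusion hNP)) σ (funext hη)
    exact ⟨P.index, hind, index_mem_extExponents_scalar σ hNP (conjRep τ e.toLinearEquiv)
      (fun x => by rw [conjRep_apply]; exact e.conj_apply_self x) hinv'⟩
  exact exists_extension_char σ rfl E hE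

/-- Extension from a linear character extending a power of the determinant. -/
theorem exists_extension_of_det {ϑ : N → ℂ} (hϑ : Cfsg.IsIrrCharacter N ϑ)
    (hinv : ∀ (g : G) (n : N), ϑ ⟨g * n * g⁻¹, hN.conj_mem (n : G) n.2 g⟩ = ϑ n)
    {d : ℕ} (hd : ϑ 1 = d) (m : ℕ) (hcop : Nat.Coprime N.index (d * m)) (μ : G → ℂ)
    (hμ : Cfsg.IsCharacter G μ ∧ μ 1 = 1) (hμN : ∀ n : N, μ n = Cfsg.detChar ϑ n ^ m) :
    ∃ χ : G → ℂ, Cfsg.IsIrrCharacter G χ ∧ ∀ x : N, χ x = ϑ x := by
  obtain ⟨n, σ, hσ, rfl⟩ := hϑ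
  haveI := hσ
  obtain ⟨M, rfl⟩ := IsCharacter.exists_hom hμ.1 hμ.2
  have hn : finrank ℂ (Fin n → ℂ) = d := by
    rw [σ.char_one] at hd; exact_mod_cast hd
  have hinv' : ∀ g : G, conjOn g σ.character = σ.character := conjOn_eq_of_invariant hinv
  obtain ⟨E, hE⟩ := exists_extension_of_exponents σ hinv' fun p hp => by
    by_cases hpi : p ∣ N.index
    · refine ⟨d * m, fun h => hp.ne_one (Nat.eq_one_of_dvd_coprimes hcop hpi h), ?_⟩
      rw [← hn]
      refine det_mem_extExponents_scalar σ m M fun x => Units.ext ?_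
      rw [Units.val_pow_eq_pow_val, detHom_apply, ← detChar_eq]
      exact hμN x
    · exact ⟨N.index, hpi, index_mem_extExponents_scalar σ le_rfl σ (fun _ => rfl) hinv'⟩
  exact exists_extension_char σ rfl E hE

/-- Extension when the index is prime to the order of the normal subgroup. -/
theorem exists_extension_of_coprime {ϑ : N → ℂ} (hϑ : Cfsg.IsIrrCharacter N ϑ)
    (hinv : ∀ (g : G) (n : N), ϑ ⟨g * n * g⁻¹, hN.conj_mem (n : G) n.2 g⟩ = ϑ n)
    (hcop : Nat.Coprime (Nat.card N) N.index) :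
    ∃ χ : G → ℂ, Cfsg.IsIrrCharacter G χ ∧ ∀ x : N, χ x = ϑ x := by
  obtain ⟨d, -, hd⟩ := IsIrrCharacter.exists_degree hϑ
  refine exists_extension_of_det hϑ hinv hd (Nat.card N) ?_ _ ⟨isCharacter_one, rfl⟩ fun x => ?_
  · exact Nat.Coprime.mul_right
      (hcop.symm.coprime_dvd_right (IsIrrCharacter.degree_dvd_card hϑ hd)) hcop.symm
  · obtain ⟨n, σ, -, rfl⟩ := hϑ
    rw [detChar_eq, ← map_pow, ← map_pow, pow_card_eq_one', map_one, map_one]

/-! ### Determinants of extensions -/

/-- The determinantal character is a homomorphism, and behaves under linear twists. -/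
theorem exists_detHom {χ : G → ℂ} (hχ : Cfsg.IsCharacter G χ) {d : ℕ} (hd : χ 1 = d) :
    ∃ D : G →* ℂˣ, (∀ g, Cfsg.detChar χ g = D g) ∧
      ∀ (ν : G →* ℂˣ) (g : G),
        Cfsg.detChar (χ * fun x => (ν x : ℂ)) g = (ν g : ℂ) ^ d * D g := by
  obtain ⟨n, ρ, rfl⟩ := hχ
  have hn : finrank ℂ (Fin n → ℂ) = d := by
    rw [ρ.char_one] at hd; exact_mod_cast hd
  refine ⟨detHom ρ, fun g => by rw [detChar_eq, detHom_apply], fun ν g => ?_⟩
  let ρ' : Representation ℂ G (Fin n → ℂ) :=
    { toFun := fun x => (ν x : ℂ) • ρ x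
      map_one' := by simp
      map_mul' := fun a b => by rw [map_mul, map_mul, Units.val_mul, smul_mul_smul_comm] }
  have hc : (ρ.character * fun x => (ν x : ℂ)) = ρ'.character := funext fun x => by
    simp [Representation.character, ρ', mul_comm]
  rw [hc, detChar_eq, detHom_apply]
  change LinearMap.det ((ν g : ℂ) • ρ g) = _
  rw [LinearMap.det_smul, hn]

/-- The determinantal character commutes with restriction. -/
theorem detChar_comp {χ : G → ℂ} (hχ : Cfsg.IsCharacter G χ) {ϑ : N → ℂ}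
    (hext : ∀ n : N, χ n = ϑ n) (n : N) : Cfsg.detChar χ n = Cfsg.detChar ϑ n := by
  obtain ⟨m, ρ, rfl⟩ := hχ
  rw [← (funext hext : (fun n : N => ρ.character n) = ϑ),
    show (fun n : N => ρ.character n) =
      Representation.character (ρ.comp N.subtype : Representation ℂ N (Fin m → ℂ)) from rfl,
    detChar_eq, detChar_eq]
  rfl

/-- Two extensions differ by a linear character of the quotient. -/
theorem exists_twist_of_extensions {ϑ : N → ℂ} (hϑ : Cfsg.IsIrrCharacter N ϑ) {χ χ' : G → ℂ}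
    (hχ : Cfsg.IsIrrCharacter G χ) (hext : ∀ n : N, χ n = ϑ n) (hχ' : Cfsg.IsIrrCharacter G χ')
    (hext' : ∀ n : N, χ' n = ϑ n) :
    ∃ ν : G →* ℂˣ, (∀ n : N, ν n = 1) ∧ χ' = χ * fun x => (ν x : ℂ) := by
  haveI := Fintype.ofFinite G
  haveI := Fintype.ofFinite N
  have hres : (fun n : N => χ n) = ϑ := funext hext
  obtain ⟨β, ⟨hβ, hk⟩, hβeq⟩ := (gallagher_one hχ (hres ▸ hϑ)).surjOn (show χ' ∈ _ from
    ⟨hχ', by rw [hres, funext hext', IsIrrCharacter.classInner_self hϑ]; exact one_ne_zero⟩)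
  simp only at hβeq
  have hβ1 : β 1 = 1 := by
    have h1 := congrFun hβeq 1
    have h2 := hext' 1
    have h3 := hext 1
    simp only [OneMemClass.coe_one] at h2 h3
    rw [Pi.mul_apply, h2, ← h3] at h1
    exact (mul_eq_right₀ (IsIrrCharacter.apply_one_ne_zero hχ)).1 h1
  obtain ⟨ν, rfl⟩ := IsCharacter.exists_hom (IsIrrCharacter.isCharacter hβ) hβ1
  refine ⟨ν, fun n => Units.ext ?_, by rw [← hβeq, mul_comm]⟩
  have := hk n n.2
  simpa using this

theorem hom_pow_index_eq_one {ν : G →* ℂˣ} (hν : ∀ n : N, ν n = 1) : ν ^ N.index = 1 :=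
  MonoidHom.ext fun g => by
    rw [MonoidHom.pow_apply, ← map_pow]
    exact hν ⟨_, Subgroup.pow_index_mem N g⟩

/-- The unique extension with a prescribed determinant. -/
theorem existsUnique_extension_det {ϑ : N → ℂ} (hϑ : Cfsg.IsIrrCharacter N ϑ) {d : ℕ}
    (hd : ϑ 1 = d) (hcop : Nat.Coprime N.index d)
    (hext : ∃ η : G → ℂ, Cfsg.IsIrrCharacter G η ∧ ∀ n : N, η n = ϑ n) (μ : G → ℂ)
    (hμ : Cfsg.IsCharacter G μ ∧ μ 1 = 1) (hμN : ∀ n : N, μ n = Cfsg.detChar ϑ n) :
    ∃! χ : G → ℂ,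
      Cfsg.IsIrrCharacter G χ ∧ (∀ n : N, χ n = ϑ n) ∧ Cfsg.detChar χ = μ := by
  haveI := Fintype.ofFinite G
  obtain ⟨η, hη, hηN⟩ := hext
  obtain ⟨M, rfl⟩ := IsCharacter.exists_hom hμ.1 hμ.2
  have hdeg : ∀ {χ : G → ℂ}, (∀ n : N, χ n = ϑ n) → χ 1 = d := fun h => by
    rw [← hd, ← h 1, OneMemClass.coe_one]
  obtain ⟨D, hD, htw⟩ := exists_detHom (IsIrrCharacter.isCharacter hη) (hdeg hηN)
  obtain ⟨Q, hQ⟩ : ∃ Q : G →* ℂˣ, Q = M * D⁻¹ := ⟨_, rfl⟩
  have hQN : ∀ n : N, Q n = 1 := fun n => by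
    rw [hQ, MonoidHom.mul_apply, MonoidHom.inv_apply, mul_inv_eq_one]
    refine Units.ext ?_
    rw [← hD]
    exact (hμN n).trans (detChar_comp (IsIrrCharacter.isCharacter hη) hηN n).symm
  have hQi : Q ^ N.index = 1 := hom_pow_index_eq_one hQN
  obtain ⟨a, b, hab⟩ := (Int.isCoprime_iff_gcd_eq_one.2 hcop.symm : IsCoprime (d : ℤ) N.index)
  have hν : (Q ^ a) ^ d = Q := by
    ext1 g
    have hg : Q g ^ N.index = 1 := by rw [← MonoidHom.pow_apply, hQi, MonoidHom.one_apply]
    rw [MonoidHom.pow_apply, MonoidHom.zpow_apply, ← zpow_natCast, ← zpow_mul,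
      show a * (d : ℤ) = 1 - (N.index : ℤ) * b by linarith, zpow_sub, zpow_one, zpow_mul,
      zpow_natCast, hg, one_zpow, inv_one, mul_one]
  refine ⟨η * fun x => (((Q ^ a) x : ℂˣ) : ℂ),
    ⟨IsIrrCharacter.mul_hom hη _, fun n => ?_, ?_⟩, ?_⟩
  · rw [Pi.mul_apply, hηN, MonoidHom.zpow_apply, hQN, one_zpow, Units.val_one, mul_one]
  · funext g
    rw [htw, ← Units.val_pow_eq_pow_val, ← MonoidHom.pow_apply, hν, ← Units.val_mul, hQ,
      MonoidHom.mul_apply, MonoidHom.inv_apply, inv_mul_cancel_right]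
  · rintro χ ⟨hχ, hχN, hχdet⟩
    obtain ⟨ν, hνN, rfl⟩ := exists_twist_of_extensions hϑ hη hηN hχ hχN
    have h1 : ν ^ d = Q := MonoidHom.ext fun g => Units.ext (by
      have h2 := congrFun hχdet g
      rw [htw] at h2
      rw [hQ, MonoidHom.pow_apply, MonoidHom.mul_apply, MonoidHom.inv_apply,
        Units.val_pow_eq_pow_val, Units.val_mul, ← h2, mul_assoc, ← Units.val_mul, mul_inv_cancel,
        Units.val_one, mul_one])
    have h3 : ν = Q ^ a := by
      ext1 g
      have hg : ν g ^ N.index = 1 := by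
        rw [← MonoidHom.pow_apply, hom_pow_index_eq_one hνN, MonoidHom.one_apply]
      rw [← h1, MonoidHom.zpow_apply, MonoidHom.pow_apply, ← zpow_natCast, ← zpow_mul,
        show (d : ℤ) * a = 1 - (N.index : ℤ) * b by linarith, zpow_sub, zpow_one, zpow_mul,
        zpow_natCast, hg, one_zpow, inv_one, mul_one]
    rw [h3]

/-- The coercion of linear characters to functions, as a monoid homomorphism. -/
noncomputable def homCoe (K : Type*) [Group K] : (K →* ℂˣ) →* (K → ℂ) where
  toFun l x := (l x : ℂ)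
  map_one' := by funext x; simp
  map_mul' a b := by funext x; simp

theorem homCoe_injective (K : Type*) [Group K] : Function.Injective (homCoe K) :=
  fun _ _ h => MonoidHom.ext fun x => Units.ext (congrFun h x)

theorem orderOf_coe_hom {K : Type*} [Group K] (l : K →* ℂˣ) :
    orderOf (fun x : K => (l x : ℂ)) = orderOf l :=
  orderOf_injective (homCoe K) (homCoe_injective K) l

/-- The canonical extension of an invariant linear character of order prime to the index. -/
theorem exists_canonical_linear_extension (f : N →* ℂˣ)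
    (hinv : ∀ (g : G) (n : N), f ⟨g * n * g⁻¹, hN.conj_mem (n : G) n.2 g⟩ = f n)
    (hcop : Nat.Coprime N.index (orderOf f)) :
    ∃ F : G →* ℂˣ, (∀ n : N, F n = f n) ∧ orderOf F = orderOf f ∧
      ∀ F' : G →* ℂˣ, (∀ n : N, F' n = f n) → Nat.Coprime N.index (orderOf F') → F' = F := by
  have hfo : ∀ n : N, f n ^ orderOf f = 1 := fun n => by
    rw [← MonoidHom.pow_apply, pow_orderOf_eq_one, MonoidHom.one_apply]
  obtain ⟨a, b, hab⟩ := (Int.isCoprime_iff_gcd_eq_one.2 hcop : IsCoprime (N.index : ℤ) (orderOf f))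
  obtain ⟨F, hFdef⟩ : ∃ F : G →* ℂˣ, F = MonoidHom.transfer f ^ a := ⟨_, rfl⟩
  have hF : ∀ n : N, F n = f n := fun n => by
    rw [hFdef, MonoidHom.zpow_apply, transfer_apply_of_invariant le_rfl f hinv n, ← zpow_natCast,
      ← zpow_mul, show (N.index : ℤ) * a = 1 - (orderOf f : ℤ) * b by linarith, zpow_sub, zpow_one,
      zpow_mul, zpow_natCast, hfo, one_zpow, inv_one, mul_one]
  have hFo : F ^ orderOf f = 1 := MonoidHom.ext fun g => by
    rw [hFdef, MonoidHom.pow_apply, MonoidHom.zpow_apply, ← zpow_natCast, ← zpow_mul, mul_comm,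
      zpow_mul, zpow_natCast, transfer_pow_eq_one f hfo, one_zpow, MonoidHom.one_apply]
  refine ⟨F, hF, Nat.dvd_antisymm (orderOf_dvd_of_pow_eq_one hFo)
    (orderOf_dvd_of_pow_eq_one (MonoidHom.ext fun n => ?_)), fun F' hF' hc' => ?_⟩
  · rw [MonoidHom.pow_apply, ← hF n, ← MonoidHom.pow_apply, pow_orderOf_eq_one,
      MonoidHom.one_apply, MonoidHom.one_apply]
  · have h1 : (F' * F⁻¹) ^ N.index = 1 := hom_pow_index_eq_one fun n => by
      rw [MonoidHom.mul_apply, MonoidHom.inv_apply, hF, hF', mul_inv_cancel]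
    have h2 : (F' * F⁻¹) ^ (orderOf F' * orderOf f) = 1 := by
      ext1 g
      have hF'g : F' g ^ orderOf F' = 1 := by
        rw [← MonoidHom.pow_apply, pow_orderOf_eq_one, MonoidHom.one_apply]
      have hFg : F g ^ orderOf f = 1 := by rw [← MonoidHom.pow_apply, hFo, MonoidHom.one_apply]
      rw [MonoidHom.pow_apply, MonoidHom.mul_apply, MonoidHom.inv_apply, mul_pow, inv_pow,
        pow_mul (F' g), hF'g, one_pow, mul_comm (orderOf F'), pow_mul (F g), hFg, one_pow, inv_one,
        mul_one, MonoidHom.one_apply]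
    exact mul_inv_eq_one.1 (orderOf_eq_one_iff.1 (Nat.eq_one_of_dvd_coprimes
      (Nat.Coprime.mul_right hc' hcop) (orderOf_dvd_of_pow_eq_one h1)
      (orderOf_dvd_of_pow_eq_one h2)))

end CfsgLib.Char
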