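/-
p-groups in which nonlinear irreducible characters of equal degree have equal kernels (S4845).
-/
import Cfsg.Agent.Char.Linear
import Cfsg.Agent.Char.Inflation
import Cfsg.Agent.Char.Kernel
import Cfsg.Agent.Char.Orthogonality
import Cfsg.Agent.Char.DegreeRatio
import Cfsg.Agent.Char.Constituents
import Cfsg.Agent.Char.Induction
import Cfsg.Agent.Char.Monomial
import Cfsg.Agent.InvChar.UniqueInvolution
import Cfsg.Agent.KGV.Basic
import Cfsg.Agent.FGSA.AbelianIndexP
import Cfsg.Agent.Solvable.PGroupBasic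
import Cfsg.Prelude.Def_Blocks
import Mathlib

/-!
# Equal degrees and equal kernels in `p`-groups
-/

set_option autoImplicit false
set_option linter.style.haveILetI false

namespace CfsgLib.EqualDegree

open Cfsg CfsgLib.Char Subgroup
open scoped commutatorElement ComplexConjugate

universe u

/-- Nonlinear irreducible characters of equal degree have the same kernel. -/
def SameKer (X : Type u) [Group X] : Prop :=
  ∀ χ ψ : X → ℂ, Cfsg.IsIrrCharacter X χ → Cfsg.IsIrrCharacter X ψ → χ 1 ≠ 1 → χ 1 = ψ 1 →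
    ∀ g, χ g = χ 1 → ψ g = ψ 1

theorem SameKer.quotient {X : Type u} [Group X] [Finite X] (h : SameKer X) (K : Subgroup X)
    [K.Normal] : SameKer (X ⧸ K) := by
  intro χ ψ hχ hψ h1 h2 q hq
  obtain ⟨g, rfl⟩ := QuotientGroup.mk'_surjective K q
  exact h (inflate K χ) (inflate K ψ) (IsIrrCharacter.inflate K hχ) (IsIrrCharacter.inflate K hψ)
    h1 h2 g hq

/-- A member of a cyclic group killed by the order of a subgroup lies in it. -/
theorem mem_of_pow_card {C : Type u} [Group C] [Finite C] [IsCyclic C] {K : Subgroup C} {a : C}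
    (ha : a ^ Nat.card K = 1) : a ∈ K := by
  classical
  have := Fintype.ofFinite C
  have h := IsCyclic.card_pow_eq_one_le (α := C) (n := Nat.card K) Nat.card_pos
  have hsub : (Finset.univ.filter fun x : C => x ∈ K) ⊆
      Finset.univ.filter fun x : C => x ^ Nat.card K = 1 := fun x hx => by
    simp only [Finset.mem_filter, Finset.mem_univ, true_and] at hx ⊢
    exact orderOf_dvd_iff_pow_eq_one.1 (Subgroup.orderOf_dvd_natCard _ hx)
  have heq := Finset.eq_of_subset_of_card_le hsub (h.trans (le_of_eq (by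
    rw [Nat.card_eq_fintype_card, Fintype.card_subtype])))
  have : a ∈ Finset.univ.filter fun x : C => x ∈ K := by rw [heq]; simpa using ha
  simpa using this

/-- In a cyclic `p`-group two elements generate nested subgroups. -/
theorem mem_or_mem {p : ℕ} [Fact p.Prime] {C : Type u} [Group C] [Finite C] [IsCyclic C]
    (hC : IsPGroup p C) (a b : C) : a ∈ zpowers b ∨ b ∈ zpowers a := by
  obtain ⟨i, hi⟩ := IsPGroup.iff_orderOf.1 hC a
  obtain ⟨j, hj⟩ := IsPGroup.iff_orderOf.1 hC b
  rcases le_total i j with h | h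
  · exact Or.inl (mem_of_pow_card (by
      rw [Nat.card_zpowers, hj, ← orderOf_dvd_iff_pow_eq_one, hi]; exact Nat.pow_dvd_pow p h))
  · exact Or.inr (mem_of_pow_card (by
      rw [Nat.card_zpowers, hi, ← orderOf_dvd_iff_pow_eq_one, hj]; exact Nat.pow_dvd_pow p h))

theorem comm_pow_left {X : Type u} [Group X] {a b : X} (h : ⁅a, b⁆ ∈ center X) (m : ℕ) :
    ⁅a ^ m, b⁆ = ⁅a, b⁆ ^ m := by
  induction m with
  | zero => simp
  | succ m ih =>
    have hc : ∀ g, g * ⁅a, b⁆ = ⁅a, b⁆ * g := fun g => mem_center_iff.1 h g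
    calc ⁅a ^ (m + 1), b⁆ = a ^ m * ⁅a, b⁆ * (a ^ m)⁻¹ * ⁅a ^ m, b⁆ := by
          simp only [commutatorElement_def, pow_succ]; group
      _ = ⁅a, b⁆ * ⁅a ^ m, b⁆ := by rw [hc, mul_inv_cancel_right]
      _ = _ := by rw [ih, ← pow_succ']

theorem comm_pow_right {X : Type u} [Group X] {a b : X} (h : ⁅a, b⁆ ∈ center X) (m : ℕ) :
    ⁅a, b ^ m⁆ = ⁅a, b⁆ ^ m := by
  have h' : ⁅b, a⁆ ∈ center X := by rw [← commutatorElement_inv]; exact inv_mem h
  rw [← commutatorElement_inv, comm_pow_left h' m, ← inv_pow, commutatorElement_inv]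

variable {X : Type u} [Group X] [Finite X]

/-- The central character as a homomorphism. -/
theorem exists_central_hom {χ : X → ℂ} (hχ : Cfsg.IsIrrCharacter X χ) :
    ∃ lam : center X →* ℂˣ, ∀ (y : X) (z : center X), χ (y * z) = (lam z : ℂ) * χ y := by
  classical
  have := Fintype.ofFinite X
  choose c _ hc using fun z : center X => CfsgLib.KGV.exists_central_scalar hχ z.2
  have h1 := IsIrrCharacter.apply_one_ne_zero hχ
  have hmul : ∀ a b, c (a * b) = c a * c b := fun a b => by
    have e1 := hc (a * b) 1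
    rw [Subgroup.coe_mul, ← mul_assoc, hc b, hc a] at e1
    refine mul_right_cancel₀ h1 ?_
    rw [← e1]; ring
  have hone : c 1 = 1 := by
    have := hc 1 1
    rw [OneMemClass.coe_one, mul_one] at this
    exact mul_right_cancel₀ h1 (by rw [← this, one_mul])
  have hne : ∀ z, c z ≠ 0 := fun z h => by
    have := hmul z z⁻¹
    rw [mul_inv_cancel, hone, h, zero_mul] at this
    exact one_ne_zero this
  exact ⟨MonoidHom.mk' (fun z => Units.mk0 (c z) (hne z)) (fun a b => Units.ext (hmul a b)),
    fun y z => hc z y⟩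

/-- A character trivial on the derived group is linear. -/
theorem apply_one_eq_one_of_commutator {χ : X → ℂ} (hχ : Cfsg.IsIrrCharacter X χ)
    (h : ∀ g ∈ commutator X, χ g = χ 1) : χ 1 = 1 :=
  IsIrrCharacter.apply_one_eq_one_of_commutators hχ fun a b =>
    h _ (commutator_mem_commutator (mem_top a) (mem_top b))

/-- Every linear character of the centre lies under an irreducible character. -/
theorem exists_over (θ : center X →* ℂˣ) :
    ∃ χ, Cfsg.IsIrrCharacter X χ ∧ ∀ z : center X, χ z = (θ z : ℂ) * χ 1 := by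
  classical
  have := Fintype.ofFinite X
  have := Fintype.ofFinite (center X)
  have hθ : Cfsg.IsIrrCharacter (center X) (fun z => (θ z : ℂ)) := isIrrCharacter_ofHom θ
  have hI := IsCharacter.indFun (G := X) (IsIrrCharacter.isCharacter hθ)
  obtain ⟨χ, hχ, hne⟩ := IsCharacter.exists_constituent hI (fun h => by
    have h1 := congrFun h 1
    rw [indFun_one, Pi.zero_apply, map_one, Units.val_one, mul_one] at h1
    exact Nat.cast_ne_zero.2 (index_ne_zero_of_finite (H := center X)) h1)
  obtain ⟨lam, hlam⟩ := exists_central_hom hχ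
  refine ⟨χ, hχ, fun z => ?_⟩
  have hz : ∀ w : center X, χ w = (lam w : ℂ) * χ 1 := fun w => by
    have := hlam 1 w
    rwa [one_mul] at this
  by_contra hzne
  have hd : (fun w : center X => χ w) = χ 1 • fun w : center X => (lam w : ℂ) :=
    funext fun w => by rw [Pi.smul_apply, smul_eq_mul, hz w, mul_comm]
  rw [classInner_indFun _ (IsIrrCharacter.isClassFunction hχ), hd] at hne
  refine hne ?_
  have hdiff : (fun w : center X => (θ w : ℂ)) ≠ fun w : center X => (lam w : ℂ) :=
    fun e => hzne (by rw [hz z, ← congrFun e z])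
  rw [← classInner_conj, classInner_smul_left,
    IsIrrCharacter.classInner_of_ne (isIrrCharacter_ofHom lam) hθ (Ne.symm hdiff), mul_zero, map_zero]

/-- There is a nonlinear irreducible character. -/
theorem exists_nonlinear (hna : ¬ IsMulCommutative X) :
    ∃ χ, Cfsg.IsIrrCharacter X χ ∧ χ 1 ≠ 1 := by
  by_contra! h
  exact hna ⟨⟨abelian_iff_degree_one.2 h⟩⟩

theorem exists_ne_one {H : Subgroup X} (h : H ≠ ⊥) : ∃ a ∈ H, a ≠ 1 := by
  by_contra! hh
  exact h ((Subgroup.eq_bot_iff_forall H).2 hh)

theorem map_commutator_mk (K : Subgroup X) [K.Normal] :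
    (commutator X).map (QuotientGroup.mk' K) = commutator (X ⧸ K) := by
  rw [_root_.commutator_def, _root_.commutator_def, map_commutator,
    map_top_of_surjective _ (QuotientGroup.mk'_surjective K)]

variable {p : ℕ} [hp : Fact p.Prime]

theorem central_of_card_prime (hX : IsPGroup p X) (E : Subgroup X) [E.Normal]
    (hE : Nat.card E = p) : E ≤ center X := by
  haveI := hX.isNilpotent
  have h := CfsgLib.PGroupBasic.inf_center_ne_bot E (fun e => by
    rw [e, Subgroup.card_bot] at hE; exact hp.out.one_lt.ne hE)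
  have h1 : Nat.card ↥(E ⊓ center X) = p :=
    ((Nat.dvd_prime hp.out).1 (hE ▸ card_dvd_of_le (inf_le_left : E ⊓ center X ≤ E))).resolve_left
      fun e => h (eq_bot_of_card_eq _ e)
  exact (eq_of_le_of_card_ge inf_le_left (by rw [h1, hE])).symm.le.trans inf_le_right

section Prime

variable (hX : IsPGroup p X) (hD : Nat.card (commutator X) = p)
include hX hD

theorem nonlinear_nontrivial {χ : X → ℂ} (hχ : Cfsg.IsIrrCharacter X χ) (h1 : χ 1 ≠ 1)
    {g : X} (hg : g ∈ commutator X) (hg1 : g ≠ 1) : χ g ≠ χ 1 := fun h => h1 <|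
  apply_one_eq_one_of_commutator hχ fun d hd => by
    set S := kerSubgroup (IsIrrCharacter.isCharacter hχ)
    have hne : S.subgroupOf (commutator X) ≠ ⊥ := fun e => hg1 (by
      have : (⟨g, hg⟩ : commutator X) ∈ S.subgroupOf (commutator X) :=
        mem_subgroupOf.2 ((mem_kerSubgroup _ _).2 h)
      rw [e, mem_bot] at this
      exact congrArg Subtype.val this)
    haveI : Fact (Nat.card (commutator X)).Prime := ⟨hD.symm ▸ hp.out⟩
    have htop := (Subgroup.eq_bot_or_eq_top_of_prime_card (S.subgroupOf (commutator X))).resolve_left hne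
    have : (⟨d, hd⟩ : commutator X) ∈ S.subgroupOf (commutator X) := by rw [htop]; trivial
    exact (mem_kerSubgroup _ _).1 (mem_subgroupOf.1 this)

theorem vanish_off_center {χ : X → ℂ} (hχ : Cfsg.IsIrrCharacter X χ) (h1 : χ 1 ≠ 1)
    {g : X} (hg : g ∉ center X) : χ g = 0 := by
  obtain ⟨y, hy⟩ : ∃ y, y * g ≠ g * y := by
    by_contra! h
    exact hg (mem_center_iff.2 h)
  have hmem : ⁅y, g⁆ ∈ commutator X := commutator_mem_commutator (mem_top y) (mem_top g)
  have hne : ⁅y, g⁆ ≠ 1 := fun h => hy (commutatorElement_eq_one_iff_mul_comm.1 h)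
  have hz := central_of_card_prime hX (commutator X) hD hmem
  obtain ⟨lam, hlam⟩ := exists_central_hom hχ
  have h2 := hlam g ⟨_, hz⟩
  have h3 : g * ⁅y, g⁆ = y * g * y⁻¹ := by
    rw [mem_center_iff.1 hz g]; simp [commutatorElement_def]
  rw [show g * ((⟨⁅y, g⁆, hz⟩ : center X) : X) = y * g * y⁻¹ from h3,
    IsIrrCharacter.isClassFunction hχ g y] at h2
  by_contra h0
  have h4 : (lam ⟨_, hz⟩ : ℂ) = 1 := mul_right_cancel₀ h0 (by rw [one_mul]; exact h2.symm)
  have h5 := hlam 1 ⟨_, hz⟩
  rw [h4, one_mul, one_mul] at h5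
  exact nonlinear_nontrivial hX hD hχ h1 hmem hne h5

theorem degree_sq {χ : X → ℂ} (hχ : Cfsg.IsIrrCharacter X χ) (h1 : χ 1 ≠ 1) :
    χ 1 ^ 2 = ((center X).index : ℂ) := by
  classical
  have := Fintype.ofFinite X
  have := Fintype.ofFinite (center X)
  obtain ⟨lam, hlam⟩ := exists_central_hom hχ
  obtain ⟨d, hd0, hd⟩ := IsIrrCharacter.exists_degree hχ
  have hsum : ∑ g : X, χ g * conj (χ g) = (Nat.card (center X) : ℂ) * χ 1 ^ 2 := by
    rw [← Finset.sum_subset (Finset.subset_univ (Finset.univ.filter fun g => g ∈ center X))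
      (fun g _ hg => by rw [vanish_off_center hX hD hχ h1 (by simpa using hg), zero_mul]),
      Finset.sum_subtype _ (p := fun g => g ∈ center X) (by simp) fun g => χ g * conj (χ g),
      Finset.sum_congr rfl fun (z : center X) _ => show χ z * conj (χ z) = χ 1 ^ 2 by
        have h2 := hlam 1 z
        rw [one_mul] at h2
        rw [h2, map_mul, conj_eq_inv_hom, hd, Complex.conj_natCast]
        rw [show (lam z : ℂ) * (d : ℂ) * ((lam z⁻¹ : ℂˣ) * (d : ℂ)) =
          ((lam z : ℂˣ) : ℂ) * ((lam z⁻¹ : ℂˣ) : ℂ) * ((d : ℂ) ^ 2) by ring,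
          ← Units.val_mul, ← map_mul, mul_inv_cancel, map_one, Units.val_one, one_mul],
      Finset.sum_const, Finset.card_univ, nsmul_eq_mul, Nat.card_eq_fintype_card]
  have h2 := IsIrrCharacter.classInner_self hχ
  rw [classInner_def, hsum, inv_mul_eq_one₀ (Nat.cast_ne_zero.2 Nat.card_pos.ne')] at h2
  rw [← (center X).card_mul_index, Nat.cast_mul] at h2
  exact (mul_left_cancel₀ (Nat.cast_ne_zero.2 Nat.card_pos.ne') h2).symm

theorem faithful (hZ : IsCyclic (center X)) {χ : X → ℂ} (hχ : Cfsg.IsIrrCharacter X χ)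
    (h1 : χ 1 ≠ 1) {g : X} (hg : χ g = χ 1) : g = 1 := by
  have hgz : g ∈ center X := by
    by_contra h
    rw [vanish_off_center hX hD hχ h1 h] at hg
    exact IsIrrCharacter.apply_one_ne_zero hχ hg.symm
  by_contra hne
  obtain ⟨j, hj⟩ := IsPGroup.iff_orderOf.1 hX g
  have hj0 : j ≠ 0 := fun e => hne (orderOf_eq_one_iff.1 (by simp [hj, e]))
  set a := g ^ p ^ (j - 1)
  have ha : orderOf a = p := by
    rw [orderOf_pow_of_dvd (pow_ne_zero _ hp.out.ne_zero) (hj ▸ Nat.pow_dvd_pow p (Nat.sub_le j 1)),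
      hj, Nat.pow_div (Nat.sub_le j 1) hp.out.pos]
    rw [show j - (j - 1) = 1 by omega, pow_one]
  have hmem : (⟨a, pow_mem hgz _⟩ : center X) ∈ (commutator X).subgroupOf (center X) :=
    mem_of_pow_card (by
      rw [Nat.card_congr (subgroupOfEquivOfLe (central_of_card_prime hX _ hD)).toEquiv, hD]
      exact Subtype.ext (by simpa using ha ▸ pow_orderOf_eq_one a))
  refine nonlinear_nontrivial hX hD hχ h1 (mem_subgroupOf.1 hmem)
    (fun e => hp.out.one_lt.ne' (by rw [← ha]; exact orderOf_eq_one_iff.2 e)) ?_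
  exact (mem_kerSubgroup (IsIrrCharacter.isCharacter hχ) _).1
    (pow_mem ((mem_kerSubgroup (IsIrrCharacter.isCharacter hχ) g).2 hg) _)

/-- Same kernels force a cyclic centre. -/
theorem center_cyclic (h : SameKer X) : IsCyclic (center X) := by
  classical
  by_contra hncyc
  have := Fintype.ofFinite X
  have := Fintype.ofFinite (center X)
  set D := commutator X
  have hDZ : D ≤ center X := central_of_card_prime hX D hD
  obtain ⟨d, hd, hd1⟩ : ∃ d ∈ D, d ≠ 1 := by
    by_contra! hh
    rw [(Subgroup.eq_bot_iff_forall D).2 hh, Subgroup.card_bot] at hD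
    exact hp.out.one_lt.ne hD
  -- a central element of order `p` outside the derived group
  obtain ⟨e, heD, hep⟩ : ∃ e : center X, (e : X) ∉ D ∧ e ^ p = 1 := by
    by_contra! hh
    have hu : ∀ x y : center X, orderOf x = p → orderOf y = p → y ∈ zpowers x := by
      intro x y hx hy
      have hxD : (x : X) ∈ D := by
        by_contra hc
        exact hh x hc (hx ▸ pow_orderOf_eq_one x)
      have hyD : (y : X) ∈ D := by
        by_contra hc
        exact hh y hc (hy ▸ pow_orderOf_eq_one y)
      haveI : Fact (Nat.card D).Prime := ⟨hD.symm ▸ hp.out⟩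
      have hx1 : (⟨(x : X), hxD⟩ : D) ≠ 1 := fun e => hp.out.one_lt.ne' (by
        rw [← hx, orderOf_eq_one_iff]; exact Subtype.ext (congrArg Subtype.val e :))
      obtain ⟨i, hi⟩ := mem_zpowers_iff.1 (mem_zpowers_of_prime_card hD hx1 (g' := ⟨(y : X), hyD⟩))
      exact mem_zpowers_iff.2 ⟨i, Subtype.ext (by simpa using congrArg Subtype.val hi)⟩
    rcases CfsgLib.UniqueInvol.cyclic_or_quaternion (hX.to_subgroup (center X)) hu with hc | ⟨-, n, hn, ⟨q⟩⟩
    · exact hncyc hc
    · have h1 := congrArg q (mul_comm' (q.symm (QuaternionGroup.a 1)) (q.symm (QuaternionGroup.xa 0)))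
      simp only [map_mul, MulEquiv.apply_symm_apply, QuaternionGroup.a_mul_xa,
        QuaternionGroup.xa_mul_a, QuaternionGroup.xa.injEq, zero_sub, zero_add] at h1
      have h2 : ((2 : ℕ) : ZMod (2 * 2 ^ n)) = 0 := by
        push_cast
        linear_combination -h1
      rw [ZMod.natCast_eq_zero_iff] at h2
      have := Nat.le_of_dvd two_pos h2
      have : 2 ^ 1 ≤ 2 ^ n := Nat.pow_le_pow_right (by norm_num) hn
      omega
  set d' : center X := ⟨d, hDZ hd⟩
  have hd'e : d' ∉ zpowers e := fun hc => heD (by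
    obtain ⟨i, hi⟩ := mem_zpowers_iff.1 hc
    have he1 : e ≠ 1 := fun h1 => hd1 (by
      rw [h1, one_zpow] at hi
      exact (congrArg Subtype.val hi).symm)
    have heo : Nat.card (zpowers e) = p := by rw [Nat.card_zpowers]; exact orderOf_eq_prime hep he1
    have h2 := mem_zpowers_of_prime_card heo (g := ⟨d', hc⟩) (g' := ⟨e, mem_zpowers e⟩)
      fun h3 => hd1 (congrArg (fun w : zpowers e => ((w : center X) : X)) h3)
    obtain ⟨j, hj⟩ := mem_zpowers_iff.1 h2
    have h4 := congrArg (fun w : zpowers e => ((w : center X) : X)) hj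
    simp only [SubgroupClass.coe_zpow] at h4
    rw [← h4]
    exact zpow_mem hd j)
  have habc : ∀ a : center X, a ∈ commutator (center X) → a = 1 := fun a ha => by
    have hle : commutator (center X) ≤ ⊥ := by
      rw [_root_.commutator_def, commutator_le]
      exact fun a _ b _ => mem_bot.2 (commutatorElement_eq_one_iff_mul_comm.2 (mul_comm' a b))
    exact mem_bot.1 (hle ha)
  -- two characters with different kernels
  obtain ⟨θ1, h1e, h1d⟩ : ∃ θ : center X →* ℂˣ, θ e = 1 ∧ θ d' ≠ 1 := by
    obtain ⟨θ, hθ⟩ := exists_hom_ne_one (G := center X ⧸ zpowers e)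
      (g := QuotientGroup.mk' (zpowers e) d') (fun hc => hd'e (by
        have hle : commutator (center X ⧸ zpowers e) ≤ ⊥ := by
          rw [_root_.commutator_def, commutator_le]
          intro a _ b _
          obtain ⟨a, rfl⟩ := QuotientGroup.mk'_surjective _ a
          obtain ⟨b, rfl⟩ := QuotientGroup.mk'_surjective _ b
          rw [mem_bot, commutatorElement_eq_one_iff_mul_comm, ← map_mul, ← map_mul, mul_comm']
        exact (QuotientGroup.eq_one_iff _).1 (mem_bot.1 (hle hc))))
    exact ⟨θ.comp (QuotientGroup.mk' _), by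
      rw [MonoidHom.comp_apply, show QuotientGroup.mk' (zpowers e) e = 1 from
        (QuotientGroup.eq_one_iff _).2 (mem_zpowers e), map_one], hθ⟩
  obtain ⟨θ2, h2e, h2d⟩ : ∃ θ : center X →* ℂˣ, θ e ≠ 1 ∧ θ d' ≠ 1 := by
    obtain ⟨θ, hθ⟩ := exists_hom_ne_one (G := center X) (g := e) fun hc => heD (by
      rw [habc e hc]; exact one_mem D)
    by_cases hθd : θ d' = 1
    · refine ⟨θ * θ1, ?_, ?_⟩
      · rwa [MonoidHom.mul_apply, h1e, mul_one]
      · rwa [MonoidHom.mul_apply, hθd, one_mul]
    · exact ⟨θ, hθ, hθd⟩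
  obtain ⟨χ, hχ, hχz⟩ := exists_over θ1
  obtain ⟨ψ, hψ, hψz⟩ := exists_over θ2
  have hnl : ∀ (φ : X → ℂ) (θ : center X →* ℂˣ), Cfsg.IsIrrCharacter X φ →
      (∀ z : center X, φ z = (θ z : ℂ) * φ 1) → θ d' ≠ 1 → φ 1 ≠ 1 := by
    intro φ θ hφ hz hne h1
    obtain ⟨l, rfl⟩ := IsCharacter.exists_hom (IsIrrCharacter.isCharacter hφ) h1
    have h2 := hz d'
    simp only [map_one, Units.val_one, mul_one] at h2
    refine hne (Units.ext ?_)
    rw [← h2, Abelianization.commutator_subset_ker l hd, Units.val_one]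
  have hχ1 := hnl χ θ1 hχ hχz h1d
  have hψ1 := hnl ψ θ2 hψ hψz h2d
  have hdeg : χ 1 = ψ 1 := by
    obtain ⟨a, -, ha⟩ := IsIrrCharacter.exists_degree hχ
    obtain ⟨b, -, hb⟩ := IsIrrCharacter.exists_degree hψ
    have h1 := (degree_sq hX hD hχ hχ1).trans (degree_sq hX hD hψ hψ1).symm
    rw [ha, hb, ← Nat.cast_pow, ← Nat.cast_pow, Nat.cast_inj] at h1
    rw [ha, hb, (Nat.pow_left_injective two_ne_zero h1 : a = b)]
  have := h χ ψ hχ hψ hχ1 hdeg e (by rw [hχz, h1e, Units.val_one, one_mul])
  rw [hψz] at this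
  exact h2e (Units.ext ((mul_eq_right₀ (IsIrrCharacter.apply_one_ne_zero hψ)).1 this))

end Prime

/-- The data attached to a normal `K` with `|(X/K)'| = p`. -/
theorem quotient_data (hX : IsPGroup p X) (h : SameKer X) (K : Subgroup X) [K.Normal]
    (hK : K ≤ commutator X) (hc : Nat.card (commutator X) = Nat.card K * p) :
    IsCyclic (center (X ⧸ K)) ∧ ∃ χ : X → ℂ, Cfsg.IsIrrCharacter X χ ∧ χ 1 ≠ 1 ∧
      χ 1 ^ 2 = ((center (X ⧸ K)).index : ℂ) ∧ ∀ g, χ g = χ 1 ↔ g ∈ K := by
  have hQ : IsPGroup p (X ⧸ K) := hX.to_quotient K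
  have hcard : Nat.card (commutator (X ⧸ K)) = p := by
    have h1 : commutator (X ⧸ K) = (commutator X).map (QuotientGroup.mk' K) := by
      rw [_root_.commutator_def, _root_.commutator_def, map_commutator,
        map_top_of_surjective _ (QuotientGroup.mk'_surjective K)]
    have h2 := index_map_eq (commutator X) (QuotientGroup.mk'_surjective K)
      (by rw [QuotientGroup.ker_mk']; exact hK)
    rw [← h1] at h2
    have h3 := (commutator X).card_mul_index
    have h4 := (commutator (X ⧸ K)).card_mul_index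
    rw [h2, ← Subgroup.index_eq_card] at h4
    rw [hc, ← K.card_mul_index, mul_assoc] at h3
    have h5 := Nat.eq_of_mul_eq_mul_left Nat.card_pos h3
    exact Nat.eq_of_mul_eq_mul_right (Nat.pos_of_ne_zero index_ne_zero_of_finite)
      (h4.trans h5.symm)
  have hZ := center_cyclic hQ hcard (h.quotient K)
  obtain ⟨ψ, hψ, hψ1⟩ := exists_nonlinear (X := X ⧸ K) (fun hab => by
    have : commutator (X ⧸ K) = ⊥ := by
      rw [eq_bot_iff, _root_.commutator_def, commutator_le]
      exact fun a _ b _ => mem_bot.2 (commutatorElement_eq_one_iff_mul_comm.2 (hab.is_comm.comm a b))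
    rw [this, Subgroup.card_bot] at hcard
    exact hp.out.one_lt.ne hcard)
  exact ⟨hZ, inflate K ψ, IsIrrCharacter.inflate K hψ, hψ1, degree_sq hQ hcard hψ hψ1, fun g =>
    ⟨fun hg => (QuotientGroup.eq_one_iff g).1 (faithful hQ hcard hZ hψ hψ1 hg),
      fun hg => inflate_apply_mem K ψ hg⟩⟩

/-- Different kernels give different centres modulo them. -/
theorem index_ne (hX : IsPGroup p X) (h : SameKer X) (K K' : Subgroup X) [K.Normal] [K'.Normal]
    (hK : K ≤ commutator X) (hK' : K' ≤ commutator X)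
    (hc : Nat.card (commutator X) = Nat.card K * p) (hc' : Nat.card (commutator X) = Nat.card K' * p)
    (hne : K ≠ K') : (center (X ⧸ K)).index ≠ (center (X ⧸ K')).index := by
  intro he
  obtain ⟨-, χ, hχ, hχ1, hχs, hχk⟩ := quotient_data hX h K hK hc
  obtain ⟨-, ψ, hψ, hψ1, hψs, hψk⟩ := quotient_data hX h K' hK' hc'
  obtain ⟨a, -, ha⟩ := IsIrrCharacter.exists_degree hχ
  obtain ⟨b, -, hb⟩ := IsIrrCharacter.exists_degree hψ
  have h1 := hχs.trans ((congrArg (Nat.cast (R := ℂ)) he).trans hψs.symm)
  rw [ha, hb, ← Nat.cast_pow, ← Nat.cast_pow, Nat.cast_inj] at h1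
  have hdeg : χ 1 = ψ 1 := by rw [ha, hb, (Nat.pow_left_injective two_ne_zero h1 : a = b)]
  exact hne (le_antisymm (fun g hg => (hψk g).1 (h χ ψ hχ hψ hχ1 hdeg g ((hχk g).2 hg)))
    (fun g hg => (hχk g).1 (h ψ χ hψ hχ hψ1 hdeg.symm g ((hψk g).2 hg))))

theorem mem_center_quotient {K : Subgroup X} [K.Normal] {x : X} :
    QuotientGroup.mk' K x ∈ center (X ⧸ K) ↔ ∀ w, ⁅x, w⁆ ∈ K := by
  rw [mem_center_iff]
  constructor
  · intro h w
    rw [← QuotientGroup.eq_one_iff, ← QuotientGroup.mk'_apply, map_commutatorElement,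
      commutatorElement_eq_one_iff_mul_comm]
    exact (h (QuotientGroup.mk' K w)).symm
  · intro h q
    obtain ⟨w, rfl⟩ := QuotientGroup.mk'_surjective K q
    refine (commutatorElement_eq_one_iff_mul_comm.1 ?_).symm
    rw [← map_commutatorElement]
    exact (QuotientGroup.eq_one_iff _).2 (h w)

theorem zpow_split {K : Subgroup X} [K.Normal] {a b : X}
    (h : QuotientGroup.mk' K a ∈ zpowers (QuotientGroup.mk' K b)) :
    ∃ (j : ℕ), ∃ k ∈ K, a = b ^ j * k := by
  rw [← mem_powers_iff_mem_zpowers] at h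
  obtain ⟨j, hj⟩ := (Submonoid.mem_powers_iff _ _).1 h
  refine ⟨j, (b ^ j)⁻¹ * a, ?_, by group⟩
  rw [← QuotientGroup.eq_one_iff, ← QuotientGroup.mk'_apply, map_mul, map_inv, map_pow, hj, inv_mul_cancel]

/-- The derived group cannot have order `p ^ 2`. -/
theorem not_card_sq (hX : IsPGroup p X) (h : SameKer X) : Nat.card (commutator X) ≠ p ^ 2 := by
  classical
  intro hD2
  haveI := hX.isNilpotent
  set D := commutator X
  have hDne : D ≠ ⊥ := fun e => by
    rw [e, Subgroup.card_bot] at hD2
    exact (Nat.one_lt_pow two_ne_zero hp.out.one_lt).ne hD2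
  have hnormal : ∀ a ∈ D ⊓ center X, (zpowers a).Normal := fun a ha =>
    ⟨fun b hb g => by
      have hbc : b ∈ center X := zpowers_le.2 ha.2 hb
      rwa [mem_center_iff.1 hbc g, mul_inv_cancel_right]⟩
  have hsplit : ∀ a ∈ D ⊓ center X, orderOf a = p → (zpowers a) ≤ D ∧
      Nat.card (commutator X) = Nat.card (zpowers a) * p := fun a ha hap =>
    ⟨zpowers_le.2 ha.1, by rw [Nat.card_zpowers, hap, hD2, pow_two]⟩
  by_cases hcl : D ≤ center X
  · by_cases hex : ∃ x y : X, ⁅x, y⁆ ^ p ≠ 1
    · -- the derived group is cyclic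
      obtain ⟨x, y, hxy⟩ := hex
      set c := ⁅x, y⁆
      have hcD : c ∈ D := commutator_mem_commutator (mem_top x) (mem_top y)
      have hcgen : zpowers c = D := by
        refine eq_of_le_of_card_ge (zpowers_le.2 hcD) ?_
        rw [hD2, Nat.card_zpowers]
        obtain ⟨i, hi2, hi⟩ := (Nat.dvd_prime_pow hp.out).1
          (hD2 ▸ Subgroup.orderOf_dvd_natCard D hcD)
        have : ¬ i ≤ 1 := fun hle => hxy (orderOf_dvd_iff_pow_eq_one.1 (by
          rw [hi]; simpa using Nat.pow_dvd_pow p hle))
        rw [show i = 2 by omega] at hi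
        rw [hi]
      have hco : orderOf c = p ^ 2 := by rw [← Nat.card_zpowers, hcgen, hD2]
      have hap : orderOf (c ^ p) = p := by
        rw [orderOf_pow, hco, pow_two, Nat.gcd_mul_right_left p p, Nat.mul_div_cancel _ hp.out.pos]
      haveI hKn := hnormal (c ^ p) ⟨pow_mem hcD p, hcl (pow_mem hcD p)⟩
      obtain ⟨hKD, hKc⟩ := hsplit (c ^ p) ⟨pow_mem hcD p, hcl (pow_mem hcD p)⟩ hap
      obtain ⟨hcyc, -⟩ := quotient_data hX h (zpowers (c ^ p)) hKD hKc
      have hW : ∀ a : X, QuotientGroup.mk' (zpowers (c ^ p)) (a ^ p) ∈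
          center (X ⧸ zpowers (c ^ p)) := fun a => mem_center_quotient.2 fun w => by
        have hm : ⁅a, w⁆ ∈ D := commutator_mem_commutator (mem_top a) (mem_top w)
        rw [comm_pow_left (hcl hm)]
        rw [← hcgen] at hm
        obtain ⟨i, hi⟩ := mem_zpowers_iff.1 hm
        rw [← hi]
        exact mem_zpowers_iff.2
          ⟨i, by rw [← zpow_natCast, ← zpow_natCast, ← zpow_mul, ← zpow_mul, mul_comm]⟩
      have hkill : ∀ a b : X, QuotientGroup.mk' (zpowers (c ^ p)) (a ^ p) ∈
          zpowers (QuotientGroup.mk' (zpowers (c ^ p)) (b ^ p)) → ⁅a, b⁆ ^ p = 1 := by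
        intro a b hab
        obtain ⟨j, k, hk, hjk⟩ := zpow_split hab
        rw [← comm_pow_left (hcl (commutator_mem_commutator (mem_top a) (mem_top b))), hjk,
          commutatorElement_eq_one_iff_mul_comm]
        exact (((Commute.refl b).pow_left p).pow_left j |>.mul_left
          (mem_center_iff.1 (hcl (hKD hk)) b).symm).eq
      rcases mem_or_mem ((hX.to_quotient _).to_subgroup (center (X ⧸ zpowers (c ^ p))))
        ⟨_, hW x⟩ ⟨_, hW y⟩ with hh | hh
      · refine hxy (hkill x y ?_)
        obtain ⟨i, hi⟩ := mem_zpowers_iff.1 hh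
        exact mem_zpowers_iff.2 ⟨i, by simpa using congrArg Subtype.val hi⟩
      · refine hxy ?_
        have h1 : ⁅y, x⁆ ^ p = 1 := by
          refine hkill y x ?_
          obtain ⟨i, hi⟩ := mem_zpowers_iff.1 hh
          exact mem_zpowers_iff.2 ⟨i, by simpa using congrArg Subtype.val hi⟩
        rw [show c = ⁅y, x⁆⁻¹ from (commutatorElement_inv y x).symm, inv_pow, h1, inv_one]
    · -- the derived group has exponent `p`
      push Not at hex
      have hexp : ∀ a ∈ D, a ^ p = 1 := by
        intro a ha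
        have hD : D = closure (commutatorSet X) := commutator_eq_closure X
        rw [hD] at ha
        induction ha using closure_induction with
        | mem b hb => obtain ⟨u, v, rfl⟩ := hb; exact hex u v
        | one => exact one_pow p
        | mul b c hb _ hb' hc' =>
          have hbc : Commute b c := (mem_center_iff.1 (hcl (hD.ge hb)) c).symm
          rw [hbc.mul_pow, hb', hc', one_mul]
        | inv b _ hb' => rw [inv_pow, hb', inv_one]
      obtain ⟨a, ha, ha1⟩ := exists_ne_one hDne
      obtain ⟨b, hb, hba⟩ : ∃ b ∈ D, b ∉ zpowers a := by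
        by_contra! hh
        have h1 := Subgroup.card_le_of_le (H := D) (K := zpowers a) hh
        rw [hD2, Nat.card_zpowers, orderOf_eq_prime (hexp a ha) ha1] at h1
        exact absurd h1 (not_le.2 (lt_self_pow₀ hp.out.one_lt one_lt_two))
      have hb1 : b ≠ 1 := fun e => hba (e ▸ one_mem _)
      have hab : a * b ≠ 1 := fun e => hba ((eq_inv_of_mul_eq_one_right e) ▸ inv_mem (mem_zpowers a))
      have key : ∀ w ∈ D, w ≠ 1 → ∃ hn : (zpowers w).Normal,
          (center (X ⧸ zpowers w)).index = (center X).index ∨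
            (center (X ⧸ zpowers w)).index * p = (center X).index := by
        intro w hw hw1
        haveI hn := hnormal w ⟨hw, hcl hw⟩
        refine ⟨hn, ?_⟩
        obtain ⟨hKD, hKc⟩ := hsplit w ⟨hw, hcl hw⟩ (orderOf_eq_prime (hexp w hw) hw1)
        obtain ⟨hcyc, -⟩ := quotient_data hX h (zpowers w) hKD hKc
        obtain ⟨⟨g, hg⟩, hgen⟩ := hcyc.exists_generator
        obtain ⟨v, rfl⟩ := QuotientGroup.mk'_surjective (zpowers w) g
        have hvp : v ^ p ∈ center X := mem_center_iff.2 fun t => by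
          refine (commutatorElement_eq_one_iff_mul_comm.1 ?_).symm
          have hm : ⁅v, t⁆ ∈ D := commutator_mem_commutator (mem_top v) (mem_top t)
          rw [comm_pow_left (hcl hm), hexp _ hm]
        have hW : (center (X ⧸ zpowers w)).comap (QuotientGroup.mk' (zpowers w)) =
            center X ⊔ zpowers v := by
          refine le_antisymm (fun t ht => ?_) (sup_le (fun t ht => ?_) (zpowers_le.2 hg))
          · obtain ⟨j, k, hk, rfl⟩ := zpow_split (a := t) (b := v) (by
              obtain ⟨i, hi⟩ := mem_zpowers_iff.1 (hgen ⟨_, ht⟩)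
              exact mem_zpowers_iff.2 ⟨i, (congrArg Subtype.val hi : _)⟩)
            exact mul_mem (mem_sup_right (pow_mem (mem_zpowers v) j))
              (mem_sup_left (hcl (hKD hk)))
          · refine mem_center_quotient.2 fun u => ?_
            rw [commutatorElement_eq_one_iff_mul_comm.2 (mem_center_iff.1 ht u).symm]
            exact one_mem _
        have hidx := index_comap_of_surjective (center (X ⧸ zpowers w))
          (QuotientGroup.mk'_surjective (zpowers w))
        rw [hW] at hidx
        rw [← hidx]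
        have hle := CfsgLib.PGroupBasic.card_sup_zpowers_le (p := p) (center X) v hvp
        have hmul := relIndex_mul_index (le_sup_left : center X ≤ center X ⊔ zpowers v)
        obtain ⟨i, -, hi⟩ := (Nat.dvd_prime_pow hp.out).1
          (show (center X).relIndex (center X ⊔ zpowers v) ∣ p ^ _ from
            (relIndex_dvd_card _ _).trans ((hX.to_subgroup _).exists_card_eq.choose_spec.dvd))
        have h1 := card_mul_index ((center X).subgroupOf (center X ⊔ zpowers v))
        rw [show ((center X).subgroupOf (center X ⊔ zpowers v)).index = p ^ i from hi,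
          Nat.card_congr (subgroupOfEquivOfLe le_sup_left).toEquiv] at h1
        have hi1 : i ≤ 1 := by
          by_contra hc
          have h2 : p ^ 2 ≤ p ^ i := Nat.pow_le_pow_right hp.out.pos (by omega)
          have h3 : Nat.card (center X) * p ^ 2 ≤ Nat.card (center X) * p := by
            calc Nat.card (center X) * p ^ 2 ≤ Nat.card (center X) * p ^ i := Nat.mul_le_mul_left _ h2
              _ = _ := h1
              _ ≤ _ := by rw [sup_comm, mul_comm]; rw [sup_comm] at hle ⊢; exact hle
          exact absurd (Nat.le_of_mul_le_mul_left h3 Nat.card_pos)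
            (not_le.2 (lt_self_pow₀ hp.out.one_lt one_lt_two))
        rw [hi] at hmul
        rcases Nat.lt_or_ge i 1 with hi0 | hi0
        · left; rw [← hmul, show i = 0 by omega, pow_zero, one_mul]
        · right; rw [← hmul, show i = 1 by omega, pow_one, mul_comm]
      obtain ⟨hna, ka⟩ := key a ha ha1
      obtain ⟨hnb, kb⟩ := key b hb hb1
      obtain ⟨hnc, kc⟩ := key (a * b) (mul_mem ha hb) hab
      have hne : ∀ u v : X, u ∈ D → v ∈ D → u ≠ 1 → v ≠ 1 → ∀ (_ : (zpowers u).Normal)
          (_ : (zpowers v).Normal), v ∉ zpowers u →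
          (center (X ⧸ zpowers u)).index ≠ (center (X ⧸ zpowers v)).index := by
        intro u v hu hv hu1 hv1 hnu hnv hvu
        obtain ⟨h1, h2⟩ := hsplit u ⟨hu, hcl hu⟩ (orderOf_eq_prime (hexp u hu) hu1)
        obtain ⟨h3, h4⟩ := hsplit v ⟨hv, hcl hv⟩ (orderOf_eq_prime (hexp v hv) hv1)
        exact index_ne hX h _ _ h1 h3 h2 h4 fun e => hvu (e ▸ mem_zpowers v)
      have n1 := hne a b ha hb ha1 hb1 hna hnb hba
      have n2 := hne a (a * b) ha (mul_mem ha hb) ha1 hab hna hnc
        fun hc => hba (by simpa using mul_mem (inv_mem (mem_zpowers a)) hc)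
      have n3 : (center (X ⧸ zpowers b)).index ≠ (center (X ⧸ zpowers (a * b))).index :=
        hne b (a * b) hb (mul_mem ha hb) hb1 hab hnb hnc fun hc => by
          have h1 : a ∈ zpowers b := by simpa using mul_mem hc (inv_mem (mem_zpowers b))
          have h2 := eq_of_le_of_card_ge (zpowers_le.2 h1) (by
            rw [Nat.card_zpowers, Nat.card_zpowers, orderOf_eq_prime (hexp a ha) ha1,
              orderOf_eq_prime (hexp b hb) hb1])
          exact hba (h2.ge (mem_zpowers b))
      rcases ka with ka | ka <;> rcases kb with kb | kb <;> rcases kc with kc | kc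
      all_goals first
        | exact n1 (ka.trans kb.symm)
        | exact n2 (ka.trans kc.symm)
        | exact n3 (kb.trans kc.symm)
        | exact n1 (Nat.eq_of_mul_eq_mul_right hp.out.pos (ka.trans kb.symm))
        | exact n2 (Nat.eq_of_mul_eq_mul_right hp.out.pos (ka.trans kc.symm))
        | exact n3 (Nat.eq_of_mul_eq_mul_right hp.out.pos (kb.trans kc.symm))
  · -- the derived group is not central
    set K := D ⊓ center X
    have hKne : K ≠ ⊥ := CfsgLib.PGroupBasic.inf_center_ne_bot D hDne
    have hKc : Nat.card K = p := by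
      show Nat.card ↥(D ⊓ center X) = p
      obtain ⟨i, hi2, hi⟩ := (Nat.dvd_prime_pow hp.out).1 (hD2 ▸ card_dvd_of_le (inf_le_left : K ≤ D))
      have hi0 : i ≠ 0 := fun e => hKne (eq_bot_of_card_eq _ (by rw [hi, e, pow_zero]))
      have hi2' : i ≠ 2 := fun e => hcl ((eq_of_le_of_card_ge inf_le_left
        (by rw [hD2, hi, e])).symm.le.trans inf_le_right)
      rw [show i = 1 by omega, pow_one] at hi
      exact hi
    have hcc : Nat.card (commutator X) = Nat.card K * p := by rw [hKc, hD2, pow_two]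
    obtain ⟨hcyc, χ, hχ, hχ1, hχs, hχk⟩ := quotient_data hX h K inf_le_left hcc
    obtain ⟨u, huD, huK⟩ := SetLike.exists_of_lt (lt_of_le_of_ne (inf_le_left : K ≤ D) fun e => by
      exact (lt_self_pow₀ hp.out.one_lt one_lt_two).ne
        (hKc.symm.trans ((congrArg (fun H : Subgroup X => Nat.card H) e).trans hD2)))
    have huc : u ∉ center X := fun hc => huK ⟨huD, hc⟩
    set π := QuotientGroup.mk' K
    have hDK : ∀ d ∈ D, π d ∈ center (X ⧸ K) := by
      intro d hd
      have hmap : D.map π = commutator (X ⧸ K) := map_commutator_mk K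
      have hcardm : Nat.card (D.map π) = p := by
        have h2 := index_map_eq D (QuotientGroup.mk'_surjective K)
          (by rw [QuotientGroup.ker_mk']; exact inf_le_left)
        have h3 := D.card_mul_index
        have h4 := (D.map π).card_mul_index
        rw [h2, ← Subgroup.index_eq_card] at h4
        rw [hcc, ← K.card_mul_index, mul_assoc] at h3
        exact Nat.eq_of_mul_eq_mul_right (Nat.pos_of_ne_zero index_ne_zero_of_finite)
          (h4.trans (Nat.eq_of_mul_eq_mul_left Nat.card_pos h3).symm)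
      haveI : (D.map π).Normal := by rw [hmap]; infer_instance
      exact central_of_card_prime (hX.to_quotient K) _ hcardm (mem_map_of_mem π hd)
    have huw : ∀ w, ⁅u, w⁆ ∈ K := mem_center_quotient.1 (hDK u huD)
    have hup : u ^ p ∈ K := by
      refine ⟨pow_mem huD p, mem_center_iff.2 fun t => ?_⟩
      refine (commutatorElement_eq_one_iff_mul_comm.1 ?_).symm
      rw [comm_pow_left (huw t).2, ← hKc]
      exact orderOf_dvd_iff_pow_eq_one.1 (Subgroup.orderOf_dvd_natCard K (huw t))
    -- the centre of the quotient has order `p`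
    have hZQ : Nat.card (center (X ⧸ K)) = p := by
      obtain ⟨⟨g, hg⟩, hgen⟩ := hcyc.exists_generator
      obtain ⟨v, rfl⟩ := QuotientGroup.mk'_surjective K g
      obtain ⟨j, k, hk, hjk⟩ := zpow_split (a := u) (b := v) (by
        obtain ⟨i, hi⟩ := mem_zpowers_iff.1 (hgen ⟨_, hDK u huD⟩)
        exact mem_zpowers_iff.2 ⟨i, (congrArg Subtype.val hi : _)⟩)
      have hpj : ¬ p ∣ j := by
        rintro ⟨i, rfl⟩
        refine huc (hjk ▸ mul_mem (mem_center_iff.2 fun t => ?_) hk.2)
        have hvt := mem_center_quotient.1 hg t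
        refine (commutatorElement_eq_one_iff_mul_comm.1 ?_).symm
        rw [comm_pow_left hvt.2, pow_mul, ← hKc,
          orderOf_dvd_iff_pow_eq_one.1 (Subgroup.orderOf_dvd_natCard K hvt), one_pow]
      set gg : center (X ⧸ K) := ⟨π v, hg⟩
      have hj : gg ^ j = ⟨π u, hDK u huD⟩ := Subtype.ext (by
        show π v ^ j = π u
        rw [hjk, map_mul, map_pow, show π k = 1 from (QuotientGroup.eq_one_iff k).2 hk, mul_one])
      obtain ⟨i, hi⟩ := IsPGroup.iff_orderOf.1 ((hX.to_quotient K).to_subgroup (center (X ⧸ K))) gg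
      have h1 : orderOf (gg ^ j) = orderOf gg := by
        refine Nat.Coprime.orderOf_pow ?_
        rw [hi]
        exact Nat.Coprime.pow_left i (hp.out.coprime_iff_not_dvd.2 hpj)
      have h2 : orderOf (⟨π u, hDK u huD⟩ : center (X ⧸ K)) = p := by
        refine orderOf_eq_prime (Subtype.ext ?_) fun e => huK ?_
        · show π u ^ p = 1
          rw [← map_pow]; exact (QuotientGroup.eq_one_iff _).2 hup
        · exact (QuotientGroup.eq_one_iff u).1 (congrArg Subtype.val e)
      rw [← orderOf_eq_card_of_forall_mem_zpowers hgen, ← h1, hj, h2]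
    -- an abelian subgroup of index `p` modulo `K`
    set A := centralizer (D : Set X)
    have hDA : ∀ d ∈ D, ∀ a ∈ A, a * d = d * a := fun d hd a ha => (mem_centralizer_iff.1 ha d hd).symm
    have hDab : D ≤ A := by
      have hDgen : ∀ d ∈ D, ∃ (j : ℕ), ∃ k ∈ K, d = u ^ j * k := fun d hd => by
        refine zpow_split ?_
        have h1 : zpowers (π u) = D.map π := by
          refine eq_of_le_of_card_ge (zpowers_le.2 (mem_map_of_mem π huD)) ?_
          have h2 := index_map_eq D (QuotientGroup.mk'_surjective K)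
            (by rw [QuotientGroup.ker_mk']; exact inf_le_left)
          have h3 := D.card_mul_index
          have h4 := (D.map π).card_mul_index
          rw [h2, ← Subgroup.index_eq_card] at h4
          rw [hcc, ← K.card_mul_index, mul_assoc] at h3
          rw [Nat.eq_of_mul_eq_mul_right (Nat.pos_of_ne_zero index_ne_zero_of_finite)
            (h4.trans (Nat.eq_of_mul_eq_mul_left Nat.card_pos h3).symm), Nat.card_zpowers,
            orderOf_eq_prime (x := π u) (p := p)
              (by rw [← map_pow]; exact (QuotientGroup.eq_one_iff _).2 hup)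
              (fun e => huK ((QuotientGroup.eq_one_iff u).1 e))]
        rw [h1]; exact mem_map_of_mem π hd
      intro a ha
      refine mem_centralizer_iff.2 fun d hd => ?_
      obtain ⟨i, k, hk, rfl⟩ := hDgen a ha
      obtain ⟨j, k', hk', rfl⟩ := hDgen d hd
      have c1 : ∀ {z : X}, z ∈ K → ∀ t, Commute t z := fun hz t => mem_center_iff.1 hz.2 t
      exact ((((Commute.refl u).pow_pow j i).mul_right (c1 hk (u ^ j))).mul_left
        ((c1 hk' (u ^ i * k)).symm)).eq
    have hAK : ∀ a ∈ A, ∀ b ∈ A, ⁅a, b⁆ ∈ K := by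
      intro a ha b hb
      refine ⟨commutator_mem_commutator (mem_top a) (mem_top b), mem_center_iff.2 fun c => ?_⟩
      have hα : a⁻¹ * (c * a * c⁻¹) ∈ D := by
        have : ⁅a⁻¹, c⁆ ∈ D := commutator_mem_commutator (mem_top a⁻¹) (mem_top c)
        simpa [commutatorElement_def, mul_assoc] using this
      have hβ : b⁻¹ * (c * b * c⁻¹) ∈ D := by
        have : ⁅b⁻¹, c⁆ ∈ D := commutator_mem_commutator (mem_top b⁻¹) (mem_top c)
        simpa [commutatorElement_def, mul_assoc] using this
      set α := a⁻¹ * (c * a * c⁻¹) with hαd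
      set β := b⁻¹ * (c * b * c⁻¹) with hβd
      have e1 : c * a * c⁻¹ = a * α := by rw [hαd]; group
      have e2 : c * b * c⁻¹ = b * β := by rw [hβd]; group
      have c1 : Commute α b := (hDA α hα b hb).symm
      have c2 : Commute β a := (hDA β hβ a ha).symm
      have c3 : Commute α β := hDA β hβ α (hDab hα)
      have h1 : ⁅a * α, b * β⁆ = ⁅a, b⁆ := by
        simp only [commutatorElement_def, mul_inv_rev]
        calc a * α * (b * β) * (α⁻¹ * a⁻¹) * (β⁻¹ * b⁻¹)
            = a * (α * (b * β) * α⁻¹) * a⁻¹ * (β⁻¹ * b⁻¹) := by group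
          _ = a * (b * β) * a⁻¹ * (β⁻¹ * b⁻¹) := by rw [(c1.mul_right c3).eq, mul_inv_cancel_right]
          _ = a * b * (β * a⁻¹ * β⁻¹) * b⁻¹ := by group
          _ = _ := by rw [c2.inv_right.eq, mul_inv_cancel_right]
      have h2 : c * ⁅a, b⁆ * c⁻¹ = ⁅a, b⁆ := by
        rw [conjugate_commutatorElement, e1, e2, h1]
      exact mul_inv_eq_iff_eq_mul.1 h2
    -- `A` has index `p`
    have hAi : A.index = p := by
      have hmul : ∀ s t : X, ⁅u, s * t⁆ = ⁅u, s⁆ * ⁅u, t⁆ := fun s t => by
        calc ⁅u, s * t⁆ = ⁅u, s⁆ * (s * ⁅u, t⁆ * s⁻¹) := by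
              simp only [commutatorElement_def]; group
          _ = _ := by rw [mem_center_iff.1 (huw t).2 s, mul_inv_cancel_right]
      let φ : X →* K := MonoidHom.mk' (fun t => ⟨⁅u, t⁆, huw t⟩) fun s t => Subtype.ext (hmul s t)
      have hker : φ.ker ≤ A := fun t ht => by
        refine mem_centralizer_iff.2 fun d hd => ?_
        have htu : Commute u t := commutatorElement_eq_one_iff_mul_comm.1 (congrArg Subtype.val ht)
        have h1 : zpowers u ⊔ K = D := by
          refine eq_of_le_of_card_ge (sup_le (zpowers_le.2 huD) inf_le_left) ?_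
          obtain ⟨i, -, hi⟩ := (Nat.dvd_prime_pow hp.out).1
            (hD2 ▸ card_dvd_of_le (sup_le (zpowers_le.2 huD) inf_le_left : zpowers u ⊔ K ≤ D))
          have hlt : Nat.card K < Nat.card ↥(zpowers u ⊔ K) :=
            CfsgLib.AbelianIndexP.card_lt (lt_of_le_of_ne le_sup_right fun e =>
              huK (e.ge (mem_sup_left (mem_zpowers u))))
          rw [hKc, hi] at hlt
          rw [hi, hD2]
          refine Nat.pow_le_pow_right hp.out.pos ?_
          by_contra hc
          exact absurd hlt (not_lt.2 (by simpa using Nat.pow_le_pow_right hp.out.pos (by omega : i ≤ 1)))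
        have hmem : d ∈ centralizer ({t} : Set X) := by
          refine (sup_le (zpowers_le.2 (mem_centralizer_singleton_iff.2 htu.eq)) (fun k hk => ?_)) (h1.ge hd)
          exact mem_centralizer_singleton_iff.2 (mem_center_iff.1 hk.2 t).symm
        exact mem_centralizer_singleton_iff.1 hmem
      have h1 : A.index ∣ p := by
        refine (index_dvd_of_le hker).trans ?_
        rw [index_ker, ← hKc]
        exact card_subgroup_dvd_card _
      refine ((Nat.dvd_prime hp.out).1 h1).resolve_left fun e => huc (mem_center_iff.2 fun t => ?_)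
      exact (mem_centralizer_iff.1 ((index_eq_one.1 e).ge (mem_top t)) u huD).symm
    have hcardQ : Nat.card (X ⧸ K) = p ^ 3 := by
      have hker : (QuotientGroup.mk' K).ker ≤ A := by
        rw [QuotientGroup.ker_mk']; exact inf_le_left.trans hDab
      have hAb : IsMulCommutative ↥(A.map π) := ⟨⟨fun a b => Subtype.ext ?_⟩⟩
      · have hna : ¬ IsMulCommutative (X ⧸ K) := fun hab => huK (by
          have hb : commutator (X ⧸ K) = ⊥ := by
            rw [eq_bot_iff, _root_.commutator_def, commutator_le]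
            exact fun a _ b _ =>
              mem_bot.2 (commutatorElement_eq_one_iff_mul_comm.2 (hab.is_comm.comm a b))
          have hmap : D.map π = commutator (X ⧸ K) := map_commutator_mk K
          have : π u ∈ commutator (X ⧸ K) := hmap ▸ mem_map_of_mem π huD
          rw [hb, mem_bot] at this
          exact (QuotientGroup.eq_one_iff u).1 this)
        have hi := CfsgLib.AbelianIndexP.index_center_eq (hX.to_quotient K) hna hAb
          (by rw [index_map_eq A (QuotientGroup.mk'_surjective K) hker, hAi])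
        have hcp : Nat.card (commutator (X ⧸ K)) = p := by
          have h1 : commutator (X ⧸ K) ≤ center (X ⧸ K) := by
            rw [show commutator (X ⧸ K) = D.map π from (map_commutator_mk K).symm]
            rintro _ ⟨d, hd, rfl⟩
            exact hDK d hd
          refine ((Nat.dvd_prime hp.out).1 (hZQ ▸ card_dvd_of_le h1)).resolve_left fun e => hna ?_
          have hb := eq_bot_of_card_eq _ e
          exact ⟨⟨fun a b => commutatorElement_eq_one_iff_mul_comm.1 (mem_bot.1 (hb ▸
            commutator_mem_commutator (mem_top a) (mem_top b)))⟩⟩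
        rw [← (center (X ⧸ K)).card_mul_index, hZQ, hi, hcp]
        ring
      · obtain ⟨a', ha', hae⟩ := a.2
        obtain ⟨b', hb', hbe⟩ := b.2
        show (a : X ⧸ K) * b = b * a
        rw [← hae, ← hbe, ← commutatorElement_eq_one_iff_mul_comm, ← map_commutatorElement]
        exact (QuotientGroup.eq_one_iff _).2 (hAK a' ha' b' hb')
    obtain ⟨k0, hk0, hk1⟩ := exists_ne_one hKne
    have hnc : ¬ IsConj k0 (1 : X) := fun hc => hk1 (isConj_one_left.1 hc)
    rw [isConj_iff_irr_eq] at hnc
    push Not at hnc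
    obtain ⟨ψ, hψ, hψk⟩ := hnc
    have hψ1 : ψ 1 ≠ 1 := fun e => hψk (by
      obtain ⟨l, rfl⟩ := IsCharacter.exists_hom (IsIrrCharacter.isCharacter hψ) e
      show (l k0 : ℂ) = (l 1 : ℂ)
      rw [show l k0 = 1 from Abelianization.commutator_subset_ker l hk0.1, map_one])
    obtain ⟨a, ha0, ha⟩ := IsIrrCharacter.exists_degree hχ
    obtain ⟨b, hb0, hb⟩ := IsIrrCharacter.exists_degree hψ
    have hcardX : Nat.card X = p ^ 4 := by
      rw [← K.card_mul_index, hKc, show K.index = Nat.card (X ⧸ K) from rfl, hcardQ]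
      ring
    have hap : a = p := by
      have h1 : (center (X ⧸ K)).index = p ^ 2 := by
        have := (center (X ⧸ K)).card_mul_index
        rw [hZQ, hcardQ] at this
        exact Nat.eq_of_mul_eq_mul_left hp.out.pos (this.trans (by ring))
      rw [ha, h1, ← Nat.cast_pow, Nat.cast_inj] at hχs
      exact Nat.pow_left_injective two_ne_zero hχs
    have hbp : b = p := by
      obtain ⟨i, -, hi⟩ := (Nat.dvd_prime_pow hp.out).1
        (hcardX ▸ IsIrrCharacter.degree_dvd_card hψ hb)
      have hi0 : i ≠ 0 := fun e => hψ1 (by rw [hb, hi, e, pow_zero, Nat.cast_one])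
      have hlt : b ^ 2 < p ^ 4 := by
        have hs := sum_degree_sq (G := X)
        have htriv : Cfsg.IsIrrCharacter X (fun g => ((1 : X →* ℂˣ) g : ℂ)) := isIrrCharacter_ofHom 1
        have hne : (fun g => ((1 : X →* ℂˣ) g : ℂ)) ≠ ψ := fun e => hψ1 (by rw [← congrFun e 1]; simp)
        have hsub : ({fun g => ((1 : X →* ℂˣ) g : ℂ), ψ} : Finset (X → ℂ)) ⊆ irrFinset X := by
          intro f hf
          simp only [Finset.mem_insert, Finset.mem_singleton] at hf
          rcases hf with rfl | rfl
          · exact mem_irrFinset.2 htriv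
          · exact mem_irrFinset.2 hψ
        have hre := congrArg Complex.re hs
        rw [Complex.re_sum, Complex.natCast_re] at hre
        have hle := Finset.sum_le_sum_of_subset_of_nonneg (f := fun f : X → ℂ => (f 1 ^ 2).re) hsub
          (fun f hf _ => by
            obtain ⟨d, -, hd⟩ := IsIrrCharacter.exists_degree (mem_irrFinset.1 hf)
            rw [hd, ← Nat.cast_pow, Complex.natCast_re]; positivity)
        rw [Finset.sum_pair hne, hre, hcardX] at hle
        simp only [map_one, Units.val_one, one_pow, Complex.one_re, hb] at hle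
        rw [← Nat.cast_pow, Complex.natCast_re] at hle
        exact_mod_cast (by linarith : ((b ^ 2 : ℕ) : ℝ) < ((p ^ 4 : ℕ) : ℝ))
      rw [hi, ← pow_mul] at hlt
      have := (Nat.pow_lt_pow_iff_right hp.out.one_lt).1 hlt
      rw [hi, show i = 1 by omega, pow_one]
    exact hψk (h χ ψ hχ hψ hχ1 (by rw [ha, hb, hap, hbp]) k0 ((hχk k0).2 hk0))

/-- **Equal degrees and equal kernels.** -/
theorem structure_of_sameKer (hX : IsPGroup p X) (hna : ¬ IsMulCommutative X) (h : SameKer X) :
    IsCyclic (center X) ∧ Nat.card (commutator X) = p := by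
  induction hn : Nat.card X using Nat.strong_induction_on generalizing X with
  | _ n ih =>
  subst hn
  haveI := hX.isNilpotent
  set D := commutator X
  have hDne : D ≠ ⊥ := fun e => hna ⟨⟨fun a b => commutatorElement_eq_one_iff_mul_comm.1
    (mem_bot.1 (e ▸ commutator_mem_commutator (mem_top a) (mem_top b)))⟩⟩
  have hne := CfsgLib.PGroupBasic.inf_center_ne_bot D hDne
  obtain ⟨i, hi⟩ := (hX.to_subgroup (D ⊓ center X)).exists_card_eq
  have hdvd : p ∣ Nat.card ↥(D ⊓ center X) := by
    rw [hi]; exact dvd_pow_self p fun e => hne (eq_bot_of_card_eq _ (by rw [hi, e, pow_zero]))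
  obtain ⟨⟨a, ha⟩, hap⟩ := exists_prime_orderOf_dvd_card' p hdvd
  rw [Subgroup.orderOf_mk] at hap
  haveI hEn : (zpowers a).Normal := ⟨fun b hb g => by
    rwa [mem_center_iff.1 (zpowers_le.2 ha.2 hb) g, mul_inv_cancel_right]⟩
  have hED : zpowers a ≤ D := zpowers_le.2 ha.1
  have hEc : Nat.card (zpowers a) = p := by rw [Nat.card_zpowers, hap]
  by_cases hDE : D ≤ zpowers a
  · have hD : Nat.card D = p := by rw [le_antisymm hDE hED, hEc]
    exact ⟨center_cyclic hX hD h, hD⟩
  exfalso
  have hmap : D.map (QuotientGroup.mk' (zpowers a)) = commutator (X ⧸ zpowers a) :=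
    map_commutator_mk _
  have hlt : Nat.card (X ⧸ zpowers a) < Nat.card X := by
    rw [← (zpowers a).card_mul_index, hEc, show (zpowers a).index = Nat.card (X ⧸ zpowers a) from rfl]
    exact lt_mul_left Nat.card_pos hp.out.one_lt
  obtain ⟨-, hc⟩ := ih _ hlt (hX.to_quotient _) (fun hab => hDE fun d hd => by
    have h1 : (QuotientGroup.mk' (zpowers a)) d ∈ commutator (X ⧸ zpowers a) :=
      hmap ▸ mem_map_of_mem _ hd
    have hb : commutator (X ⧸ zpowers a) = ⊥ := by
      rw [eq_bot_iff, _root_.commutator_def, commutator_le]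
      exact fun x _ y _ => mem_bot.2 (commutatorElement_eq_one_iff_mul_comm.2 (hab.is_comm.comm x y))
    rw [hb, mem_bot] at h1
    exact (QuotientGroup.eq_one_iff d).1 h1) (h.quotient _) rfl
  refine not_card_sq hX h ?_
  have h2 := index_map_eq D (QuotientGroup.mk'_surjective (zpowers a))
    (by rw [QuotientGroup.ker_mk']; exact hED)
  have h3 := D.card_mul_index
  have h4 := (D.map (QuotientGroup.mk' (zpowers a))).card_mul_index
  rw [h2, hmap, hc, ← Subgroup.index_eq_card] at h4
  rw [← (zpowers a).card_mul_index, hEc, ← h4, ← mul_assoc, ← pow_two] at h3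
  exact Nat.eq_of_mul_eq_mul_right (Nat.pos_of_ne_zero index_ne_zero_of_finite) h3

/-- The converse: all nonlinear characters are conjugate under powers prime to the order. -/
theorem exists_power_conjugate (hX : IsPGroup p X) (hD : Nat.card (commutator X) = p)
    (hZ : IsCyclic (center X)) {χ ψ : X → ℂ} (hχ : Cfsg.IsIrrCharacter X χ)
    (hψ : Cfsg.IsIrrCharacter X ψ) (hχ1 : χ 1 ≠ 1) (hdeg : χ 1 = ψ 1) :
    ∃ k : ℕ, Nat.Coprime k (Nat.card X) ∧ ∀ g : X, ψ g = χ (g ^ k) := by
  have hψ1 : ψ 1 ≠ 1 := hdeg ▸ hχ1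
  obtain ⟨l1, hl1⟩ := exists_central_hom hχ
  obtain ⟨l2, hl2⟩ := exists_central_hom hψ
  obtain ⟨c, hc⟩ := hZ.exists_generator
  set m := Nat.card (center X)
  have hm : orderOf c = m := orderOf_eq_card_of_forall_mem_zpowers hc
  have key : ∀ (φ : X → ℂ) (l : center X →* ℂˣ), Cfsg.IsIrrCharacter X φ → φ 1 ≠ 1 →
      (∀ y (z : center X), φ (y * z) = (l z : ℂ) * φ y) → IsPrimitiveRoot (l c : ℂ) m := by
    intro φ l hφ hφ1 hl
    rw [IsPrimitiveRoot.iff_def]
    refine ⟨by rw [← Units.val_pow_eq_pow_val, ← map_pow, ← hm, pow_orderOf_eq_one, map_one,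
      Units.val_one], fun j hj => ?_⟩
    rw [← hm, orderOf_dvd_iff_pow_eq_one]
    refine Subtype.ext (faithful hX hD hZ hφ hφ1 ?_)
    have := hl 1 (c ^ j)
    rw [one_mul, map_pow, Units.val_pow_eq_pow_val, hj, one_mul] at this
    exact this
  have h1 := key χ l1 hχ hχ1 hl1
  have h2 := key ψ l2 hψ hψ1 hl2
  haveI : NeZero m := ⟨Nat.card_pos.ne'⟩
  obtain ⟨k, -, hk, hke⟩ := h1.isPrimitiveRoot_iff.1 h2
  have hpm : p ∣ m := hD ▸ card_dvd_of_le (central_of_card_prime hX _ hD)
  have hkX : k.Coprime (Nat.card X) := by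
    obtain ⟨i, hi⟩ := IsPGroup.iff_card.1 hX
    rw [hi]
    exact ((hk.coprime_dvd_right hpm)).pow_right i
  refine ⟨k, hkX, fun g => ?_⟩
  by_cases hg : g ∈ center X
  · obtain ⟨j, hj⟩ := (Submonoid.mem_powers_iff _ _).1 (mem_powers_iff_mem_zpowers.2 (hc ⟨g, hg⟩))
    have hg' : g = ((c ^ j : center X) : X) := (congrArg Subtype.val hj).symm
    rw [hg', ← SubgroupClass.coe_pow, ← pow_mul]
    have e1 := hl1 1 (c ^ (j * k))
    have e2 := hl2 1 (c ^ j)
    rw [one_mul] at e1 e2
    rw [e1, e2, map_pow, map_pow, Units.val_pow_eq_pow_val, Units.val_pow_eq_pow_val, ← hke, ← hdeg,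
      ← pow_mul, mul_comm j k]
  · have hgk : g ^ k ∉ center X := fun hmem => hg (by
      have hcop : (orderOf g).Coprime k := (hkX.coprime_dvd_right (orderOf_dvd_natCard g)).symm
      obtain ⟨b, hb⟩ := exists_pow_eq_self_of_coprime hcop.symm
      exact hb ▸ pow_mem hmem b)
    rw [vanish_off_center hX hD hψ hψ1 hg, vanish_off_center hX hD hχ hχ1 hgk]

end CfsgLib.EqualDegree
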