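import Cfsg.Agent.Char.ScalarIndex
import Cfsg.Agent.Char.Constituents

/-!
# Values of irreducible characters on translates by central elements
-/

set_option autoImplicit false
set_option linter.style.haveILetI false

namespace CfsgLib.Char

open scoped ComplexConjugate

universe u

variable {G : Type u} [Group G] [Finite G]

theorem IsIrrCharacter.apply_center_mul {χ : G → ℂ} (hχ : Cfsg.IsIrrCharacter G χ) {z : G}
    (hz : z ∈ Subgroup.center G) (g : G) : χ (z * g) = χ z / χ 1 * χ g := by
  obtain ⟨n, ρ, hρ, rfl⟩ := id hχ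
  haveI := hρ
  obtain ⟨c, hc⟩ := exists_scalar_of_mem_scalarSubgroup ρ (center_le_scalarSubgroup ρ hz)
  have h1 : ∀ x : G, ρ.character (z * x) = c * ρ.character x := fun x => by
    simp only [Representation.character, map_mul, hc, smul_mul_assoc, one_mul, map_smul,
      smul_eq_mul]
  have h2 := h1 1
  rw [mul_one] at h2
  rw [h1, h2, mul_div_cancel_right₀ _ (IsIrrCharacter.apply_one_ne_zero hχ)]

/-- If every element outside the centre has a commutator with nontrivial scalar value, the
character vanishes there and its degree squared is the index of the centre. -/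
theorem IsIrrCharacter.vanish_of_center_commutator [Fintype G] {χ : G → ℂ}
    (hχ : Cfsg.IsIrrCharacter G χ)
    (h : ∀ g ∉ Subgroup.center G, ∃ x : G, x * g * x⁻¹ * g⁻¹ ∈ Subgroup.center G ∧
      χ (x * g * x⁻¹ * g⁻¹) ≠ χ 1) :
    (∀ g ∉ Subgroup.center G, χ g = 0) ∧
      χ 1 ^ 2 = ((Subgroup.center G).index : ℂ) := by
  classical
  have h0 := IsIrrCharacter.apply_one_ne_zero hχ
  have hvan : ∀ g ∉ Subgroup.center G, χ g = 0 := fun g hg => by
    obtain ⟨x, hx, hne⟩ := h g hg
    have h1 := IsIrrCharacter.apply_center_mul hχ hx g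
    rw [inv_mul_cancel_right, IsIrrCharacter.isClassFunction hχ g x] at h1
    by_contra hg0
    exact hne ((div_eq_one_iff_eq h0).1 ((mul_eq_right₀ hg0).1 h1.symm))
  refine ⟨hvan, ?_⟩
  have hn := IsIrrCharacter.classInner_self hχ
  rw [classInner_def] at hn
  have hz : ∀ z ∈ Subgroup.center G, χ z * conj (χ z) = χ 1 ^ 2 := fun z hz => by
    have h1 := IsIrrCharacter.apply_center_mul hχ hz z⁻¹
    rw [mul_inv_cancel, IsIrrCharacter.apply_inv hχ] at h1
    field_simp at h1
    linear_combination -h1
  rw [← Finset.sum_subset (s₁ := Finset.univ.filter fun g => g ∈ Subgroup.center G)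
    (Finset.subset_univ _) (fun g _ hg => by rw [hvan g (by simpa using hg), zero_mul]),
    Finset.sum_congr rfl fun g hg => hz g (Finset.mem_filter.1 hg).2, Finset.sum_const,
    nsmul_eq_mul] at hn
  rw [show (Finset.univ.filter fun g => g ∈ Subgroup.center G).card =
      Nat.card (Subgroup.center G) by
      rw [← Fintype.card_subtype, ← Nat.card_eq_fintype_card],
    ← (Subgroup.center G).card_mul_index, Nat.cast_mul] at hn
  have hc : (Nat.card (Subgroup.center G) : ℂ) ≠ 0 := by exact_mod_cast Nat.card_pos.ne'
  have hi : ((Subgroup.center G).index : ℂ) ≠ 0 := by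
    exact_mod_cast Subgroup.index_ne_zero_of_finite
  field_simp at hn
  exact hn

end CfsgLib.Char
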