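import Mathlib.LinearAlgebra.Matrix.Kronecker
import Mathlib.LinearAlgebra.Trace
import Mathlib.LinearAlgebra.Matrix.ToLin
import Mathlib.LinearAlgebra.Matrix.NonsingularInverse
import Cfsg.Agent.FGSB.SquareCount
import Cfsg.Agent.Char.Orthogonality

/-!
# The Frobenius-Schur indicator
-/

namespace CfsgLib.Char

open Finset Matrix
open scoped Kronecker ComplexConjugate

universe u
variable {G : Type u} [Group G]

theorem exists_natCast_trace_eq_zero {ι : Type*} [Fintype ι] [DecidableEq ι] {M : Matrix ι ι ℂ}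
    (h : M * M = M) (h0 : M.trace = 0) : M = 0 := by
  have hidem : IsIdempotentElem (Matrix.toLin' M) := by
    change Matrix.toLin' M * Matrix.toLin' M = Matrix.toLin' M
    rw [Module.End.mul_eq_comp, ← Matrix.toLin'_mul, h]
  have hrk := LinearMap.IsProj.trace (LinearMap.IsIdempotentElem.isProj_range _ hidem)
  rw [Matrix.trace_toLin'_eq, h0] at hrk
  have : LinearMap.range (Matrix.toLin' M) = ⊥ :=
    Submodule.finrank_eq_zero.1 (Nat.cast_eq_zero.1 hrk.symm)
  exact Matrix.toLin'.injective ((LinearMap.range_eq_bot.1 this).trans (map_zero _).symm)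

/-- The indicator is a difference `A - B` of natural numbers with `A + B = ⟨χ, conj χ⟩`, and
`B ≠ 0` gives a nonzero invariant skew-symmetric matrix. -/
theorem exists_fs_pair [Fintype G] {n : ℕ} (ρ : Representation ℂ G (Fin n → ℂ)) :
    ∃ A B : ℕ, Cfsg.classInner ρ.character (fun g => conj (ρ.character g)) = A + B ∧
      (Nat.card G : ℂ)⁻¹ * ∑ g : G, ρ.character (g * g) = A - B ∧
      (B ≠ 0 → ∃ Bm : Matrix (Fin n) (Fin n) ℂ, Bm ≠ 0 ∧ Bmᵀ = -Bm ∧
        ∀ g, LinearMap.toMatrix' (ρ g) * Bm * (LinearMap.toMatrix' (ρ g))ᵀ = Bm) := by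
  classical
  let M : G → Matrix (Fin n) (Fin n) ℂ := fun g => LinearMap.toMatrix' (ρ g)
  have hM : ∀ g h, M g * M h = M (g * h) := fun g h => by
    simp only [M, map_mul, Module.End.mul_eq_comp, LinearMap.toMatrix'_comp]
  have hchar : ∀ g, ρ.character g = (M g).trace := fun g =>
    (LinearMap.trace_eq_matrix_trace ℂ (Pi.basisFun ℂ (Fin n)) _).trans
      (by rw [LinearMap.toMatrix_eq_toMatrix'])
  let K : G → Matrix (Fin n × Fin n) (Fin n × Fin n) ℂ := fun g => M g ⊗ₖ M g
  have hK : ∀ g h, K g * K h = K (g * h) := fun g h => by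
    simp only [K, ← Matrix.mul_kronecker_mul, hM]
  let S : Matrix (Fin n × Fin n) (Fin n × Fin n) ℂ :=
    Matrix.of fun x y => if y = x.swap then 1 else 0
  have hSmul : ∀ (A : Matrix (Fin n × Fin n) (Fin n × Fin n) ℂ) x y,
      (S * A) x y = A x.swap y := fun A x y => by simp [S, Matrix.mul_apply]
  have hmulS : ∀ (A : Matrix (Fin n × Fin n) (Fin n × Fin n) ℂ) x y,
      (A * S) x y = A x y.swap := fun A x y => by
    simp [S, Matrix.mul_apply]
    rw [Finset.sum_eq_single y.swap (fun b _ hb => if_neg fun h => hb (by simp [h])) (by simp)]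
    simp
  have hS : S * S = 1 := by
    ext x y; rw [hSmul]; simp [S, Matrix.one_apply, eq_comm]
  have hSK : ∀ g, S * K g = K g * S := fun g => by
    ext x y; rw [hSmul, hmulS]; simp [K, mul_comm]
  let E : Matrix (Fin n × Fin n) (Fin n × Fin n) ℂ := (Nat.card G : ℂ)⁻¹ • ∑ g : G, K g
  have hKE : ∀ g, K g * E = E := fun g => by
    simp only [E, Matrix.mul_smul, Finset.mul_sum, hK]
    congr 1
    exact Equiv.sum_comp (Equiv.mulLeft g) K
  have hE : E * E = E := by
    conv_lhs => arg 1; simp only [E]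
    rw [smul_mul, Finset.sum_mul]
    simp only [hKE, Finset.sum_const, Finset.card_univ, ← Nat.card_eq_fintype_card,
      ← Nat.cast_smul_eq_nsmul ℂ, smul_smul]
    rw [inv_mul_cancel₀ (by simp), one_smul]
  have hc : S * E = E * S := by simp [E, Finset.mul_sum, Finset.sum_mul, hSK]
  have a1 : E * (S * E) = S * E := by rw [← mul_assoc, ← hc, mul_assoc, hE]
  have a2 : S * E * E = S * E := by rw [mul_assoc, hE]
  have a3 : S * E * (S * E) = E := by rw [mul_assoc, a1, ← mul_assoc, hS, one_mul]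
  have hP : ((1 / 2 : ℂ) • (E + S * E)) * ((1 / 2 : ℂ) • (E + S * E)) = (1 / 2 : ℂ) • (E + S * E) := by
    simp only [smul_mul, Matrix.mul_smul, add_mul, mul_add, a1, a2, a3, hE]
    module
  have hQ : ((1 / 2 : ℂ) • (E - S * E)) * ((1 / 2 : ℂ) • (E - S * E)) = (1 / 2 : ℂ) • (E - S * E) := by
    simp only [smul_mul, Matrix.mul_smul, sub_mul, mul_sub, a1, a2, a3, hE]
    module
  obtain ⟨A, hA⟩ := FSCount.exists_trace_eq_natCast hP
  obtain ⟨B, hB⟩ := FSCount.exists_trace_eq_natCast hQ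
  have htrE : Cfsg.classInner ρ.character (fun g => conj (ρ.character g)) = E.trace := by
    simp [Cfsg.classInner, E, K, hchar, trace_sum, Matrix.trace_kronecker, Finset.mul_sum]
  have htrSE : (Nat.card G : ℂ)⁻¹ * ∑ g : G, ρ.character (g * g) = (S * E).trace := by
    simp only [E, Matrix.mul_smul, Finset.mul_sum, trace_smul, trace_sum, smul_eq_mul]
    refine Finset.sum_congr rfl fun g _ => ?_
    congr 1
    rw [hchar, ← hM]
    simp only [Matrix.trace, Matrix.diag, hSmul, Fintype.sum_prod_type]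
    simp [K, Matrix.mul_apply]
    exact Finset.sum_comm
  rw [trace_smul, trace_add, smul_eq_mul] at hA
  rw [trace_smul, trace_sub, smul_eq_mul] at hB
  refine ⟨A, B, by rw [htrE, ← hA, ← hB]; ring, by rw [htrSE, ← hA, ← hB]; ring, fun hB0 => ?_⟩
  obtain ⟨x, y, hxy⟩ : ∃ x y, ((1 / 2 : ℂ) • (E - S * E)) x y ≠ 0 := by
    by_contra! h
    have h0 : (1 / 2 : ℂ) • (E - S * E) = 0 := Matrix.ext h
    have := congrArg Matrix.trace h0
    rw [trace_smul, trace_sub, smul_eq_mul, hB, Matrix.trace_zero, Nat.cast_eq_zero] at this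
    exact hB0 this
  set Q := (1 / 2 : ℂ) • (E - S * E) with hQdef
  have hSQ : S * Q = -Q := by
    simp only [hQdef, Matrix.mul_smul, mul_sub, ← mul_assoc, hS, one_mul, ← smul_neg, neg_sub]
  have hKQ : ∀ g, K g * Q = Q := fun g => by
    simp only [hQdef, Matrix.mul_smul, mul_sub, hKE, ← mul_assoc, ← hSK]
    rw [mul_assoc, hKE]
  refine ⟨Matrix.of fun i j => Q (i, j) y, fun h => hxy ?_, ?_, fun g => ?_⟩
  · have := congrFun (congrFun h x.1) x.2
    simpa using this
  · ext i j
    have := congrFun (congrFun hSQ (i, j)) y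
    rw [hSmul] at this
    simpa using this
  · ext i j
    have := congrFun (congrFun (hKQ g) (i, j)) y
    rw [Matrix.mul_apply, Fintype.sum_prod_type] at this
    simp only [Matrix.of_apply, ← this]
    simp only [Matrix.mul_apply, Matrix.transpose_apply, Matrix.of_apply, K, M,
      Matrix.kroneckerMap_apply, Finset.sum_mul]
    rw [Finset.sum_comm]
    exact Finset.sum_congr rfl fun a _ => Finset.sum_congr rfl fun b _ => by ring

/-- A nonzero invariant skew-symmetric form forces even degree. -/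
theorem even_of_invariant_skew [Finite G] {n : ℕ} (ρ : Representation ℂ G (Fin n → ℂ))
    [ρ.IsIrreducible] {Bm : Matrix (Fin n) (Fin n) ℂ} (h0 : Bm ≠ 0) (hskew : Bmᵀ = -Bm)
    (hinv : ∀ g, LinearMap.toMatrix' (ρ g) * Bm * (LinearMap.toMatrix' (ρ g))ᵀ = Bm) : Even n := by
  let M : G → Matrix (Fin n) (Fin n) ℂ := fun g => LinearMap.toMatrix' (ρ g)
  have hMinv : ∀ g, M g⁻¹ * M g = 1 := fun g => by
    simp only [M, ← LinearMap.toMatrix'_comp, ← Module.End.mul_eq_comp, ← map_mul, inv_mul_cancel,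
      map_one, Module.End.one_eq_id, LinearMap.toMatrix'_id]
  have hcomm : ∀ g, M g * Bm = Bm * (M g⁻¹)ᵀ := fun g => by
    conv_rhs => rw [← hinv g]
    rw [mul_assoc, ← Matrix.transpose_mul, hMinv, Matrix.transpose_one, mul_one]
  let U : Subrepresentation ρ :=
    ⟨LinearMap.range (Matrix.toLin' Bm), fun g v hv => by
      obtain ⟨w, rfl⟩ := hv
      refine ⟨(M g⁻¹)ᵀ *ᵥ w, ?_⟩
      change Matrix.toLin' Bm _ = ρ g (Matrix.toLin' Bm w)
      rw [← Matrix.toLin'_toMatrix' (ρ g)]
      change Matrix.toLin' Bm _ = Matrix.toLin' (M g) _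
      simp only [Matrix.toLin'_apply, Matrix.mulVec_mulVec, hcomm]⟩
  rcases IsSimpleOrder.eq_bot_or_eq_top U with hU | hU
  · have h1 : LinearMap.range (Matrix.toLin' Bm) = ⊥ := congrArg Subrepresentation.toSubmodule hU
    exact absurd (Matrix.toLin'.injective ((LinearMap.range_eq_bot.1 h1).trans (map_zero _).symm)) h0
  · have h1 : LinearMap.range (Matrix.toLin' Bm) = ⊤ := congrArg Subrepresentation.toSubmodule hU
    have hunit : IsUnit Bm := Matrix.isUnit_toLin'_iff.1
      ((LinearMap.isUnit_iff_range_eq_top _).2 h1)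
    have hdet : Bm.det ≠ 0 := ((Matrix.isUnit_iff_isUnit_det _).1 hunit).ne_zero
    have h2 := congrArg Matrix.det hskew
    rw [Matrix.det_transpose, Matrix.det_neg, Fintype.card_fin] at h2
    by_contra hodd
    rw [Nat.not_even_iff_odd] at hodd
    rw [hodd.neg_one_pow] at h2
    exact hdet (by linear_combination h2 / 2)

/-- The indicator of an irreducible character is `0`, `1` or `-1`, according to reality. -/
theorem IsIrrCharacter.fs_indicator [Fintype G] {χ : G → ℂ} (hχ : Cfsg.IsIrrCharacter G χ) :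
    ((∃ g, (χ g).im ≠ 0) ∧ (Nat.card G : ℂ)⁻¹ * ∑ g : G, χ (g * g) = 0) ∨
    ((∀ g, (χ g).im = 0) ∧ ((Nat.card G : ℂ)⁻¹ * ∑ g : G, χ (g * g) = 1 ∨
      ((Nat.card G : ℂ)⁻¹ * ∑ g : G, χ (g * g) = -1 ∧ ∀ d : ℕ, χ 1 = d → Even d))) := by
  classical
  obtain ⟨n, ρ, hρ, rfl⟩ := hχ
  obtain ⟨A, B, hsum, hdiff, hB⟩ := exists_fs_pair ρ
  have hχ : Cfsg.IsIrrCharacter G ρ.character := ⟨n, ρ, hρ, rfl⟩
  rw [IsIrrCharacter.classInner_eq hχ (IsIrrCharacter.conj hχ)] at hsum
  by_cases hreal : ∀ g, (ρ.character g).im = 0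
  · right
    rw [if_pos (funext fun g => (Complex.conj_eq_iff_im.2 (hreal g)).symm)] at hsum
    have hAB : A + B = 1 := by exact_mod_cast hsum.symm
    refine ⟨hreal, ?_⟩
    rcases Nat.eq_zero_or_pos B with h | h
    · left; rw [hdiff, h, show A = 1 by omega]; simp
    · right
      refine ⟨by rw [hdiff, show A = 0 by omega, show B = 1 by omega]; simp, fun d hd => ?_⟩
      obtain ⟨Bm, h0, hs, hi⟩ := hB (by omega)
      rw [ρ.char_one, Module.finrank_fin_fun, Nat.cast_inj] at hd
      exact hd ▸ even_of_invariant_skew ρ h0 hs hi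
  · left
    obtain ⟨g, hg⟩ := not_forall.1 hreal
    rw [if_neg fun h => hg (Complex.conj_eq_iff_im.1 (congrFun h g).symm)] at hsum
    have hAB : A + B = 0 := by exact_mod_cast hsum.symm
    exact ⟨⟨g, hg⟩, by rw [hdiff, show A = 0 by omega, show B = 0 by omega]; simp⟩

end CfsgLib.Char
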