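import Cfsg.Agent.Char.BrauerInduction
import Mathlib.GroupTheory.Transfer

/-!
# Power maps onto Hall parts, and Frobenius' theorem on coprime factors
-/

namespace CfsgLib.Char

universe u

variable {G : Type u} [Group G]

theorem exists_exp {m n : ℕ} (hcop : Nat.Coprime m n) (hm : m ≠ 0) (hn : n ≠ 0) :
    ∃ j : ℕ, 1 ≤ j ∧ j ≡ 1 [MOD m] ∧ j ≡ 0 [MOD n] := by
  obtain ⟨i, h1, h0⟩ := Nat.chineseRemainder hcop 1 0
  refine ⟨i + m * n, le_add_left (Nat.mul_pos (Nat.pos_of_ne_zero hm) (Nat.pos_of_ne_zero hn)),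
    ?_, ?_⟩
  · simpa [Nat.ModEq, Nat.add_mul_mod_self_left] using h1
  · simpa [Nat.ModEq, mul_comm m n, Nat.add_mul_mod_self_left] using h0

section

variable {m n j : ℕ} (hj1 : j ≡ 1 [MOD m]) (hj0 : j ≡ 0 [MOD n])
include hj1 hj0

theorem pow_part_pow (hG : Nat.card G ∣ m * n) (x : G) : (x ^ j) ^ m = 1 := by
  obtain ⟨t, rfl⟩ := Nat.modEq_zero_iff_dvd.1 hj0
  refine orderOf_dvd_iff_pow_eq_one.1 ?_ |> fun h => (pow_mul x (n * t) m).symm.trans h
  exact ((orderOf_dvd_natCard x).trans hG).trans ⟨t, by ring⟩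

theorem pow_part_eq_self {x : G} (hx : x ^ m = 1) : x ^ j = x := by
  have h : j ≡ 1 [MOD orderOf x] := hj1.of_dvd (orderOf_dvd_of_pow_eq_one hx)
  have := pow_eq_pow_iff_modEq.2 h
  rwa [pow_one] at this

theorem pow_part_eq_one {x : G} (hx : x ^ n = 1) : x ^ j = 1 := by
  obtain ⟨t, rfl⟩ := Nat.modEq_zero_iff_dvd.1 hj0
  rw [pow_mul, hx, one_pow]

theorem pow_part_eq_one_iff (hG : Nat.card G ∣ m * n) (hcop : Nat.Coprime m n) (x : G) :
    x ^ j = 1 ↔ x ^ n = 1 := by
  refine ⟨fun h => orderOf_dvd_iff_pow_eq_one.1 ?_, pow_part_eq_one hj1 hj0⟩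
  have hjm : Nat.Coprime j m := by
    have := hj1.gcd_eq
    rwa [Nat.gcd_one_left] at this
  exact ((hjm.coprime_dvd_left (orderOf_dvd_of_pow_eq_one h)).dvd_mul_left).1
    ((orderOf_dvd_natCard x).trans hG)

/-- On an elementary group the power map onto the `m`-part is a homomorphism. -/
theorem pow_part_mul [Finite G] {p : ℕ} (hp : p.Prime) (hE : Cfsg.IsElementary p G)
    (hG : Nat.card G ∣ m * n) (hcop : Nat.Coprime m n) (hj : 1 ≤ j) (a b : G) :
    (a * b) ^ j = a ^ j * b ^ j := by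
  obtain ⟨x, hx, -, k, hk⟩ := hE
  set c := (Subgroup.center G).index with hc
  obtain ⟨i, -, hi⟩ := (Nat.dvd_prime_pow hp).1
    (hk ▸ Subgroup.index_dvd_of_le (Subgroup.zpowers_le.2 hx))
  have hpow : ∀ (t : ℕ) (a b : G), (a * b) ^ (c * t) = a ^ (c * t) * b ^ (c * t) := fun t a b => by
    have h1 : (a * b) ^ c = a ^ c * b ^ c :=
      congrArg Subtype.val (map_mul (MonoidHom.transferCenterPow G) a b)
    rw [pow_mul, pow_mul, pow_mul, h1]
    refine Commute.mul_pow ?_ t
    exact (Subgroup.mem_center_iff.1 ((Subgroup.center G).pow_index_mem a) (b ^ c)).symm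
  have hcG : p ^ i ∣ m * n := hi ▸ (Subgroup.center G).index_dvd_card.trans hG
  by_cases hpn : p ∣ n
  · have hpm : ¬ p ∣ m := fun h => hp.not_dvd_one (hcop ▸ Nat.dvd_gcd h hpn)
    have hd : c ∣ n := by
      rw [hc, hi]
      exact ((Nat.Coprime.pow_left i (hp.coprime_iff_not_dvd.2 hpm)).dvd_mul_left).1 hcG
    obtain ⟨t, rfl⟩ := hd.trans (Nat.modEq_zero_iff_dvd.1 hj0)
    exact hpow t a b
  · have hd : c ∣ m := by
      rw [hc, hi]
      exact ((Nat.Coprime.pow_left i (hp.coprime_iff_not_dvd.2 hpn)).dvd_mul_right).1 hcG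
    obtain ⟨t, ht⟩ := hd.trans ((Nat.modEq_iff_dvd' hj).1 hj1.symm)
    have hjt : j = c * t + 1 := by omega
    rw [hjt, pow_succ, pow_succ, pow_succ, hpow t a b]
    have hcen : b ^ (c * t) ∈ Subgroup.center G := by
      rw [pow_mul]
      exact Subgroup.pow_mem _ ((Subgroup.center G).pow_index_mem b) t
    simp only [mul_assoc]
    congr 1
    rw [← mul_assoc, ← mul_assoc, Subgroup.mem_center_iff.1 hcen a]

end

/-- Frobenius' theorem for a factor prime to its cofactor. -/
theorem dvd_card_pow_eq_one [Finite G] {m n : ℕ} (hG : Nat.card G = m * n)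
    (hcop : Nat.Coprime m n) : n ∣ Nat.card {x : G // x ^ n = 1} := by
  classical
  have := Fintype.ofFinite G
  have hm0 : m ≠ 0 := fun h => by simp [h, Nat.card_pos.ne'] at hG
  have hn0 : n ≠ 0 := fun h => by simp [h, Nat.card_pos.ne'] at hG
  obtain ⟨j, hj, hj1, hj0⟩ := exists_exp hcop hm0 hn0
  let θ : G → ℂ := fun x => if x ^ j = 1 then (m : ℂ) else 0
  have hcl : Cfsg.IsClassFunction G θ := fun g h => by
    simp only [θ, conj_pow, conj_eq_one_iff]
  have hgen : Cfsg.IsGeneralizedCharacter G θ := by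
    refine isGeneralized_of_restrict_elementary hcl fun E p hp hE => ?_
    have hEd : Nat.card E ∣ m * n := hG ▸ Subgroup.card_subgroup_dvd_card E
    let φ : E →* E := MonoidHom.mk' (fun e => e ^ j) fun a b =>
      pow_part_mul hj1 hj0 hp hE hEd hcop hj a b
    have hR : Nat.card φ.range ∣ m := by
      refine (Nat.Coprime.dvd_mul_right ?_).1 ((Subgroup.card_subgroup_dvd_card _).trans hEd)
      rw [Nat.coprime_iff_gcd_eq_one]
      by_contra h
      obtain ⟨q, hq, hqd⟩ := Nat.exists_prime_and_dvd h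
      haveI : Fact q.Prime := ⟨hq⟩
      obtain ⟨r, hr⟩ := exists_prime_orderOf_dvd_card' q (hqd.trans (Nat.gcd_dvd_left _ _))
      obtain ⟨a, ha⟩ := r.2
      have hrm : (r : E) ^ m = 1 := by
        rw [← ha]; exact pow_part_pow hj1 hj0 hEd a
      have : q ∣ m := by
        rw [← hr, ← Subgroup.orderOf_coe]; exact orderOf_dvd_of_pow_eq_one hrm
      exact hq.not_dvd_one (hcop ▸ Nat.dvd_gcd this (hqd.trans (Nat.gcd_dvd_right _ _)))
    obtain ⟨t, ht⟩ := hR
    have hreg : Cfsg.IsGeneralizedCharacter φ.range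
        (fun q => if q = 1 then (Nat.card φ.range : ℂ) else 0) := by
      convert IsCharacter.isGeneralized
        (isCharacter_character (Representation.leftRegular ℂ φ.range)) using 1
      exact funext fun q => (leftRegular_character q).symm
    convert IsGeneralized.intCast_smul (IsGeneralized.comp hreg φ.rangeRestrict) (t : ℤ) using 1
    funext e
    have he : φ.rangeRestrict e = 1 ↔ (e : G) ^ j = 1 := by
      rw [← Subtype.coe_inj, MonoidHom.coe_rangeRestrict, ← Subtype.coe_inj]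
      simp [φ]
    simp only [θ, Pi.smul_apply, smul_eq_mul, Function.comp_apply, he]
    split_ifs
    · rw [ht]; push_cast; ring
    · simp
  obtain ⟨z, hz⟩ := IsGeneralized.exists_classInner_eq_int hgen (isGeneralized_one (G := G))
  rw [classInner_def] at hz
  simp only [θ, map_one, mul_one, Finset.sum_ite, Finset.sum_const_zero, add_zero,
    Finset.sum_const, nsmul_eq_mul] at hz
  have hcard : Nat.card {x : G // x ^ n = 1} =
      (Finset.univ.filter fun x : G => x ^ j = 1).card := by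
    rw [Nat.card_eq_fintype_card, Fintype.card_subtype]
    simp only [pow_part_eq_one_iff hj1 hj0 hG.dvd hcop]
  rw [← hcard, hG, Nat.cast_mul] at hz
  have hm' : (m : ℂ) ≠ 0 := by exact_mod_cast hm0
  have hn' : (n : ℂ) ≠ 0 := by exact_mod_cast hn0
  field_simp at hz
  rw [← Int.natCast_dvd_natCast]
  exact ⟨z, by exact_mod_cast hz⟩

end CfsgLib.Char
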