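import Cfsg.Agent.Char.FrobeniusSchur
import Cfsg.Agent.Char.DegreeRatio
import Cfsg.Agent.Char.TwoClass

/-!
# Real characters over a character of a normal subgroup of odd index
-/

set_option autoImplicit false
set_option linter.style.haveILetI false

namespace CfsgLib.Char.OddIndex

open scoped ComplexConjugate

universe u

variable {G : Type u} [Group G]

theorem mem_of_sq_mem {N : Subgroup G} [N.Normal] [Finite G] (hodd : Odd N.index) {g : G}
    (h : g * g ∈ N) : g ∈ N := by
  rw [← QuotientGroup.eq_one_iff] at h ⊢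
  refine (powCoprime (G := G ⧸ N) (n := 2) ?_).injective ?_
  · exact (Nat.coprime_two_right).2 hodd
  · simpa [powCoprime, sq] using h

/-- A real irreducible character which is trivial on a normal subgroup of odd index is trivial. -/
theorem eq_one_of_real [Fintype G] {N : Subgroup G} [N.Normal] (hodd : Odd N.index) {ρ : G → ℂ}
    (hρ : Cfsg.IsIrrCharacter G ρ) (htriv : ∀ y ∈ N, ρ y = ρ 1) (hreal : ∀ g, (ρ g).im = 0) :
    ρ = fun _ => 1 := by
  classical
  haveI := Fintype.ofFinite (G ⧸ N)
  obtain ⟨σ, hσ, rfl⟩ := TwoClass.exists_deflate (N := N) hρ htriv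
  by_contra hne
  have hne' : σ ≠ fun _ => 1 := fun h => hne (by rw [h])
  have hcop : Nat.Coprime (Nat.card (G ⧸ N)) 2 := Nat.coprime_two_right.2 hodd
  have h0 : (Nat.card (G ⧸ N) : ℂ)⁻¹ * ∑ q : G ⧸ N, σ (q * q) = 0 := by
    have h1 : ∑ q : G ⧸ N, σ (q * q) = ∑ q : G ⧸ N, σ q := by
      refine Fintype.sum_equiv (powCoprime hcop) _ _ fun q => ?_
      simp [powCoprime, sq]
    have := IsIrrCharacter.classInner_of_ne hσ isIrrCharacter_one hne'
    rw [classInner_def] at this
    simpa [h1] using this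
  rcases IsIrrCharacter.fs_indicator hσ with ⟨⟨q, hq⟩, -⟩ | ⟨-, h | ⟨h, -⟩⟩
  · obtain ⟨g, rfl⟩ := QuotientGroup.mk_surjective q
    exact hq (hreal g)
  · rw [h0] at h; exact zero_ne_one h
  · rw [h0] at h; norm_num at h

/-- The indicator sum over the constituents of an induced character. -/
theorem indicator_indFun [Fintype G] {N : Subgroup G} [N.Normal] [Fintype N] (hodd : Odd N.index)
    (φ : N → ℂ) :
    (Nat.card G : ℂ)⁻¹ * ∑ g : G, Cfsg.indFun N φ (g * g) =
      (Nat.card N : ℂ)⁻¹ * ∑ n : N, φ (n * n) := by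
  classical
  simp only [indFun_def, ← Finset.mul_sum]
  rw [Finset.sum_comm]
  have h : ∀ x : G, ∑ g : G, Cfsg.extendByZero N φ (x⁻¹ * (g * g) * x) =
      ∑ g : G, Cfsg.extendByZero N φ (g * g) := fun x => by
    refine Fintype.sum_equiv (MulAut.conj x⁻¹).toEquiv _ _ fun g => ?_
    congr 1
    simp [mul_assoc]
  have h2 : ∑ g : G, Cfsg.extendByZero N φ (g * g) = ∑ n : N, φ (n * n) := by
    rw [← Finset.sum_subset (Finset.subset_univ (Finset.univ.filter (· ∈ N))) fun g _ hg =>
      extendByZero_of_not_mem φ fun h => hg (by simpa using mem_of_sq_mem hodd h),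
      Finset.sum_subtype (p := fun g => g ∈ N) _ (fun g => by simp)
        (fun g => Cfsg.extendByZero N φ (g * g))]
    refine Finset.sum_congr rfl fun n _ => ?_
    rw [← Subgroup.coe_mul, extendByZero_apply]
  rw [Finset.sum_congr rfl fun x _ => h x, Finset.sum_const, h2, Finset.card_univ, nsmul_eq_mul,
    ← Nat.card_eq_fintype_card]
  have h0 : (Nat.card G : ℂ) ≠ 0 := by exact_mod_cast (Nat.card_pos (α := G)).ne'
  field_simp

/-- Two real irreducible characters over the same character of a normal subgroup of odd index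
coincide. -/
theorem eq_of_real [Fintype G] {N : Subgroup G} [N.Normal] [Fintype N] (hodd : Odd N.index)
    {χ ψ : G → ℂ} (hχ : Cfsg.IsIrrCharacter G χ) (hψ : Cfsg.IsIrrCharacter G ψ)
    (hχr : ∀ g, (χ g).im = 0) (hψr : ∀ g, (ψ g).im = 0) {φ : N → ℂ}
    (hφ : Cfsg.IsIrrCharacter N φ) (hc : Cfsg.classInner (fun n : N => χ n) φ ≠ 0)
    (hc' : Cfsg.classInner (fun n : N => ψ n) φ ≠ 0) : χ = ψ := by
  classical
  by_contra hne
  have hχc := IsIrrCharacter.isCharacter hχ
  have hψc := IsIrrCharacter.isCharacter hψ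
  -- multiplicities are odd
  have hoddmul : ∀ ξ : G → ℂ, Cfsg.IsIrrCharacter G ξ →
      Cfsg.classInner (fun n : N => ξ n) φ ≠ 0 →
      ∃ e : ℕ, Cfsg.classInner (fun n : N => ξ n) φ = e ∧ Odd (e * (inertia φ).index) := by
    intro ξ hξ hξc
    obtain ⟨e, he⟩ := IsCharacter.exists_classInner_eq_natCast
      (IsCharacter.restrict (IsIrrCharacter.isCharacter hξ) N) hφ
    obtain ⟨k, hk, hk1⟩ := exists_degree_ratio hξ hφ hξc
    refine ⟨e, he, ?_⟩
    have h1 := degree_eq_mul hξ hφ hξc
    rw [hk1, he, ← Nat.cast_mul] at h1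
    have h2 := mul_right_cancel₀ (IsIrrCharacter.apply_one_ne_zero hφ) h1
    rw [Nat.cast_inj] at h2
    exact h2 ▸ Odd.of_dvd_nat hodd hk
  obtain ⟨e, he, heo⟩ := hoddmul χ hχ hc
  obtain ⟨e', he', heo'⟩ := hoddmul ψ hψ hc'
  -- the inner product of the restrictions
  obtain ⟨P, hP⟩ : ∃ P, P = Cfsg.indFun N (fun _ : N => (1 : ℂ)) := ⟨_, rfl⟩
  have hPc : Cfsg.IsCharacter G P := hP ▸ IsCharacter.indFun isCharacter_one
  have hT : Cfsg.classInner (χ * ψ) P = ((e * (inertia φ).index * e' : ℕ) : ℂ) := by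
    rw [hP, classInner_indFun_right (IsCharacter.isClassFunction (IsCharacter.mul hχc hψc))]
    have h1 : Cfsg.classInner (fun h : N => (χ * ψ) h) (fun _ => (1 : ℂ)) =
        Cfsg.classInner (fun n : N => χ n) (fun n : N => ψ n) := by
      rw [classInner_def, classInner_def]
      congr 1
      refine Finset.sum_congr rfl fun n _ => ?_
      rw [Pi.mul_apply, map_one, mul_one, Complex.conj_eq_iff_im.2 (hψr n)]
    rw [h1]
    conv_lhs => rw [restrict_eq_smul_sum hχ hφ hc]
    rw [classInner_smul_left, classInner_sum_left, he, Finset.sum_congr rfl fun θ hθ => ?_,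
      Finset.sum_const, card_conjOrbit, nsmul_eq_mul, ← Nat.cast_mul, ← Nat.cast_mul, mul_assoc]
    obtain ⟨g, rfl⟩ := mem_conjOrbit.1 hθ
    rw [← classInner_conj, classInner_restrict_conjOn (IsIrrCharacter.isClassFunction hψ), he',
      Complex.conj_natCast]
  -- the Parseval expansion is even
  have hterm : ∀ ρ ∈ irrFinset G, ∃ a : ℕ,
      Cfsg.classInner (χ * ψ) ρ * conj (Cfsg.classInner P ρ) = a ∧
      Cfsg.classInner (χ * ψ) (fun g => conj (ρ g)) *
        conj (Cfsg.classInner P (fun g => conj (ρ g))) = a ∧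
      ((fun g => conj (ρ g)) = ρ → a = 0) := by
    intro ρ hρ
    have hρ' := mem_irrFinset.1 hρ
    obtain ⟨a, ha⟩ := IsCharacter.exists_classInner_eq_natCast (IsCharacter.mul hχc hψc) hρ'
    obtain ⟨b, hb⟩ := IsCharacter.exists_classInner_eq_natCast hPc hρ'
    have hsymm : ∀ f : G → ℂ, (∀ g, conj (f g) = f g) →
        Cfsg.classInner f (fun g => conj (ρ g)) = conj (Cfsg.classInner f ρ) := fun f hf => by
      rw [classInner_conj, ← classInner_conj_conj f ρ]
      exact congrArg (fun F => Cfsg.classInner F _) (funext fun g => (hf g).symm)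
    have hχψ : ∀ g, conj ((χ * ψ) g) = (χ * ψ) g := fun g => by
      rw [Pi.mul_apply, map_mul, Complex.conj_eq_iff_im.2 (hχr g),
        Complex.conj_eq_iff_im.2 (hψr g)]
    have hPr : ∀ g, conj (P g) = P g := fun g => by
      simp only [hP, indFun_def, map_mul, map_inv₀, Complex.conj_natCast, map_sum,
        extendByZero_eq]
      congr 1
      exact Finset.sum_congr rfl fun x _ => by split_ifs <;> simp
    refine ⟨a * b, by rw [ha, hb, Complex.conj_natCast, Nat.cast_mul], ?_, fun hreal => ?_⟩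
    · rw [hsymm _ hχψ, hsymm _ hPr, ha, hb]
      simp
    · rcases Nat.eq_zero_or_pos b with rfl | hb0
      · simp
      have hρr : ∀ g, (ρ g).im = 0 := fun g => Complex.conj_eq_iff_im.1 (congrFun hreal g)
      have hc1 : Cfsg.classInner (fun n : N => ρ n) (fun _ : N => (1 : ℂ)) ≠ 0 := by
        intro h0
        rw [hP, classInner_indFun _ (IsIrrCharacter.isClassFunction hρ'), ← classInner_conj, h0,
          map_zero] at hb
        exact hb0.ne' (by exact_mod_cast hb.symm)
      have horb : conjOrbit (fun _ : N => (1 : ℂ)) = {fun _ : N => (1 : ℂ)} := by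
        ext θ
        rw [mem_conjOrbit, Finset.mem_singleton]
        exact ⟨fun ⟨g, hg⟩ => hg.trans (funext fun n => by rw [conjOn_apply]),
          fun h => ⟨1, by rw [conjOn_one, h]⟩⟩
      have hres := restrict_eq_smul_sum hρ' isIrrCharacter_one hc1
      rw [horb, Finset.sum_singleton] at hres
      have htriv : ∀ y ∈ N, ρ y = ρ 1 := fun y hy =>
        (congrFun hres ⟨y, hy⟩).trans (congrFun hres 1).symm
      have hρ1 := eq_one_of_real hodd hρ' htriv hρr
      have ha0 : a = 0 := by
        have : Cfsg.classInner (χ * ψ) ρ = Cfsg.classInner χ ψ := by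
          rw [hρ1, classInner_def, classInner_def]
          congr 1
          refine Finset.sum_congr rfl fun g _ => ?_
          rw [Pi.mul_apply, map_one, mul_one, Complex.conj_eq_iff_im.2 (hψr g)]
        rw [ha, IsIrrCharacter.classInner_of_ne hχ hψ hne] at this
        exact_mod_cast this
      rw [ha0, zero_mul]
  choose! a ha using hterm
  have h2 : ∑ ρ ∈ irrFinset G, a ρ = e * (inertia φ).index * e' := by
    rw [classInner_eq_sum_irr (IsCharacter.isClassFunction (IsCharacter.mul hχc hψc)) P,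
      Finset.sum_congr rfl fun ρ hρ => (ha ρ hρ).1, ← Nat.cast_sum, Nat.cast_inj] at hT
    exact hT
  have hev : ((∑ ρ ∈ irrFinset G, a ρ : ℕ) : ZMod 2) = 0 := by
    rw [Nat.cast_sum]
    refine Finset.sum_involution (fun ρ _ => fun g => conj (ρ g)) (fun ρ hρ => ?_)
      (fun ρ hρ hne0 h => hne0 (by rw [(ha ρ hρ).2.2 h, Nat.cast_zero]))
      (fun ρ hρ => mem_irrFinset.2 (IsIrrCharacter.conj (mem_irrFinset.1 hρ)))
      (fun ρ hρ => funext fun g => Complex.conj_conj _)
    have h1 := (ha _ (mem_irrFinset.2 (IsIrrCharacter.conj (mem_irrFinset.1 hρ)))).1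
    rw [(ha ρ hρ).2.1, Nat.cast_inj] at h1
    rw [← h1, CharTwo.add_self_eq_zero]
  have hoddT : Odd (e * (inertia φ).index * e') := by
    rw [Nat.odd_mul]
    exact ⟨heo, (Nat.odd_mul.1 heo').1⟩
  rw [h2, ZMod.natCast_eq_zero_iff_even] at hev
  exact Nat.not_even_iff_odd.2 hoddT hev

end CfsgLib.Char.OddIndex
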