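import Cfsg.Agent.Char.ExtendInv
import Cfsg.Agent.Char.OddIndexReal
import Cfsg.Agent.GlaubermanCorr.Action

/-!
# Irreducible characters fixed by a power map

The map `χ ↦ χ ∘ (g ↦ g ^ k)` for `k` prime to the group order permutes irreducible characters.
Above a fixed character of a normal subgroup of odd index, on whose quotient the power map is
inversion, there is exactly one fixed irreducible character, and it extends an invariant one.
-/

set_option autoImplicit false
set_option linter.style.haveILetI false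
set_option linter.unusedSectionVars false

namespace CfsgLib.Char.PowTwist

open Finset Representation
open scoped ComplexConjugate

universe u

variable {G : Type u} [Group G]

theorem exists_galois [Finite G] {k : ℕ} (hk : k.Coprime (Nat.card G)) :
    ∃ s : ℂ ≃+* ℂ, ∀ (H : Subgroup G) (f : H → ℂ), Cfsg.IsCharacter H f → ∀ x : H,
      s (f x) = f (x ^ k) := by
  obtain ⟨s, hs⟩ := exists_ringEquiv_pow (Nat.card_pos (α := G)) hk
  refine ⟨s, fun H f hf x => IsCharacter.map_ringEquiv_eq_pow hf s fun z hz => hs z ?_⟩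
  obtain ⟨c, hc⟩ := (orderOf_dvd_natCard x).trans H.card_subgroup_dvd_card
  rw [hc, pow_mul, hz, one_pow]

theorem isIrrCharacter_pow [Finite G] {k : ℕ} (hk : k.Coprime (Nat.card G)) {χ : G → ℂ}
    (hχ : Cfsg.IsIrrCharacter G χ) : Cfsg.IsIrrCharacter G fun g => χ (g ^ k) := by
  obtain ⟨s, hs⟩ := exists_ringEquiv_pow (Nat.card_pos (α := G)) hk
  convert IsIrrCharacter.map_ringEquiv hχ s using 1
  refine funext fun g => (IsCharacter.map_ringEquiv_eq_pow (IsIrrCharacter.isCharacter hχ) s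
    fun z hz => hs z ?_).symm
  obtain ⟨c, hc⟩ := orderOf_dvd_natCard g
  rw [hc, pow_mul, hz, one_pow]

theorem classInner_pow [Fintype G] {k : ℕ} (hk : k.Coprime (Nat.card G)) (f h : G → ℂ) :
    Cfsg.classInner (fun g => f (g ^ k)) (fun g => h (g ^ k)) = Cfsg.classInner f h := by
  rw [classInner_def, classInner_def]
  congr 1
  exact Fintype.sum_equiv (powCoprime (G := G) hk.symm) _ _ fun g => rfl

theorem apply_pow_pow {α : Type*} [Monoid α] {β : Type*} (f : (α → β) → α → β) (k : ℕ)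
    (hf : ∀ φ x, f φ x = φ (x ^ k)) (j : ℕ) (φ : α → β) (x : α) :
    f^[j] φ x = φ (x ^ k ^ j) := by
  induction j generalizing φ with
  | zero => simp
  | succ j ih =>
    rw [Function.iterate_succ_apply, ih, hf, ← pow_mul, ← pow_succ]

/-- A sum modulo `p` invariant under a permutation of `p`-power order reduces to its fixed
points. -/
theorem sum_eq_sum_fixed_perm {p : ℕ} [Fact p.Prime] {α : Type*} [Fintype α] [DecidableEq α]
    (π : Equiv.Perm α) (e : ℕ) (hπ : π ^ (p ^ e) = 1) (F : α → ZMod p) (hF : ∀ a, F (π a) = F a) :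
    ∑ a, F a = ∑ a ∈ univ.filter (fun a => π a = a), F a := by
  classical
  have hP : IsPGroup p (Subgroup.zpowers π) := by
    obtain ⟨i, -, hi⟩ := (Nat.dvd_prime_pow Fact.out).1 (orderOf_dvd_of_pow_eq_one hπ)
    exact IsPGroup.of_card (by rw [Nat.card_zpowers, hi])
  have hF' : ∀ (y : Subgroup.zpowers π) (a : α), F (y • a) = F a := by
    rintro ⟨y, hy⟩
    obtain ⟨j, rfl⟩ := mem_powers_iff_mem_zpowers.2 hy
    intro a
    show F ((π ^ j) a) = F a
    induction j generalizing a with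
    | zero => rfl
    | succ j ih => rw [pow_succ', Equiv.Perm.mul_apply, hF, ih (mem_powers_iff_mem_zpowers.1 ⟨j, rfl⟩)]
  rw [CfsgLib.GlaubermanCorr.sum_eq_sum_fixed hP F hF']
  refine sum_congr (Finset.ext fun a => ?_) fun _ _ => rfl
  simp only [mem_filter, mem_univ, true_and, MulAction.mem_fixedPoints]
  refine ⟨fun h => h ⟨π, Subgroup.mem_zpowers π⟩, fun h y => ?_⟩
  have : π ∈ MulAction.stabilizer (Equiv.Perm α) a := h
  exact (Subgroup.zpowers_le.2 this) y.2

/-- The permutation of the irreducible characters given by a power map. -/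
theorem exists_powPerm [Finite G] {k p e : ℕ} (hk : k.Coprime (Nat.card G))
    (hke : k ^ (p ^ e) ≡ 1 [MOD Nat.card G]) :
    ∃ π : Equiv.Perm (Cfsg.IrrCharacter G), π ^ (p ^ e) = 1 ∧
      ∀ χ g, (π χ : G → ℂ) g = (χ : G → ℂ) (g ^ k) := by
  let f : Cfsg.IrrCharacter G → Cfsg.IrrCharacter G :=
    fun χ => ⟨fun g => (χ : G → ℂ) (g ^ k), isIrrCharacter_pow hk χ.2⟩
  have hinj : Function.Injective f := fun χ ψ h => Subtype.ext (funext fun g => by
    obtain ⟨x, rfl⟩ := (powCoprime (G := G) hk.symm).surjective g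
    exact congrFun (congrArg Subtype.val h) x)
  haveI := finite_irrCharacter G
  refine ⟨Equiv.ofBijective f (Finite.injective_iff_bijective.1 hinj),
    Equiv.ext fun χ => Subtype.ext (funext fun g => ?_), fun _ _ => rfl⟩
  rw [Equiv.Perm.coe_pow, Equiv.Perm.one_apply]
  have hcoe : ∀ (j : ℕ) (χ : Cfsg.IrrCharacter G), ((f^[j] χ) : G → ℂ) =
      (fun φ x => φ (x ^ k))^[j] (χ : G → ℂ) := fun j => by
    induction j with
    | zero => exact fun χ => rfl
    | succ j ih => intro χ; rw [Function.iterate_succ_apply, ih, Function.iterate_succ_apply]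
  refine (congrFun (hcoe _ χ) g).trans ?_
  rw [apply_pow_pow _ k fun _ _ => rfl]
  congr 1
  have h : g ^ (k ^ p ^ e) = g ^ 1 :=
    pow_eq_pow_iff_modEq.2 (hke.of_dvd (orderOf_dvd_natCard g))
  rw [h, pow_one]

theorem coprime_pow_two_pow_succ {m k : ℕ} (hm : Odd m)
    (hq : ∀ q : ℕ, q.Prime → q ∣ m → q ∣ k + 1) (i : ℕ) :
    m.Coprime (k ^ 2 ^ (i + 1) + 1) := by
  refine Nat.coprime_of_dvd fun q hq' hqm hqk => ?_
  have hk : (k : ZMod q) = -1 := by
    have h := (ZMod.natCast_eq_zero_iff (k + 1) q).2 (hq q hq' hqm)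
    push_cast at h
    exact eq_neg_of_add_eq_zero_left h
  have h := (ZMod.natCast_eq_zero_iff _ q).2 hqk
  push_cast at h
  rw [hk, (Even.neg_one_pow ((Nat.even_pow).2 ⟨even_two, i.succ_ne_zero⟩)),
    show (1 : ZMod q) + 1 = ((2 : ℕ) : ZMod q) by norm_num, ZMod.natCast_eq_zero_iff] at h
  have h2 := (Nat.prime_dvd_prime_iff_eq hq' Nat.prime_two).1 h
  subst h2
  exact (Nat.not_even_iff_odd.2 hm) (even_iff_two_dvd.2 hqm)

/-- If `k` is `-1` modulo each prime divisor of the odd number `m` and has two-power order modulo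
`m`, it is `-1` modulo `m`. -/
theorem dvd_succ {m k e : ℕ} (hm : Odd m) (hq : ∀ q : ℕ, q.Prime → q ∣ m → q ∣ k + 1)
    (hke : k ^ (2 ^ e) ≡ 1 [MOD m]) : m ∣ k + 1 := by
  have h2 : ∀ i, k ^ (2 ^ i) ≡ 1 [MOD m] → k ^ 2 ≡ 1 [MOD m] := by
    intro i
    induction i with
    | zero =>
      intro h
      rw [pow_zero, pow_one] at h
      simpa using h.pow 2
    | succ i ih =>
      intro h
      rcases i with _ | i
      · simpa using h
      refine ih ?_
      rw [← ZMod.natCast_eq_natCast_iff] at h ⊢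
      push_cast at h ⊢
      have hu : IsUnit ((k ^ 2 ^ (i + 1) + 1 : ℕ) : ZMod m) :=
        (ZMod.isUnit_iff_coprime _ m).2 (coprime_pow_two_pow_succ hm hq i).symm
      push_cast at hu
      refine sub_eq_zero.1 (hu.mul_left_eq_zero.1 ?_)
      rw [show ((k : ZMod m) ^ 2 ^ (i + 1) - 1) * ((k : ZMod m) ^ 2 ^ (i + 1) + 1) =
        ((k : ZMod m) ^ 2 ^ (i + 1)) ^ 2 - 1 by ring, ← pow_mul, ← pow_succ, h, sub_self]
  have h := h2 e hke
  rw [← ZMod.natCast_eq_natCast_iff] at h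
  push_cast at h
  rw [← ZMod.natCast_eq_zero_iff]
  push_cast
  have hu : IsUnit ((k : ZMod m) - 1) := by
    have hm1 : 1 ≤ m := hm.pos
    have h1 : IsUnit (((k + (m - 1) : ℕ)) : ZMod m) := by
      refine (ZMod.isUnit_iff_coprime _ m).2 (Nat.coprime_of_dvd fun q hq' hqk hqm => ?_)
      have h3 : q ∣ k + (m - 1) + 2 := by
        rw [show k + (m - 1) + 2 = (k + 1) + m by omega]
        exact dvd_add (hq q hq' hqm) hqm
      have h2 := (Nat.prime_dvd_prime_iff_eq hq' Nat.prime_two).1 ((Nat.dvd_add_right hqk).1 h3)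
      subst h2
      exact (Nat.not_even_iff_odd.2 hm) (even_iff_two_dvd.2 hqm)
    rw [show (k : ZMod m) - 1 = ((k + (m - 1) : ℕ) : ZMod m) by
      rw [Nat.cast_add, Nat.cast_sub hm1, ZMod.natCast_self]; simp [sub_eq_add_neg]]
    exact h1
  refine hu.mul_right_eq_zero.1 ?_
  rw [show ((k : ZMod m) - 1) * ((k : ZMod m) + 1) = (k : ZMod m) ^ 2 - 1 by ring, h, sub_self]

section extend

variable [Finite G] {N : Subgroup G} [hN : N.Normal]

/-- An invariant irreducible character fixed by the power map extends when the quotient has odd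
order and the power map inverts it. -/
theorem exists_extension {k : ℕ} (hk : k.Coprime (Nat.card G)) (hodd : Odd N.index)
    (hkm : N.index ∣ k + 1) {θ : N → ℂ} (hθ : Cfsg.IsIrrCharacter N θ)
    (hfix : ∀ n : N, θ (n ^ k) = θ n) (hinv : ∀ g : G, conjOn g θ = θ) :
    ∃ χ : G → ℂ, Cfsg.IsIrrCharacter G χ ∧ ∀ x : N, χ x = θ x := by
  classical
  obtain ⟨d, σ, hσ, rfl⟩ := hθ
  haveI := hσ
  obtain ⟨s, hs⟩ := exists_ringEquiv_pow (Nat.card_pos (α := G)) hk
  obtain ⟨e⟩ := equiv_of_character_eq (twistRep s σ) σ (funext fun n => by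
    rw [character_twistRep, IsCharacter.map_ringEquiv_eq_pow ⟨d, σ, rfl⟩ s fun z hz => hs z ?_,
      hfix]
    obtain ⟨c, hc⟩ := (orderOf_dvd_natCard n).trans N.card_subgroup_dvd_card
    rw [hc, pow_mul, hz, one_pow])
  -- the semilinear twist fixing the representation
  let Φ : Module.End ℂ (Fin d → ℂ) → Module.End ℂ (Fin d → ℂ) := fun T =>
    e.toLinearEquiv.conj (Matrix.toLin' ((LinearMap.toMatrix' T).map s))
  have hΦσ : ∀ n, Φ (σ n) = σ n := fun n => e.conj_apply_self n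
  have hΦmul : ∀ S T, Φ (S * T) = Φ S * Φ T := fun S T => by
    simp only [Φ, LinearMap.toMatrix'_mul, Matrix.map_mul, Matrix.toLin'_mul]
    exact LinearEquiv.conj_comp _ _ _
  have hΦone : Φ 1 = 1 := by
    simp only [Φ, LinearMap.toMatrix'_one, Matrix.map_one s (map_zero s) (map_one s),
      Matrix.toLin'_one]
    exact LinearEquiv.conj_id _
  have hΦsmul : ∀ (a : ℂ) T, Φ (a • T) = s a • Φ T := fun a T => by
    simp only [Φ, map_smul]
    rw [show (a • LinearMap.toMatrix' T).map s = s a • (LinearMap.toMatrix' T).map s from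
      Matrix.ext fun i j => by simp, map_smul, map_smul]
  have hm0 : (N.index : ℂ) ≠ 0 := Nat.cast_ne_zero.2 Subgroup.index_ne_zero_of_finite
  obtain ⟨Fm, hFm⟩ := index_mem_extExponents_scalar σ le_rfl σ (fun _ => rfl) hinv
  let J : Subgroup (intertwiners σ) := Fm.ker
  have hscal : ∀ γ : intertwiners σ, ∃ c : ℂˣ,
      Φ (γ.1.2 : Module.End ℂ (Fin d → ℂ)) = (c : ℂ) • (γ.1.2 : Module.End ℂ (Fin d → ℂ)) := by
    rintro ⟨⟨g, T⟩, hT⟩
    have hT' : ∀ n : N, (T : Module.End ℂ (Fin d → ℂ)) * σ n =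
        σ ⟨g * n * g⁻¹, hN.conj_mem n n.2 g⟩ * (T : Module.End ℂ (Fin d → ℂ)) := hT
    have hu : IsUnit (Φ (T : Module.End ℂ (Fin d → ℂ))) := ⟨⟨Φ T, Φ (T⁻¹ : _ˣ),
      by rw [← hΦmul, Units.mul_inv, hΦone], by rw [← hΦmul, Units.inv_mul, hΦone]⟩, rfl⟩
    obtain ⟨c, hc⟩ := scalar_of_commute_all σ
      (((T⁻¹ : _ˣ) : Module.End ℂ (Fin d → ℂ)) * Φ T) fun n => by
      have h1 := congrArg Φ (hT' n)
      rw [hΦmul, hΦmul, hΦσ, hΦσ] at h1
      rw [mul_assoc ((T⁻¹ : _ˣ) : Module.End ℂ (Fin d → ℂ)), h1, ← mul_assoc, ← mul_assoc]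
      congr 1
      rw [Units.eq_inv_mul_iff_mul_eq, ← mul_assoc, hT', Units.mul_inv_cancel_right]
    have h2 : Φ (T : Module.End ℂ (Fin d → ℂ)) = c • (T : Module.End ℂ (Fin d → ℂ)) := by
      have := congrArg ((T : Module.End ℂ (Fin d → ℂ)) * ·) hc
      rwa [Units.mul_inv_cancel_left, mul_smul_comm, mul_one] at this
    have : Nontrivial (Module.End ℂ (Fin d → ℂ)) := nontrivial_of_ne _ _ (nontrivial_end σ)
    exact ⟨Units.mk0 c fun h0 => hu.ne_zero (by rw [h2, h0, zero_smul]), h2⟩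
  choose δ hδ using hscal
  have hcancel : ∀ (γ : intertwiners σ) (a b : ℂ),
      a • (γ.1.2 : Module.End ℂ (Fin d → ℂ)) = b • (γ.1.2 : Module.End ℂ (Fin d → ℂ)) → a = b := by
    intro γ a b h
    have h1 := congrArg (· * ((γ.1.2⁻¹ : _ˣ) : Module.End ℂ (Fin d → ℂ))) h
    simp only [smul_mul_assoc, Units.mul_inv] at h1
    exact smul_left_injective ℂ (nontrivial_end σ) h1
  have hδmul : ∀ a b, δ (a * b) = δ a * δ b := fun a b => by
    refine Units.ext (hcancel (a * b) _ _ ?_)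
    rw [← hδ, Subgroup.coe_mul, Prod.snd_mul, Units.val_mul, hΦmul, hδ, hδ, smul_mul_smul_comm,
      Units.val_mul]
  obtain ⟨j, hj⟩ : ∃ j : ℕ, 2 * j + 1 = N.index := ⟨N.index / 2, Nat.two_mul_div_two_add_one_of_odd hodd⟩
  let F : J →* ℂˣ := MonoidHom.mk' (fun γ => δ γ ^ j) fun a b => by
    rw [Subgroup.coe_mul, hδmul, mul_pow]
  have hB : ∀ γ : J, ∀ hγ : (γ : intertwiners σ).1.1 ∈ N,
      F γ = scalarBase σ ⟨(γ : intertwiners σ), hγ⟩ := by
    intro γ hγ
    obtain ⟨a, hadef⟩ : ∃ a, scalarBase σ ⟨(γ : intertwiners σ), hγ⟩ = a := ⟨_, rfl⟩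
    have ha : a ^ N.index = 1 := by
      have h := hFm ⟨(γ : intertwiners σ), hγ⟩
      rw [show Fm (γ : intertwiners σ) = 1 from γ.2, hadef, zpow_natCast] at h
      exact h.symm
    have hsa : s (a : ℂ) = (a : ℂ) ^ k := hs _ (by
      obtain ⟨c, hc⟩ := N.index_dvd_card
      rw [hc, pow_mul, ← Units.val_pow_eq_pow_val, ha, Units.val_one, one_pow])
    have hak : a ^ k * a = 1 := by
      obtain ⟨c, hc⟩ := hkm
      rw [← pow_succ, hc, pow_mul, ha, one_pow]
    have hspec := scalarBase_spec σ ⟨(γ : intertwiners σ), hγ⟩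
    rw [hadef] at hspec
    have hd : δ γ * a = a ^ k := by
      have h := hδ (γ : intertwiners σ)
      rw [hspec, hΦsmul, hΦσ, hsa, smul_smul] at h
      exact (Units.ext (smul_rep_injective σ σ _ h)).symm
    show δ γ ^ j = _
    rw [hadef]
    have hd' : δ γ * a ^ 2 = 1 := by rw [sq, ← mul_assoc, hd, hak]
    calc δ γ ^ j = δ γ ^ j * a ^ N.index := by rw [ha, mul_one]
      _ = (δ γ * a ^ 2) ^ j * a := by rw [← hj, mul_pow, ← pow_mul, pow_succ, mul_assoc]
      _ = a := by rw [hd', one_pow, one_mul]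
  have hsurj : Function.Surjective ((intertwinersProj σ).comp J.subtype) := fun g => by
    obtain ⟨γ, hγ⟩ := intertwinersProj_surjective σ hinv g
    obtain ⟨z, hz⟩ := IsAlgClosed.exists_pow_nat_eq ((Fm γ : ℂˣ) : ℂ)
      (Nat.pos_of_ne_zero (Subgroup.index_ne_zero_of_finite (H := N)))
    have hz0 : z ≠ 0 := fun h => Units.ne_zero (Fm γ) (by
      rw [← hz, h, zero_pow Subgroup.index_ne_zero_of_finite])
    obtain ⟨u, hu⟩ : ∃ u : (Module.End ℂ (Fin d → ℂ))ˣ, (u : Module.End ℂ (Fin d → ℂ)) = z⁻¹ • 1 :=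
      ⟨⟨z⁻¹ • 1, z • 1, by rw [smul_mul_smul_comm, inv_mul_cancel₀ hz0, one_smul, one_mul],
        by rw [smul_mul_smul_comm, mul_inv_cancel₀ hz0, one_smul, one_mul]⟩, rfl⟩
    have hmem : ((1 : G), u) ∈ intertwiners σ := fun n => by
      show (u : Module.End ℂ (Fin d → ℂ)) * σ n =
        σ ⟨1 * (n : G) * 1⁻¹, _⟩ * (u : Module.End ℂ (Fin d → ℂ))
      rw [hu, smul_mul_assoc, one_mul, mul_smul_comm, mul_one]
      congr 2
      exact Subtype.ext (by simp)
    have hzc : Fm ⟨_, hmem⟩ = (Units.mk0 z hz0)⁻¹ ^ N.index := by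
      have h := hFm ⟨⟨_, hmem⟩, N.one_mem⟩
      rw [h, zpow_natCast]
      congr 1
      refine Units.ext (smul_rep_injective σ σ (1 : N) ?_)
      have h2 := scalarBase_spec σ ⟨⟨_, hmem⟩, N.one_mem⟩
      refine Eq.trans h2.symm ?_
      rw [map_one, Units.val_inv_eq_inv_val, Units.val_mk0]
      exact hu
    refine ⟨⟨γ * ⟨_, hmem⟩, ?_⟩, ?_⟩
    · show Fm (γ * _) = 1
      rw [map_mul, hzc, inv_pow, mul_inv_eq_one]
      exact Units.ext (by rw [Units.val_pow_eq_pow_val, Units.val_mk0, hz])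
    · show intertwinersProj σ (γ * _) = g
      rw [map_mul, hγ]
      exact mul_one g
  let Ψ : J →* Module.End ℂ (Fin d → ℂ) :=
    { toFun := fun γ => ((F γ)⁻¹ : ℂˣ).val • ((γ : intertwiners σ).1.2 : Module.End ℂ (Fin d → ℂ))
      map_one' := by simp
      map_mul' := fun a b => by
        simp only [map_mul, mul_inv, Units.val_mul, Subgroup.coe_mul, Prod.snd_mul,
          smul_mul_smul_comm] }
  have hΨB : ∀ (γ : J) (hγ : (γ : intertwiners σ).1.1 ∈ N), Ψ γ = σ ⟨_, hγ⟩ := fun γ hγ => by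
    change ((F γ)⁻¹ : ℂˣ).val • ((γ : intertwiners σ).1.2 : Module.End ℂ (Fin d → ℂ)) = _
    rw [hB γ hγ, scalarBase_spec σ ⟨(γ : intertwiners σ), hγ⟩, smul_smul, ← Units.val_mul,
      inv_mul_cancel, Units.val_one, one_smul]
  have hker : ((intertwinersProj σ).comp J.subtype).ker ≤ Ψ.toHomUnits.ker := fun γ hγ => by
    rw [MonoidHom.mem_ker] at hγ ⊢
    replace hγ : (γ : intertwiners σ).1.1 = 1 := hγ
    refine Units.ext ?_
    rw [MonoidHom.coe_toHomUnits, Units.val_one, hΨB γ (hγ ▸ N.one_mem), ← map_one σ]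
    congr 1
    exact Subtype.ext hγ
  let E0 : G →* (Module.End ℂ (Fin d → ℂ))ˣ :=
    MonoidHom.liftOfSurjective _ hsurj ⟨Ψ.toHomUnits, hker⟩
  refine exists_extension_char σ rfl ((Units.coeHom _).comp E0) fun n => ?_
  obtain ⟨γ, hγ⟩ := hsurj (n : G)
  replace hγ : (γ : intertwiners σ).1.1 = n := hγ
  change (E0 (n : G) : Module.End ℂ (Fin d → ℂ)) = σ n
  rw [← hγ, show E0 (γ : intertwiners σ).1.1 = Ψ.toHomUnits γ from
    MonoidHom.liftOfRightInverse_comp_apply _ _ _ _ γ, MonoidHom.coe_toHomUnits,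
    hΨB γ (hγ ▸ n.2)]
  congr 1
  exact Subtype.ext hγ

end extend

section fixed

variable [Fintype G] {N : Subgroup G} [hN : N.Normal] [Fintype N] {k : ℕ}

theorem pow_eq_inv_quotient (hkm : N.index ∣ k + 1) (q : G ⧸ N) : q ^ k = q⁻¹ := by
  refine eq_inv_of_mul_eq_one_left ?_
  rw [← pow_succ]
  obtain ⟨c, hc⟩ := hkm
  rw [hc, pow_mul, Subgroup.index, pow_card_eq_one', one_pow]

/-- Fixed irreducible characters over the same character of the normal subgroup coincide. -/
theorem eq_of_fixed (hk : k.Coprime (Nat.card G)) (hodd : Odd N.index) (hkm : N.index ∣ k + 1)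
    {χ ψ : G → ℂ} (hχ : Cfsg.IsIrrCharacter G χ) (hψ : Cfsg.IsIrrCharacter G ψ)
    (hχf : ∀ g, χ (g ^ k) = χ g) (hψf : ∀ g, ψ (g ^ k) = ψ g) {φ : N → ℂ}
    (hφ : Cfsg.IsIrrCharacter N φ) (hc : Cfsg.classInner (fun n : N => χ n) φ ≠ 0)
    (hc' : Cfsg.classInner (fun n : N => ψ n) φ ≠ 0) : χ = ψ := by
  classical
  by_contra hne
  have hχc := IsIrrCharacter.isCharacter hχ
  have hψc := IsCharacter.conj (IsIrrCharacter.isCharacter hψ)
  have hoddmul : ∀ ξ : G → ℂ, Cfsg.IsIrrCharacter G ξ →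
      Cfsg.classInner (fun n : N => ξ n) φ ≠ 0 →
      ∃ e : ℕ, Cfsg.classInner (fun n : N => ξ n) φ = e ∧ Odd (e * (inertia φ).index) := by
    intro ξ hξ hξc
    obtain ⟨e, he⟩ := IsCharacter.exists_classInner_eq_natCast
      (IsCharacter.restrict (IsIrrCharacter.isCharacter hξ) N) hφ
    obtain ⟨m, hm, hm1⟩ := exists_degree_ratio hξ hφ hξc
    refine ⟨e, he, ?_⟩
    have h1 := degree_eq_mul hξ hφ hξc
    rw [hm1, he, ← Nat.cast_mul] at h1
    have h2 := mul_right_cancel₀ (IsIrrCharacter.apply_one_ne_zero hφ) h1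
    rw [Nat.cast_inj] at h2
    exact h2 ▸ Odd.of_dvd_nat hodd hm
  obtain ⟨e, he, heo⟩ := hoddmul χ hχ hc
  obtain ⟨e', he', heo'⟩ := hoddmul ψ hψ hc'
  obtain ⟨P, hP⟩ : ∃ P, P = Cfsg.indFun N (fun _ : N => (1 : ℂ)) := ⟨_, rfl⟩
  have hPc : Cfsg.IsCharacter G P := hP ▸ IsCharacter.indFun isCharacter_one
  obtain ⟨F, hF⟩ : ∃ F : G → ℂ, F = χ * fun g => conj (ψ g) := ⟨_, rfl⟩
  have hFc : Cfsg.IsCharacter G F := hF ▸ IsCharacter.mul hχc hψc
  have hT : Cfsg.classInner F P = ((e * (inertia φ).index * e' : ℕ) : ℂ) := by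
    rw [hP, classInner_indFun_right (IsCharacter.isClassFunction hFc)]
    have h1 : Cfsg.classInner (fun h : N => F h) (fun _ => (1 : ℂ)) =
        Cfsg.classInner (fun n : N => χ n) (fun n : N => ψ n) := by
      rw [classInner_def, classInner_def]
      congr 1
      refine Finset.sum_congr rfl fun n _ => ?_
      rw [hF, Pi.mul_apply, map_one, mul_one]
    rw [h1]
    conv_lhs => rw [restrict_eq_smul_sum hχ hφ hc]
    rw [classInner_smul_left, classInner_sum_left, he, Finset.sum_congr rfl fun θ hθ => ?_,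
      Finset.sum_const, card_conjOrbit, nsmul_eq_mul, ← Nat.cast_mul, ← Nat.cast_mul, mul_assoc]
    obtain ⟨g, rfl⟩ := mem_conjOrbit.1 hθ
    rw [← classInner_conj, classInner_restrict_conjOn (IsIrrCharacter.isClassFunction hψ), he',
      Complex.conj_natCast]
  have hterm : ∀ ρ ∈ irrFinset G, ∃ a : ℕ,
      Cfsg.classInner F ρ * conj (Cfsg.classInner P ρ) = a ∧
      Cfsg.classInner F (fun g => conj (ρ g)) *
        conj (Cfsg.classInner P (fun g => conj (ρ g))) = a ∧
      ((fun g => conj (ρ g)) = ρ → a = 0) := by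
    intro ρ hρ
    have hρ' := mem_irrFinset.1 hρ
    obtain ⟨a, ha⟩ := IsCharacter.exists_classInner_eq_natCast hFc hρ'
    obtain ⟨b, hb⟩ := IsCharacter.exists_classInner_eq_natCast hPc hρ'
    have hPr : ∀ g, conj (P g) = P g := fun g => by
      simp only [hP, indFun_def, map_mul, map_inv₀, Complex.conj_natCast, map_sum,
        extendByZero_eq]
      congr 1
      exact Finset.sum_congr rfl fun x _ => by split_ifs <;> simp
    have hbconj : Cfsg.classInner P (fun g => conj (ρ g)) = b := by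
      conv_lhs => rw [show P = fun g => conj (P g) from funext fun g => (hPr g).symm]
      rw [classInner_conj_conj, ← classInner_conj, hb, Complex.conj_natCast]
    rcases Nat.eq_zero_or_pos b with rfl | hb0
    · exact ⟨0, by rw [hb]; simp, by rw [hbconj]; simp, fun _ => rfl⟩
    have hc1 : Cfsg.classInner (fun n : N => ρ n) (fun _ : N => (1 : ℂ)) ≠ 0 := by
      intro h0
      rw [hP, classInner_indFun _ (IsIrrCharacter.isClassFunction hρ'), ← classInner_conj, h0,
        map_zero] at hb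
      exact hb0.ne' (by exact_mod_cast hb.symm)
    have horb : conjOrbit (fun _ : N => (1 : ℂ)) = {fun _ : N => (1 : ℂ)} := by
      ext θ
      rw [mem_conjOrbit, Finset.mem_singleton]
      exact ⟨fun ⟨g, hg⟩ => hg.trans (funext fun n => by rw [conjOn_apply]),
        fun h => ⟨1, by rw [conjOn_one, h]⟩⟩
    have hres := restrict_eq_smul_sum hρ' isIrrCharacter_one hc1
    rw [horb, Finset.sum_singleton] at hres
    have htriv : ∀ y ∈ N, ρ y = ρ 1 := fun y hy =>
      (congrFun hres ⟨y, hy⟩).trans (congrFun hres 1).symm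
    have hpow : (fun g => ρ (g ^ k)) = fun g => conj (ρ g) := by
      obtain ⟨σ, hσ, rfl⟩ := TwoClass.exists_deflate (N := N) hρ' htriv
      funext g
      simp only [QuotientGroup.mk_pow, pow_eq_inv_quotient hkm]
      exact IsCharacter.apply_inv (IsIrrCharacter.isCharacter hσ) _
    have haconj : Cfsg.classInner F (fun g => conj (ρ g)) = a := by
      rw [← hpow, show F = fun g => F (g ^ k) from funext fun g => by
        simp only [hF, Pi.mul_apply, hχf, hψf], classInner_pow hk, ha]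
    refine ⟨a * b, by rw [ha, hb, Complex.conj_natCast, Nat.cast_mul],
      by rw [haconj, hbconj, Complex.conj_natCast, Nat.cast_mul], fun hreal => ?_⟩
    have hρr : ∀ g, (ρ g).im = 0 := fun g => Complex.conj_eq_iff_im.1 (congrFun hreal g)
    have hρ1 := OddIndex.eq_one_of_real hodd hρ' htriv hρr
    have ha0 : a = 0 := by
      have : Cfsg.classInner F ρ = Cfsg.classInner χ ψ := by
        rw [hρ1, hF, classInner_def, classInner_def]
        congr 1
        refine Finset.sum_congr rfl fun g _ => ?_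
        rw [Pi.mul_apply, map_one, mul_one]
      rw [ha, IsIrrCharacter.classInner_of_ne hχ hψ hne] at this
      exact_mod_cast this
    rw [ha0, zero_mul]
  choose! a ha using hterm
  have h2 : ∑ ρ ∈ irrFinset G, a ρ = e * (inertia φ).index * e' := by
    rw [classInner_eq_sum_irr (IsCharacter.isClassFunction hFc) P,
      Finset.sum_congr rfl fun ρ hρ => (ha ρ hρ).1, ← Nat.cast_sum, Nat.cast_inj] at hT
    exact hT
  have hev : ((∑ ρ ∈ irrFinset G, a ρ : ℕ) : ZMod 2) = 0 := by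
    rw [Nat.cast_sum]
    refine Finset.sum_involution (fun ρ _ => fun g => conj (ρ g)) (fun ρ hρ => ?_)
      (fun ρ hρ hne0 h => hne0 (by rw [(ha ρ hρ).2.2 h, Nat.cast_zero]))
      (fun ρ hρ => mem_irrFinset.2 (IsIrrCharacter.conj (mem_irrFinset.1 hρ)))
      (fun ρ hρ => funext fun g => Complex.conj_conj _)
    have h1 := (ha _ (mem_irrFinset.2 (IsIrrCharacter.conj (mem_irrFinset.1 hρ)))).1
    rw [(ha ρ hρ).2.1, Nat.cast_inj] at h1
    rw [← h1, CharTwo.add_self_eq_zero]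
  have hoddT : Odd (e * (inertia φ).index * e') := by
    rw [Nat.odd_mul]
    exact ⟨heo, (Nat.odd_mul.1 heo').1⟩
  rw [h2, ZMod.natCast_eq_zero_iff_even] at hev
  exact Nat.not_even_iff_odd.2 hoddT hev

/-- A fixed irreducible character over a fixed character. -/
theorem exists_fixed (hk : k.Coprime (Nat.card G)) (hodd : Odd N.index) {e : ℕ}
    (hke : k ^ (2 ^ e) ≡ 1 [MOD Nat.card G]) {θ : N → ℂ} (hθ : Cfsg.IsIrrCharacter N θ)
    (hfix : ∀ n : N, θ (n ^ k) = θ n) :
    ∃ χ : G → ℂ, Cfsg.IsIrrCharacter G χ ∧ Cfsg.classInner (fun n : N => χ n) θ ≠ 0 ∧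
      ∀ g, χ (g ^ k) = χ g := by
  classical
  haveI := Fintype.ofFinite (Cfsg.IrrCharacter G)
  obtain ⟨π, hπ, hπa⟩ := exists_powPerm hk hke
  choose b hb using fun χ : Cfsg.IrrCharacter G => IsCharacter.exists_classInner_eq_natCast
    (IsCharacter.restrict (IsIrrCharacter.isCharacter χ.2) N) hθ
  have hkN : k.Coprime (Nat.card N) := hk.coprime_dvd_right N.card_subgroup_dvd_card
  have hbπ : ∀ χ, b (π χ) = b χ := fun χ => by
    have h : Cfsg.classInner (fun n : N => (π χ : G → ℂ) n) θ =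
        Cfsg.classInner (fun n : N => (χ : G → ℂ) n) θ := by
      refine Eq.trans ?_ (classInner_pow hkN (fun n : N => (χ : G → ℂ) n) θ)
      rw [show (fun n : N => θ (n ^ k)) = θ from funext hfix]
      refine congrArg (fun f => Cfsg.classInner f θ) (funext fun n => ?_)
      exact (hπa χ n).trans (congrArg (χ : G → ℂ) (Subgroup.coe_pow N n k).symm)
    rw [hb, hb, Nat.cast_inj] at h
    exact h
  have hI : Cfsg.classInner (Cfsg.indFun N θ) (Cfsg.indFun N θ) =
      ((∑ χ : Cfsg.IrrCharacter G, b χ ^ 2 : ℕ) : ℂ) := by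
    rw [classInner_eq_sum_irr (isClassFunction_indFun N θ) _, Nat.cast_sum,
      Finset.sum_subtype (p := Cfsg.IsIrrCharacter G) (irrFinset G) fun _ => mem_irrFinset]
    refine Finset.sum_congr rfl fun χ _ => ?_
    rw [classInner_indFun θ (IsIrrCharacter.isClassFunction χ.2), ← classInner_conj, hb χ]
    simp [sq]
  have hsum : Odd (∑ χ : Cfsg.IrrCharacter G, b χ ^ 2) := by
    rw [classInner_indFun_self hθ] at hI
    obtain ⟨c, hc⟩ : Nat.card N ∣ Nat.card (inertia θ) :=
      Subgroup.card_dvd_of_le (le_inertia (IsIrrCharacter.isClassFunction hθ))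
    rw [hc, Nat.cast_mul, mul_div_cancel_left₀ _ (Nat.cast_ne_zero.2 Nat.card_pos.ne'),
      Nat.cast_inj] at hI
    rw [← hI]
    refine Odd.of_dvd_nat hodd ⟨(inertia θ).index, mul_left_cancel₀ (Nat.card_pos (α := N)).ne' ?_⟩
    rw [N.card_mul_index, ← mul_assoc, ← hc, Subgroup.card_mul_index]
  haveI : Fact (Nat.Prime 2) := ⟨Nat.prime_two⟩
  have h2 := sum_eq_sum_fixed_perm π e hπ (fun χ => ((b χ ^ 2 : ℕ) : ZMod 2))
    fun χ => by rw [hbπ]
  rw [← Nat.cast_sum, ZMod.natCast_eq_one_iff_odd.2 hsum] at h2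
  obtain ⟨χ, hχ, hne⟩ := Finset.exists_ne_zero_of_sum_ne_zero (h2 ▸ one_ne_zero)
  refine ⟨χ, χ.2, ?_, fun g => by rw [← hπa, (Finset.mem_filter.1 hχ).2]⟩
  intro h0
  rw [hb χ, Nat.cast_eq_zero] at h0
  exact hne (by rw [h0]; simp)

/-- The fixed character over an invariant fixed character extends it. -/
theorem exists_fixed_extension (hk : k.Coprime (Nat.card G)) (hodd : Odd N.index)
    (hkm : N.index ∣ k + 1) {θ : N → ℂ} (hθ : Cfsg.IsIrrCharacter N θ)
    (hfix : ∀ n : N, θ (n ^ k) = θ n) (hinv : ∀ g : G, conjOn g θ = θ) :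
    ∃ χ : G → ℂ, Cfsg.IsIrrCharacter G χ ∧ (∀ n : N, χ n = θ n) ∧ ∀ g, χ (g ^ k) = χ g := by
  classical
  obtain ⟨ζ, hζ, hζN⟩ := exists_extension hk hodd hkm hθ hfix hinv
  have hext : ∀ n : N, (fun g : G => ζ (g ^ k)) n = θ n := fun n => by
    show ζ ((n : G) ^ k) = θ n
    rw [← Subgroup.coe_pow, hζN, hfix]
  obtain ⟨ν, hνN, hν⟩ := exists_twist_of_extensions hθ hζ hζN (isIrrCharacter_pow hk hζ) hext
  obtain ⟨j, hj⟩ : ∃ j : ℕ, 2 * j = N.index + 1 := by
    obtain ⟨c, hc⟩ := hodd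
    exact ⟨c + 1, by omega⟩
  have hνi : ∀ g, ν g ^ N.index = 1 := fun g =>
    DFunLike.congr_fun (hom_pow_index_eq_one hνN) g
  refine ⟨_, IsIrrCharacter.mul_hom hζ (ν ^ j), fun n => ?_, fun g => ?_⟩
  · simp [hνN n, hζN]
  · have h1 := congrFun hν g
    simp only [Pi.mul_apply] at h1 ⊢
    rw [h1, mul_assoc, MonoidHom.pow_apply, MonoidHom.pow_apply, map_pow, ← Units.val_mul]
    congr 2
    obtain ⟨c, hc⟩ := hkm
    have hinv' : ν g ^ k = (ν g)⁻¹ := by
      refine eq_inv_of_mul_eq_one_left ?_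
      rw [← pow_succ, hc, pow_mul, hνi, one_pow]
    have h2j : ν g ^ j * ν g ^ j = ν g := by
      rw [← pow_add, ← two_mul, hj, pow_succ, hνi, one_mul]
    rw [hinv', inv_pow, mul_inv_eq_iff_eq_mul]
    exact h2j.symm

end fixed

end CfsgLib.Char.PowTwist
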