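import Cfsg.Prelude.Def_Characters
import Mathlib.RepresentationTheory.Maschke
import Mathlib.LinearAlgebra.Dimension.Finrank
import Mathlib.LinearAlgebra.Trace

/-!
# Basic facts about characters (`Cfsg.IsCharacter`)
-/

set_option autoImplicit false
set_option linter.style.haveILetI false

namespace CfsgLib.Char

open Module Representation

universe u v w

variable {G : Type u} [Group G]

section General

variable {V : Type v} [AddCommGroup V] [Module ℂ V]
variable {W : Type w} [AddCommGroup W] [Module ℂ W]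

/-- Transport of a representation along a linear equivalence. -/
noncomputable def conjRep (ρ : Representation ℂ G V) (e : V ≃ₗ[ℂ] W) : Representation ℂ G W where
  toFun g := e.conj (ρ g)
  map_one' := by ext; simp [LinearEquiv.conj_apply]
  map_mul' g h := by ext; simp [LinearEquiv.conj_apply]

theorem conjRep_apply (ρ : Representation ℂ G V) (e : V ≃ₗ[ℂ] W) (g : G) :
    conjRep ρ e g = e.conj (ρ g) := rfl

/-- A representation is equivalent to each of its transports. -/
noncomputable def conjRepEquiv (ρ : Representation ℂ G V) (e : V ≃ₗ[ℂ] W) :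
    ρ.Equiv (conjRep ρ e) :=
  Representation.Equiv.mk e (fun g => by ext x; simp [conjRep_apply, LinearEquiv.conj_apply])

theorem character_conjRep (ρ : Representation ℂ G V) (e : V ≃ₗ[ℂ] W) :
    (conjRep ρ e).character = ρ.character := by
  ext g
  exact LinearMap.trace_conj' (ρ g) e

theorem isIrreducible_of_equiv {ρ : Representation ℂ G V} {σ : Representation ℂ G W}
    (φ : ρ.Equiv σ) [hρ : ρ.IsIrreducible] : σ.IsIrreducible := by
  rw [irreducible_iff_isSimpleModule_asModule] at hρ ⊢
  let e : ρ.asModule ≃ₗ[MonoidAlgebra ℂ G] σ.asModule :=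
    { IntertwiningMap.equivLinearMapAsModule ρ σ φ.toIntertwiningMap with
      invFun := IntertwiningMap.equivLinearMapAsModule σ ρ φ.symm.toIntertwiningMap
      left_inv := fun x => φ.symm_apply_apply x
      right_inv := fun x => φ.apply_symm_apply x }
  exact IsSimpleModule.congr e.symm

variable [FiniteDimensional ℂ V]

theorem isCharacter_character (ρ : Representation ℂ G V) : Cfsg.IsCharacter G ρ.character :=
  ⟨finrank ℂ V, conjRep ρ (Module.finBasis ℂ V).equivFun, character_conjRep ρ _⟩

theorem isIrrCharacter_character (ρ : Representation ℂ G V) [ρ.IsIrreducible] :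
    Cfsg.IsIrrCharacter G ρ.character :=
  ⟨finrank ℂ V, conjRep ρ (Module.finBasis ℂ V).equivFun,
    isIrreducible_of_equiv (conjRepEquiv ρ _), character_conjRep ρ _⟩

theorem character_prod [FiniteDimensional ℂ W] (ρ : Representation ℂ G V)
    (σ : Representation ℂ G W) : (ρ.prod σ).character = ρ.character + σ.character := by
  ext g
  exact LinearMap.trace_prodMap' (R := ℂ) (ρ g) (σ g)

end General

theorem IsIrrCharacter.isCharacter {χ : G → ℂ} (h : Cfsg.IsIrrCharacter G χ) :
    Cfsg.IsCharacter G χ := by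
  obtain ⟨n, ρ, -, rfl⟩ := h
  exact ⟨n, ρ, rfl⟩

theorem IsCharacter.isClassFunction {χ : G → ℂ} (h : Cfsg.IsCharacter G χ) :
    Cfsg.IsClassFunction G χ := by
  obtain ⟨n, ρ, rfl⟩ := h
  exact fun g x => ρ.char_conj g x

theorem IsIrrCharacter.isClassFunction {χ : G → ℂ} (h : Cfsg.IsIrrCharacter G χ) :
    Cfsg.IsClassFunction G χ :=
  IsCharacter.isClassFunction (IsIrrCharacter.isCharacter h)

theorem IsCharacter.apply_mul_comm {χ : G → ℂ} (h : Cfsg.IsCharacter G χ) (x y : G) :
    χ (x * y) = χ (y * x) := by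
  obtain ⟨n, ρ, rfl⟩ := h
  exact ρ.char_mul_comm y x

theorem IsCharacter.exists_degree {χ : G → ℂ} (h : Cfsg.IsCharacter G χ) :
    ∃ n : ℕ, χ 1 = n := by
  obtain ⟨n, ρ, rfl⟩ := h
  exact ⟨n, by rw [ρ.char_one, Module.finrank_fin_fun]⟩

theorem IsIrrCharacter.exists_degree {χ : G → ℂ} (h : Cfsg.IsIrrCharacter G χ) :
    ∃ n : ℕ, 0 < n ∧ χ 1 = n := by
  obtain ⟨n, ρ, hρ, rfl⟩ := h
  refine ⟨n, ?_, by rw [ρ.char_one, Module.finrank_fin_fun]⟩
  rcases Nat.eq_zero_or_pos n with rfl | hn
  · exfalso
    have : Subsingleton (Subrepresentation ρ) :=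
      (Subrepresentation.toSubmodule_injective (ρ := ρ)).subsingleton
    exact not_subsingleton _ this
  · exact hn

theorem IsIrrCharacter.apply_one_ne_zero {χ : G → ℂ} (h : Cfsg.IsIrrCharacter G χ) :
    χ 1 ≠ 0 := by
  obtain ⟨n, hn, hn'⟩ := IsIrrCharacter.exists_degree h
  rw [hn']; exact_mod_cast hn.ne'

theorem IsIrrCharacter.ne_zero {χ : G → ℂ} (h : Cfsg.IsIrrCharacter G χ) : χ ≠ 0 := fun h0 =>
  IsIrrCharacter.apply_one_ne_zero h (by rw [h0]; rfl)

theorem isCharacter_zero : Cfsg.IsCharacter G (0 : G → ℂ) :=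
  ⟨0, Representation.trivial ℂ G _, by
    ext g
    rw [Representation.character, Subsingleton.elim ((Representation.trivial ℂ G (Fin 0 → ℂ)) g) 0,
      map_zero]
    rfl⟩

theorem IsCharacter.add {χ ψ : G → ℂ} (h₁ : Cfsg.IsCharacter G χ) (h₂ : Cfsg.IsCharacter G ψ) :
    Cfsg.IsCharacter G (χ + ψ) := by
  obtain ⟨n, ρ, rfl⟩ := h₁
  obtain ⟨m, σ, rfl⟩ := h₂
  rw [← character_prod]
  exact isCharacter_character _

theorem IsCharacter.mul {χ ψ : G → ℂ} (h₁ : Cfsg.IsCharacter G χ) (h₂ : Cfsg.IsCharacter G ψ) :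
    Cfsg.IsCharacter G (χ * ψ) := by
  obtain ⟨n, ρ, rfl⟩ := h₁
  obtain ⟨m, σ, rfl⟩ := h₂
  rw [← Representation.char_tensor]
  exact isCharacter_character _

theorem IsCharacter.natCast_smul {χ : G → ℂ} (h : Cfsg.IsCharacter G χ) (k : ℕ) :
    Cfsg.IsCharacter G ((k : ℂ) • χ) := by
  induction k with
  | zero => simpa using (isCharacter_zero (G := G))
  | succ k ih => rw [Nat.cast_succ, add_smul, one_smul]; exact IsCharacter.add ih h

theorem isCharacter_sum {ι : Type*} (s : Finset ι) {f : ι → G → ℂ}
    (h : ∀ i ∈ s, Cfsg.IsCharacter G (f i)) : Cfsg.IsCharacter G (∑ i ∈ s, f i) := by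
  classical
  induction s using Finset.induction_on with
  | empty => simpa using (isCharacter_zero (G := G))
  | insert a t ha ih =>
    rw [Finset.sum_insert ha]
    exact IsCharacter.add (h a (Finset.mem_insert_self a t))
      (ih fun i hi => h i (Finset.mem_insert_of_mem hi))

theorem IsCharacter.comp {H : Type v} [Group H] {χ : G → ℂ} (h : Cfsg.IsCharacter G χ)
    (f : H →* G) : Cfsg.IsCharacter H (fun x => χ (f x)) := by
  obtain ⟨n, ρ, rfl⟩ := h
  exact ⟨n, ρ.comp f, rfl⟩

theorem IsCharacter.restrict {χ : G → ℂ} (h : Cfsg.IsCharacter G χ) (H : Subgroup G) :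
    Cfsg.IsCharacter H (fun x : H => χ x) :=
  IsCharacter.comp h H.subtype

theorem IsIrrCharacter.comp_surjective {H : Type v} [Group H] {χ : G → ℂ}
    (h : Cfsg.IsIrrCharacter G χ) (f : H →* G) (hf : Function.Surjective f) :
    Cfsg.IsIrrCharacter H (fun x => χ (f x)) := by
  obtain ⟨n, ρ, hρ, rfl⟩ := h
  refine ⟨n, ρ.comp f, ?_, rfl⟩
  let e : Subrepresentation (ρ.comp f) ≃o Subrepresentation ρ :=
    { toFun := fun S => ⟨S.toSubmodule, fun g x hx => by
        obtain ⟨y, rfl⟩ := hf g
        exact S.apply_mem_toSubmodule y hx⟩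
      invFun := fun S => ⟨S.toSubmodule, fun g x hx => S.apply_mem_toSubmodule (f g) hx⟩
      left_inv := fun _ => rfl
      right_inv := fun _ => rfl
      map_rel_iff' := Iff.rfl }
  exact e.isSimpleOrder_iff.2 hρ

/-- A representation on the line given by a homomorphism to the nonzero scalars. -/
noncomputable def lineRep (lam : G →* ℂˣ) : Representation ℂ G ℂ where
  toFun g := (lam g : ℂ) • LinearMap.id
  map_one' := by ext; simp
  map_mul' g h := by ext; simp [mul_comm]

theorem character_lineRep (lam : G →* ℂˣ) : (lineRep lam).character = fun g => (lam g : ℂ) := by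
  ext g
  simp [Representation.character, lineRep]

theorem isIrreducible_of_finrank_eq_one {V : Type v} [AddCommGroup V] [Module ℂ V]
    (ρ : Representation ℂ G V) (h : finrank ℂ V = 1) : ρ.IsIrreducible := by
  haveI : FiniteDimensional ℂ V := Module.finite_of_finrank_eq_succ h
  haveI : Nontrivial V := Module.nontrivial_of_finrank_eq_succ h
  haveI : Nontrivial (Subrepresentation ρ) :=
    ⟨⊥, ⊤, fun e => bot_ne_top (α := Submodule ℂ V) (congrArg Subrepresentation.toSubmodule e)⟩
  refine ⟨fun S => ?_⟩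
  have hle := Submodule.finrank_le S.toSubmodule
  rcases Nat.lt_or_ge (finrank ℂ S.toSubmodule) 1 with h0 | h1
  · exact Or.inl (Subrepresentation.toSubmodule_injective
      (Submodule.finrank_eq_zero.1 (by omega)))
  · exact Or.inr (Subrepresentation.toSubmodule_injective
      (Submodule.eq_top_of_finrank_eq (by omega)))

theorem isIrrCharacter_ofHom (lam : G →* ℂˣ) :
    Cfsg.IsIrrCharacter G (fun g => (lam g : ℂ)) := by
  haveI := isIrreducible_of_finrank_eq_one (lineRep lam) (Module.finrank_self ℂ)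
  rw [← character_lineRep]
  exact isIrrCharacter_character _

theorem isCharacter_ofHom (lam : G →* ℂˣ) : Cfsg.IsCharacter G (fun g => (lam g : ℂ)) :=
  IsIrrCharacter.isCharacter (isIrrCharacter_ofHom lam)

theorem isIrrCharacter_one : Cfsg.IsIrrCharacter G (fun _ => (1 : ℂ)) := by
  simpa using isIrrCharacter_ofHom (1 : G →* ℂˣ)

theorem isCharacter_one : Cfsg.IsCharacter G (fun _ => (1 : ℂ)) :=
  IsIrrCharacter.isCharacter isIrrCharacter_one

/-- Every character of a finite group is built from irreducible characters by addition. -/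
theorem IsCharacter.induction_irr [Finite G] {P : (G → ℂ) → Prop} (h0 : P 0)
    (hadd : ∀ χ ψ, P χ → P ψ → P (χ + ψ)) (hirr : ∀ χ, Cfsg.IsIrrCharacter G χ → P χ)
    {χ : G → ℂ} (hχ : Cfsg.IsCharacter G χ) : P χ := by
  obtain ⟨n, ρ, rfl⟩ := hχ
  induction n using Nat.strong_induction_on with
  | _ n ih =>
    by_cases hn : n = 0
    · subst hn
      have : ρ.character = 0 := by
        ext g
        rw [Representation.character, Subsingleton.elim (ρ g) 0, map_zero]
        rfl
      rw [this]; exact h0
    by_cases hρ : ρ.IsIrreducible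
    · exact hirr _ ⟨n, ρ, hρ, rfl⟩
    haveI : Nonempty (Fin n) := ⟨⟨0, Nat.pos_of_ne_zero hn⟩⟩
    haveI : Nontrivial (Subrepresentation ρ) :=
      ⟨⊥, ⊤, fun e => bot_ne_top (α := Submodule ℂ (Fin n → ℂ))
        (congrArg Subrepresentation.toSubmodule e)⟩
    obtain ⟨S, hS⟩ : ∃ S : Subrepresentation ρ, S ≠ ⊥ ∧ S ≠ ⊤ := by
      by_contra! hc
      exact hρ ⟨fun S => or_iff_not_imp_left.2 (hc S)⟩
    haveI : NeZero (Nat.card G : ℂ) := ⟨by exact_mod_cast Nat.card_pos.ne'⟩
    obtain ⟨T, hT⟩ := exists_isCompl S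
    have hc : IsCompl S.toSubmodule T.toSubmodule := by
      rw [isCompl_iff, disjoint_iff, codisjoint_iff]
      exact ⟨congrArg Subrepresentation.toSubmodule (disjoint_iff.1 hT.disjoint),
        congrArg Subrepresentation.toSubmodule (codisjoint_iff.1 hT.codisjoint)⟩
    let φ : (S.toRepresentation.prod T.toRepresentation).Equiv ρ :=
      Representation.Equiv.mk (Submodule.prodEquivOfIsCompl _ _ hc) (fun g => by
        apply LinearMap.ext
        rintro ⟨x, y⟩
        simp [Subrepresentation.toRepresentation])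
    have hlt : finrank ℂ S.toSubmodule < n ∧ finrank ℂ T.toSubmodule < n := by
      have hsum : finrank ℂ S.toSubmodule + finrank ℂ T.toSubmodule = n := by
        rw [Submodule.finrank_add_eq_of_isCompl hc, Module.finrank_fin_fun]
      have h1 : finrank ℂ S.toSubmodule ≠ 0 := fun h =>
        hS.1 (Subrepresentation.toSubmodule_injective (Submodule.finrank_eq_zero.1 h))
      have h2 : finrank ℂ T.toSubmodule ≠ 0 := by
        intro h
        apply hS.2
        have hT0 : T = ⊥ := Subrepresentation.toSubmodule_injective (Submodule.finrank_eq_zero.1 h)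
        simpa [hT0] using hT.sup_eq_top
      omega
    rw [← Representation.char_iso φ, character_prod]
    refine hadd _ _ ?_ ?_
    · have := ih _ hlt.1 (conjRep S.toRepresentation (Module.finBasis ℂ _).equivFun)
      rwa [character_conjRep] at this
    · have := ih _ hlt.2 (conjRep T.toRepresentation (Module.finBasis ℂ _).equivFun)
      rwa [character_conjRep] at this

end CfsgLib.Char
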