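/-
Sylow 2-subgroups of maximal class and fields of character values (statement S4923).
-/
import Cfsg.Agent.Char.Galois
import Cfsg.Agent.Char.GaloisTwist
import Cfsg.Agent.Char.Orthogonality
import Cfsg.Agent.Solvable.MaximalClass
import Cfsg.Agent.PLocal.Uniserial
import Mathlib

/-!
# Fields of values detecting Sylow 2-subgroups of maximal class
-/

set_option autoImplicit false
set_option linter.style.haveILetI false

namespace CfsgLib.MaxClassField

open Cfsg CfsgLib.Char Subgroup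
open scoped commutatorElement

universe u

/-- An algebraic number fixed by the automorphisms of `ℂ` fixing `T` lies in `ℚ(T)`. -/
theorem mem_adjoin_of_fixed {z : ℂ} (hz : IsAlgebraic ℚ z) {T : Set ℂ}
    (hT : ∀ t ∈ T, IsAlgebraic ℚ t)
    (h : ∀ σ : ℂ ≃+* ℂ, (∀ t ∈ T, σ t = t) → σ z = z) : z ∈ IntermediateField.adjoin ℚ T := by
  set K := algebraicClosure ℚ ℂ
  have hzK : z ∈ K := mem_algebraicClosure_iff.mpr hz
  have : IsAlgClosure ℚ ↥K := algebraicClosure.isAlgClosure ℚ ℂ
  have : Normal ℚ ↥K := IsAlgClosure.normal ℚ ↥K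
  have : IsGalois ℚ ↥K := ⟨⟩
  set E : IntermediateField ℚ ↥K := (IntermediateField.adjoin ℚ T).comap K.val
  have hmem : (⟨z, hzK⟩ : ↥K) ∈ IntermediateField.fixedField E.fixingSubgroup := by
    rw [IntermediateField.mem_fixedField_iff]
    intro σ0 hσ0
    obtain ⟨σ, hσ⟩ := exists_ringEquiv_extend σ0
    refine Subtype.ext ((hσ ⟨z, hzK⟩).symm.trans (h σ fun t ht => ?_))
    have htK : t ∈ K := mem_algebraicClosure_iff.mpr (hT t ht)
    rw [hσ ⟨t, htK⟩]
    have := (IntermediateField.mem_fixingSubgroup_iff _ _).1 hσ0 ⟨t, htK⟩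
      (show t ∈ IntermediateField.adjoin ℚ T from IntermediateField.subset_adjoin ℚ T ht)
    exact congrArg Subtype.val this
  rw [InfiniteGalois.fixedField_fixingSubgroup] at hmem
  exact hmem

/-- An automorphism fixing `T` fixes `ℚ(T)`. -/
theorem fixed_adjoin {σ : ℂ ≃+* ℂ} {T : Set ℂ} (h : ∀ t ∈ T, σ t = t) {z : ℂ}
    (hz : z ∈ IntermediateField.adjoin ℚ T) : σ z = z := by
  induction hz using IntermediateField.adjoin_induction with
  | mem x hx => exact h x hx
  | algebraMap r => simp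
  | add x y _ _ hx hy => rw [map_add, hx, hy]
  | inv x _ hx => rw [map_inv₀, hx]
  | mul x y _ _ hx hy => rw [map_mul, hx, hy]

/-- Two fields generated by algebraic numbers agree iff they have the same stabilisers. -/
theorem adjoin_eq_iff {S T : Set ℂ} (hS : ∀ s ∈ S, IsAlgebraic ℚ s)
    (hT : ∀ t ∈ T, IsAlgebraic ℚ t) :
    IntermediateField.adjoin ℚ S = IntermediateField.adjoin ℚ T ↔
      ∀ σ : ℂ ≃+* ℂ, (∀ s ∈ S, σ s = s) ↔ ∀ t ∈ T, σ t = t := by
  refine ⟨fun h σ => ⟨fun h1 t ht => fixed_adjoin h1 (h ▸ IntermediateField.subset_adjoin ℚ T ht),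
    fun h1 s hs => fixed_adjoin h1 (h ▸ IntermediateField.subset_adjoin ℚ S hs)⟩, fun h => ?_⟩
  refine le_antisymm (IntermediateField.adjoin_le_iff.2 fun s hs =>
    mem_adjoin_of_fixed (hS s hs) hT fun σ hσ => (h σ).2 hσ s hs)
    (IntermediateField.adjoin_le_iff.2 fun t ht =>
    mem_adjoin_of_fixed (hT t ht) hS fun σ hσ => (h σ).1 hσ t ht)

variable {m : ℕ} {ζ : ℂ}

theorem pow_eq_pow_iff (hζ : IsPrimitiveRoot ζ (2 ^ m)) {a b : ℕ} :
    ζ ^ a = ζ ^ b ↔ a ≡ b [MOD 2 ^ m] := by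
  rw [hζ.eq_orderOf]
  exact (isOfFinOrder_iff_pow_eq_one.2
    ⟨2 ^ m, pow_pos (by norm_num) _, hζ.pow_eq_one⟩).pow_eq_pow_iff_modEq

/-- The two admissible exponents. -/
def Good (m r : ℕ) : Prop := r + 1 = 2 ^ m ∨ r + 1 = 2 ^ (m - 1)

theorem Good.eps (hm : 2 ≤ m) (hζ : IsPrimitiveRoot ζ (2 ^ m)) {r : ℕ} (hr : Good m r) :
    ζ ^ (r + 1) = 1 ∨ ζ ^ (r + 1) = -1 := by
  rcases hr with h | h
  · left; rw [h, hζ.pow_eq_one]
  · right
    rw [h]
    have h2 : (ζ ^ 2 ^ (m - 1)) ^ 2 = 1 := by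
      rw [← pow_mul, ← pow_succ, show m - 1 + 1 = m by omega, hζ.pow_eq_one]
    exact (sq_eq_one_iff.1 h2).resolve_left
      (hζ.pow_ne_one_of_pos_of_lt (pow_ne_zero _ (by norm_num))
        (Nat.pow_lt_pow_right (by norm_num) (by omega)))

theorem Good.odd (hm : 2 ≤ m) {r : ℕ} (hr : Good m r) : Odd r := by
  rw [Nat.odd_iff]
  rcases hr with h | h
  · have : 2 ^ m = 2 * 2 ^ (m - 1) := by rw [← pow_succ', show m - 1 + 1 = m by omega]
    omega
  · have : 2 ^ (m - 1) = 2 * 2 ^ (m - 2) := by rw [← pow_succ', show m - 2 + 1 = m - 1 by omega]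
    omega

/-- The stabiliser of `ζ + ζ ^ r`. -/
theorem Good.fix_iff (hm : 2 ≤ m) (hζ : IsPrimitiveRoot ζ (2 ^ m)) {r : ℕ} (hr : Good m r) {k : ℕ}
    (hk : Odd k) :
    ζ ^ k + ζ ^ (r * k) = ζ + ζ ^ r ↔ (k ≡ 1 [MOD 2 ^ m] ∨ k ≡ r [MOD 2 ^ m]) := by
  rw [← pow_eq_pow_iff hζ, ← pow_eq_pow_iff hζ, pow_one]
  have hp : ζ ^ k * ζ ^ (r * k) = ζ * ζ ^ r := by
    rw [← pow_add, show k + r * k = (r + 1) * k by ring, ← pow_succ', pow_mul]
    rcases hr.eps hm hζ with h | h <;> rw [h]
    · simp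
    · exact hk.neg_one_pow
  constructor
  · intro hs
    have h0 : (ζ ^ k - ζ) * (ζ ^ k - ζ ^ r) = 0 := by linear_combination (ζ ^ k) * hs - hp
    rcases mul_eq_zero.1 h0 with h | h
    · exact Or.inl (sub_eq_zero.1 h)
    · exact Or.inr (sub_eq_zero.1 h)
  · have hne : ζ ≠ 0 := hζ.ne_zero (pow_ne_zero _ (by norm_num))
    rintro (h | h) <;> rw [h] at hp ⊢
    · rw [mul_left_cancel₀ hne hp]
    · have : ζ ^ (r * k) = ζ :=
        mul_left_cancel₀ (pow_ne_zero r hne) (hp.trans (mul_comm _ _))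
      rw [this, add_comm]

/-- Both elements `ζ ± ζ⁻¹` have this form. -/
theorem exists_good (hm : 2 ≤ m) (hζ : IsPrimitiveRoot ζ (2 ^ m)) :
    (∃ r, r + 1 = 2 ^ m ∧ ζ + ζ⁻¹ = ζ + ζ ^ r) ∧
      (∃ r, r + 1 = 2 ^ (m - 1) ∧ ζ - ζ⁻¹ = ζ + ζ ^ r) := by
  have hne : ζ ≠ 0 := hζ.ne_zero (pow_ne_zero _ (by norm_num))
  have key : ∀ r, ∀ c : ℂ, ζ ^ (r + 1) = c → ζ ^ r = c * ζ⁻¹ := fun r c h => by
    rw [← h, pow_succ, mul_assoc, mul_inv_cancel₀ hne, mul_one]
  have h1 : 2 ^ m - 1 + 1 = 2 ^ m := Nat.sub_add_cancel Nat.one_le_two_pow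
  have h2 : 2 ^ (m - 1) - 1 + 1 = 2 ^ (m - 1) := Nat.sub_add_cancel Nat.one_le_two_pow
  refine ⟨⟨_, h1, ?_⟩, ⟨_, h2, ?_⟩⟩
  · rw [key _ 1 (by rw [Nat.sub_add_cancel Nat.one_le_two_pow, hζ.pow_eq_one]), one_mul]
  · rw [key _ (-1) ?_]
    · ring
    rw [Nat.sub_add_cancel Nat.one_le_two_pow]
    have h : (ζ ^ 2 ^ (m - 1)) ^ 2 = 1 := by
      rw [← pow_mul, ← pow_succ, show m - 1 + 1 = m by omega, hζ.pow_eq_one]
    exact (sq_eq_one_iff.1 h).resolve_left
      (hζ.pow_ne_one_of_pos_of_lt (pow_ne_zero _ (by norm_num))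
        (Nat.pow_lt_pow_right (by norm_num) (by omega)))

variable {G : Type u} [Group G] [Finite G]

/-- The field of values of a `2`-element is the fixed field of `{1, r}` iff exactly those powers are
conjugate to it. -/
theorem field_eq_iff (hm : 2 ≤ m) (hζ : IsPrimitiveRoot ζ (2 ^ m)) {r : ℕ} (hr : Good m r) {g : G}
    {e : ℕ} (he : orderOf g = 2 ^ e) :
    IntermediateField.adjoin ℚ {z : ℂ | ∃ χ : Cfsg.IrrCharacter G, (χ : G → ℂ) g = z} =
        IntermediateField.adjoin ℚ ({ζ + ζ ^ r} : Set ℂ) ↔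
      ∀ k : ℕ, Odd k → (IsConj (g ^ k) g ↔ (k ≡ 1 [MOD 2 ^ m] ∨ k ≡ r [MOD 2 ^ m])) := by
  have hN : 0 < 2 ^ (m + e) := pow_pos (by norm_num) _
  have hcop : ∀ k : ℕ, k.Coprime (2 ^ (m + e)) ↔ Odd k := fun k => by
    rw [Nat.coprime_pow_right_iff (by omega), Nat.coprime_comm, Nat.coprime_two_left]
  have key : ∀ (σ : ℂ ≃+* ℂ) (k : ℕ), Odd k → (∀ z : ℂ, z ^ 2 ^ (m + e) = 1 → σ z = z ^ k) →
      ((∀ s ∈ {z : ℂ | ∃ χ : Cfsg.IrrCharacter G, (χ : G → ℂ) g = z}, σ s = s) ↔
          IsConj (g ^ k) g) ∧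
      ((∀ t ∈ ({ζ + ζ ^ r} : Set ℂ), σ t = t) ↔ (k ≡ 1 [MOD 2 ^ m] ∨ k ≡ r [MOD 2 ^ m])) := by
    intro σ k hk hσ
    have hval : ∀ χ : G → ℂ, Cfsg.IsCharacter G χ → σ (χ g) = χ (g ^ k) := fun χ hχ =>
      IsCharacter.map_ringEquiv_eq_pow hχ σ fun z hz => hσ z (by
        rw [he] at hz
        rw [pow_add, mul_comm, pow_mul, hz, one_pow])
    constructor
    · rw [isConj_iff_irr_eq]
      refine ⟨fun h χ hχ => ?_, fun h s hs => ?_⟩
      · rw [← hval χ (IsIrrCharacter.isCharacter hχ)]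
        exact h _ ⟨⟨χ, hχ⟩, rfl⟩
      · obtain ⟨χ, rfl⟩ := hs
        rw [hval _ (IsIrrCharacter.isCharacter χ.2)]
        exact h _ χ.2
    · have hζN : ∀ j : ℕ, (ζ ^ j) ^ 2 ^ (m + e) = 1 := fun j => by
        rw [← pow_mul, mul_comm, pow_mul, pow_add, pow_mul, hζ.pow_eq_one, one_pow, one_pow]
      simp only [Set.mem_singleton_iff, forall_eq]
      rw [map_add, hσ ζ (by simpa using hζN 1), hσ _ (hζN r), ← pow_mul]
      exact hr.fix_iff hm hζ hk
  have halgS : ∀ s ∈ {z : ℂ | ∃ χ : Cfsg.IrrCharacter G, (χ : G → ℂ) g = z}, IsAlgebraic ℚ s := by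
    rintro s ⟨χ, rfl⟩
    exact (IsCharacter.isIntegral (IsIrrCharacter.isCharacter χ.2) g).tower_top.isAlgebraic
  have halgT : ∀ t ∈ ({ζ + ζ ^ r} : Set ℂ), IsAlgebraic ℚ t := by
    have hi : IsIntegral ℚ ζ := IsIntegral.of_pow (pow_pos (by norm_num : 0 < 2) m)
      (by rw [hζ.pow_eq_one]; exact isIntegral_one)
    intro t ht
    rw [Set.mem_singleton_iff] at ht
    subst ht
    exact (hi.add (hi.pow r)).isAlgebraic
  rw [adjoin_eq_iff halgS halgT]
  constructor
  · intro h k hk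
    obtain ⟨σ, hσ⟩ := exists_ringEquiv_pow hN ((hcop k).2 hk)
    obtain ⟨h1, h2⟩ := key σ k hk hσ
    rw [← h1, ← h2]
    exact h σ
  · intro h σ
    obtain ⟨k, hk, hσ⟩ := exists_pow_of_ringEquiv hN σ
    obtain ⟨h1, h2⟩ := key σ k ((hcop k).1 hk) hσ
    rw [h1, h2]
    exact h k ((hcop k).1 hk)

theorem center_map_card {A B : Type u} [Group A] [Group B] (e : A ≃* B) :
    Nat.card (center A) = Nat.card (center B) := Nat.card_congr (Subgroup.centerCongr e).toEquiv

theorem index_commutator_congr {A B : Type u} [Group A] [Group B] (e : A ≃* B) :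
    (commutator A).index = (commutator B).index := by
  rw [show commutator B = (commutator A).map e.toMonoidHom by
    rw [_root_.commutator_def, _root_.commutator_def, map_commutator,
      map_top_of_surjective _ e.surjective],
    index_map_eq _ e.surjective (by rw [MonoidHom.ker_eq_bot_iff _ |>.2 e.injective]; exact bot_le)]

variable {n : ℕ}

/-- An element of even class size is central in no Sylow `2`-subgroup. -/
theorem not_central (P : Sylow 2 G) {g : G} (hg : 2 ∣ (centralizer ({g} : Set G)).index) :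
    ¬ (P : Subgroup G) ≤ centralizer ({g} : Set G) := fun h =>
  P.not_dvd_index (hg.trans (index_dvd_of_le h))

theorem four_le_index (P : Sylow 2 G) (hna : ¬ IsMulCommutative (P : Subgroup G)) :
    4 ≤ (commutator ↥(P : Subgroup G)).index := by
  have h := CfsgLib.Uniserial.sq_le_index_commutator (p := 2) P.2 (fun h => hna ⟨⟨fun a b => ?_⟩⟩)
  · exact h
  · rw [← commutatorElement_eq_one_iff_mul_comm, ← mem_bot, ← h]
    exact commutator_mem_commutator (mem_top a) (mem_top b)

/-- In a group with cyclic maximal `⟨x⟩`, `y` acts as a good exponent. -/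
theorem good_of_index {X : Type u} [Group X] [Finite X] (hn : 3 ≤ n) (hX : Nat.card X = 2 ^ n)
    (hc : (commutator X).index = 4) {x y : X} (hx : orderOf x = 2 ^ (n - 1))
    (hy : y ∉ zpowers x) :
    ∃ s, Good (n - 1) s ∧ y * x * y⁻¹ = x ^ s := by
  have hi : (zpowers x).index = 2 := by
    have h := (zpowers x).card_mul_index
    rw [Nat.card_zpowers, hx, hX, show n = n - 1 + 1 by omega, pow_succ, Nat.add_sub_cancel] at h
    exact Nat.eq_of_mul_eq_mul_left (pow_pos (by norm_num) _) h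
  haveI hnorm : (zpowers x).Normal := CfsgLib.AbelianIndexP.normal_of_index_prime
    (IsPGroup.of_card hX) hi
  obtain ⟨s, hs⟩ : ∃ s : ℕ, y * x * y⁻¹ = x ^ s := by
    have := hnorm.conj_mem x (mem_zpowers x) y
    rw [← mem_powers_iff_mem_zpowers] at this
    obtain ⟨s, hs⟩ := Submonoid.mem_powers_iff _ _ |>.1 this
    exact ⟨s, hs.symm⟩
  obtain ⟨s, hsl, hs⟩ : ∃ s, s < 2 ^ (n - 1) ∧ y * x * y⁻¹ = x ^ s :=
    ⟨s % 2 ^ (n - 1), Nat.mod_lt _ (pow_pos (by norm_num) _), by rw [hs, ← hx, pow_mod_orderOf]⟩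
  have hconj : ∀ j : ℕ, y * x ^ j * y⁻¹ = x ^ (s * j) := fun j => by
    rw [← conj_pow, hs, pow_mul]
  have hy2 : y * y ∈ zpowers x := (mul_mem_iff_of_index_two hi).2 Iff.rfl
  have hsq : x ^ (s * s) = x ^ 1 := by
    rw [← hconj, ← hs]
    obtain ⟨j, hj⟩ := mem_zpowers_iff.1 hy2
    calc y * (y * x * y⁻¹) * y⁻¹ = (y * y) * x * (y * y)⁻¹ := by group
      _ = x ^ 1 := by rw [← hj, pow_one]; group
  have h0 : 2 ^ (n - 1) ∣ s * s - 1 ∧ 1 ≤ s * s := by
    rw [pow_eq_pow_iff_modEq, hx] at hsq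
    rcases Nat.eq_zero_or_pos (s * s) with h | h
    · rw [h] at hsq
      have : 2 ^ 1 ∣ 2 ^ (n - 1) := Nat.pow_dvd_pow 2 (by omega)
      have := (Nat.ModEq.of_dvd this hsq)
      simp [Nat.ModEq] at this
    · exact ⟨(Nat.modEq_iff_dvd' h).1 hsq.symm, h⟩
  -- `s` is three modulo four
  have hs3 : s % 4 = 3 := by
    have hodd : s % 2 = 1 := by
      have : 2 ∣ s * s - 1 := (dvd_pow_self 2 (by omega)).trans h0.1
      rcases Nat.mod_two_eq_zero_or_one s with h | h
      · have : (s * s) % 2 = 0 := by rw [Nat.mul_mod, h]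
        omega
      · exact h
    by_contra h4
    have h41 : 4 ∣ s - 1 := by omega
    have hKn : (zpowers (x ^ 4)).Normal := by
      refine normalizer_eq_top_iff.1 (eq_top_iff.2 fun w _ => ?_)
      refine mem_normalizer_iff_map_conj_eq.2 (eq_of_le_of_card_ge ?_ (le_of_eq
        (card_map_of_injective (MulEquiv.injective _)).symm))
      rw [MonoidHom.map_zpowers, zpowers_le]
      obtain ⟨j, hj⟩ := mem_zpowers_iff.1 (hnorm.conj_mem x (mem_zpowers x) w)
      refine mem_zpowers_iff.2 ⟨j, ?_⟩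
      show (x ^ 4) ^ j = w * x ^ 4 * w⁻¹
      rw [← conj_pow, ← hj, ← zpow_natCast, ← zpow_mul, ← zpow_natCast, ← zpow_mul, mul_comm]
    set π := QuotientGroup.mk' (zpowers (x ^ 4))
    have hcomm : Commute (π y) (π x) := by
      have h1 : x ^ s = x * (x ^ 4) ^ ((s - 1) / 4) := by
        rw [← pow_mul, Nat.mul_div_cancel' h41, ← pow_succ']
        congr 1
        omega
      have h2 : π (y * x * y⁻¹) = π x := by
        rw [hs, h1, map_mul, show π ((x ^ 4) ^ ((s - 1) / 4)) = 1 from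
          (QuotientGroup.eq_one_iff _).2 (pow_mem (mem_zpowers _) _), mul_one]
      rwa [map_mul, map_mul, map_inv, mul_inv_eq_iff_eq_mul] at h2
    have hgen : ∀ (D : Subgroup X), x ∈ D → y ∈ D → ∀ w, w ∈ D := fun D hxD hyD w => by
      by_cases hw : w ∈ zpowers x
      · exact zpowers_le.2 hxD hw
      · have := mul_mem (zpowers_le.2 hxD ((mul_mem_iff_of_index_two hi).2
          (iff_of_false hw (fun h => hy (inv_inv y ▸ inv_mem h))) : w * y⁻¹ ∈ zpowers x)) hyD
        simpa using this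
    have hall : ∀ a b : X, Commute (π a) (π b) := by
      have hxall : ∀ a, Commute (π a) (π x) := fun a => mem_centralizer_singleton_iff.1
        (hgen ((centralizer {π x}).comap π) (mem_centralizer_singleton_iff.2 rfl)
          (mem_centralizer_singleton_iff.2 hcomm.eq) a)
      intro a b
      refine mem_centralizer_singleton_iff.1 (hgen ((centralizer {π b}).comap π) ?_ ?_ a)
      · exact mem_centralizer_singleton_iff.2 (hxall b).symm.eq
      · refine mem_centralizer_singleton_iff.2 (show Commute (π y) (π b) from ?_)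
        exact (mem_centralizer_singleton_iff.1 (hgen ((centralizer {π y}).comap π)
          (mem_centralizer_singleton_iff.2 hcomm.symm.eq) (mem_centralizer_singleton_iff.2 rfl) b)).symm
    have hle : commutator X ≤ zpowers (x ^ 4) := by
      rw [_root_.commutator_def, commutator_le]
      intro a _ b _
      rw [← QuotientGroup.eq_one_iff, ← QuotientGroup.mk'_apply, map_commutatorElement,
        commutatorElement_eq_one_iff_mul_comm]
      exact hall a b
    have h1 := index_dvd_of_le hle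
    rw [hc] at h1
    have h2 := (zpowers (x ^ 4)).card_mul_index
    rw [Nat.card_zpowers, hX, orderOf_pow, hx] at h2
    rcases eq_or_ne n 3 with rfl | hn3
    · norm_num at h2
      have := Nat.le_of_dvd (by norm_num) h1
      omega
    · have hg : Nat.gcd (2 ^ (n - 1)) 4 = 4 := Nat.gcd_eq_right
        (show 2 ^ 2 ∣ 2 ^ (n - 1) from Nat.pow_dvd_pow 2 (by omega))
      have h3 : 2 ^ (n - 1) = 4 * 2 ^ (n - 3) := by
        rw [show (4 : ℕ) = 2 ^ 2 by norm_num, ← pow_add]; congr 1; omega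
      rw [hg, h3, Nat.mul_div_cancel_left _ (by norm_num : 0 < 4)] at h2
      have h4 : 2 ^ n = 2 ^ (n - 3) * 8 := by
        rw [show (8 : ℕ) = 2 ^ 3 by norm_num, ← pow_add]; congr 1; omega
      rw [h4] at h2
      have := Nat.eq_of_mul_eq_mul_left (pow_pos (by norm_num) _) h2
      have := Nat.le_of_dvd (by norm_num) h1
      omega
  refine ⟨s, ?_, hs⟩
  -- `s + 1` is divisible by `2 ^ (n - 2)`
  have hdiv : 2 ^ (n - 2) ∣ s + 1 := by
    have h1 : s * s - 1 = 2 * ((s - 1) / 2) * (s + 1) := by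
      rw [Nat.mul_div_cancel' (by omega), Nat.sub_mul, one_mul, Nat.mul_add, mul_one]
      omega
    have h2 : 2 * 2 ^ (n - 2) ∣ 2 * (((s - 1) / 2) * (s + 1)) := by
      rw [← pow_succ', ← mul_assoc, ← h1, show n - 2 + 1 = n - 1 by omega]; exact h0.1
    refine (Nat.Coprime.pow_left _ ?_).dvd_of_dvd_mul_left (Nat.dvd_of_mul_dvd_mul_left two_pos h2)
    rw [Nat.coprime_two_left, Nat.odd_iff]
    omega
  obtain ⟨c, hc'⟩ := hdiv
  have h3 : 2 ^ (n - 1) = 2 ^ (n - 2) * 2 := by rw [← pow_succ]; congr 1; omega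
  have hc2 : c ≤ 2 := Nat.le_of_mul_le_mul_left (by omega : 2 ^ (n - 2) * c ≤ 2 ^ (n - 2) * 2)
    (pow_pos (by norm_num) _)
  interval_cases c
  · omega
  · right; rw [show n - 1 - 1 = n - 2 by omega, hc', mul_one]
  · left; rw [h3, hc']

/-- **Maximal class gives the field.** -/
theorem exists_of_index (P : Sylow 2 G) (hn : 3 ≤ n) (hP : Nat.card (P : Subgroup G) = 2 ^ n)
    (hζ : IsPrimitiveRoot ζ (2 ^ (n - 1))) (hc : (commutator ↥(P : Subgroup G)).index = 4) :
    ∃ g : G, g ∈ (P : Subgroup G) ∧ 2 ∣ (centralizer ({g} : Set G)).index ∧ ∃ r, Good (n - 1) r ∧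
      IntermediateField.adjoin ℚ {z : ℂ | ∃ χ : Cfsg.IrrCharacter G, (χ : G → ℂ) g = z} =
        IntermediateField.adjoin ℚ ({ζ + ζ ^ r} : Set ℂ) := by
  obtain ⟨C, hC, hCi⟩ := CfsgLib.MaximalClass.cyclic_index_two n hn hP hc
  obtain ⟨x, hxgen⟩ := (Subgroup.isCyclic_iff_exists_zpowers_eq_top C).1 hC
  have hx : orderOf x = 2 ^ (n - 1) := by
    have h := C.card_mul_index
    rw [← hxgen, Nat.card_zpowers, hxgen, hCi, hP, show n = n - 1 + 1 by omega, pow_succ] at h
    simpa using h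
  obtain ⟨y, hy⟩ : ∃ y, y ∉ C := by
    by_contra! h
    rw [show C = ⊤ from eq_top_iff.2 fun g _ => h g, index_top] at hCi
    omega
  obtain ⟨s, hs, hys⟩ := good_of_index hn hP hc hx (hxgen ▸ hy)
  have hg : orderOf (x : G) = 2 ^ (n - 1) := by rw [Subgroup.orderOf_coe, hx]
  have h2n : 2 < 2 ^ (n - 1) := lt_of_lt_of_le (by norm_num : 2 < 2 ^ 2)
    (Nat.pow_le_pow_right (by norm_num) (by omega))
  have heven : 2 ∣ (centralizer ({(x : G)} : Set G)).index := by
    by_contra hodd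
    obtain ⟨S⟩ := (inferInstance : Nonempty (Sylow 2 ↥(centralizer ({(x : G)} : Set G))))
    obtain ⟨R, hR⟩ := ((S.2.map (centralizer ({(x : G)} : Set G)).subtype).to_sup_of_normal_right'
      (IsPGroup.of_card (p := 2) (n := n - 1) (G := zpowers (x : G))
        (by rw [Nat.card_zpowers, hg])) (by
          intro a ha
          obtain ⟨b, -, rfl⟩ := ha
          rw [mem_normalizer_iff_map_conj_eq, MonoidHom.map_zpowers]
          congr 1
          show (b : G) * x * (b : G)⁻¹ = x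
          rw [mem_centralizer_singleton_iff.1 b.2, mul_inv_cancel_right])).exists_le_sylow
    have hSc : Nat.card ((S : Subgroup _).map (centralizer ({(x : G)} : Set G)).subtype) = 2 ^ n := by
      rw [card_map_of_injective (subtype_injective _), S.card_eq_multiplicity]
      have h1 := P.card_eq_multiplicity
      rw [hP, ← (centralizer ({(x : G)} : Set G)).card_mul_index, Nat.factorization_mul Nat.card_pos.ne'
        index_ne_zero_of_finite] at h1
      simpa [Nat.factorization_eq_zero_of_not_dvd hodd] using h1.symm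
    have hRle : (R : Subgroup G) ≤ centralizer ({(x : G)} : Set G) := by
      rw [← eq_of_le_of_card_ge (le_sup_left.trans hR)
        (by rw [hSc, R.card_eq_multiplicity, ← P.card_eq_multiplicity, hP])]
      exact map_subtype_le _
    have hxR : (x : G) ∈ (R : Subgroup G) := hR (mem_sup_right (mem_zpowers _))
    have hz : (⟨x, hxR⟩ : (R : Subgroup G)) ∈ center (R : Subgroup G) := mem_center_iff.2 fun b =>
      Subtype.ext (mem_centralizer_singleton_iff.1 (hRle b.2))
    have h1 := Subgroup.orderOf_dvd_natCard _ hz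
    rw [Subgroup.orderOf_mk, hg, center_map_card (Sylow.equiv R P), CfsgLib.MaximalClass.card_center hn hP hc
      (A := C) ⟨⟨(IsCyclic.commGroup (α := C)).mul_comm⟩⟩ hCi] at h1
    exact absurd (Nat.le_of_dvd two_pos h1) (by omega)
  refine ⟨x, x.2, heven, s, hs, (field_eq_iff (by omega) hζ hs hg).2 fun k hk => ?_⟩
  set N' := normalizer ((zpowers (x : G) : Subgroup G) : Set G)
  set C' := centralizer ((zpowers (x : G) : Subgroup G) : Set G)
  have hmemC : ∀ a : G, a ∈ C' ↔ a * x * a⁻¹ = x := fun a => by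
    refine ⟨fun h => ?_, fun h => ?_⟩
    · rw [← mem_centralizer_iff.1 h _ (mem_zpowers _), mul_inv_cancel_right]
    · refine mem_centralizer_iff.2 ?_
      rintro _ ⟨j, rfl⟩
      exact ((show Commute a (x : G) from mul_inv_eq_iff_eq_mul.1 h).zpow_right j).symm.eq
  have hN : ∀ (a : G) (j : ℕ), Odd j → a * x * a⁻¹ = (x : G) ^ j → a ∈ N' := fun a j hj h => by
    refine mem_normalizer_iff_map_conj_eq.2 (eq_of_le_of_card_ge ?_ (le_of_eq
      (card_map_of_injective (MulEquiv.injective _)).symm))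
    rw [MonoidHom.map_zpowers, zpowers_le]
    exact ⟨j, by simpa using h.symm⟩
  have hyN : (y : G) ∈ N' := hN _ s (hs.odd (by omega)) (by exact_mod_cast congrArg Subtype.val hys)
  have hyx : (y : G) * x * (y : G)⁻¹ = (x : G) ^ s := by exact_mod_cast congrArg Subtype.val hys
  have hs1 : ¬ s ≡ 1 [MOD 2 ^ (n - 1)] := by
    intro h
    have h3 : 2 ^ (n - 1) = 2 * 2 ^ (n - 2) := by rw [← pow_succ']; congr 1; omega
    have h4 : 2 ^ (n - 2) = 2 * 2 ^ (n - 3) := by rw [← pow_succ']; congr 1; omega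
    rcases hs with e | e
    · unfold Nat.ModEq at h
      rw [Nat.mod_eq_of_lt (by omega), Nat.mod_eq_of_lt (by omega)] at h
      omega
    · rw [show n - 1 - 1 = n - 2 by omega] at e
      unfold Nat.ModEq at h
      rw [Nat.mod_eq_of_lt (by omega), Nat.mod_eq_of_lt (by omega)] at h
      rcases eq_or_ne n 3 with rfl | hn3
      · -- `x ^ 1` would make the group abelian
        have hs' : s = 1 := h
        subst hs'
        rw [pow_one] at hys
        refine CfsgLib.MaximalClass.not_abelian le_rfl hP hc ?_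
        refine ⟨⟨fun a b => ?_⟩⟩
        have hcx : Commute y x := mul_inv_eq_iff_eq_mul.1 hys
        have hxa : ∀ a, Commute a x := fun a => by
          by_cases ha : a ∈ C
          · rw [← hxgen] at ha; obtain ⟨j, rfl⟩ := ha; exact (Commute.refl x).zpow_left j
          · have := (mul_mem_iff_of_index_two hCi).2 (iff_of_false ha (fun hh => hy (inv_inv y ▸ inv_mem hh)))
            rw [← hxgen] at this
            obtain ⟨j, hj⟩ := this
            rw [show a = x ^ j * y by simp only [hj]; group]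
            exact ((Commute.refl x).zpow_left j).mul_left hcx
        by_cases ha : a ∈ C
        · rw [← hxgen] at ha; obtain ⟨j, rfl⟩ := ha; exact ((hxa b).zpow_right j).symm.eq
        · have := (mul_mem_iff_of_index_two hCi).2 (iff_of_false ha (fun hh => hy (inv_inv y ▸ inv_mem hh)))
          rw [← hxgen] at this
          obtain ⟨j, hj⟩ := this
          rw [show a = x ^ j * y by simp only [hj]; group]
          by_cases hb : b ∈ C
          · rw [← hxgen] at hb; obtain ⟨i, rfl⟩ := hb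
            exact ((hxa (x ^ j * y)).zpow_right i).eq
          · have := (mul_mem_iff_of_index_two hCi).2 (iff_of_false hb (fun hh => hy (inv_inv y ▸ inv_mem hh)))
            rw [← hxgen] at this
            obtain ⟨i, hi⟩ := this
            rw [show b = x ^ i * y by simp only [hi]; group]
            exact ((((Commute.refl x).zpow_zpow j i).mul_right (hcx.symm.zpow_left j)).mul_left
              ((hcx.zpow_right i).mul_right (Commute.refl y))).eq
      · have : 2 ^ (n - 3) = 2 * 2 ^ (n - 4) := by rw [← pow_succ']; congr 1; omega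
        have : 0 < 2 ^ (n - 4) := pow_pos (by norm_num) _
        omega
  have hyC : (y : G) ∉ C' := fun h => hs1 (by
    have := (hmemC _).1 h
    rw [hyx] at this
    nth_rewrite 2 [← pow_one (x : G)] at this
    rw [← hg]; exact pow_eq_pow_iff_modEq.1 this)
  have hidx : (C'.subgroupOf N').index = 2 := by
    set i := (C'.subgroupOf N').index
    have hdvd : i ∣ 2 ^ (n - 2) := by
      have h1 := Subgroup.index_ker (zpowers (x : G)).normalizerMonoidHom
      rw [normalizerMonoidHom_ker] at h1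
      have h2 := Subgroup.card_subgroup_dvd_card (zpowers (x : G)).normalizerMonoidHom.range
      rw [IsCyclic.card_mulAut, Nat.card_zpowers, hg, Nat.totient_prime_pow Nat.prime_two (by omega),
        show n - 1 - 1 = n - 2 by omega] at h2
      rw [← h1, show (2 : ℕ) - 1 = 1 from rfl, mul_one] at h2
      exact h2
    obtain ⟨j, -, hj⟩ := (Nat.dvd_prime_pow Nat.prime_two).1 hdvd
    have hj0 : j ≠ 0 := by
      rintro rfl
      rw [pow_zero] at hj
      have : (⟨(y : G), hyN⟩ : N') ∈ C'.subgroupOf N' := by rw [index_eq_one.1 hj]; trivial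
      exact hyC (mem_subgroupOf.1 this)
    have hj1 : j ≤ 1 := by
      by_contra hj1
      have h1 : 2 ^ (n + 1) ∣ Nat.card G := by
        refine dvd_trans ?_ (card_subgroup_dvd_card N')
        rw [← (C'.subgroupOf N').card_mul_index]
        refine dvd_trans (by rw [← pow_add]; exact Nat.pow_dvd_pow 2 (by omega : n + 1 ≤ (n - 1) + j))
          (Nat.mul_dvd_mul ?_ (dvd_of_eq hj.symm))
        have hxN : (x : G) ∈ N' := le_normalizer (mem_zpowers _)
        have hxC : (⟨(x : G), hxN⟩ : N') ∈ C'.subgroupOf N' :=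
          mem_subgroupOf.2 ((hmemC _).2 (by simp))
        have := Subgroup.orderOf_dvd_natCard _ hxC
        rwa [Subgroup.orderOf_mk, hg] at this
      have h2 := (Nat.Prime.pow_dvd_iff_le_factorization Nat.prime_two Nat.card_pos.ne').1 h1
      have h3 := P.card_eq_multiplicity
      rw [hP] at h3
      have := Nat.pow_right_injective le_rfl h3
      omega
    rw [hj, show j = 1 by omega, pow_one]
  constructor
  · intro hconj
    obtain ⟨a, ha⟩ := isConj_iff.1 hconj.symm
    have haN : a ∈ N' := hN a k hk ha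
    by_cases haC : a ∈ C'
    · left
      have := (hmemC a).1 haC
      rw [ha] at this
      nth_rewrite 2 [← pow_one (x : G)] at this
      rw [← hg]; exact pow_eq_pow_iff_modEq.1 this
    · right
      have := (mul_mem_iff_of_index_two hidx (a := (⟨(y : G), hyN⟩ : N')⁻¹) (b := ⟨a, haN⟩)).2
        (iff_of_false (fun h => hyC (by simpa using mem_subgroupOf.1 (inv_mem h)))
          (fun h => haC (mem_subgroupOf.1 h)))
      have h1 := (hmemC _).1 (mem_subgroupOf.1 this)
      rw [← hg]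
      refine pow_eq_pow_iff_modEq.1 ?_
      rw [← ha, ← hyx]
      simp only [coe_mul, coe_inv] at h1
      calc a * (x : G) * a⁻¹ = (y : G) * ((y : G)⁻¹ * a * x * ((y : G)⁻¹ * a)⁻¹) * (y : G)⁻¹ := by group
        _ = _ := by rw [h1]
  · rintro (h | h) <;> rw [← hg, ← pow_eq_pow_iff_modEq] at h <;> rw [h]
    · exact isConj_iff.2 ⟨1, by simp⟩
    · exact (isConj_iff.2 ⟨(y : G), hyx⟩).symm

/-- **The field gives maximal class.** -/
theorem index_of_exists (P : Sylow 2 G) (hn : 3 ≤ n) (hP : Nat.card (P : Subgroup G) = 2 ^ n)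
    (hζ : IsPrimitiveRoot ζ (2 ^ (n - 1))) {g : G} (hgP : g ∈ (P : Subgroup G))
    (hg : 2 ∣ (centralizer ({g} : Set G)).index) {r : ℕ} (hr : Good (n - 1) r)
    (hfield : IntermediateField.adjoin ℚ {z : ℂ | ∃ χ : Cfsg.IrrCharacter G, (χ : G → ℂ) g = z} =
        IntermediateField.adjoin ℚ ({ζ + ζ ^ r} : Set ℂ)) :
    (commutator ↥(P : Subgroup G)).index = 4 := by
  have hna : ¬ IsMulCommutative (P : Subgroup G) := fun h => not_central P hg fun a ha =>
    mem_centralizer_singleton_iff.2 (congrArg Subtype.val (h.is_comm.comm ⟨a, ha⟩ ⟨g, hgP⟩))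
  refine le_antisymm ?_ (four_le_index P hna)
  have h4 := (commutator ↥(P : Subgroup G)).card_mul_index
  rw [hP] at h4
  rcases eq_or_ne n 3 with rfl | hn3
  · have h2 : 2 ≤ Nat.card (commutator ↥(P : Subgroup G)) := by
      have : commutator ↥(P : Subgroup G) ≠ ⊥ := fun h => hna ⟨⟨fun a b => by
        rw [← commutatorElement_eq_one_iff_mul_comm, ← mem_bot, ← h]
        exact commutator_mem_commutator (mem_top a) (mem_top b)⟩⟩
      exact (one_lt_card_iff_ne_bot _).2 this
    nlinarith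
  obtain ⟨e, he⟩ := IsPGroup.iff_orderOf.1 P.2 ⟨g, hgP⟩
  rw [Subgroup.orderOf_mk] at he
  have hfix := (field_eq_iff (by omega) hζ hr he).1 hfield
  have hen : e ≤ n := by
    have := Subgroup.orderOf_dvd_natCard _ hgP
    rw [he, hP] at this
    exact (Nat.pow_dvd_pow_iff_le_right (by norm_num)).1 this
  have h8 : 2 ^ (n - 1) = 4 * 2 ^ (n - 3) := by
    rw [show (4 : ℕ) = 2 ^ 2 by norm_num, ← pow_add]; congr 1; omega
  have h9 : 2 ^ (n - 2) = 4 * 2 ^ (n - 4) := by
    rw [show (4 : ℕ) = 2 ^ 2 by norm_num, ← pow_add]; congr 1; omega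
  have hr4 : r % 4 = 3 := by
    rcases hr with h | h
    · omega
    · rw [show n - 1 - 1 = n - 2 by omega] at h; omega
  have hlt : 2 ^ (n - 2) < 2 ^ (n - 1) := Nat.pow_lt_pow_right (by norm_num) (by omega)
  have hne : e ≠ n := fun h => by
    haveI : IsCyclic (P : Subgroup G) :=
      isCyclic_of_orderOf_eq_card ⟨g, hgP⟩ (by rw [Subgroup.orderOf_mk, he, h, hP])
    exact hna ⟨⟨(IsCyclic.commGroup (α := (P : Subgroup G))).mul_comm⟩⟩
  have hen2 : e = n - 1 := by
    by_contra hne2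
    have hdvd : orderOf g ∣ 2 ^ (n - 2) := he ▸ Nat.pow_dvd_pow 2 (by omega)
    have hk : Odd (1 + 2 ^ (n - 2)) := by rw [Nat.odd_iff]; omega
    have hkg : g ^ (1 + 2 ^ (n - 2)) = g := by
      rw [pow_add, orderOf_dvd_iff_pow_eq_one.1 hdvd, pow_one, mul_one]
    have := (hfix _ hk).1 (by rw [hkg])
    rcases this with h | h
    · unfold Nat.ModEq at h
      have : 2 ^ (n - 1) = 2 * 2 ^ (n - 2) := by rw [← pow_succ']; congr 1; omega
      have : 0 < 2 ^ (n - 4) := pow_pos (by norm_num) _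
      rw [Nat.mod_eq_of_lt (by omega), Nat.mod_eq_of_lt (by omega)] at h
      omega
    · have := Nat.ModEq.of_dvd (show 4 ∣ 2 ^ (n - 1) from ⟨_, h8⟩) h
      unfold Nat.ModEq at this
      omega
  subst hen2
  have hrodd := hr.odd (by omega : 2 ≤ n - 1)
  obtain ⟨a, ha⟩ := isConj_iff.1 ((hfix r hrodd).2 (Or.inr rfl)).symm
  -- the `2`-part of the conjugating element
  set m' := orderOf a / 2 ^ (orderOf a).factorization 2
  have hm' : Odd m' := by
    rw [← Nat.coprime_two_left]; exact Nat.coprime_ordCompl Nat.prime_two (orderOf_pos a).ne'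
  have hb2 : IsPGroup 2 (zpowers (a ^ m')) := IsPGroup.of_card (n := (orderOf a).factorization 2) (by
    rw [Nat.card_zpowers, orderOf_pow_of_dvd]
    · exact Nat.div_div_self (Nat.ordProj_dvd _ _) (orderOf_pos a).ne'
    · exact (Nat.pos_iff_ne_zero.1 (Nat.pos_of_ne_zero (fun h => by simp [h] at hm')))
    · exact Nat.ordCompl_dvd _ _)
  have hconj : ∀ j : ℕ, a ^ j * g * (a ^ j)⁻¹ = g ^ r ^ j := by
    intro j
    induction j with
    | zero => simp
    | succ j ih =>
      calc a ^ (j + 1) * g * (a ^ (j + 1))⁻¹ = a * (a ^ j * g * (a ^ j)⁻¹) * a⁻¹ := by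
            rw [pow_succ']; group
        _ = (a * g * a⁻¹) ^ r ^ j := by rw [ih, conj_pow]
        _ = _ := by rw [ha, ← pow_mul, ← pow_succ']
  have hrr : r * r ≡ 1 [MOD 2 ^ (n - 1)] := by
    rw [← pow_eq_pow_iff hζ, pow_one]
    have h1 : ζ ^ (r * r) * ζ ^ r = ζ * ζ ^ r := by
      rw [← pow_add, show r * r + r = (r + 1) * r by ring, pow_mul, ← pow_succ']
      rcases hr.eps (by omega) hζ with e | e <;> rw [e]
      · simp
      · exact hrodd.neg_one_pow
    exact mul_right_cancel₀ (pow_ne_zero r (hζ.ne_zero (pow_ne_zero _ (by norm_num)))) h1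
  have hbg : a ^ m' * g * (a ^ m')⁻¹ = g ^ r := by
    rw [hconj, pow_eq_pow_iff_modEq, he]
    obtain ⟨c, hc⟩ := hm'
    rw [hc, pow_succ, pow_mul, pow_two]
    simpa using ((hrr.pow c).mul_right r)
  set b := a ^ m'
  obtain ⟨R, hR⟩ := (hb2.to_sup_of_normal_right'
    (IsPGroup.of_card (p := 2) (n := n - 1) (G := zpowers g) (by rw [Nat.card_zpowers, he]))
    (zpowers_le.2 (mem_normalizer_iff_map_conj_eq.2 (eq_of_le_of_card_ge (by
      rw [MonoidHom.map_zpowers, zpowers_le]; exact ⟨r, by simpa using hbg.symm⟩)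
      (le_of_eq (card_map_of_injective (MulEquiv.injective _)).symm))))).exists_le_sylow
  have hgR : g ∈ (R : Subgroup G) := hR (mem_sup_right (mem_zpowers g))
  have hbR : b ∈ (R : Subgroup G) := hR (mem_sup_left (mem_zpowers b))
  rw [index_commutator_congr (Sylow.equiv P R)]
  have hcom : (⁅(⟨b, hbR⟩ : (R : Subgroup G)), ⟨g, hgR⟩⁆ : (R : Subgroup G)) ∈
      commutator ↥(R : Subgroup G) := commutator_mem_commutator (mem_top _) (mem_top _)
  have hr1 : 1 ≤ r := hrodd.pos
  have hval : ((⁅(⟨b, hbR⟩ : (R : Subgroup G)), ⟨g, hgR⟩⁆ : (R : Subgroup G)) : G) = g ^ (r - 1) := by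
    show b * g * b⁻¹ * g⁻¹ = _
    rw [hbg, mul_inv_eq_iff_eq_mul, ← pow_succ, Nat.sub_add_cancel hr1]
  have hord : orderOf (g ^ (r - 1)) = 2 ^ (n - 2) := by
    have hgcd : Nat.gcd (2 ^ (n - 1)) (r - 1) = 2 := by
      refine Nat.dvd_antisymm ?_ (Nat.dvd_gcd (dvd_pow_self 2 (by omega)) (by omega))
      obtain ⟨j, -, hj⟩ := (Nat.dvd_prime_pow Nat.prime_two).1 (Nat.gcd_dvd_left (2 ^ (n - 1)) (r - 1))
      rw [hj]
      rcases Nat.lt_or_ge j 2 with h | h
      · exact (Nat.pow_dvd_pow 2 (by omega : j ≤ 1)).trans (by simp)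
      · have : 2 ^ 2 ∣ r - 1 := (Nat.pow_dvd_pow 2 h).trans (hj ▸ Nat.gcd_dvd_right _ _)
        omega
    rw [orderOf_pow, he, hgcd, show n - 1 = n - 2 + 1 by omega, pow_succ, Nat.mul_div_cancel _ two_pos]
  have h5 : 2 ^ (n - 2) ∣ Nat.card (commutator ↥(R : Subgroup G)) := by
    rw [← hord, ← hval, Subgroup.orderOf_coe]
    exact Subgroup.orderOf_dvd_natCard _ hcom
  have h6 := (commutator ↥(R : Subgroup G)).card_mul_index
  rw [R.card_eq_multiplicity, ← P.card_eq_multiplicity, hP] at h6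
  have h7 := Nat.le_of_dvd Nat.card_pos h5
  refine Nat.le_of_mul_le_mul_left ?_ (pow_pos (by norm_num : 0 < 2) (n - 2))
  calc 2 ^ (n - 2) * (commutator ↥(R : Subgroup G)).index
      ≤ Nat.card (commutator ↥(R : Subgroup G)) * (commutator ↥(R : Subgroup G)).index :=
        Nat.mul_le_mul_right _ h7
    _ = 2 ^ n := h6
    _ = 2 ^ (n - 2) * 4 := by rw [show (4 : ℕ) = 2 ^ 2 by norm_num, ← pow_add]; congr 1; omega

end CfsgLib.MaxClassField
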