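import Cfsg.Agent.Char.CyclicTI
import Cfsg.Agent.Char.TI
import Cfsg.Agent.Char.Linear

/-!
# A cyclic subgroup `W = W₁ W₂`: projections, linear characters, trivial intersection
-/

namespace CfsgLib.Char

open scoped ComplexConjugate

universe u

variable {G : Type u} [Group G] {W₁ W₂ : Subgroup G}

/-- The projection data of a direct decomposition `W = W₁ W₂`. -/
structure IsWSplit (W₁ W₂ : Subgroup G) (p₁ p₂ : ↥(W₁ ⊔ W₂) →* ↥(W₁ ⊔ W₂)) : Prop where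
  mem₁ : ∀ w, (p₁ w : G) ∈ W₁
  mem₂ : ∀ w, (p₂ w : G) ∈ W₂
  mul : ∀ w, p₁ w * p₂ w = w
  fix₁ : ∀ w : ↥(W₁ ⊔ W₂), (w : G) ∈ W₁ → p₁ w = w ∧ p₂ w = 1
  fix₂ : ∀ w : ↥(W₁ ⊔ W₂), (w : G) ∈ W₂ → p₂ w = w ∧ p₁ w = 1

theorem exists_prod_equiv (hdisj : W₁ ⊓ W₂ = ⊥) (hcomm : ∀ a ∈ W₁, ∀ b ∈ W₂, a * b = b * a) :
    ∃ e : ↥W₁ × ↥W₂ ≃* ↥(W₁ ⊔ W₂), ∀ x, (e x : G) = (x.1 : G) * x.2 := by
  let f : ↥W₁ × ↥W₂ →* ↥(W₁ ⊔ W₂) := MonoidHom.noncommCoprod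
    (Subgroup.inclusion le_sup_left) (Subgroup.inclusion le_sup_right)
    fun a b => Subtype.ext (hcomm a a.2 b b.2)
  have hf : ∀ x, (f x : G) = (x.1 : G) * x.2 := fun x => rfl
  refine ⟨MulEquiv.ofBijective f ⟨?_, ?_⟩, hf⟩
  · refine (injective_iff_map_eq_one f).2 fun x hx => ?_
    have h1 : (x.1 : G) * x.2 = 1 := by rw [← hf, hx]; rfl
    have h2 : (x.1 : G) ∈ W₁ ⊓ W₂ := Subgroup.mem_inf.2
      ⟨x.1.2, by rw [eq_inv_of_mul_eq_one_left h1]; exact W₂.inv_mem x.2.2⟩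
    rw [hdisj, Subgroup.mem_bot] at h2
    rw [h2, one_mul] at h1
    exact Prod.ext (Subtype.ext h2) (Subtype.ext h1)
  · have hle : W₁ ⊔ W₂ ≤ f.range.map (W₁ ⊔ W₂).subtype := by
      refine sup_le (fun a ha => ?_) fun b hb => ?_
      · exact Subgroup.mem_map.2 ⟨f (⟨a, ha⟩, 1), ⟨_, rfl⟩, by simp [hf]⟩
      · exact Subgroup.mem_map.2 ⟨f (1, ⟨b, hb⟩), ⟨_, rfl⟩, by simp [hf]⟩
    intro w
    obtain ⟨y, ⟨x, hx⟩, hy⟩ := Subgroup.mem_map.1 (hle w.2)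
    exact ⟨x, Subtype.ext (by rw [← hy, ← hx]; rfl)⟩

theorem exists_split (hdisj : W₁ ⊓ W₂ = ⊥) (hcomm : ∀ a ∈ W₁, ∀ b ∈ W₂, a * b = b * a) :
    ∃ p₁ p₂, IsWSplit W₁ W₂ p₁ p₂ := by
  obtain ⟨e, he⟩ := exists_prod_equiv hdisj hcomm
  let p₁ : ↥(W₁ ⊔ W₂) →* ↥(W₁ ⊔ W₂) :=
    (Subgroup.inclusion le_sup_left).comp ((MonoidHom.fst _ _).comp e.symm.toMonoidHom)
  let p₂ : ↥(W₁ ⊔ W₂) →* ↥(W₁ ⊔ W₂) :=
    (Subgroup.inclusion le_sup_right).comp ((MonoidHom.snd _ _).comp e.symm.toMonoidHom)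
  have h1 : ∀ w, (p₁ w : G) = ((e.symm w).1 : G) := fun w => rfl
  have h2 : ∀ w, (p₂ w : G) = ((e.symm w).2 : G) := fun w => rfl
  refine ⟨p₁, p₂, fun w => (e.symm w).1.2, fun w => (e.symm w).2.2, fun w => ?_, fun w hw => ?_,
    fun w hw => ?_⟩
  · apply Subtype.ext
    rw [Subgroup.coe_mul, h1, h2, ← he, e.apply_symm_apply]
  · have : e.symm w = (⟨w, hw⟩, 1) := by
      rw [MulEquiv.symm_apply_eq]; apply Subtype.ext; simp [he]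
    exact ⟨Subtype.ext (by rw [h1, this]), Subtype.ext (by rw [h2, this]; rfl)⟩
  · have : e.symm w = (1, ⟨w, hw⟩) := by
      rw [MulEquiv.symm_apply_eq]; apply Subtype.ext; simp [he]
    exact ⟨Subtype.ext (by rw [h2, this]), Subtype.ext (by rw [h1, this]; rfl)⟩

theorem card_sup_eq (hdisj : W₁ ⊓ W₂ = ⊥) (hcomm : ∀ a ∈ W₁, ∀ b ∈ W₂, a * b = b * a) :
    Nat.card ↥(W₁ ⊔ W₂) = Nat.card W₁ * Nat.card W₂ := by
  obtain ⟨e, -⟩ := exists_prod_equiv hdisj hcomm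
  rw [← Nat.card_prod, Nat.card_congr e.toEquiv]

theorem coprime_of_cyclic_sup [Finite G] (hdisj : W₁ ⊓ W₂ = ⊥)
    (hcomm : ∀ a ∈ W₁, ∀ b ∈ W₂, a * b = b * a) (hcyc : IsCyclic ↥(W₁ ⊔ W₂)) :
    Nat.Coprime (Nat.card W₁) (Nat.card W₂) := by
  obtain ⟨e, he⟩ := exists_prod_equiv hdisj hcomm
  obtain ⟨g, hg⟩ := hcyc.exists_generator
  have hord : orderOf g = Nat.card W₁ * Nat.card W₂ := by
    rw [orderOf_eq_card_of_forall_mem_zpowers hg, card_sup_eq hdisj hcomm]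
  have h1 : g ^ Nat.lcm (Nat.card W₁) (Nat.card W₂) = 1 := by
    obtain ⟨x, rfl⟩ := e.surjective g
    rw [← map_pow]
    have : x ^ Nat.lcm (Nat.card W₁) (Nat.card W₂) = 1 := by
      refine Prod.ext ?_ ?_
      · exact orderOf_dvd_iff_pow_eq_one.1 ((orderOf_dvd_natCard x.1).trans (Nat.dvd_lcm_left _ _))
      · exact orderOf_dvd_iff_pow_eq_one.1 ((orderOf_dvd_natCard x.2).trans (Nat.dvd_lcm_right _ _))
    rw [this, map_one]
  have h2 := orderOf_dvd_of_pow_eq_one h1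
  rw [hord, ← Nat.gcd_mul_lcm (Nat.card W₁) (Nat.card W₂)] at h2
  have hpos : 0 < Nat.lcm (Nat.card W₁) (Nat.card W₂) := Nat.pos_of_ne_zero (by simp [Nat.card_pos.ne'])
  have h3 : Nat.gcd (Nat.card W₁) (Nat.card W₂) * Nat.lcm (Nat.card W₁) (Nat.card W₂) ∣
      1 * Nat.lcm (Nat.card W₁) (Nat.card W₂) := by rwa [one_mul]
  exact Nat.dvd_one.1 (Nat.dvd_of_mul_dvd_mul_right hpos h3)

/-- Sums of the values of linear characters of a commutative group. -/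
theorem sum_hom_conj_mul {H : Type u} [Group H] [Finite H] [Fintype (H →* ℂˣ)] [DecidableEq H]
    (hcomm : ∀ a b : H, a * b = b * a) (v x : H) :
    ∑ ω : H →* ℂˣ, conj ((ω v : ℂˣ) : ℂ) * (ω x : ℂ) =
      if v = x then (Fintype.card (H →* ℂˣ) : ℂ) else 0 := by
  have hterm : ∀ ω : H →* ℂˣ, conj ((ω v : ℂˣ) : ℂ) * (ω x : ℂ) = (ω (v⁻¹ * x) : ℂ) := fun ω => by
    rw [map_mul, map_inv, Units.val_mul, Units.val_inv_eq_inv_val]
    have := IsCharacter.apply_inv (isCharacter_ofHom ω) v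
    rw [← this, map_inv, Units.val_inv_eq_inv_val]
  simp only [hterm]
  split_ifs with h
  · subst h; simp
  have hne : v⁻¹ * x ∉ commutator H := by
    have hbot : commutator H = ⊥ := by
      rw [commutator_def, Subgroup.commutator_eq_bot_iff_le_centralizer]
      intro a _
      rw [Subgroup.mem_centralizer_iff]
      exact fun b _ => hcomm b a
    rw [hbot, Subgroup.mem_bot, inv_mul_eq_one]
    exact h
  obtain ⟨lam, hlam⟩ := exists_hom_ne_one hne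
  have hshift : ∑ ω : H →* ℂˣ, (ω (v⁻¹ * x) : ℂ) =
      (lam (v⁻¹ * x) : ℂ) * ∑ ω : H →* ℂˣ, (ω (v⁻¹ * x) : ℂ) := by
    rw [Finset.mul_sum]
    refine (Fintype.sum_equiv (Equiv.mulLeft lam) _ _ fun ω => ?_).symm
    simp
  have hne1 : (lam (v⁻¹ * x) : ℂ) - 1 ≠ 0 := sub_ne_zero.2 fun he => hlam (Units.ext he)
  exact (mul_eq_zero.1 (by rw [sub_mul, one_mul, ← hshift, sub_self] :
    ((lam (v⁻¹ * x) : ℂ) - 1) * ∑ ω : H →* ℂˣ, (ω (v⁻¹ * x) : ℂ) = 0)).resolve_left hne1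

theorem IsWSplit.hom_mul {p₁ p₂ : ↥(W₁ ⊔ W₂) →* ↥(W₁ ⊔ W₂)} (hp : IsWSplit W₁ W₂ p₁ p₂)
    (ω : ↥(W₁ ⊔ W₂) →* ℂˣ) : ω.comp p₁ * ω.comp p₂ = ω :=
  MonoidHom.ext fun w => by
    rw [MonoidHom.mul_apply, MonoidHom.comp_apply, MonoidHom.comp_apply, ← map_mul, hp.mul]

theorem IsWSplit.comp₁_trivial {p₁ p₂ : ↥(W₁ ⊔ W₂) →* ↥(W₁ ⊔ W₂)} (hp : IsWSplit W₁ W₂ p₁ p₂)
    (ω : ↥(W₁ ⊔ W₂) →* ℂˣ) : ∀ w : ↥(W₁ ⊔ W₂), (w : G) ∈ W₂ → ω.comp p₁ w = 1 := fun w hw => by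
  rw [MonoidHom.comp_apply, (hp.fix₂ w hw).2, map_one]

theorem IsWSplit.comp₂_trivial {p₁ p₂ : ↥(W₁ ⊔ W₂) →* ↥(W₁ ⊔ W₂)} (hp : IsWSplit W₁ W₂ p₁ p₂)
    (ω : ↥(W₁ ⊔ W₂) →* ℂˣ) : ∀ w : ↥(W₁ ⊔ W₂), (w : G) ∈ W₁ → ω.comp p₂ w = 1 := fun w hw => by
  rw [MonoidHom.comp_apply, (hp.fix₁ w hw).2, map_one]

/-- A function orthogonal to all `(1 - φ)(1 - ψ)` vanishes outside `W₁ ∪ W₂`. -/
theorem eq_zero_of_orth_betaFun [Finite G] [Fintype ↥(W₁ ⊔ W₂)]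
    (hc : ∀ a b : ↥(W₁ ⊔ W₂), a * b = b * a) {p₁ p₂ : ↥(W₁ ⊔ W₂) →* ↥(W₁ ⊔ W₂)}
    (hp : IsWSplit W₁ W₂ p₁ p₂) {f : ↥(W₁ ⊔ W₂) → ℂ}
    (horth : ∀ φ ψ : ↥(W₁ ⊔ W₂) →* ℂˣ, (∀ w : ↥(W₁ ⊔ W₂), (w : G) ∈ W₂ → φ w = 1) →
      (∀ w : ↥(W₁ ⊔ W₂), (w : G) ∈ W₁ → ψ w = 1) → Cfsg.classInner (betaFun φ ψ) f = 0)
    {v : ↥(W₁ ⊔ W₂)} (hv₁ : (v : G) ∉ W₁) (hv₂ : (v : G) ∉ W₂) : f v = 0 := by
  classical
  have := Fintype.ofFinite (↥(W₁ ⊔ W₂) →* ℂˣ)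
  set N : ℂ := (Fintype.card (↥(W₁ ⊔ W₂) →* ℂˣ) : ℂ)
  have hN : N ≠ 0 := Nat.cast_ne_zero.2 Fintype.card_ne_zero
  have hsum : ∑ ω : ↥(W₁ ⊔ W₂) →* ℂˣ, conj ((ω v : ℂˣ) : ℂ) • betaFun (ω.comp p₁) (ω.comp p₂) =
      fun x => if v = x then N else 0 := by
    funext x
    simp only [Finset.sum_apply, Pi.smul_apply, smul_eq_mul, betaFun, MonoidHom.comp_apply]
    have e : ∀ ω : ↥(W₁ ⊔ W₂) →* ℂˣ, (ω (p₁ x) : ℂ) * (ω (p₂ x) : ℂ) = (ω x : ℂ) := fun ω => by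
      rw [← Units.val_mul, ← map_mul, hp.mul]
    simp only [e, mul_add, mul_sub, mul_one, Finset.sum_add_distrib, Finset.sum_sub_distrib,
      sum_hom_conj_mul hc]
    have h0 := sum_hom_conj_mul hc v 1
    simp only [map_one, Units.val_one, mul_one] at h0
    rw [h0, if_neg (fun h => hv₁ (by rw [h]; exact W₁.one_mem)),
      if_neg (fun h => hv₁ (by rw [h]; exact hp.mem₁ x)),
      if_neg (fun h => hv₂ (by rw [h]; exact hp.mem₂ x))]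
    simp [N]
  have h1 : Cfsg.classInner (fun x => if v = x then N else 0) f = 0 := by
    rw [← hsum, classInner_sum_left]
    exact Finset.sum_eq_zero fun ω _ => by
      rw [classInner_smul_left, horth _ _ (hp.comp₁_trivial ω) (hp.comp₂_trivial ω), mul_zero]
  rw [classInner_def, mul_eq_zero] at h1
  have h2 := h1.resolve_left (by simp)
  simp only [ite_mul, zero_mul] at h2
  rw [Finset.sum_ite_eq, if_pos (Finset.mem_univ v), mul_eq_zero] at h2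
  simpa using h2.resolve_left hN

/-- A function orthogonal to all `ω - ψ`, with `ψ` the part of `ω` trivial on `W₁`, vanishes
outside `W₂`. -/
theorem eq_zero_of_orth_diff [Finite G] [Fintype ↥(W₁ ⊔ W₂)]
    (hc : ∀ a b : ↥(W₁ ⊔ W₂), a * b = b * a) {p₁ p₂ : ↥(W₁ ⊔ W₂) →* ↥(W₁ ⊔ W₂)}
    (hp : IsWSplit W₁ W₂ p₁ p₂) {f : ↥(W₁ ⊔ W₂) → ℂ}
    (horth : ∀ ω ω' : ↥(W₁ ⊔ W₂) →* ℂˣ, (∀ w : ↥(W₁ ⊔ W₂), (w : G) ∈ W₂ → ω w = ω' w) →
      Cfsg.classInner (fun w => (ω w : ℂ) - (ω' w : ℂ)) f = 0)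
    {v : ↥(W₁ ⊔ W₂)} (hv₂ : (v : G) ∉ W₂) : f v = 0 := by
  classical
  have := Fintype.ofFinite (↥(W₁ ⊔ W₂) →* ℂˣ)
  set N : ℂ := (Fintype.card (↥(W₁ ⊔ W₂) →* ℂˣ) : ℂ)
  have hN : N ≠ 0 := Nat.cast_ne_zero.2 Fintype.card_ne_zero
  have hsum : ∑ ω : ↥(W₁ ⊔ W₂) →* ℂˣ, conj ((ω v : ℂˣ) : ℂ) •
      (fun w => (ω w : ℂ) - ((ω.comp p₂) w : ℂ)) = fun x => if v = x then N else 0 := by
    funext x
    simp only [Finset.sum_apply, Pi.smul_apply, smul_eq_mul, MonoidHom.comp_apply, mul_sub,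
      Finset.sum_sub_distrib, sum_hom_conj_mul hc]
    rw [if_neg (fun h : v = p₂ x => hv₂ (by rw [h]; exact hp.mem₂ x)), sub_zero]
  have h1 : Cfsg.classInner (fun x => if v = x then N else 0) f = 0 := by
    rw [← hsum, classInner_sum_left]
    exact Finset.sum_eq_zero fun ω _ => by
      rw [classInner_smul_left, horth _ _ (fun w hw => by
        rw [MonoidHom.comp_apply, (hp.fix₂ w hw).1]), mul_zero]
  rw [classInner_def, mul_eq_zero] at h1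
  have h2 := h1.resolve_left (by simp)
  simp only [ite_mul, zero_mul] at h2
  rw [Finset.sum_ite_eq, if_pos (Finset.mem_univ v), mul_eq_zero] at h2
  simpa using h2.resolve_left hN

/-- The number of linear characters of `W` trivial on `W₂`. -/
theorem card_trivial_on_right [Finite G] (hdisj : W₁ ⊓ W₂ = ⊥)
    (hcomm : ∀ a ∈ W₁, ∀ b ∈ W₂, a * b = b * a) (hW₁ : ∀ a b : W₁, a * b = b * a) :
    Nat.card {φ : ↥(W₁ ⊔ W₂) →* ℂˣ // ∀ w : ↥(W₁ ⊔ W₂), (w : G) ∈ W₂ → φ w = 1} =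
      Nat.card W₁ := by
  obtain ⟨e, he⟩ := exists_prod_equiv hdisj hcomm
  let i : ↥W₁ →* ↥(W₁ ⊔ W₂) := Subgroup.inclusion le_sup_left
  have hfst : ∀ a : W₁, e.symm (i a) = (a, 1) := fun a => by
    rw [MulEquiv.symm_apply_eq]; apply Subtype.ext; simp [he, i]
  let F : {φ : ↥(W₁ ⊔ W₂) →* ℂˣ // ∀ w : ↥(W₁ ⊔ W₂), (w : G) ∈ W₂ → φ w = 1} ≃ (↥W₁ →* ℂˣ) :=
    { toFun := fun φ => φ.1.comp i
      invFun := fun lam => ⟨lam.comp ((MonoidHom.fst _ _).comp e.symm.toMonoidHom), fun w hw => by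
        have : e.symm w = (1, ⟨w, hw⟩) := by
          rw [MulEquiv.symm_apply_eq]; apply Subtype.ext; simp [he]
        simp [this]⟩
      left_inv := fun φ => Subtype.ext (MonoidHom.ext fun w => by
        have hw : w = i (e.symm w).1 * ⟨((e.symm w).2 : G), le_sup_right (a := W₁) (e.symm w).2.2⟩ :=
          Subtype.ext (by
            conv_lhs => rw [← e.apply_symm_apply w]
            rw [he]; rfl)
        conv_rhs => rw [hw, map_mul, φ.2 ⟨_, le_sup_right (a := W₁) (e.symm w).2.2⟩ (e.symm w).2.2,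
          mul_one]
        rfl)
      right_inv := fun lam => MonoidHom.ext fun a => by simp [hfst] }
  rw [Nat.card_congr F, card_hom_eq_index_commutator]
  have hbot : commutator ↥W₁ = ⊥ := by
    rw [commutator_def, Subgroup.commutator_eq_bot_iff_le_centralizer]
    intro a _
    rw [Subgroup.mem_centralizer_iff]
    exact fun b _ => hW₁ b a
  rw [hbot, Subgroup.index_bot]

theorem normalizer_singleton_iff {v g : G} :
    g ∈ Subgroup.normalizer ({v} : Set G) ↔ g * v * g⁻¹ = v := by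
  constructor
  · intro h
    simpa using (Subgroup.mem_set_normalizer_iff.1 h v).1 rfl
  · intro h
    refine Subgroup.mem_set_normalizer_iff.2 fun x => ?_
    simp only [Set.mem_singleton_iff]
    constructor
    · rintro rfl; exact h
    · intro hx
      calc x = g⁻¹ * (g * x * g⁻¹) * g := by group
        _ = g⁻¹ * (g * v * g⁻¹) * g := by rw [hx, h]
        _ = v := by group

/-- The elements of `W` outside `W₁ ∪ W₂` form a TI set with normaliser `W`. -/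
theorem selfNormalizing_TI [Finite G] (hW : Cfsg.IsSelfNormalizingCyclic W₁ W₂) :
    ∀ g : G, g ∉ W₁ ⊔ W₂ → ∀ t ∈ (↑(W₁ ⊔ W₂) : Set G) \ (↑W₁ ∪ ↑W₂),
      g * t * g⁻¹ ∈ (↑(W₁ ⊔ W₂) : Set G) \ (↑W₁ ∪ ↑W₂) → t = 1 := by
  obtain ⟨-, -, hdisj, hcomm, hcyc, hN⟩ := hW
  intro g hg t ht hgt
  exfalso
  let _ : CommGroup ↥(W₁ ⊔ W₂) := IsCyclic.commGroup
  have hcy : ∀ a ∈ W₁ ⊔ W₂, ∀ b ∈ W₁ ⊔ W₂, a * b = b * a := fun a ha b hb =>
    congrArg Subtype.val (mul_comm (⟨a, ha⟩ : ↥(W₁ ⊔ W₂)) ⟨b, hb⟩)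
  have hN1 := hN {g * t * g⁻¹} (Set.singleton_subset_iff.2 hgt) (Set.singleton_nonempty _)
  have hconj : ∀ w ∈ W₁ ⊔ W₂, g * w * g⁻¹ ∈ W₁ ⊔ W₂ := fun w hw => by
    have hmem : g * w * g⁻¹ ∈ Subgroup.normalizer ({g * t * g⁻¹} : Set G) := by
      rw [normalizer_singleton_iff]
      calc g * w * g⁻¹ * (g * t * g⁻¹) * (g * w * g⁻¹)⁻¹ = g * (w * t) * w⁻¹ * g⁻¹ := by group
        _ = g * t * g⁻¹ := by rw [hcy w hw t ht.1]; group
    rw [hN1] at hmem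
    exact hmem
  have hcop := coprime_of_cyclic_sup hdisj hcomm hcyc
  obtain ⟨p₁, p₂, hp⟩ := exists_split hdisj hcomm
  have hchar₁ : ∀ x ∈ W₁ ⊔ W₂, x ^ Nat.card W₁ = 1 ↔ x ∈ W₁ := fun x hx => by
    constructor
    · intro h
      have h2 : p₂ ⟨x, hx⟩ = 1 := by
        rw [← orderOf_eq_one_iff]
        refine Nat.eq_one_of_dvd_coprimes hcop
          ((orderOf_map_dvd p₂ _).trans (orderOf_dvd_of_pow_eq_one (Subtype.ext (by simpa using h)))) ?_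
        rw [← Subgroup.orderOf_coe, show ((p₂ ⟨x, hx⟩ : G)) = ((⟨_, hp.mem₂ ⟨x, hx⟩⟩ : W₂) : G) from rfl,
          Subgroup.orderOf_coe]
        exact orderOf_dvd_natCard _
      have h3 := hp.mul ⟨x, hx⟩
      rw [h2, mul_one] at h3
      have := hp.mem₁ ⟨x, hx⟩
      rw [h3] at this; exact this
    · exact fun h => congrArg Subtype.val (pow_card_eq_one' (x := (⟨x, h⟩ : W₁)))
  have hchar₂ : ∀ x ∈ W₁ ⊔ W₂, x ^ Nat.card W₂ = 1 ↔ x ∈ W₂ := fun x hx => by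
    constructor
    · intro h
      have h2 : p₁ ⟨x, hx⟩ = 1 := by
        rw [← orderOf_eq_one_iff]
        refine Nat.eq_one_of_dvd_coprimes hcop.symm
          ((orderOf_map_dvd p₁ _).trans (orderOf_dvd_of_pow_eq_one (Subtype.ext (by simpa using h)))) ?_
        rw [← Subgroup.orderOf_coe, show ((p₁ ⟨x, hx⟩ : G)) = ((⟨_, hp.mem₁ ⟨x, hx⟩⟩ : W₁) : G) from rfl,
          Subgroup.orderOf_coe]
        exact orderOf_dvd_natCard _
      have h3 := hp.mul ⟨x, hx⟩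
      rw [h2, one_mul] at h3
      have := hp.mem₂ ⟨x, hx⟩
      rw [h3] at this; exact this
    · exact fun h => congrArg Subtype.val (pow_card_eq_one' (x := (⟨x, h⟩ : W₂)))
  set V := (↑(W₁ ⊔ W₂) : Set G) \ (↑W₁ ∪ ↑W₂)
  have hV : ∀ x ∈ V, g * x * g⁻¹ ∈ V := by
    rintro x ⟨hx, hx'⟩
    refine ⟨hconj x hx, fun h => hx' (h.imp (fun h1 => (hchar₁ x hx).1 ?_) fun h1 => (hchar₂ x hx).1 ?_)⟩
    · have := (hchar₁ _ (hconj x hx)).2 h1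
      rwa [conj_pow, mul_inv_eq_one, mul_eq_left] at this
    · have := (hchar₂ _ (hconj x hx)).2 h1
      rwa [conj_pow, mul_inv_eq_one, mul_eq_left] at this
  refine hg (hN V subset_rfl ⟨t, ht⟩ ▸ ?_)
  refine Subgroup.mem_set_normalizer_iff.2 fun x => ⟨hV x, fun hx => ?_⟩
  have hfin : V.Finite := Set.toFinite _
  have hinj : Set.InjOn (fun y => g * y * g⁻¹) V := fun a _ b _ h => by
    simpa using h
  have hsurj := (hfin.injOn_iff_bijOn_of_mapsTo (fun y hy => hV y hy)).1 hinj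
  obtain ⟨y, hy, hyx⟩ := hsurj.surjOn hx
  have : y = x := by simpa using hyx
  exact this ▸ hy

end CfsgLib.Char
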