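import Cfsg.Agent.Char.TwoDegrees
import Cfsg.Agent.Char.CenterValues
import Cfsg.Agent.Char.NormalSub
import Mathlib.RingTheory.RootsOfUnity.Complex

/-!
# Character degrees `1` and `p`
-/

set_option autoImplicit false
set_option linter.style.haveILetI false
set_option linter.unusedSectionVars false

namespace CfsgLib.Char.DegreesPrime

open Finset
open scoped ComplexConjugate commutatorElement

universe u v

section dual

variable {M : Type v} [CommGroup M] {p : ℕ} [Fact p.Prime]

theorem pow_apply_eq (T : MulAut M) {x c : M} (hc : T c = c) (hx : T x = x * c) (n : ℕ) :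
    (T ^ n) x = x * c ^ n := by
  induction n with
  | zero => simp
  | succ n ih =>
    rw [pow_succ', MulAut.mul_apply, ih, map_mul, map_pow, hc, hx, pow_succ', mul_assoc]

theorem exists_inv (T : MulAut M) (hT : T ^ p = 1) {a : ℕ} (ha : ¬ p ∣ a) :
    ∃ k : ℕ, (T ^ a) ^ k = T := by
  have hp : p.Prime := Fact.out
  obtain ⟨k, -, hk⟩ := Nat.exists_mul_mod_eq_one_of_coprime
    ((hp.coprime_iff_not_dvd.2 ha).symm) hp.one_lt
  exact ⟨k, by rw [← pow_mul, pow_eq_pow_mod _ hT, hk, pow_one]⟩

theorem pow_fix (T : MulAut M) {z : M} (hz : T z = z) (n : ℕ) : (T ^ n) z = z := by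
  induction n with
  | zero => rfl
  | succ n ih => rw [pow_succ, MulAut.mul_apply, hz, ih]

theorem pair {T S : MulAut M} (hc : Commute T S) (hT : T ^ p = 1) (hS : S ^ p = 1)
    (hcov : ∀ z : M, ∃ a b : ℕ, ¬ (p ∣ a ∧ p ∣ b) ∧ (T ^ a) ((S ^ b) z) = z)
    {x y : M} (hTx : T x = x) (hSx : S x ≠ x) (hSy : S y = y) (hTy : T y ≠ y) :
    (S x / x) ^ p = 1 ∧ T y / y ∈ Subgroup.zpowers (S x / x) := by
  obtain ⟨a, b, hab, hz⟩ := hcov (x * y)
  have hcm : ∀ (i j : ℕ) (z : M), (T ^ i) ((S ^ j) z) = (S ^ j) ((T ^ i) z) := fun i j z => by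
    rw [← MulAut.mul_apply, (hc.pow_pow i j).eq, MulAut.mul_apply]
  have heq : (S ^ b) x * (T ^ a) y = x * y := by
    rw [map_mul, map_mul, hcm a b x, pow_fix T hTx, pow_fix S hSy] at hz
    exact hz
  have hb : ¬ p ∣ b := fun h => by
    obtain ⟨b', rfl⟩ := h
    rw [pow_mul, hS, one_pow, MulAut.one_apply, mul_left_cancel_iff] at heq
    obtain ⟨k, hk⟩ := exists_inv T hT (fun ha => hab ⟨ha, dvd_mul_right p b'⟩)
    exact hTy (by rw [← hk]; exact pow_fix _ heq k)
  obtain ⟨d, hd⟩ : ∃ d, (S ^ b) x / x = d := ⟨_, rfl⟩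
  have hd' : d = y / (T ^ a) y := by
    rw [← hd, div_eq_div_iff_mul_eq_mul, heq, mul_comm]
  have hTd : T d = d := by
    rw [← hd, map_div, show T ((S ^ b) x) = (S ^ b) x by
      have h1 := hcm 1 b x
      rwa [pow_one, hTx] at h1, hTx]
  have hSd : S d = d := by
    rw [hd', map_div, hSy, show S ((T ^ a) y) = (T ^ a) y by
      have h1 := hcm a 1 y
      rw [pow_one, hSy] at h1
      exact h1.symm]
  obtain ⟨k, hk⟩ := exists_inv S hS hb
  have hSx' : S x = x * d ^ k := by
    have h1 := pow_apply_eq (S ^ b) (pow_fix S hSd b) (show (S ^ b) x = x * d by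
      rw [← hd, mul_div_cancel]) k
    rwa [hk] at h1
  have hSc : S (d ^ k) = d ^ k := by rw [map_pow, hSd]
  have hTc : T (d ^ k) = d ^ k := by rw [map_pow, hTd]
  rw [hSx', mul_div_cancel_left]
  refine ⟨?_, ?_⟩
  · have h1 := pow_apply_eq S hSc hSx' p
    rw [hS, MulAut.one_apply] at h1
    exact left_eq_mul.1 h1
  have hdk : d = (d ^ k) ^ b := by
    have h1 := pow_apply_eq S hSc hSx' b
    refine hd.symm.trans ?_
    rw [h1, mul_div_cancel_left]
  have ha : ¬ p ∣ a := fun h => by
    obtain ⟨a', rfl⟩ := h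
    rw [pow_mul, hT, one_pow, MulAut.one_apply, mul_right_cancel_iff] at heq
    exact hSx (by rw [← hk]; exact pow_fix _ heq k)
  obtain ⟨j, hj⟩ := exists_inv T hT ha
  have hTy' : (T ^ a) y = y * d⁻¹ := by
    rw [hd', inv_div, mul_div_cancel]
  have h2 := pow_apply_eq (T ^ a) (pow_fix T (by rw [map_inv, hTd]) a) hTy' j
  rw [hj] at h2
  rw [h2, mul_div_cancel_left]
  refine Subgroup.pow_mem _ (Subgroup.inv_mem _ ?_) j
  exact Subgroup.mem_zpowers_iff.2 ⟨(b : ℤ), (zpow_natCast _ b).trans hdk.symm⟩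

/-- A group of order `p ^ 2` of automorphisms in which every element has a nontrivial fixer
moves everything by a single subgroup of order `p`. -/
theorem exists_generator (Q : Subgroup (MulAut M)) [Finite Q]
    (hab : ∀ a ∈ Q, ∀ b ∈ Q, a * b = b * a) (hQ : Nat.card Q = p ^ 2)
    (hcov : ∀ x : M, ∃ q ∈ Q, q ≠ 1 ∧ q x = x) :
    ∃ c : M, c ^ p = 1 ∧ ∀ q ∈ Q, ∀ x : M, q x / x ∈ Subgroup.zpowers c := by
  have hp : p.Prime := Fact.out
  have hcov' : ∀ x : M, ∃ q ∈ Q, orderOf q = p ∧ q x = x := by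
    intro x
    obtain ⟨q, hq, hq1, hqx⟩ := hcov x
    have hdvd : orderOf q ∣ p ^ 2 := hQ ▸ ((Subgroup.orderOf_mk q hq) ▸ orderOf_dvd_natCard (⟨q, hq⟩ : Q))
    obtain ⟨i, hi, hqi⟩ := (Nat.dvd_prime_pow hp).1 hdvd
    obtain rfl | rfl | rfl : i = 0 ∨ i = 1 ∨ i = 2 := by omega
    · exact absurd (orderOf_eq_one_iff.1 (by rw [hqi, pow_zero])) hq1
    · exact ⟨q, hq, by rw [hqi, pow_one], hqx⟩
    · refine ⟨q ^ p, Q.pow_mem hq p, ?_, pow_fix q hqx p⟩
      rw [orderOf_pow' q hp.pos.ne', hqi, Nat.gcd_eq_right (dvd_pow_self p two_ne_zero), sq,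
        Nat.mul_div_cancel _ hp.pos]
  have hgen : ∀ t ∈ Q, ∀ s ∈ Q, orderOf t = p → orderOf s = p → s ∉ Subgroup.zpowers t →
      ∀ q ∈ Q, ∃ a b : ℕ, q = t ^ a * s ^ b := by
    intro t ht s hs hto hso hst q hq
    let f : Subgroup.zpowers t × Subgroup.zpowers s → Q := fun z =>
      ⟨(z.1 : MulAut M) * z.2, Q.mul_mem (Subgroup.zpowers_le.2 ht z.1.2)
        (Subgroup.zpowers_le.2 hs z.2.2)⟩
    have hf : Function.Injective f := by
      have hdisj : Disjoint (Subgroup.zpowers t) (Subgroup.zpowers s) := by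
        rw [disjoint_iff_inf_le]
        rintro z ⟨hz1, hz2⟩
        by_contra hz0
        apply hst
        haveI : Fact (Nat.card (Subgroup.zpowers s)).Prime := ⟨by rwa [Nat.card_zpowers, hso]⟩
        have htop : Subgroup.zpowers (⟨z, hz2⟩ : Subgroup.zpowers s) = ⊤ :=
          (Subgroup.eq_bot_or_eq_top_of_prime_card _).resolve_left fun h => hz0
            (Subgroup.mem_bot.2 (congrArg Subtype.val (Subgroup.zpowers_eq_bot.1 h)))
        obtain ⟨i, hi⟩ := Subgroup.mem_zpowers_iff.1
          (htop ▸ Subgroup.mem_top (⟨s, Subgroup.mem_zpowers s⟩ : Subgroup.zpowers s))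
        have := congrArg Subtype.val hi
        simp only [Subgroup.coe_zpow] at this
        exact this ▸ Subgroup.zpow_mem _ hz1 i
      exact fun z w h => Subgroup.mul_injective_of_disjoint hdisj (congrArg Subtype.val h)
    haveI : Finite (Subgroup.zpowers t) := Nat.finite_of_card_ne_zero (by
      rw [Nat.card_zpowers, hto]; exact hp.pos.ne')
    haveI : Finite (Subgroup.zpowers s) := Nat.finite_of_card_ne_zero (by
      rw [Nat.card_zpowers, hso]; exact hp.pos.ne')
    obtain ⟨⟨⟨z, hz⟩, ⟨w, hw⟩⟩, hzw⟩ := (hf.bijective_of_nat_card_le (by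
      rw [Nat.card_prod, Nat.card_zpowers, Nat.card_zpowers, hto, hso, hQ, sq])).2 ⟨q, hq⟩
    obtain ⟨a, rfl⟩ := (orderOf_pos_iff.1 (hto ▸ hp.pos)).mem_powers_iff_mem_zpowers.2 hz
    obtain ⟨b, rfl⟩ := (orderOf_pos_iff.1 (hso ▸ hp.pos)).mem_powers_iff_mem_zpowers.2 hw
    exact ⟨a, b, (congrArg Subtype.val hzw).symm⟩
  have hpow : ∀ q : MulAut M, orderOf q = p → q ^ p = 1 := fun q h => h ▸ pow_orderOf_eq_one q
  have hnmem : ∀ t s : MulAut M, ∀ x : M, t x = x → s x ≠ x → s ∉ Subgroup.zpowers t := by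
    intro t s x htx hsx h
    have hstab : Subgroup.zpowers t ≤ MulAction.stabilizer (MulAut M) x :=
      Subgroup.zpowers_le.2 htx
    exact hsx (hstab h)
  have hcover : ∀ t ∈ Q, ∀ s ∈ Q, orderOf t = p → orderOf s = p → s ∉ Subgroup.zpowers t →
      ∀ z : M, ∃ a b : ℕ, ¬ (p ∣ a ∧ p ∣ b) ∧ (t ^ a) ((s ^ b) z) = z := by
    intro t ht s hs hto hso hst z
    obtain ⟨q, hq, hqo, hqz⟩ := hcov' z
    obtain ⟨a, b, rfl⟩ := hgen t ht s hs hto hso hst q hq
    refine ⟨a, b, fun h => ?_, by rwa [← MulAut.mul_apply]⟩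
    obtain ⟨⟨a', rfl⟩, ⟨b', rfl⟩⟩ := h
    rw [pow_mul, pow_mul, hpow t hto, hpow s hso, one_pow, one_pow, one_mul, orderOf_one] at hqo
    exact hp.one_lt.ne hqo
  -- a nontrivial fixer of a moved element
  obtain ⟨t0, ht0, ht0o, -⟩ := hcov' 1
  obtain ⟨x, hx⟩ : ∃ x, t0 x ≠ x := by
    by_contra h
    push Not at h
    rw [show t0 = 1 from MulEquiv.ext h, orderOf_one] at ht0o
    exact hp.one_lt.ne ht0o
  obtain ⟨t, ht, hto, htx⟩ := hcov' x
  obtain ⟨y, hty⟩ : ∃ y, t y ≠ y := by
    by_contra h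
    push Not at h
    rw [show t = 1 from MulEquiv.ext h, orderOf_one] at hto
    exact hp.one_lt.ne hto
  obtain ⟨s, hs, hso, hsy⟩ := hcov' y
  have hts : t ∉ Subgroup.zpowers s := hnmem s t y hsy hty
  have hmove : ∀ u ∈ Q, orderOf u = p → u ∉ Subgroup.zpowers t → u x ≠ x := by
    intro u hu huo hut hux
    obtain ⟨a, b, rfl⟩ := hgen t ht u hu hto huo hut t0 ht0
    exact hx (by rw [MulAut.mul_apply, pow_fix u hux, pow_fix t htx])
  have hst : s ∉ Subgroup.zpowers t := by
    intro h
    apply hts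
    haveI : Finite (Subgroup.zpowers t) := Nat.finite_of_card_ne_zero (by
      rw [Nat.card_zpowers, hto]; exact hp.pos.ne')
    rw [show Subgroup.zpowers s = Subgroup.zpowers t from
      Subgroup.eq_of_le_of_card_ge (Subgroup.zpowers_le.2 h)
        (by rw [Nat.card_zpowers, Nat.card_zpowers, hto, hso])]
    exact Subgroup.mem_zpowers t
  have hsx : s x ≠ x := hmove s hs hso hst
  have hcts := hcover t ht s hs hto hso hst
  have hmain := pair (hab t ht s hs) (hpow t hto) (hpow s hso) hcts htx hsx hsy hty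
  obtain ⟨c, hc⟩ : ∃ c, s x / x = c := ⟨_, rfl⟩
  rw [hc] at hmain
  refine ⟨c, hmain.1, ?_⟩
  obtain ⟨hcp, hty'⟩ := hmain
  -- elements fixed by `t`
  have hfixed : ∀ z : M, t z = z → s z / z ∈ Subgroup.zpowers c := by
    intro z htz
    by_cases hsz : s z = z
    · rw [hsz, div_self']; exact Subgroup.one_mem _
    obtain ⟨h1, h2⟩ := pair (hab t ht s hs) (hpow t hto) (hpow s hso) hcts htz hsz hsy hty
    -- both generate the group generated by the displacement of `y`
    have hne : t y / y ≠ 1 := fun h => hty (div_eq_one.1 h)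
    have horder : ∀ e : M, e ^ p = 1 → t y / y ∈ Subgroup.zpowers e →
        Subgroup.zpowers (t y / y) = Subgroup.zpowers e := by
      intro e he hmem
      have he1 : e ≠ 1 := fun h => hne (by
        rw [h, Subgroup.zpowers_one_eq_bot, Subgroup.mem_bot] at hmem
        exact hmem)
      have hop : orderOf e = p := orderOf_eq_prime he he1
      haveI : Finite (Subgroup.zpowers e) := Nat.finite_of_card_ne_zero (by
        rw [Nat.card_zpowers, hop]; exact hp.pos.ne')
      obtain ⟨i, hi⟩ := (Nat.dvd_prime hp).1 (hop ▸ Nat.card_zpowers e ▸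
        Subgroup.card_dvd_of_le (Subgroup.zpowers_le.2 hmem)) |>.imp id id |>.elim
          (fun h => absurd (Subgroup.zpowers_eq_bot.1 (Subgroup.card_eq_one.1 h)) hne)
          (fun h => (⟨0, h⟩ : ∃ _ : ℕ, Nat.card (Subgroup.zpowers (t y / y)) = p))
      exact Subgroup.eq_of_le_of_card_ge (Subgroup.zpowers_le.2 hmem)
        (by rw [hi, Nat.card_zpowers, hop])
    rw [← horder c hcp hty', horder _ h1 h2]
    exact Subgroup.mem_zpowers _
  intro q hq z
  have key : ∀ u : MulAut M, ∀ w : M, u w / w ∈ Subgroup.zpowers c →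
      (∀ v ∈ Subgroup.zpowers c, u v = v) → ∀ n : ℕ, (u ^ n) w / w ∈ Subgroup.zpowers c := by
    intro u w h hv n
    rw [pow_apply_eq u (hv _ h) (mul_div_cancel w (u w)).symm, mul_div_cancel_left]
    exact Subgroup.pow_mem _ h n
  have hfixc : ∀ u ∈ Q, u c = c := by
    intro u hu
    obtain ⟨a, b, rfl⟩ := hgen t ht s hs hto hso hst u hu
    have hTc : t c = c := by
      rw [← hc, map_div, show t (s x) = s x by
        rw [← MulAut.mul_apply, hab t ht s hs, MulAut.mul_apply, htx], htx]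
    have hSc : s c = c := by
      obtain ⟨i, hi⟩ := Subgroup.mem_zpowers_iff.1 hty'
      have h1 : s (t y / y) = t y / y := by
        rw [map_div, ← MulAut.mul_apply, ← hab t ht s hs, MulAut.mul_apply, hsy]
      have hc1 : c ≠ 1 := fun h => hsx (div_eq_one.1 (hc.trans h))
      haveI : Fact (Nat.card (Subgroup.zpowers c)).Prime :=
        ⟨by rwa [Nat.card_zpowers, orderOf_eq_prime hcp hc1]⟩
      have htop : Subgroup.zpowers (⟨t y / y, hty'⟩ : Subgroup.zpowers c) = ⊤ :=
        (Subgroup.eq_bot_or_eq_top_of_prime_card _).resolve_left fun h => hty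
          (div_eq_one.1 (congrArg Subtype.val (Subgroup.zpowers_eq_bot.1 h)))
      obtain ⟨j, hj⟩ := Subgroup.mem_zpowers_iff.1
        (htop ▸ Subgroup.mem_top (⟨c, Subgroup.mem_zpowers c⟩ : Subgroup.zpowers c))
      have hj' := congrArg Subtype.val hj
      simp only [Subgroup.coe_zpow] at hj'
      rw [← hj', map_zpow, h1]
    rw [MulAut.mul_apply, pow_fix s hSc, pow_fix t hTc]
  have hfixz : ∀ u ∈ Q, ∀ v ∈ Subgroup.zpowers c, u v = v := by
    intro u hu v hv
    obtain ⟨i, rfl⟩ := Subgroup.mem_zpowers_iff.1 hv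
    rw [map_zpow, hfixc u hu]
  have hts_gen : ∀ u ∈ Q, t z / z ∈ Subgroup.zpowers c → s z / z ∈ Subgroup.zpowers c →
      u z / z ∈ Subgroup.zpowers c := by
    intro u hu h1 h2
    obtain ⟨a, b, rfl⟩ := hgen t ht s hs hto hso hst u hu
    have e1 := key t z h1 (hfixz t ht) a
    have e2 := key s z h2 (hfixz s hs) b
    have : (t ^ a * s ^ b) z / z = ((t ^ a) z / z) * ((s ^ b) z / z) := by
      conv_lhs =>
        rw [MulAut.mul_apply, show (s ^ b) z = z * ((s ^ b) z / z) from
          (mul_div_cancel _ _).symm, map_mul, hfixz _ (Q.pow_mem ht a) _ e2]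
      rw [mul_div_right_comm]
    rw [this]
    exact Subgroup.mul_mem _ e1 e2
  by_cases htz : t z = z
  · exact hts_gen q hq (by rw [htz, div_self']; exact Subgroup.one_mem _) (hfixed z htz)
  obtain ⟨u, hu, huo, huz⟩ := hcov' z
  have hut : u ∉ Subgroup.zpowers t := by
    intro h
    apply htz
    have h2 : Subgroup.zpowers u = Subgroup.zpowers t := by
      haveI : Finite (Subgroup.zpowers t) := Nat.finite_of_card_ne_zero (by
        rw [Nat.card_zpowers, hto]; exact hp.pos.ne')
      exact Subgroup.eq_of_le_of_card_ge (Subgroup.zpowers_le.2 h)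
        (by rw [Nat.card_zpowers, Nat.card_zpowers, hto, huo])
    have hstab : Subgroup.zpowers u ≤ MulAction.stabilizer (MulAut M) z :=
      Subgroup.zpowers_le.2 huz
    exact hstab (h2 ▸ Subgroup.mem_zpowers t)
  have hux : u x ≠ x := hmove u hu huo hut
  obtain ⟨h1, h2⟩ := pair (hab t ht u hu) (hpow t hto) (hpow u huo) (hcover t ht u hu hto huo hut)
    htx hux huz htz
  obtain ⟨a, b, hab'⟩ := hgen t ht s hs hto hso hst u hu
  have h3 : u x / x ∈ Subgroup.zpowers c := by
    rw [hab']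
    have e2 := key s x (hc ▸ Subgroup.mem_zpowers c) (hfixz s hs) b
    rw [MulAut.mul_apply, show (s ^ b) x = x * ((s ^ b) x / x) from (mul_div_cancel _ _).symm,
      map_mul, pow_fix t htx, hfixz _ (Q.pow_mem ht a) _ e2, mul_div_cancel_left]
    exact e2
  have h4 : t z / z ∈ Subgroup.zpowers c := Subgroup.zpowers_le.2 h3 h2
  obtain ⟨a2, b2, rfl⟩ := hgen t ht u hu hto huo hut q hq
  rw [MulAut.mul_apply, pow_fix u huz]
  exact key t z h4 (hfixz t ht) a2

end dual

section groups

variable {G : Type u} [Group G] [Fintype G]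

theorem mem_commutator' (g n : G) : g * n * g⁻¹ * n⁻¹ ∈ commutator G := by
  rw [← commutatorElement_def]
  exact Subgroup.commutator_mem_commutator (Subgroup.mem_top g) (Subgroup.mem_top n)

/-- Every irreducible character of a normal subgroup lies under one of the group. -/
theorem exists_over (N : Subgroup G) [Fintype N] {θ : N → ℂ} (hθ : Cfsg.IsIrrCharacter N θ) :
    ∃ f : G → ℂ, Cfsg.IsIrrCharacter G f ∧ Cfsg.classInner (fun n : N => f n) θ ≠ 0 := by
  by_contra hno
  push Not at hno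
  have h0 := eq_zero_of_classInner_eq_zero (isClassFunction_indFun N θ) fun f hf => by
    rw [classInner_indFun θ (IsIrrCharacter.isClassFunction hf), ← classInner_conj, hno f hf,
      map_zero]
  have h1 := congrFun h0 1
  rw [indFun_one, Pi.zero_apply, mul_eq_zero, Nat.cast_eq_zero] at h1
  exact h1.elim Subgroup.index_ne_zero_of_finite (IsIrrCharacter.apply_one_ne_zero hθ)

theorem index_inertia_dvd {N : Subgroup G} [N.Normal] [Fintype N] {f : G → ℂ}
    (hf : Cfsg.IsIrrCharacter G f) (lam : N →* ℂˣ)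
    (hc : Cfsg.classInner (fun n : N => f n) (fun n => (lam n : ℂ)) ≠ 0) {m : ℕ} (hm : f 1 = m) :
    (inertia fun n : N => (lam n : ℂ)).index ∣ m := by
  obtain ⟨e, he⟩ := IsCharacter.exists_classInner_eq_natCast
    (IsCharacter.restrict (IsIrrCharacter.isCharacter hf) N) (isIrrCharacter_ofHom lam)
  have h := degree_eq_mul hf (isIrrCharacter_ofHom lam) hc
  rw [he, hm, map_one, Units.val_one, mul_one, ← Nat.cast_mul, Nat.cast_inj] at h
  exact h ▸ dvd_mul_left _ e

/-- The dual action on the linear characters of a normal subgroup. -/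
def act (R : Subgroup G) [R.Normal] : G →* MulAut (R →* ℂˣ) where
  toFun g :=
    { toFun := fun l => l.comp (MulAut.conjNormal g⁻¹ : MulAut R).toMonoidHom
      invFun := fun l => l.comp (MulAut.conjNormal g : MulAut R).toMonoidHom
      left_inv := fun l => MonoidHom.ext fun r => congrArg l (Subtype.ext (by simp [mul_assoc]))
      right_inv := fun l => MonoidHom.ext fun r => congrArg l (Subtype.ext (by simp [mul_assoc]))
      map_mul' := fun _ _ => rfl }
  map_one' := MulEquiv.ext fun l => MonoidHom.ext fun r => congrArg l (Subtype.ext (by simp))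
  map_mul' g h := MulEquiv.ext fun l => MonoidHom.ext fun r =>
    congrArg l (Subtype.ext (by simp [mul_assoc]))

theorem act_apply (R : Subgroup G) [hR : R.Normal] (g : G) (l : R →* ℂˣ) (r : R) :
    act R g l r = l ⟨g⁻¹ * r * g, by simpa using hR.conj_mem (r : G) r.2 g⁻¹⟩ :=
  congrArg l (Subtype.ext (by simp [MulAut.conjNormal_apply]))

theorem act_eq_iff (R : Subgroup G) [R.Normal] (g : G) (l : R →* ℂˣ) :
    act R g l = l ↔ g⁻¹ ∈ inertia fun n : R => (l n : ℂ) := by
  rw [mem_inertia]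
  constructor
  · intro h
    funext n
    rw [conjOn_apply]
    have h1 := congrArg (fun k : R →* ℂˣ => (k n : ℂ)) h
    simp only [act_apply] at h1
    rw [← h1]
    exact congrArg (fun z : R => ((l z : ℂˣ) : ℂ)) (Subtype.ext (by simp))
  · intro h
    refine MonoidHom.ext fun n => Units.ext ?_
    have h1 := congrFun h n
    rw [conjOn_apply] at h1
    rw [act_apply, ← h1]
    exact congrArg (fun z : R => ((l z : ℂˣ) : ℂ)) (Subtype.ext (by simp))

theorem separate (R : Subgroup G) (hab : ∀ a ∈ R, ∀ b ∈ R, a * b = b * a) {a b : R}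
    (h : ∀ l : R →* ℂˣ, l a = l b) : a = b := by
  by_contra hne
  have h1 : a⁻¹ * b ∉ commutator R := by
    rw [show commutator R = ⊥ by
      rw [commutator_def, Subgroup.commutator_eq_bot_iff_le_centralizer]
      exact fun x _ y _ => Subtype.ext (hab y y.2 x x.2), Subgroup.mem_bot, inv_mul_eq_one]
    exact hne
  obtain ⟨l, hl⟩ := exists_hom_ne_one h1
  exact hl (by rw [map_mul, map_inv, h l, inv_mul_cancel])

theorem act_eq_one_iff (R : Subgroup G) [R.Normal] (hab : ∀ a ∈ R, ∀ b ∈ R, a * b = b * a)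
    (g : G) : act R g = 1 ↔ g ∈ Subgroup.centralizer (R : Set G) := by
  constructor
  · intro h
    rw [Subgroup.mem_centralizer_iff]
    intro r hr
    have h1 : (⟨g⁻¹ * r * g, by simpa using ‹R.Normal›.conj_mem r hr g⁻¹⟩ : R) = ⟨r, hr⟩ :=
      separate R hab fun l => by
        have h2 := congrArg (fun e : MulAut (R →* ℂˣ) => e l ⟨r, hr⟩) h
        simp only [act_apply, MulAut.one_apply] at h2
        exact h2
    have h3 : g⁻¹ * r * g = r := congrArg Subtype.val h1
    calc r * g = g * (g⁻¹ * r * g) := by group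
      _ = g * r := by rw [h3]
  · intro h
    refine MulEquiv.ext fun l => MonoidHom.ext fun r => ?_
    rw [act_apply, MulAut.one_apply]
    refine congrArg l (Subtype.ext ?_)
    show g⁻¹ * (r : G) * g = r
    rw [mul_assoc, h r r.2, inv_mul_cancel_left]

theorem act_div (R : Subgroup G) [R.Normal] (g : G) (a b : R →* ℂˣ) :
    act R g (a / b) = act R g a / act R g b := MonoidHom.ext fun _ => rfl

theorem swap_mem_commutator (g h : G) : (h * g)⁻¹ * (g * h) ∈ commutator G := by
  rw [show (h * g)⁻¹ * (g * h) = g⁻¹ * h⁻¹ * g⁻¹⁻¹ * h⁻¹⁻¹ by group]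
  exact mem_commutator' _ _

variable {p : ℕ} [Fact p.Prime]

/-- The degree of an irreducible character over a linear one. -/
theorem inertia_cases (hcd : ∀ f : G → ℂ, Cfsg.IsIrrCharacter G f → f 1 = 1 ∨ f 1 = (p : ℂ))
    (D : Subgroup G) [D.Normal] [Fintype D] (lam : D →* ℂˣ) :
    ((inertia fun n : D => (lam n : ℂ)).index = 1 ∨
      (inertia fun n : D => (lam n : ℂ)).index = p) := by
  obtain ⟨f, hf, hc⟩ := exists_over D (isIrrCharacter_ofHom lam)
  rcases hcd f hf with h | h
  · exact Or.inl (Nat.dvd_one.1 (index_inertia_dvd hf lam hc (by rw [h, Nat.cast_one])))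
  · exact (Nat.dvd_prime Fact.out).1 (index_inertia_dvd hf lam hc h)

set_option maxHeartbeats 1000000 in
/-- A nonlinear character with scalar commutator subgroup. -/
theorem of_scalar (hcd : ∀ f : G → ℂ, Cfsg.IsIrrCharacter G f → f 1 = 1 ∨ f 1 = (p : ℂ))
    {f : G → ℂ} (hf : Cfsg.IsIrrCharacter G f) (hfp : f 1 = p)
    (hsc : ∀ y ∈ commutator G, ‖f y‖ = p) :
    (∃ A : Subgroup G, A.Normal ∧ (∀ a ∈ A, ∀ b ∈ A, a * b = b * a) ∧ A.index = p) ∨
      (Subgroup.center G).index = p ^ 3 := by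
  classical
  have hp : p.Prime := Fact.out
  obtain ⟨d, ρ, hρ, rfl⟩ := id hf
  haveI := hρ
  have hdp : d = p := by
    rw [ρ.char_one, Module.finrank_fin_fun] at hfp
    exact_mod_cast hfp
  subst hdp
  obtain ⟨R, hR⟩ : ∃ R, scalarSubgroup ρ = R := ⟨_, rfl⟩
  have hmem : ∀ g, g ∈ R → ∃ c : ℂ, ρ g = c • (1 : Module.End ℂ (Fin d → ℂ)) := fun g hg =>
    exists_scalar_of_mem_scalarSubgroup ρ (hR ▸ hg)
  have hmem' : ∀ g, ‖ρ.character g‖ = d → g ∈ R := fun g hg => by
    obtain ⟨c, hc⟩ := (norm_character_eq_iff ρ g).1 (by rw [hg, Module.finrank_fin_fun])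
    rw [← hR]
    intro A
    rw [hc]
    exact (Commute.one_left A).smul_left c
  have hGR : commutator G ≤ R := fun y hy => hmem' y (hsc y hy)
  haveI hRn : R.Normal := ⟨fun n hn g => by
    have h1 : g * n * g⁻¹ * n⁻¹ ∈ R := hGR (mem_commutator' g n)
    simpa using R.mul_mem h1 hn⟩
  haveI := Fintype.ofFinite R
  -- the character vanishes off `R`
  have hd0 : (d : ℂ) ≠ 0 := Nat.cast_ne_zero.2 hp.pos.ne'
  have hvan : ∀ g, g ∉ R → ρ.character g = 0 := by
    intro g hg
    obtain ⟨x, hx⟩ : ∃ x, ρ (x * g * x⁻¹ * g⁻¹) ≠ 1 := by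
      by_contra hall
      push Not at hall
      refine hg (hmem' g ?_)
      rw [(norm_character_eq_iff ρ g).2 ⟨_, eq_smul_one_of_commute ρ (ρ g) fun x => ?_⟩,
        Module.finrank_fin_fun]
      calc ρ x * ρ g = ρ (x * g * x⁻¹ * g⁻¹) * (ρ g * ρ x) := by
            rw [← map_mul, ← map_mul, ← map_mul]; congr 1; group
        _ = ρ g * ρ x := by rw [hall x, one_mul]
    obtain ⟨c, hc⟩ := hmem _ (hGR (mem_commutator' x g))
    have hc1 : c ≠ 1 := fun h => hx (by rw [hc, h, one_smul])
    have h1 : ρ.character (x * g * x⁻¹) = c * ρ.character g := by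
      conv_lhs => rw [show x * g * x⁻¹ = (x * g * x⁻¹ * g⁻¹) * g by group]
      simp only [Representation.character, map_mul (f := ρ) (x * g * x⁻¹ * g⁻¹) g, hc,
        smul_mul_assoc, one_mul, map_smul, smul_eq_mul]
    rw [IsIrrCharacter.isClassFunction hf g x] at h1
    by_contra h0
    exact hc1 ((mul_eq_right₀ h0).1 h1.symm)
  have hnormR : ∀ g ∈ R, ρ.character g * conj (ρ.character g) = (d : ℂ) ^ 2 := by
    intro g hg
    obtain ⟨c, hc⟩ := hmem g hg
    rw [Complex.mul_conj', (norm_character_eq_iff ρ g).2 ⟨c, hc⟩, Module.finrank_fin_fun]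
    norm_num
  have hsumR : ∀ F : G → ℂ, (∀ g, g ∉ R → F g = 0) → ∑ g : G, F g = ∑ r : R, F r := by
    intro F hF
    rw [← Finset.sum_subset (s₁ := univ.filter fun g => g ∈ R) (subset_univ _)
      fun g _ hg => hF g (by simpa using hg)]
    exact Finset.sum_subtype _ (by simp) F
  have hidx : R.index = d ^ 2 := by
    have h := IsIrrCharacter.classInner_self hf
    rw [classInner_def, hsumR _ (fun g hg => by rw [hvan g hg, zero_mul]),
      sum_congr rfl (fun (r : R) _ => hnormR r r.2), sum_const, Finset.card_univ, nsmul_eq_mul,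
      ← Nat.card_eq_fintype_card, ← R.card_mul_index, Nat.cast_mul] at h
    have h1 : (Nat.card R : ℂ) ≠ 0 := Nat.cast_ne_zero.2 Nat.card_pos.ne'
    have h2 : (R.index : ℂ) ≠ 0 := Nat.cast_ne_zero.2 Subgroup.index_ne_zero_of_finite
    field_simp at h
    exact_mod_cast h.symm
  -- `R` is abelian
  have hRab : ∀ a ∈ R, ∀ b ∈ R, a * b = b * a := by
    intro a ha b hb
    refine congrArg Subtype.val (abelian_iff_degree_one.2 (fun θ hθ => ?_) ⟨a, ha⟩ ⟨b, hb⟩)
    obtain ⟨g, hg, hc⟩ := exists_over R hθ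
    obtain ⟨t, -, ht⟩ := IsIrrCharacter.exists_degree hθ
    rw [ht, Nat.cast_eq_one]
    rcases hcd g hg with h | h
    · exact Nat.dvd_one.1 (TwoDegrees.degree_dvd hg hθ hc (by rw [h, Nat.cast_one]) ht)
    · refine ((Nat.dvd_prime hp).1 (TwoDegrees.degree_dvd hg hθ hc h ht)).resolve_right fun htd => ?_
      have hres : ∀ r : R, g r = θ r := by
        have h1 := restrict_eq_smul_sum hg hθ hc
        obtain ⟨e, he⟩ := IsCharacter.exists_classInner_eq_natCast
          (IsCharacter.restrict (IsIrrCharacter.isCharacter hg) R) hθ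
        have h2 := degree_eq_mul hg hθ hc
        rw [he, ht, h, ← Nat.cast_mul, ← Nat.cast_mul, Nat.cast_inj, htd] at h2
        have h3 : e * (inertia θ).index = 1 :=
          (Nat.mul_eq_right hp.pos.ne').1 h2.symm
        obtain ⟨he1, hi1⟩ := mul_eq_one.1 h3
        have h4 := restrict_eq_smul_of_invariant hg hθ (Subgroup.index_eq_one.1 hi1) hc
        rw [he, he1, Nat.cast_one, one_smul] at h4
        exact fun r => congrFun h4 r
      obtain ⟨F, hF⟩ : ∃ F : G → ℂ, ρ.character * g = F := ⟨_, rfl⟩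
      have hFc : Cfsg.IsCharacter G F := hF ▸ IsCharacter.mul (IsIrrCharacter.isCharacter hf)
        (IsIrrCharacter.isCharacter hg)
      have hFn : Cfsg.classInner F F = 1 := by
        rw [← hF, classInner_def, hsumR _ (fun x hx => by rw [Pi.mul_apply, hvan x hx, zero_mul, zero_mul]),
          sum_congr rfl fun (r : R) _ => by
            rw [Pi.mul_apply, map_mul, hres r, mul_mul_mul_comm, hnormR r r.2],
          ← Finset.mul_sum, ← R.card_mul_index, hidx, Nat.cast_mul]
        have h5 := IsIrrCharacter.classInner_self hθ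
        rw [classInner_def] at h5
        have h1 : (Nat.card R : ℂ) ≠ 0 := Nat.cast_ne_zero.2 Nat.card_pos.ne'
        rw [Nat.cast_pow]
        field_simp
        field_simp at h5
        exact h5
      have hFi := IsCharacter.isIrrCharacter_of_classInner_self hFc hFn
      have hF1 : F 1 = ((d * d : ℕ) : ℂ) := by
        rw [← hF, Pi.mul_apply, hfp, h, Nat.cast_mul]
      have h2 := hp.two_le
      rcases hcd F hFi with h' | h' <;> rw [hF1] at h'
      · rw [Nat.cast_eq_one] at h'; nlinarith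
      · rw [Nat.cast_inj] at h'; nlinarith
  by_cases hy : ∃ y, y ∉ R ∧ y ∈ Subgroup.centralizer (R : Set G)
  · left
    obtain ⟨y, hyR, hyc⟩ := hy
    obtain ⟨A, hA⟩ : ∃ A, R ⊔ Subgroup.zpowers y = A := ⟨_, rfl⟩
    have hRA : R ≤ A := hA ▸ le_sup_left
    have hAab : ∀ a ∈ A, ∀ b ∈ A, a * b = b * a := by
      have hRc : R ≤ Subgroup.centralizer (A : Set G) := by
        rw [Subgroup.le_centralizer_iff, ← hA]
        exact sup_le (fun a ha => Subgroup.mem_centralizer_iff.2 fun b hb => hRab b hb a ha)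
          (Subgroup.zpowers_le.2 hyc)
      have hyA : y ∈ Subgroup.centralizer (A : Set G) := by
        rw [Subgroup.mem_centralizer_iff]
        intro a ha
        have : A ≤ Subgroup.centralizer ({y} : Set G) := by
          rw [← hA]
          exact sup_le (fun r hr => Subgroup.mem_centralizer_singleton_iff.2
            (Subgroup.mem_centralizer_iff.1 hyc r hr)) (Subgroup.zpowers_le.2
              (Subgroup.mem_centralizer_singleton_iff.2 rfl))
        exact Subgroup.mem_centralizer_singleton_iff.1 (this ha)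
      have hAA : A ≤ Subgroup.centralizer (A : Set G) := by
        conv_lhs => rw [← hA]
        exact sup_le hRc (Subgroup.zpowers_le.2 hyA)
      exact fun a ha b hb => (Subgroup.mem_centralizer_iff.1 (hAA ha) b hb).symm
    refine ⟨A, ?_, hAab, ?_⟩
    · exact ⟨fun n hn g => by
        have h1 : g * n * g⁻¹ * n⁻¹ ∈ A := hRA (hGR (mem_commutator' g n))
        simpa using A.mul_mem h1 hn⟩
    · have hdvd : A.index ∣ d ^ 2 := hidx ▸ Subgroup.index_dvd_of_le hRA
      obtain ⟨i, hi, hAi⟩ := (Nat.dvd_prime_pow hp).1 hdvd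
      obtain rfl | rfl | rfl : i = 0 ∨ i = 1 ∨ i = 2 := by omega
      · exfalso
        rw [pow_zero, Subgroup.index_eq_one] at hAi
        have hab' : ∀ a b : G, a * b = b * a := fun a b =>
          hAab a (hAi ▸ Subgroup.mem_top a) b (hAi ▸ Subgroup.mem_top b)
        have h1 := abelian_iff_degree_one.1 hab' _ hf
        rw [hfp, Nat.cast_eq_one] at h1
        exact hp.one_lt.ne' h1
      · rw [hAi, pow_one]
      · exfalso
        apply hyR
        have h1 : R = A := by
          refine Subgroup.eq_of_le_of_card_ge hRA (le_of_eq ?_)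
          have e1 := R.card_mul_index
          have e2 := A.card_mul_index
          rw [hidx] at e1
          rw [hAi, ← e1] at e2
          exact Nat.eq_of_mul_eq_mul_right (pow_pos hp.pos 2) e2
        rw [h1, ← hA]
        exact le_sup_right (a := R) (Subgroup.mem_zpowers y)
  right
  push Not at hy
  have hker : (act R).ker = R := by
    ext g
    rw [MonoidHom.mem_ker, act_eq_one_iff R hRab]
    refine ⟨fun h => by_contra fun hg => hy g hg h, fun hg => ?_⟩
    exact Subgroup.mem_centralizer_iff.2 fun r hr => hRab r hr g hg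
  haveI : Finite (act R).range := Finite.of_surjective (act R).rangeRestrict
    (act R).rangeRestrict_surjective
  have hQ : Nat.card (act R).range = d ^ 2 := by rw [← Subgroup.index_ker, hker, hidx]
  obtain ⟨c, hc, hcg⟩ := exists_generator (p := d) (M := R →* ℂˣ) (act R).range (by
    rintro _ ⟨a, rfl⟩ _ ⟨b, rfl⟩
    rw [← map_mul, ← map_mul]
    have h1 : (b * a)⁻¹ * (a * b) ∈ R := hGR (swap_mem_commutator a b)
    rw [show a * b = (b * a) * ((b * a)⁻¹ * (a * b)) by group, map_mul (act R) (b * a),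
      MonoidHom.mem_ker.1 (hker.symm ▸ h1 : (b * a)⁻¹ * (a * b) ∈ (act R).ker), mul_one])
    hQ fun l => by
      have hne : inertia (fun n : R => (l n : ℂ)) ≠ R := fun h => by
        rcases inertia_cases hcd R l with h' | h' <;> rw [h, hidx] at h'
        · exact hp.one_lt.ne' (Nat.dvd_one.1 (h' ▸ dvd_pow_self d two_ne_zero))
        · have := hp.two_le; nlinarith
      obtain ⟨g, hg, hgR⟩ := Set.exists_of_ssubset ((le_inertia
        (IsIrrCharacter.isClassFunction (isIrrCharacter_ofHom l))).lt_of_ne (Ne.symm hne))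
      refine ⟨act R g⁻¹, ⟨_, rfl⟩, fun h => hgR ?_, ?_⟩
      · have h1 : g⁻¹ ∈ (act R).ker := MonoidHom.mem_ker.2 h
        rw [hker] at h1
        simpa using R.inv_mem h1
      · rw [act_eq_iff, inv_inv]; exact hg
  obtain ⟨K, hK⟩ : ∃ K, c.ker.map R.subtype = K := ⟨_, rfl⟩
  have hKZ : K ≤ Subgroup.center G := by
    rw [← hK]
    rintro _ ⟨r, hr, rfl⟩
    rw [Subgroup.mem_center_iff]
    intro g
    have h1 : (⟨g⁻¹ * r * g, by simpa using hRn.conj_mem (r : G) r.2 g⁻¹⟩ : R) = r :=
      separate R hRab fun l => by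
        obtain ⟨i, hi⟩ := Subgroup.mem_zpowers_iff.1 (hcg (act R g) ⟨g, rfl⟩ l)
        have h2 := congrArg (fun k : R →* ℂˣ => k r) hi
        simp only [MonoidHom.div_apply, act_apply] at h2
        rw [← div_eq_one, ← h2]
        rw [show (c ^ i) r = c r ^ i from map_zpow (MonoidHom.eval r) c i, MonoidHom.mem_ker.1 hr,
          one_zpow]
    have h3 : g⁻¹ * (r : G) * g = r := congrArg Subtype.val h1
    calc g * (r : G) = g * (g⁻¹ * r * g) := by rw [h3]
      _ = (r : G) * g := by group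
  have hZR : Subgroup.center G ≤ R := fun z hz => by_contra fun hzR =>
    hy z hzR (Subgroup.center_le_centralizer _ hz)
  have hKi : K.index ∣ d ^ 3 := by
    rw [← hK, Subgroup.index_map_subtype, hidx, Subgroup.index_ker, show d ^ 3 = d * d ^ 2 by ring]
    refine Nat.mul_dvd_mul_right ?_ _
    haveI : NeZero d := ⟨hp.pos.ne'⟩
    have hle : c.range ≤ rootsOfUnity d ℂ := by
      rintro _ ⟨r, rfl⟩
      rw [mem_rootsOfUnity, ← MonoidHom.pow_apply, hc, MonoidHom.one_apply]
    calc Nat.card c.range ∣ Nat.card (rootsOfUnity d ℂ) := Subgroup.card_dvd_of_le hle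
      _ = d := Complex.card_rootsOfUnity d
  have h1 : (Subgroup.center G).index ∣ d ^ 3 := (Subgroup.index_dvd_of_le hKZ).trans hKi
  have h2 : d ^ 2 ∣ (Subgroup.center G).index := hidx ▸ Subgroup.index_dvd_of_le hZR
  obtain ⟨i, hi, hZi⟩ := (Nat.dvd_prime_pow hp).1 h1
  rw [hZi] at h2
  have h2i := (Nat.pow_dvd_pow_iff_le_right hp.one_lt).1 h2
  obtain rfl | rfl : i = 2 ∨ i = 3 := by omega
  · exfalso
    have hRZ : Subgroup.center G = R := by
      refine Subgroup.eq_of_le_of_card_ge hZR (le_of_eq ?_)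
      have e1 := R.card_mul_index
      have e2 := (Subgroup.center G).card_mul_index
      rw [hidx] at e1
      rw [hZi, ← e1] at e2
      exact (Nat.eq_of_mul_eq_mul_right (pow_pos hp.pos 2) e2).symm
    have h4 : R.index = 1 := Subgroup.index_eq_one.2 (eq_top_iff.2 fun g _ => by
      by_contra hg
      exact hy g hg (Subgroup.mem_centralizer_iff.2 fun r hr =>
        (Subgroup.mem_center_iff.1 (hRZ.symm ▸ hr : r ∈ Subgroup.center G) g).symm))
    rw [hidx] at h4
    exact hp.one_lt.ne' (Nat.dvd_one.1 (h4 ▸ dvd_pow_self d two_ne_zero))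
  · exact hZi

/-- Degrees `1` and `p`. -/
theorem abelian_index_or_center (hG : ∃ a b : G, a * b ≠ b * a)
    (hcd : ∀ f : G → ℂ, Cfsg.IsIrrCharacter G f → f 1 = 1 ∨ f 1 = (p : ℂ)) :
    (∃ A : Subgroup G, A.Normal ∧ (∀ a ∈ A, ∀ b ∈ A, a * b = b * a) ∧ A.index = p) ∨
      (Subgroup.center G).index = p ^ 3 := by
  classical
  have hp : p.Prime := Fact.out
  by_cases hsc : ∃ f : G → ℂ, Cfsg.IsIrrCharacter G f ∧ f 1 = (p : ℂ) ∧
      ∀ y ∈ commutator G, ‖f y‖ = p
  · obtain ⟨f, hf, hfp, h⟩ := hsc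
    exact of_scalar hcd hf hfp h
  push Not at hsc
  left
  obtain ⟨C, hC⟩ : ∃ C, Subgroup.centralizer (commutator G : Set G) = C := ⟨_, rfl⟩
  have hGab := TwoDegrees.commutator_abelian hcd hp.one_lt.ne' hp.pos
  have hGC : commutator G ≤ C := fun a ha => hC ▸
    Subgroup.mem_centralizer_iff.2 fun b hb => hGab b hb a ha
  haveI hCn : C.Normal := hC ▸ inferInstance
  haveI := Fintype.ofFinite C
  -- `C` is abelian
  have hCab : ∀ a ∈ C, ∀ b ∈ C, a * b = b * a := by
    intro a ha b hb
    refine congrArg Subtype.val (abelian_iff_degree_one.2 (fun θ hθ => ?_) ⟨a, ha⟩ ⟨b, hb⟩)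
    obtain ⟨g, hg, hc⟩ := exists_over C hθ
    obtain ⟨t, -, ht⟩ := IsIrrCharacter.exists_degree hθ
    rw [ht, Nat.cast_eq_one]
    rcases hcd g hg with h | h
    · exact Nat.dvd_one.1 (TwoDegrees.degree_dvd hg hθ hc (by rw [h, Nat.cast_one]) ht)
    refine ((Nat.dvd_prime hp).1 (TwoDegrees.degree_dvd hg hθ hc h ht)).resolve_right fun htd => ?_
    obtain ⟨y, hy, hy'⟩ := hsc g hg h
    apply hy'
    obtain ⟨e, he⟩ := IsCharacter.exists_classInner_eq_natCast
      (IsCharacter.restrict (IsIrrCharacter.isCharacter hg) C) hθ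
    have h2 := degree_eq_mul hg hθ hc
    rw [he, ht, h, ← Nat.cast_mul, ← Nat.cast_mul, Nat.cast_inj, htd] at h2
    obtain ⟨he1, hi1⟩ := mul_eq_one.1 ((Nat.mul_eq_right hp.pos.ne').1 h2.symm)
    have h4 := restrict_eq_smul_of_invariant hg hθ (Subgroup.index_eq_one.1 hi1) hc
    rw [he, he1, Nat.cast_one, one_smul] at h4
    obtain ⟨k, σ, hσ, rfl⟩ := id hθ
    haveI := hσ
    have hk : k = p := by
      rw [σ.char_one, Module.finrank_fin_fun, Nat.cast_inj] at ht
      exact ht.trans htd
    rw [show g y = σ.character ⟨y, hGC hy⟩ from congrFun h4 ⟨y, hGC hy⟩,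
      (norm_character_eq_iff σ _).2 ⟨_, eq_smul_one_of_commute σ (σ ⟨y, hGC hy⟩) fun x => by
        rw [← map_mul, ← map_mul]
        exact congrArg σ (Subtype.ext (Subgroup.mem_centralizer_iff.1
          (hC.symm ▸ x.2 : (x : G) ∈ Subgroup.centralizer (commutator G : Set G)) y hy).symm)⟩,
      Module.finrank_fin_fun, hk]
  have hCC : ∀ g, g ∈ Subgroup.centralizer (C : Set G) → g ∈ C := fun g hg => hC ▸
    Subgroup.mem_centralizer_iff.2 fun y hy => Subgroup.mem_centralizer_iff.1 hg y (hGC hy)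
  -- fixed characters are trivial on the commutator subgroup
  have hfix : ∀ l : C →* ℂˣ, inertia (fun n : C => (l n : ℂ)) = ⊤ →
      ∀ y : C, (y : G) ∈ commutator G → l y = 1 := by
    intro l hl y hy
    obtain ⟨g, hg, hc⟩ := exists_over C (isIrrCharacter_ofHom l)
    obtain ⟨e, he⟩ := IsCharacter.exists_classInner_eq_natCast
      (IsCharacter.restrict (IsIrrCharacter.isCharacter hg) C) (isIrrCharacter_ofHom l)
    have h4 := restrict_eq_smul_of_invariant hg (isIrrCharacter_ofHom l) hl hc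
    rw [he] at h4
    have h2 := degree_eq_mul hg (isIrrCharacter_ofHom l) hc
    rw [he, Subgroup.index_eq_one.2 hl, map_one, Units.val_one, Nat.cast_one, mul_one,
      mul_one] at h2
    rcases hcd g hg with h | h
    · obtain ⟨L, rfl⟩ := IsCharacter.exists_hom (IsIrrCharacter.isCharacter hg) h
      rw [h, eq_comm, Nat.cast_eq_one] at h2
      have h5 := congrFun h4 y
      simp only [Pi.smul_apply, h2, Nat.cast_one, one_smul] at h5
      refine Units.ext ?_
      rw [← h5, show L (y : G) = 1 from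
        MonoidHom.mem_ker.1 (Abelianization.commutator_subset_ker L hy)]
    · exfalso
      rw [h, Nat.cast_inj] at h2
      obtain ⟨y', hy', hne⟩ := hsc g hg h
      apply hne
      rw [show g y' = (e : ℂ) * (l ⟨y', hGC hy'⟩ : ℂ) from congrFun h4 ⟨y', hGC hy'⟩, norm_mul,
        norm_hom_eq_one, mul_one, Complex.norm_natCast, h2]
  have hTn : ∀ T : Subgroup G, C ≤ T → T.Normal := fun T hT => ⟨fun n hn g => by
    have h1 : g * n * g⁻¹ * n⁻¹ ∈ T := hT (hGC (mem_commutator' g n))
    simpa using T.mul_mem h1 hn⟩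
  have hle : ∀ l : C →* ℂˣ, C ≤ inertia (fun n : C => (l n : ℂ)) := fun l =>
    le_inertia (IsIrrCharacter.isClassFunction (isIrrCharacter_ofHom l))
  -- a character with a proper inertia group
  obtain ⟨lam, hlam⟩ : ∃ lam : C →* ℂˣ, (inertia fun n : C => (lam n : ℂ)) ≠ ⊤ := by
    by_contra hall
    push Not at hall
    have h1 : ∀ g, g ∈ C := fun g => hCC g ((act_eq_one_iff C hCab g).1 (MulEquiv.ext fun l => by
      rw [MulAut.one_apply, act_eq_iff, hall l]
      exact Subgroup.mem_top _))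
    obtain ⟨a, b, hne⟩ := hG
    exact hne (hCab a (h1 a) b (h1 b))
  obtain ⟨T, hT⟩ : ∃ T, (inertia fun n : C => (lam n : ℂ)) = T := ⟨_, rfl⟩
  rw [hT] at hlam
  have hTi : T.index = p := by
    have := inertia_cases hcd C lam
    rw [hT] at this
    exact this.resolve_left fun h => hlam (Subgroup.index_eq_one.1 h)
  have hmax : ∀ (U : Subgroup G) (v : G), U.index = p → v ∉ U → U ⊔ Subgroup.zpowers v = ⊤ := by
    intro U v hU hv
    have h1 : (U ⊔ Subgroup.zpowers v).index ∣ p := hU ▸ Subgroup.index_dvd_of_le le_sup_left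
    rcases (Nat.dvd_prime hp).1 h1 with h | h
    · exact Subgroup.index_eq_one.1 h
    · exfalso
      apply hv
      have h2 : U = U ⊔ Subgroup.zpowers v := by
        refine Subgroup.eq_of_le_of_card_ge le_sup_left (le_of_eq ?_)
        have e1 := U.card_mul_index
        have e2 := (U ⊔ Subgroup.zpowers v).card_mul_index
        rw [hU] at e1
        rw [h, ← e1] at e2
        exact Nat.eq_of_mul_eq_mul_right hp.pos e2
      rw [h2]
      exact le_sup_right (a := U) (Subgroup.mem_zpowers v)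
  have hall : ∀ μ : C →* ℂˣ, T ≤ inertia (fun n : C => (μ n : ℂ)) := by
    intro μ
    by_contra hμ
    obtain ⟨U, hU⟩ : ∃ U, (inertia fun n : C => (μ n : ℂ)) = U := ⟨_, rfl⟩
    rw [hU] at hμ
    have hUi : U.index = p := by
      have := inertia_cases hcd C μ
      rw [hU] at this
      exact this.resolve_left fun h => hμ (le_top.trans (Subgroup.index_eq_one.1 h).ge)
    haveI := hTn T (hT ▸ hle lam)
    haveI := hTn U (hU ▸ hle μ)
    have hstabT : ∀ g, g ∈ T ↔ act C g lam = lam := fun g => by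
      rw [act_eq_iff, hT, inv_mem_iff]
    have hstabU : ∀ g, g ∈ U ↔ act C g μ = μ := fun g => by
      rw [act_eq_iff, hU, inv_mem_iff]
    obtain ⟨u0, hu0T, hu0U⟩ := SetLike.not_le_iff_exists.1 hμ
    obtain ⟨v0, hv0U, hv0T⟩ : ∃ v0, v0 ∈ U ∧ v0 ∉ T := by
      by_contra hno
      push Not at hno
      apply hμ
      have hUT : U = T := by
        refine Subgroup.eq_of_le_of_card_ge hno (le_of_eq ?_)
        have e1 := U.card_mul_index
        have e2 := T.card_mul_index
        rw [hUi] at e1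
        rw [hTi, ← e1] at e2
        exact Nat.eq_of_mul_eq_mul_right hp.pos e2
      exact hUT.ge
    obtain ⟨V, hV⟩ : ∃ V, (inertia fun n : C => (((lam * μ : C →* ℂˣ) n : ℂˣ) : ℂ)) = V := ⟨_, rfl⟩
    have hstabV : ∀ g, g ∈ V ↔ act C g (lam * μ) = lam * μ := fun g => by
      rw [act_eq_iff, hV, inv_mem_iff]
    have hVT : ∀ g, g ∈ V → g ∈ T → g ∈ U := fun g hg hgT => by
      rw [hstabV, map_mul, (hstabT g).1 hgT, mul_right_inj] at hg
      exact (hstabU g).2 hg
    obtain ⟨v, hvV, hvT⟩ : ∃ v, v ∈ V ∧ v ∉ T := by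
      by_contra hno
      push Not at hno
      rcases inertia_cases hcd C (lam * μ) with h | h <;> rw [hV] at h
      · exact hv0T (hno _ (Subgroup.index_eq_one.1 h ▸ Subgroup.mem_top v0))
      · have hVT' : V = T := by
          refine Subgroup.eq_of_le_of_card_ge hno (le_of_eq ?_)
          have e1 := V.card_mul_index
          have e2 := T.card_mul_index
          rw [h] at e1
          rw [hTi, ← e1] at e2
          exact Nat.eq_of_mul_eq_mul_right hp.pos e2
        exact hu0U (hVT u0 (hVT'.symm ▸ hu0T) hu0T)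
    have heq : act C v lam / lam = μ / act C v μ := by
      refine MonoidHom.ext fun n => ?_
      have h1 := congrArg (fun k : C →* ℂˣ => k n) ((hstabV v).1 hvV)
      simp only [map_mul, MonoidHom.mul_apply] at h1
      rw [MonoidHom.div_apply, MonoidHom.div_apply, div_eq_div_iff_mul_eq_mul, h1, mul_comm]
    have hcomm : ∀ g h : G, act C g * act C h = act C h * act C g := fun g h => by
      rw [← map_mul, ← map_mul]
      rw [show g * h = (h * g) * ((h * g)⁻¹ * (g * h)) by group, map_mul (act C) (h * g),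
        (act_eq_one_iff C hCab ((h * g)⁻¹ * (g * h))).2 (Subgroup.mem_centralizer_iff.2
          fun r hr => hCab r hr _ (hGC (swap_mem_commutator g h))),
        mul_one]
    have hcfix : inertia (fun n : C => ((act C v lam / lam : C →* ℂˣ) n : ℂ)) = ⊤ := by
      rw [eq_top_iff, ← hmax T v0 hTi hv0T]
      refine sup_le (fun g hg => ?_) (Subgroup.zpowers_le.2 ?_)
      · rw [← inv_inv g, ← act_eq_iff, act_div, ← MulAut.mul_apply, hcomm, MulAut.mul_apply,
          (hstabT _).1 (T.inv_mem hg)]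
      · rw [← inv_inv v0, ← act_eq_iff, heq, act_div, ← MulAut.mul_apply, hcomm, MulAut.mul_apply,
          (hstabU _).1 (U.inv_mem hv0U)]
    -- all conjugates of `lam` agree on the commutator subgroup
    obtain ⟨f, hf, hc⟩ := exists_over C (isIrrCharacter_ofHom lam)
    rcases hcd f hf with h | h
    · have := index_inertia_dvd hf lam hc (m := 1) (by rw [h, Nat.cast_one])
      rw [hT, hTi] at this
      exact hp.one_lt.ne' (Nat.dvd_one.1 this)
    obtain ⟨y, hy, hne⟩ := hsc f hf h
    apply hne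
    obtain ⟨θ, hθ⟩ : ∃ θ : commutator G → ℂ,
        (fun z : commutator G => (lam ⟨(z : G), hGC z.2⟩ : ℂ)) = θ := ⟨_, rfl⟩
    have htop : inertia θ = ⊤ := by
      rw [eq_top_iff, ← hmax T v⁻¹ hTi (fun hh => hvT (by simpa using T.inv_mem hh))]
      refine sup_le (fun g hg => ?_) (Subgroup.zpowers_le.2 ?_)
      · rw [← hT, mem_inertia] at hg
        rw [mem_inertia, ← hθ]
        funext z
        exact congrFun hg ⟨(z : G), hGC z.2⟩
      · rw [mem_inertia, ← hθ]
        funext z
        have h1 := hfix _ hcfix ⟨(z : G), hGC z.2⟩ z.2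
        rw [MonoidHom.div_apply, div_eq_one, act_apply] at h1
        rw [conjOn_apply]
        refine Eq.trans ?_ (congrArg Units.val h1)
        exact congrArg (fun w : C => ((lam w : ℂˣ) : ℂ)) (Subtype.ext (by simp))
    have h4 := congrFun (restrict_eq_smul_sum hf (isIrrCharacter_ofHom lam) hc) ⟨y, hGC hy⟩
    simp only [Pi.smul_apply, Finset.sum_apply, smul_eq_mul] at h4
    have h5 : ∀ ψ ∈ conjOrbit (fun n : C => (lam n : ℂ)),
        ψ ⟨y, hGC hy⟩ = (lam ⟨y, hGC hy⟩ : ℂ) := fun ψ hψ => by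
      obtain ⟨g, rfl⟩ := mem_conjOrbit.1 hψ
      have h6 := congrFun ((mem_inertia θ g).1 (htop ▸ Subgroup.mem_top g)) ⟨y, hy⟩
      rw [← hθ, conjOn_apply] at h6
      rw [conjOn_apply]
      exact h6
    rw [sum_congr rfl h5, sum_const, card_conjOrbit, nsmul_eq_mul] at h4
    have h7 := degree_eq_mul hf (isIrrCharacter_ofHom lam) hc
    rw [map_one, Units.val_one, mul_one, h] at h7
    rw [show f y = _ from h4, ← mul_assoc, ← h7, norm_mul, norm_hom_eq_one, mul_one,
      Complex.norm_natCast]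
  refine ⟨T, hTn T (hT ▸ hle lam), fun a ha b hb => ?_, hTi⟩
  have hTC : T ≤ C := fun g hg => hCC g ((act_eq_one_iff C hCab g).1 (MulEquiv.ext fun l => by
    rw [MulAut.one_apply, act_eq_iff]
    exact hall l (T.inv_mem hg)))
  exact hCab a (hTC ha) b (hTC hb)

end groups

end CfsgLib.Char.DegreesPrime
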