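import Cfsg.Agent.Char.ExtendInv
import Cfsg.Agent.Char.DegreeRatio

/-!
# Characters of degree prime to a coprime complement

For `G = K H` with `K` normal of order prime to `H` these are the products of a canonical
extension of an invariant character of `K` with a linear character of `H`.
-/

set_option autoImplicit false
set_option linter.style.haveILetI false
set_option linter.unusedSectionVars false

namespace CfsgLib.Char

open Cfsg

universe u

variable {G : Type u} [Group G] [Finite G]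

theorem charDegree_eq_natCast {χ : G → ℂ} {n : ℕ} (h : χ 1 = n) : charDegree χ = n := by
  rw [charDegree, h, Complex.natCast_re, Nat.floor_natCast]

/-- Linear characters trivial on a normal subgroup correspond to those of a complement. -/
theorem card_hom_trivial_eq (K H : Subgroup G) [K.Normal] (hKH : K ⊔ H = ⊤) (hdisj : K ⊓ H = ⊥) :
    Nat.card {l : G →* ℂˣ // ∀ k ∈ K, l k = 1} = Nat.card (H →* ℂˣ) := by
  let f : H →* G ⧸ K := (QuotientGroup.mk' K).comp H.subtype
  have hf : Function.Bijective f := by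
    refine ⟨(injective_iff_map_eq_one f).2 fun h hh => ?_, fun y => ?_⟩
    · have h1 : (h : G) ∈ K ⊓ H := ⟨(QuotientGroup.eq_one_iff _).1 hh, h.2⟩
      rw [hdisj, Subgroup.mem_bot] at h1
      exact Subtype.ext h1
    · obtain ⟨g, rfl⟩ := QuotientGroup.mk_surjective y
      obtain ⟨k, hk, h, hh, rfl⟩ := Subgroup.mem_sup_of_normal_left.1
        (hKH ▸ Subgroup.mem_top g : g ∈ K ⊔ H)
      refine ⟨⟨h, hh⟩, ?_⟩
      show ((h : G) : G ⧸ K) = _
      rw [QuotientGroup.mk_mul, (QuotientGroup.eq_one_iff k).2 hk, one_mul]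
  let e : H ≃* G ⧸ K := MulEquiv.ofBijective f hf
  refine Nat.card_congr
    { toFun := fun l => l.1.comp H.subtype
      invFun := fun m => ⟨(m.comp e.symm.toMonoidHom).comp (QuotientGroup.mk' K), fun k hk => by
        show m (e.symm ((k : G) : G ⧸ K)) = 1
        rw [(QuotientGroup.eq_one_iff k).2 hk, map_one, map_one]⟩
      left_inv := fun l => Subtype.ext (MonoidHom.ext fun g => ?_)
      right_inv := fun m => MonoidHom.ext fun h => ?_ }
  · show l.1 ((e.symm (g : G ⧸ K) : H) : G) = l.1 g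
    have h1 : ((((e.symm (g : G ⧸ K) : H) : G)) : G ⧸ K) = (g : G ⧸ K) := e.apply_symm_apply _
    have h2 := l.2 _ (QuotientGroup.eq.1 h1)
    rw [map_mul, map_inv, inv_mul_eq_one] at h2
    exact h2
  · show m (e.symm ((h : G) : G ⧸ K)) = m h
    exact congrArg m (e.symm_apply_apply h)

/-- Counting the characters of degree prime to the coprime index. -/
theorem card_degree_coprime_index (K : Subgroup G) [hK : K.Normal]
    (hcop : (Nat.card K).Coprime K.index) :
    Nat.card {χ : IrrCharacter G // (charDegree (χ : G → ℂ)).Coprime K.index} =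
      Nat.card {θ : IrrCharacter K // ∀ g : G, conjOn g (θ : K → ℂ) = θ} *
        Nat.card {l : G →* ℂˣ // ∀ k ∈ K, l k = 1} := by
  classical
  haveI := Fintype.ofFinite G
  haveI := Fintype.ofFinite K
  have hext : ∀ θ : {θ : IrrCharacter K // ∀ g : G, conjOn g (θ : K → ℂ) = θ},
      ∃ χ : G → ℂ, IsIrrCharacter G χ ∧ ∀ x : K, χ x = (θ.1 : K → ℂ) x := fun θ =>
    exists_extension_of_coprime θ.1.2 (fun g n => congrFun (θ.2 g) n) hcop
  choose E hE hEres using hext
  rw [← Nat.card_prod]
  symm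
  have hdeg : ∀ θ l, (charDegree (fun g : G => E θ g * ((l : G →* ℂˣ) g : ℂ))).Coprime K.index := by
    intro θ l
    obtain ⟨d, -, hd⟩ := IsIrrCharacter.exists_degree θ.1.2
    rw [charDegree_eq_natCast (n := d) (by
      rw [map_one, Units.val_one, mul_one, show (1 : G) = ((1 : K) : G) from rfl, hEres, hd])]
    exact hcop.coprime_dvd_left (IsIrrCharacter.degree_dvd_card θ.1.2 hd)
  refine Nat.card_eq_of_bijective (fun x =>
    ⟨⟨fun g => E x.1 g * (x.2.1 g : ℂ), IsIrrCharacter.mul_hom (hE x.1) x.2.1⟩, hdeg x.1 x.2.1⟩)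
    ⟨?_, ?_⟩
  · rintro ⟨θ, l, hl⟩ ⟨θ', l', hl'⟩ h
    have h1 := congrFun (congrArg (fun χ : {χ : IrrCharacter G //
      (charDegree (χ : G → ℂ)).Coprime K.index} => (χ.1 : G → ℂ)) h)
    simp only at h1
    obtain rfl : θ = θ' := Subtype.ext (Subtype.ext (funext fun k => by
      have h2 := h1 k
      rwa [hl k k.2, hl' k k.2, Units.val_one, mul_one, mul_one, hEres, hEres] at h2))
    have hres : IsIrrCharacter K (fun k : K => E θ k) := by
      rw [show (fun k : K => E θ k) = (θ.1 : K → ℂ) from funext (hEres θ)]; exact θ.1.2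
    have hmem : ∀ m : G →* ℂˣ, (∀ k ∈ K, m k = 1) → (fun g => (m g : ℂ)) ∈
        {β : G → ℂ | IsIrrCharacter G β ∧ ∀ n ∈ K, β n = β 1} := fun m hm => by
      refine ⟨?_, fun n hn => by simp [hm n hn]⟩
      have := IsIrrCharacter.mul_hom (isIrrCharacter_one (G := G)) m
      simpa [funext_iff, Pi.mul_def] using this
    have h3 := (gallagher_one (hE θ) hres).injOn (hmem l hl) (hmem l' hl')
      (funext fun g => by simp only [Pi.mul_apply]; rw [mul_comm, h1 g, mul_comm])
    exact Prod.ext rfl (Subtype.ext (MonoidHom.ext fun g => Units.ext (congrFun h3 g)))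
  · rintro ⟨⟨χ, hχ⟩, hd⟩
    obtain ⟨φ, hφ, hc⟩ := exists_constituent_restrict (N := K) hχ
    obtain ⟨k, hk, hk1⟩ := exists_degree_ratio hχ hφ hc
    have hd2 := degree_eq_mul hχ hφ hc
    obtain ⟨a, -, ha⟩ := IsIrrCharacter.exists_degree hφ
    have hka : k = 1 := by
      refine Nat.eq_one_of_dvd_coprimes hd ?_ hk
      rw [charDegree_eq_natCast (χ := χ) (n := k * a) (by rw [hk1, ha, Nat.cast_mul])]
      exact dvd_mul_right k a
    obtain ⟨e, he⟩ := IsCharacter.exists_classInner_eq_natCast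
      (IsCharacter.restrict (IsIrrCharacter.isCharacter hχ) K) hφ
    have h4 : (e * (inertia φ).index : ℕ) = 1 := by
      rw [hk1, hka, he] at hd2
      have h5 := mul_right_cancel₀ (IsIrrCharacter.apply_one_ne_zero hφ) hd2
      exact_mod_cast h5.symm
    obtain ⟨he1, hI⟩ := mul_eq_one.1 h4
    have hinv : ∀ g : G, conjOn g φ = φ := fun g =>
      (mem_inertia φ g).1 (by rw [Subgroup.index_eq_one.1 hI]; exact Subgroup.mem_top g)
    have hres : ∀ x : K, χ x = φ x := by
      have horb : conjOrbit (G := G) φ = {φ} := Finset.eq_singleton_iff_unique_mem.2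
        ⟨self_mem_conjOrbit _, fun f hf => by
          obtain ⟨g, rfl⟩ := mem_conjOrbit.1 hf; exact hinv g⟩
      have h6 := restrict_eq_smul_sum hχ hφ hc
      rw [he, he1, horb, Finset.sum_singleton, Nat.cast_one, one_smul] at h6
      exact congrFun h6
    obtain ⟨ν, hν, hχν⟩ := exists_twist_of_extensions hφ (hE ⟨⟨φ, hφ⟩, hinv⟩)
      (hEres ⟨⟨φ, hφ⟩, hinv⟩) hχ hres
    exact ⟨(⟨⟨φ, hφ⟩, hinv⟩, ⟨ν, fun k hk => hν ⟨k, hk⟩⟩), Subtype.ext (Subtype.ext hχν.symm)⟩

end CfsgLib.Char
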