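import Cfsg.Agent.Char.Galois
import Cfsg.Agent.Char.Constituents

/-!
# Galois mean value argument and averages of `|χ|²` over cosets
-/

set_option autoImplicit false
set_option linter.style.haveILetI false

namespace CfsgLib.Char

open scoped ComplexConjugate

universe u

/-- Nonzero algebraic integers whose product is fixed by every automorphism have average absolute
value at least one. -/
theorem card_le_sum_norm_pow {ι : Type*} (s : Finset ι) (f : ι → ℂ) (k : ℕ)
    (hint : ∀ i ∈ s, IsIntegral ℤ (f i)) (hne : ∀ i ∈ s, f i ≠ 0)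
    (hfix : ∀ σ : ℂ ≃+* ℂ, σ (∏ i ∈ s, f i) = ∏ i ∈ s, f i) :
    (s.card : ℝ) ≤ ∑ i ∈ s, ‖f i‖ ^ k := by
  obtain ⟨m, hm⟩ := exists_int_of_fixed (IsIntegral.prod _ hint) hfix
  have hm1 : (1 : ℝ) ≤ ∏ i ∈ s, ‖f i‖ := by
    rw [← norm_prod, hm, Complex.norm_intCast]
    have : m ≠ 0 := fun h0 => by
      rw [h0, Int.cast_zero, Finset.prod_eq_zero_iff] at hm
      obtain ⟨i, hi, hi0⟩ := hm
      exact hne i hi hi0
    exact_mod_cast Int.one_le_abs this
  have h1 : 0 ≤ ∑ i ∈ s, Real.log (‖f i‖ ^ k) := by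
    rw [← Real.log_prod (fun i hi => pow_ne_zero k (norm_ne_zero_iff.2 (hne i hi))),
      Finset.prod_pow]
    exact Real.log_nonneg (one_le_pow₀ hm1)
  have h2 : ∑ i ∈ s, Real.log (‖f i‖ ^ k) ≤ ∑ i ∈ s, (‖f i‖ ^ k - 1) :=
    Finset.sum_le_sum fun i hi =>
      Real.log_le_sub_one_of_pos (pow_pos (norm_pos_iff.2 (hne i hi)) k)
  simp only [Finset.sum_sub_distrib, Finset.sum_const, nsmul_eq_mul, mul_one] at h2
  linarith

variable {G : Type u} [Group G]

/-- The product over a set of elements stable under all powers prime to the order is fixed. -/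
theorem prod_fixed_of_stable [Finite G] {χ : G → ℂ} (hχ : Cfsg.IsCharacter G χ) (s : Finset G)
    (hs : ∀ t : ℕ, t.Coprime (Nat.card G) → ∀ g ∈ s, g ^ t ∈ s) (σ : ℂ ≃+* ℂ) :
    σ (∏ g ∈ s, χ g) = ∏ g ∈ s, χ g := by
  classical
  haveI := Fintype.ofFinite G
  obtain ⟨t, ht, hσ⟩ := IsCharacter.exists_map_eq_pow hχ σ
  have hinj : Function.Injective fun g : G => g ^ t :=
    (powCoprime (Nat.coprime_comm.1 ht)).injective
  rw [map_prod]
  simp only [hσ]
  have himg : s.image (fun g => g ^ t) = s :=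
    Finset.eq_of_subset_of_card_le (Finset.image_subset_iff.2 (hs t ht))
      (Finset.card_image_of_injective s hinj).ge
  conv_rhs => rw [← himg]
  rw [Finset.prod_image fun a _ b _ h => hinj h]

theorem sum_norm_sq_eq [Fintype G] {χ : G → ℂ} (hχ : Cfsg.IsIrrCharacter G χ) :
    ∑ g : G, ‖χ g‖ ^ 2 = (Nat.card G : ℝ) := by
  have := IsIrrCharacter.classInner_self hχ
  rw [CfsgLib.Char.classInner_self, Complex.ofReal_eq_one,
    inv_mul_eq_one₀ (by exact_mod_cast Nat.card_pos.ne')] at this
  exact this.symm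

/-- For a subgroup `H` the restriction norm is bounded by the zeros outside `H`. -/
theorem sum_norm_sq_restrict_le [Fintype G] {χ : G → ℂ} (hχ : Cfsg.IsIrrCharacter G χ)
    (H : Subgroup G) [DecidablePred (· ∈ H)] :
    ∑ g ∈ Finset.univ.filter (· ∈ H), ‖χ g‖ ^ 2 ≤
      (Finset.univ.filter (· ∈ H)).card +
        (Set.ncard ({x : G | χ x = 0} \ (H : Set G)) : ℝ) := by
  classical
  have hc := IsIrrCharacter.isCharacter hχ
  let s : Finset G := Finset.univ.filter fun g => g ∉ H ∧ χ g ≠ 0
  have hstable : ∀ t : ℕ, t.Coprime (Nat.card G) → ∀ g ∈ s, g ^ t ∈ s := by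
    intro t ht g hg
    simp only [s, Finset.mem_filter, Finset.mem_univ, true_and] at hg ⊢
    obtain ⟨σ, hσ⟩ := exists_ringEquiv_pow (Nat.card_pos (α := G)) ht
    refine ⟨fun h => hg.1 ?_, fun h => hg.2 ?_⟩
    · have hco : (Nat.card G).Coprime t := Nat.coprime_comm.1 ht
      obtain ⟨i, hi⟩ := exists_pow_eq_self_of_coprime (x := g) (n := t)
        (Nat.Coprime.coprime_dvd_right (orderOf_dvd_natCard g) ht)
      rw [← hi]; exact H.pow_mem h i
    · rw [← IsCharacter.map_eq_pow_card hc σ hσ g] at h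
      exact σ.injective (h.trans (map_zero σ).symm)
  have h1 := card_le_sum_norm_pow s χ 2 (fun g _ => IsCharacter.isIntegral hc g)
    (fun g hg => (Finset.mem_filter.1 hg).2.2) (prod_fixed_of_stable hc s hstable)
  have hncard : Set.ncard ({x : G | χ x = 0} \ (H : Set G)) =
      (Finset.univ.filter fun g => g ∉ H ∧ χ g = 0).card := by
    rw [← Set.ncard_coe_finset]
    congr 1
    ext g
    simp [and_comm]
  have h2 := sum_norm_sq_eq hχ
  rw [← Finset.sum_filter_add_sum_filter_not Finset.univ (· ∈ H),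
    ← Finset.sum_filter_add_sum_filter_not (Finset.univ.filter fun g => g ∉ H)
      (fun g => χ g ≠ 0), Finset.filter_filter, Finset.filter_filter] at h2
  have h3 : (Nat.card G : ℝ) = (Finset.univ.filter (· ∈ H)).card + (s.card : ℝ) +
      (Finset.univ.filter fun g => g ∉ H ∧ χ g = 0).card := by
    rw [← Nat.cast_add, ← Nat.cast_add, Nat.cast_inj, Nat.card_eq_fintype_card, add_assoc,
      ← Finset.card_univ, ← Finset.card_filter_add_card_filter_not (· ∈ H),
      ← Finset.card_filter_add_card_filter_not (s := Finset.univ.filter fun g => g ∉ H)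
        (fun g => χ g ≠ 0), Finset.filter_filter, Finset.filter_filter]
    simp [s]
  have h4 : 0 ≤ ∑ g ∈ Finset.univ.filter (fun g => g ∉ H ∧ ¬ χ g ≠ 0), ‖χ g‖ ^ 2 :=
    Finset.sum_nonneg fun g _ => by positivity
  rw [hncard]
  linarith

open Classical in
/-- The average of `|χ|²` over a coset, as a function on the quotient. -/
noncomputable def cosetSquare [Fintype G] (N : Subgroup G) [N.Normal] (χ : G → ℂ) : G ⧸ N → ℂ :=
  fun q => (Nat.card N : ℂ)⁻¹ *
    ∑ g ∈ Finset.univ.filter (fun g : G => (g : G ⧸ N) = q), χ g * conj (χ g)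

theorem classInner_cosetSquare [Fintype G] (N : Subgroup G) [N.Normal] [Fintype (G ⧸ N)]
    (χ : G → ℂ) (ψ : G ⧸ N → ℂ) :
    Cfsg.classInner (cosetSquare N χ) ψ =
      Cfsg.classInner (fun g => χ g * conj (χ g)) (fun g : G => ψ (g : G ⧸ N)) := by
  classical
  rw [classInner_def, classInner_def]
  conv_rhs => rw [← Finset.sum_fiberwise (Finset.univ : Finset G) (fun g : G => (g : G ⧸ N)),
    N.card_eq_card_quotient_mul_card_subgroup, Nat.cast_mul, mul_inv, mul_assoc, Finset.mul_sum]
  congr 1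
  refine Finset.sum_congr rfl fun q _ => ?_
  rw [cosetSquare, Finset.mul_sum, Finset.mul_sum, Finset.sum_mul]
  refine Finset.sum_congr rfl fun g hg => ?_
  rw [(Finset.mem_filter.1 hg).2, mul_assoc]

theorem isCharacter_cosetSquare [Fintype G] (N : Subgroup G) [N.Normal] {χ : G → ℂ}
    (hχ : Cfsg.IsCharacter G χ) : Cfsg.IsCharacter (G ⧸ N) (cosetSquare N χ) := by
  classical
  haveI := Fintype.ofFinite (G ⧸ N)
  refine isCharacter_of_classInner_nat (fun q r => ?_) fun ψ hψ => ?_
  · obtain ⟨a, rfl⟩ := QuotientGroup.mk'_surjective N r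
    simp only [cosetSquare]
    congr 1
    refine Finset.sum_equiv (MulAut.conj a).toEquiv.symm (fun g => ?_) fun g _ => ?_
    · have e : (MulAut.conj a).toEquiv.symm g = a⁻¹ * g * a := by simp
      rw [Finset.mem_filter, Finset.mem_filter, e, QuotientGroup.mk_mul, QuotientGroup.mk_mul,
        QuotientGroup.mk_inv]
      simp only [Finset.mem_univ, true_and, QuotientGroup.mk'_apply]
      constructor
      · intro h; rw [h]; group
      · intro h; rw [← h]; group
    · have := IsCharacter.isClassFunction hχ g a⁻¹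
      simp only [inv_inv] at this
      simp [this]
  · rw [classInner_cosetSquare]
    exact IsCharacter.exists_classInner_eq_natCast'
      (IsCharacter.mul hχ (IsCharacter.conj hχ))
      (IsCharacter.comp (IsIrrCharacter.isCharacter hψ) (QuotientGroup.mk' N))

theorem cosetSquare_one [Fintype G] (N : Subgroup G) [N.Normal] [Fintype N] (χ : G → ℂ) :
    cosetSquare N χ 1 = Cfsg.classInner (fun n : N => χ n) (fun n : N => χ n) := by
  classical
  rw [cosetSquare, classInner_def]
  congr 1
  exact Finset.sum_subtype _ (fun g => by simp [QuotientGroup.eq_one_iff]) _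

theorem cosetSquare_eq_zero_iff [Fintype G] (N : Subgroup G) [N.Normal] (χ : G → ℂ) (x : G) :
    cosetSquare N χ (x : G ⧸ N) = 0 ↔ ∀ n : N, χ ((n : G) * x) = 0 := by
  classical
  rw [cosetSquare, mul_eq_zero, or_iff_right (inv_ne_zero (by exact_mod_cast Nat.card_pos.ne'))]
  simp only [Complex.mul_conj, ← Complex.ofReal_sum, Complex.ofReal_eq_zero]
  rw [Finset.sum_eq_zero_iff_of_nonneg fun g _ => Complex.normSq_nonneg _]
  simp only [Finset.mem_filter, Finset.mem_univ, true_and, Complex.normSq_eq_zero]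
  refine ⟨fun h n => h _ ?_, fun h g hg => ?_⟩
  · rw [QuotientGroup.mk_mul, (QuotientGroup.eq_one_iff _).2 n.2, one_mul]
  · have hn : g * x⁻¹ ∈ N := by
      rw [← QuotientGroup.eq_one_iff, QuotientGroup.mk_mul, QuotientGroup.mk_inv, hg,
        mul_inv_cancel]
    simpa using h ⟨_, hn⟩

theorem sum_norm_cosetSquare [Fintype G] (N : Subgroup G) [N.Normal] [Fintype (G ⧸ N)]
    {χ : G → ℂ} (hχ : Cfsg.IsIrrCharacter G χ) :
    ∑ q, ‖cosetSquare N χ q‖ = (Nat.card (G ⧸ N) : ℝ) := by
  classical
  have hq : ∀ q, ‖cosetSquare N χ q‖ = (Nat.card N : ℝ)⁻¹ *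
      ∑ g ∈ Finset.univ.filter (fun g : G => (g : G ⧸ N) = q), ‖χ g‖ ^ 2 := by
    intro q
    rw [cosetSquare, norm_mul, norm_inv, Complex.norm_natCast]
    congr 1
    simp only [Complex.mul_conj, ← Complex.ofReal_sum]
    rw [Complex.norm_of_nonneg (Finset.sum_nonneg fun g _ => Complex.normSq_nonneg _)]
    exact Finset.sum_congr rfl fun g _ => Complex.normSq_eq_norm_sq _
  rw [Finset.sum_congr rfl fun q _ => hq q, ← Finset.mul_sum, Finset.sum_fiberwise,
    sum_norm_sq_eq hχ, N.card_eq_card_quotient_mul_card_subgroup, Nat.cast_mul,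
    mul_comm (Nat.card (G ⧸ N) : ℝ), inv_mul_cancel_left₀ (by exact_mod_cast Nat.card_pos.ne')]

/-- The restriction to a normal subgroup is irreducible iff no coset consists of zeros. -/
theorem isIrr_restrict_iff_no_zero_coset [Fintype G] (N : Subgroup G) [N.Normal] {χ : G → ℂ}
    (hχ : Cfsg.IsIrrCharacter G χ) :
    Cfsg.IsIrrCharacter N (fun n : N => χ n) ↔ ∀ x : G, ∃ n : N, χ ((n : G) * x) ≠ 0 := by
  classical
  haveI := Fintype.ofFinite (G ⧸ N)
  haveI : Fintype N := Fintype.ofFinite N
  have hc := IsIrrCharacter.isCharacter hχ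
  have hS := isCharacter_cosetSquare N hc
  have hone : Cfsg.classInner (cosetSquare N χ) (fun _ => (1 : ℂ)) = 1 := by
    rw [classInner_cosetSquare]
    refine Eq.trans ?_ (IsIrrCharacter.classInner_self hχ)
    simp [classInner_def]
  have hne : Cfsg.classInner (cosetSquare N χ) (fun _ => (1 : ℂ)) ≠ 0 := by rw [hone]; exact one_ne_zero
  constructor
  · intro hirr x
    by_contra! h0
    have hconst : cosetSquare N χ = fun _ => (1 : ℂ) :=
      IsCharacter.eq_of_constituent hS isIrrCharacter_one hne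
        (by rw [cosetSquare_one, IsIrrCharacter.classInner_self hirr])
    have := (cosetSquare_eq_zero_iff N χ x).2 h0
    rw [hconst] at this
    exact one_ne_zero this
  · intro hall
    obtain ⟨n, hn⟩ := IsCharacter.exists_degree hS
    have hn1 : 1 ≤ n := by
      have := IsCharacter.re_constituent_le hS isIrrCharacter_one hne
      rw [hn, Complex.one_re, Complex.natCast_re] at this
      exact_mod_cast this
    have hnz : ∀ q : G ⧸ N, cosetSquare N χ q ≠ 0 := fun q h0 => by
      obtain ⟨x, rfl⟩ := QuotientGroup.mk_surjective q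
      obtain ⟨m, hm⟩ := hall x
      exact hm ((cosetSquare_eq_zero_iff N χ x).1 h0 m)
    have hstable : ∀ t : ℕ, t.Coprime (Nat.card (G ⧸ N)) →
        ∀ q ∈ (Finset.univ : Finset (G ⧸ N)).erase 1, q ^ t ∈ Finset.univ.erase (1 : G ⧸ N) := by
      intro t ht q hq
      rw [Finset.mem_erase] at hq ⊢
      exact ⟨fun h => hq.1 ((powCoprime (Nat.coprime_comm.1 ht)).injective
        (h.trans (one_pow t).symm)), Finset.mem_univ _⟩
    have h1 := card_le_sum_norm_pow ((Finset.univ : Finset (G ⧸ N)).erase 1) (cosetSquare N χ) 1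
      (fun q _ => IsCharacter.isIntegral hS q) (fun q _ => hnz q)
      (prod_fixed_of_stable hS _ hstable)
    simp only [pow_one] at h1
    have h2 := sum_norm_cosetSquare N hχ
    rw [← Finset.add_sum_erase _ _ (Finset.mem_univ (1 : G ⧸ N)), hn, Complex.norm_natCast] at h2
    have h3 : ((Finset.univ.erase (1 : G ⧸ N)).card : ℝ) + 1 = Nat.card (G ⧸ N) := by
      rw [Nat.card_eq_fintype_card, ← Finset.card_univ]
      exact_mod_cast Finset.card_erase_add_one (Finset.mem_univ (1 : G ⧸ N))
    have hn' : n = 1 := le_antisymm (by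
      have : (n : ℝ) ≤ 1 := by linarith
      exact_mod_cast this) hn1
    refine IsCharacter.isIrrCharacter_of_classInner_self (IsCharacter.restrict hc N) ?_
    rw [← cosetSquare_one, hn, hn', Nat.cast_one]

end CfsgLib.Char
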