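import Cfsg.Agent.Char.ZassenhausCount
import Cfsg.Agent.Char.Induction
import Cfsg.Agent.Char.Orthogonality
import Cfsg.Agent.Char.Linear

/-!
# Principal series characters of Zassenhaus groups
-/

set_option autoImplicit false
set_option linter.style.haveILetI false

namespace CfsgLib.Char

open MulAction

/-- The value of a function induced from a point stabiliser as a sum over points. -/
theorem indFun_stabilizer_apply {G Ω : Type*} [Group G] [Fintype G] [MulAction G Ω] [Fintype Ω]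
    {a : Ω} (μ : stabilizer G a → ℂ) (hμ : Cfsg.IsClassFunction (stabilizer G a) μ) (t : Ω → G)
    (ht : ∀ c, t c • a = c) (g : G) :
    Cfsg.indFun (stabilizer G a) μ g =
      ∑ c : Ω, Cfsg.extendByZero (stabilizer G a) μ ((t c)⁻¹ * g * t c) := by
  classical
  rw [indFun_def, ← Finset.sum_fiberwise Finset.univ (fun x : G => x • a), Finset.mul_sum]
  refine Finset.sum_congr rfl fun c _ => ?_
  have hconst : ∀ x ∈ Finset.univ.filter (fun x : G => x • a = c),
      Cfsg.extendByZero (stabilizer G a) μ (x⁻¹ * g * x) =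
        Cfsg.extendByZero (stabilizer G a) μ ((t c)⁻¹ * g * t c) := by
    intro x hx
    simp only [Finset.mem_filter, Finset.mem_univ, true_and] at hx
    obtain ⟨s, hs, rfl⟩ : ∃ s ∈ stabilizer G a, x = t c * s :=
      ⟨(t c)⁻¹ * x, show ((t c)⁻¹ * x) • a = a by rw [mul_smul, hx, inv_smul_eq_iff, ht],
        (mul_inv_cancel_left _ _).symm⟩
    rw [show (t c * s)⁻¹ * g * (t c * s) = s⁻¹ * ((t c)⁻¹ * g * t c) * s by group]
    by_cases hy : (t c)⁻¹ * g * t c ∈ stabilizer G a
    · have hy' := mul_mem (mul_mem (inv_mem hs) hy) hs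
      rw [extendByZero_of_mem μ hy', extendByZero_of_mem μ hy,
        ← hμ ⟨_, hy⟩ ⟨s⁻¹, inv_mem hs⟩]
      congr 1
      exact Subtype.ext (by simp)
    · rw [extendByZero_of_not_mem μ hy, extendByZero_of_not_mem μ]
      intro h
      apply hy
      have := mul_mem (mul_mem hs h) (inv_mem hs)
      simpa [mul_assoc] using this
  rw [Finset.sum_congr rfl hconst, Finset.sum_const, nsmul_eq_mul, ← mul_assoc]
  have hcard : (Finset.univ.filter fun x : G => x • a = c).card = Nat.card (stabilizer G a) := by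
    rw [← Fintype.card_subtype, ← Nat.card_eq_fintype_card]
    refine Nat.card_congr
      { toFun := fun x => ⟨(t c)⁻¹ * x.1, show ((t c)⁻¹ * x.1) • a = a by
          rw [mul_smul, x.2, inv_smul_eq_iff, ht]⟩
        invFun := fun s => ⟨t c * (s : G), show (t c * (s : G)) • a = c by
          rw [mul_smul, show (s : G) • a = a from s.2, ht]⟩
        left_inv := fun x => Subtype.ext (mul_inv_cancel_left _ _)
        right_inv := fun s => Subtype.ext (inv_mul_cancel_left _ _) }
  rw [hcard, inv_mul_cancel₀ (Nat.cast_ne_zero.2 (Nat.card_pos (α := stabilizer G a)).ne'), one_mul]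

variable {G Ω : Type*} [Group G] [MulAction G Ω] [Fintype Ω]

/-- An element of a point stabiliser fixing only that point lies in the kernel. -/
theorem zass_mem_kernel (hZ : Cfsg.IsZassenhausGroup G Ω) {a : Ω} (H : Subgroup G)
    (hHa : H ≤ stabilizer G a) (hHcard : Nat.card H + 1 = Fintype.card Ω)
    (hHfix : ∀ u ∈ H, u ≠ 1 → ∀ c : Ω, u • c = c → c = a) {g : G} (hga : g • a = a)
    (hg : ∀ c : Ω, g • c = c → c = a) : g ∈ H := by
  classical
  haveI := CfsgLib.Zass.finite_of_isZassenhaus hZ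
  obtain ⟨K, hKa, hKmem, -, hKt⟩ := CfsgLib.Zass.exists_kernel hZ a
  have hle : H ≤ K := fun u hu => (hKmem u).2 (by
    by_cases h1 : u = 1
    · exact Or.inl h1
    · exact Or.inr ⟨hHa hu, hHfix u hu h1⟩)
  obtain ⟨b, hb⟩ := Fintype.exists_ne_of_one_lt_card (α := Ω)
    (by have := zassenhaus_three_le hZ; omega) a
  have hinj : Function.Injective (fun k : K => (⟨(k : G) • b, fun h => hb
      (smul_left_cancel (k : G) (h.trans (hKa k.2 : (k : G) • a = a).symm))⟩ : {c : Ω // c ≠ a})) := by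
    intro k l hkl
    have h' : (k : G) • b = (l : G) • b := congrArg Subtype.val hkl
    rcases (hKmem _).1 (mul_mem (inv_mem l.2) k.2) with h | ⟨-, h⟩
    · exact Subtype.ext (inv_mul_eq_one.1 h).symm
    · exact absurd (h b (by rw [mul_smul, h', inv_smul_smul])) hb
  have hKcard := Nat.card_le_card_of_injective _ hinj
  rw [Nat.card_eq_fintype_card (α := {c : Ω // c ≠ a}), Fintype.card_subtype_compl,
    Fintype.card_subtype_eq] at hKcard
  rw [Subgroup.eq_of_le_of_card_ge hle (by omega)]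
  exact (hKmem g).2 (Or.inr ⟨hga, hg⟩)

/-- Characters induced from linear characters of a point stabiliser trivial on the kernel. -/
theorem zass_principal_series [Fintype G] [IsSimpleGroup G]
    (hZ : Cfsg.IsZassenhausGroup G Ω) {a b : Ω} (hab : a ≠ b)
    (hodd : Odd (Nat.card ↥(stabilizer G a ⊓ stabilizer G b)))
    (H : Subgroup G) (hHa : H ≤ stabilizer G a) (hHcard : Nat.card H + 1 = Fintype.card Ω)
    (hHfix : ∀ u ∈ H, u ≠ 1 → ∀ c : Ω, u • c = c → c = a)
    (μ : stabilizer G a →* ℂˣ) (hμH : ∀ u : stabilizer G a, (u : G) ∈ H → μ u = 1)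
    (hμne : μ ≠ 1) :
    Cfsg.IsIrrCharacter G (Cfsg.indFun (stabilizer G a) (fun x => (μ x : ℂ))) ∧
      ∀ u ∈ H, u ≠ 1 → Cfsg.indFun (stabilizer G a) (fun x => (μ x : ℂ)) u = 1 := by
  classical
  have hn3 := zassenhaus_three_le hZ
  have ht : ∀ c : Ω, ∃ t : G, t • a = c ∧ (c ≠ a → t • c = a) ∧ (c = a → t = 1) := by
    intro c
    rcases eq_or_ne c a with rfl | hc
    · exact ⟨1, one_smul G _, fun h => absurd rfl h, fun _ => rfl⟩
    · obtain ⟨t, h1, h2⟩ := CfsgLib.Zass.two_trans hZ hc.symm hc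
      exact ⟨t, h1, fun _ => h2, fun h => absurd h hc⟩
  choose t ht1 ht2 ht3 using ht
  set ψ := Cfsg.indFun (stabilizer G a) (fun x => (μ x : ℂ)) with hψ
  have hcl : Cfsg.IsClassFunction (stabilizer G a) (fun x => (μ x : ℂ)) :=
    IsCharacter.isClassFunction (isCharacter_ofHom μ)
  have hval : ∀ g, ψ g = ∑ c : Ω,
      Cfsg.extendByZero (stabilizer G a) (fun x => (μ x : ℂ)) ((t c)⁻¹ * g * t c) := fun g => by
    rw [hψ, indFun_stabilizer_apply _ hcl t ht1 g]
  have hz : ∀ (g : G) (c : Ω), g • c ≠ c →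
      Cfsg.extendByZero (stabilizer G a) (fun x => (μ x : ℂ)) ((t c)⁻¹ * g * t c) = 0 := by
    intro g c hc
    refine extendByZero_of_not_mem _ fun h => hc ?_
    have e : ((t c)⁻¹ * g * t c) • a = a := h
    rwa [mul_smul, mul_smul, ht1, inv_smul_eq_iff, ht1] at e
  have hH1 : ∀ x : stabilizer G a, (x : G) ∈ H → x ≠ 1 → ψ x = 1 := by
    intro x hx hx1
    rw [hval, Finset.sum_eq_single a]
    · rw [ht3 a rfl, inv_one, one_mul, mul_one, extendByZero_of_mem _ x.2, hμH x hx, Units.val_one]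
    · intro c _ hc
      exact hz _ c fun h => hc (hHfix _ hx (fun e => hx1 (Subtype.ext e)) c h)
    · simp
  have htwo : ∀ x : stabilizer G a, (x : G) ∉ H →
      ψ x = (μ x : ℂ) + ((μ x : ℂ))⁻¹ ∧ μ x ^ Nat.card ↥(stabilizer G a ⊓ stabilizer G b) = 1 := by
    intro x hx
    obtain ⟨c, hc, hca⟩ : ∃ c : Ω, (x : G) • c = c ∧ c ≠ a := by
      by_contra hcon
      push Not at hcon
      exact hx (zass_mem_kernel hZ H hHa hHcard hHfix x.2 hcon)
    have hxp : (x : G) ∈ stabilizer G a ⊓ stabilizer G c := ⟨x.2, hc⟩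
    have hcard : Nat.card ↥(stabilizer G a ⊓ stabilizer G c) =
        Nat.card ↥(stabilizer G a ⊓ stabilizer G b) := CfsgLib.Zass.card_pair hZ hab hca.symm
    obtain ⟨-, -, hinv⟩ := zass_simple_pair hZ hca.symm (hcard ▸ hodd)
    refine ⟨?_, ?_⟩
    · have hx1 : (x : G) ≠ 1 := fun e => hx (e ▸ H.one_mem)
      rw [hval, ← Finset.sum_subset (Finset.subset_univ ({a, c} : Finset Ω)),
        Finset.sum_pair hca.symm]
      · congr 1
        · rw [ht3 a rfl, inv_one, one_mul, mul_one, extendByZero_of_mem _ x.2]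
        · have e : (t c)⁻¹ * (x : G) * t c = (x : G)⁻¹ := by
            have e1 := hinv _ (ht1 c) (ht2 c hca) _ (inv_mem hxp)
            rw [inv_inv] at e1
            calc (t c)⁻¹ * (x : G) * t c = (t c)⁻¹ * (t c * (x : G)⁻¹ * (t c)⁻¹) * t c := by rw [e1]
              _ = _ := by group
          rw [e, extendByZero_of_mem _ (inv_mem x.2)]
          show ((μ x⁻¹ : ℂˣ) : ℂ) = _
          rw [map_inv, Units.val_inv_eq_inv_val]
      · intro d _ hd
        simp only [Finset.mem_insert, Finset.mem_singleton, not_or] at hd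
        exact hz _ d fun h => (CfsgLib.Zass.eq_or_eq hZ hca.symm hx1 x.2 hc h).elim hd.1 hd.2
    · rw [← map_pow, ← map_one μ]
      congr 1
      refine Subtype.ext ?_
      rw [SubmonoidClass.coe_pow, ← hcard]
      exact congrArg Subtype.val
        (pow_card_eq_one' (x := (⟨x, hxp⟩ : ↥(stabilizer G a ⊓ stabilizer G c))))
  refine ⟨?_, fun u hu hu1 => hH1 ⟨u, hHa hu⟩ hu (fun e => hu1 (congrArg Subtype.val e))⟩
  have hchar : Cfsg.IsCharacter G ψ := IsCharacter.indFun (isCharacter_ofHom μ)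
  refine IsCharacter.isIrrCharacter_of_classInner_self hchar ?_
  let μ2 : stabilizer G a →* ℂˣ :=
    { toFun := fun x => (μ x)⁻¹ * (μ x)⁻¹
      map_one' := by simp
      map_mul' := fun x y => by simp only [map_mul, mul_inv]; ac_rfl }
  have hμ2 : μ2 ≠ 1 := by
    intro h
    apply hμne
    refine MonoidHom.ext fun x => ?_
    by_cases hx : (x : G) ∈ H
    · exact hμH x hx
    · obtain ⟨-, hp⟩ := htwo x hx
      have h2 : μ x ^ 2 = 1 := by
        have := DFunLike.congr_fun h x
        simp only [μ2, MonoidHom.coe_mk, OneHom.coe_mk, MonoidHom.one_apply] at this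
        rw [← mul_inv, inv_eq_one] at this
        rw [sq, this]
      obtain ⟨r, hr⟩ := hodd
      rwa [hr, pow_succ, pow_mul, h2, one_pow, one_mul] at hp
  have hsum2 : ∑ x : stabilizer G a, ((μ2 x : ℂˣ) : ℂ) = 0 := by
    obtain ⟨y, hy⟩ : ∃ y, μ2 y ≠ 1 := by
      by_contra h; push Not at h; exact hμ2 (MonoidHom.ext h)
    have : ((μ2 y : ℂˣ) : ℂ) * ∑ x : stabilizer G a, ((μ2 x : ℂˣ) : ℂ) =
        ∑ x : stabilizer G a, ((μ2 x : ℂˣ) : ℂ) := by
      rw [Finset.mul_sum]
      exact Fintype.sum_equiv (Equiv.mulLeft y) _ _ fun x => by simp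
    by_contra h0
    exact hy (Units.ext (mul_right_cancel₀ h0 (this.trans (one_mul _).symm)))
  rw [hψ, classInner_indFun _ (isClassFunction_indFun _ _), classInner_def, ← hψ]
  have hpt : ∀ x : stabilizer G a, (μ x : ℂ) * starRingEnd ℂ (ψ x) =
      1 + ((μ2 x : ℂˣ) : ℂ)⁻¹ + ((if x = 1 then (Fintype.card Ω : ℂ) - 1 else 0) +
        (if (x : G) ∈ H then -1 else 0)) := by
    intro x
    have hμ2x : ((μ2 x : ℂˣ) : ℂ)⁻¹ = (μ x : ℂ) * (μ x : ℂ) := by
      simp [μ2]
    by_cases hx : (x : G) ∈ H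
    · rw [if_pos hx, hμ2x, hμH x hx, Units.val_one]
      by_cases hx1 : x = 1
      · subst hx1
        rw [if_pos rfl, OneMemClass.coe_one, hψ, indFun_one,
          show ((μ 1 : ℂˣ) : ℂ) = 1 by simp, mul_one]
        have hidx : (stabilizer G a).index = Fintype.card Ω := by
          haveI : IsPretransitive G Ω :=
            ⟨fun p q => ⟨t q * (t p)⁻¹, by rw [mul_smul, inv_smul_eq_iff.2 (ht1 p).symm, ht1]⟩⟩
          rw [index_stabilizer_of_transitive, Nat.card_eq_fintype_card]
        rw [hidx, map_natCast]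
        ring
      · rw [if_neg hx1, hH1 x hx hx1, map_one]
        ring
    · have hx1 : x ≠ 1 := fun e => hx (e ▸ H.one_mem)
      obtain ⟨h, hp⟩ := htwo x hx
      have hconj : starRingEnd ℂ (μ x : ℂ) = ((μ x : ℂ))⁻¹ := by
        refine (Complex.inv_eq_conj ?_).symm
        exact Complex.norm_eq_one_of_pow_eq_one (by rw [← Units.val_pow_eq_pow_val, hp, Units.val_one])
          Nat.card_pos.ne'
      rw [if_neg hx, if_neg hx1, h, map_add, map_inv₀, hconj, inv_inv, hμ2x, mul_add,
        mul_inv_cancel₀ (Units.ne_zero _)]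
      ring
  simp only [hpt, Finset.sum_add_distrib, Finset.sum_const, Finset.card_univ, nsmul_eq_mul, mul_one,
    Finset.sum_ite_eq' Finset.univ, Finset.mem_univ, if_true, ← Finset.sum_filter]
  have hinvsum : ∑ x : stabilizer G a, ((μ2 x : ℂˣ) : ℂ)⁻¹ = 0 := by
    rw [← hsum2]
    exact Fintype.sum_equiv (Equiv.inv _) _ _ fun x => by simp
  have hHc : (Finset.univ.filter fun x : stabilizer G a => (x : G) ∈ H).card = Nat.card H := by
    rw [← Fintype.card_subtype, ← Nat.card_eq_fintype_card]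
    exact Nat.card_congr ⟨fun x => ⟨x.1, x.2⟩, fun h => ⟨⟨h, hHa h.2⟩, h.2⟩, fun _ => rfl,
      fun _ => rfl⟩
  rw [hinvsum, hHc, ← Nat.card_eq_fintype_card, ← hHcard, Nat.cast_add, Nat.cast_one,
    show (Nat.card (stabilizer G a) : ℂ) + 0 + ((Nat.card H : ℂ) + 1 - 1 + (Nat.card H : ℂ) * -1) =
      (Nat.card (stabilizer G a) : ℂ) by ring]
  exact inv_mul_cancel₀ (Nat.cast_ne_zero.2 (Nat.card_pos (α := stabilizer G a)).ne')

end CfsgLib.Char
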