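import Cfsg.Agent.Char.ZassenhausInvolutions

/-!
# Classes meeting no kernel in a simple Zassenhaus group
-/

set_option autoImplicit false
set_option linter.style.haveILetI false

namespace CfsgLib.Char

open MulAction

variable {G Ω : Type*} [Group G] [MulAction G Ω] [Fintype Ω] [Finite G] [IsSimpleGroup G]

/-- At most `|G|` pairs of involutions have their product in a given class. -/
theorem card_involution_pairs_le {K : Type*} [Group K] [Fintype K] [DecidableEq K] (x : K) :
    (Finset.univ.filter fun p : K × K =>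
      orderOf p.1 = 2 ∧ orderOf p.2 = 2 ∧ IsConj x (p.1 * p.2)).card ≤ Nat.card K := by
  classical
  set S := Finset.univ.filter fun p : K × K =>
      orderOf p.1 = 2 ∧ orderOf p.2 = 2 ∧ IsConj x (p.1 * p.2) with hS
  set C := Finset.univ.filter fun y : K => IsConj x y with hC
  rw [Finset.card_eq_sum_card_fiberwise (f := fun p : K × K => p.1 * p.2) (t := C)
    fun p hp => Finset.mem_filter.2 ⟨Finset.mem_univ _, (Finset.mem_filter.1 hp).2.2.2⟩]
  refine le_trans (Finset.sum_le_card_nsmul _ _ (Nat.card (Subgroup.centralizer ({x} : Set K))) ?_) ?_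
  · intro y hy
    obtain ⟨g, hg⟩ := isConj_iff.1 (Finset.mem_filter.1 hy).2
    rcases (S.filter fun p => p.1 * p.2 = y).eq_empty_or_nonempty with h | ⟨p₀, hp₀⟩
    · rw [h]; simp
    have key : ∀ p ∈ (S.filter fun p => p.1 * p.2 = y), p.1 * y * p.1⁻¹ = y⁻¹ := by
      intro p hp
      obtain ⟨hpS, rfl⟩ := Finset.mem_filter.1 hp
      have h1 := (Finset.mem_filter.1 hpS).2.1
      have h2 := (Finset.mem_filter.1 hpS).2.2.1
      have e1 : p.1 * p.1 = 1 := by rw [← sq, ← h1, pow_orderOf_eq_one]
      have e2 : p.2 * p.2 = 1 := by rw [← sq, ← h2, pow_orderOf_eq_one]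
      rw [mul_inv_rev, inv_eq_of_mul_eq_one_left e2, inv_eq_of_mul_eq_one_left e1, ← mul_assoc, e1,
        one_mul]
    rw [← Fintype.card_coe, ← Nat.card_eq_fintype_card]
    refine Nat.card_le_card_of_injective (fun p => (⟨g⁻¹ * (p₀.1⁻¹ * p.1.1) * g, ?_⟩ :
      Subgroup.centralizer ({x} : Set K))) ?_
    · rw [Subgroup.mem_centralizer_singleton_iff]
      have hyv : p.1.1 * y = y⁻¹ * p.1.1 := mul_inv_eq_iff_eq_mul.1 (key _ p.2)
      have hy0 : p₀.1 * y = y⁻¹ * p₀.1 := mul_inv_eq_iff_eq_mul.1 (key _ hp₀)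
      have hz : p₀.1⁻¹ * p.1.1 * y = y * (p₀.1⁻¹ * p.1.1) := by
        calc p₀.1⁻¹ * p.1.1 * y = p₀.1⁻¹ * (y⁻¹ * p.1.1) := by rw [mul_assoc, hyv]
          _ = p₀.1⁻¹ * (y⁻¹ * p₀.1) * (p₀.1⁻¹ * p.1.1) := by group
          _ = y * (p₀.1⁻¹ * p.1.1) := by rw [← hy0, inv_mul_cancel_left]
      have hx : x = g⁻¹ * y * g := by rw [← hg]; group
      rw [hx]
      calc g⁻¹ * (p₀.1⁻¹ * p.1.1) * g * (g⁻¹ * y * g) = g⁻¹ * (p₀.1⁻¹ * p.1.1 * y) * g := by group
        _ = g⁻¹ * (y * (p₀.1⁻¹ * p.1.1)) * g := by rw [hz]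
        _ = g⁻¹ * y * g * (g⁻¹ * (p₀.1⁻¹ * p.1.1) * g) := by group
    · intro p q hpq
      have e : p.1.1 = q.1.1 := by simpa using congrArg Subtype.val hpq
      refine Subtype.ext (Prod.ext e ?_)
      have hp := (Finset.mem_filter.1 p.2).2
      have hq := (Finset.mem_filter.1 q.2).2
      refine mul_left_cancel (a := p.1.1) (hp.trans ?_)
      rw [e]
      exact hq.symm
  · rw [smul_eq_mul]
    refine le_of_eq ?_
    conv_rhs => rw [← (Subgroup.centralizer ({x} : Set K)).card_mul_index]
    rw [mul_comm]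
    congr 1
    refine Nat.eq_of_mul_eq_mul_right (m := Nat.card (Subgroup.centralizer ({x} : Set K)))
      Nat.card_pos ?_
    rw [Subgroup.index_mul_card, hC]
    convert card_conj_class_mul_card_centralizer x using 2
    exact (Fintype.card_subtype _).symm.trans (Nat.card_eq_fintype_card.symm)

/-- At least `e` classes contain no element of the kernel. -/
theorem zass_classes_avoiding (hZ : Cfsg.IsZassenhausGroup G Ω) {a b : Ω} (hab : a ≠ b)
    (hodd : Odd (Nat.card ↥(stabilizer G a ⊓ stabilizer G b)))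
    (hlt : Nat.card ↥(stabilizer G a ⊓ stabilizer G b) + 1 < Fintype.card Ω) (H : Subgroup G)
    (hHa : H ≤ stabilizer G a) (hHcard : Nat.card H + 1 = Fintype.card Ω)
    (hHfix : ∀ u ∈ H, u ≠ 1 → ∀ c : Ω, u • c = c → c = a) :
    Nat.card ↥(stabilizer G a ⊓ stabilizer G b) ≤
      Nat.card {C : ConjClasses G // ∀ g : G, ConjClasses.mk g = C → g ∉ H} := by
  classical
  haveI := Fintype.ofFinite G
  haveI := hZ.1
  have hn3 := zassenhaus_three_le hZ
  have he3 := zass_three_le_pair hZ hab hodd
  have hIcount := zass_card_involutions hZ hab hodd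
  have hG := zass_card_group hZ hab
  set n := Fintype.card Ω with hn
  set e := Nat.card ↥(stabilizer G a ⊓ stabilizer G b) with he
  set I := Finset.univ.filter fun x : G => orderOf x = 2 with hI
  rw [Nat.card_eq_fintype_card (α := {x : G // orderOf x = 2}), Fintype.card_subtype, ← hI] at hIcount
  set N := Finset.univ.filter fun C : ConjClasses G => ∀ g : G, ConjClasses.mk g = C → g ∉ H with hN
  rw [Nat.card_eq_fintype_card (α := {C : ConjClasses G // _}), Fintype.card_subtype, ← hN]
  set P := I ×ˢ I with hP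
  set good := P.filter fun p => ConjClasses.mk (p.1 * p.2) ∈ N with hgood
  set bad := P.filter fun p => ConjClasses.mk (p.1 * p.2) ∉ N with hbad
  have hsplit : good.card + bad.card = I.card * I.card := by
    rw [hgood, hbad, Finset.card_filter_add_card_filter_not, hP, Finset.card_product]
  have hgle : good.card ≤ N.card * Nat.card G := by
    refine (Finset.card_eq_sum_card_fiberwise (f := fun p : G × G => ConjClasses.mk (p.1 * p.2))
      (t := N) fun p hp => (Finset.mem_filter.1 hp).2).trans_le ?_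
    refine le_trans (Finset.sum_le_card_nsmul _ _ (Nat.card G) fun C _ => ?_) (le_of_eq (smul_eq_mul _ _))
    obtain ⟨x, rfl⟩ := ConjClasses.mk_surjective C
    refine le_trans (Finset.card_le_card fun p hp => ?_) (card_involution_pairs_le x)
    obtain ⟨hp1, hp2⟩ := Finset.mem_filter.1 hp
    obtain ⟨hp3, -⟩ := Finset.mem_filter.1 hp1
    simp only [hP, hI, Finset.mem_product, Finset.mem_filter, Finset.mem_univ, true_and] at hp3 ⊢
    exact ⟨hp3.1, hp3.2, isConj_comm.1 (ConjClasses.mk_eq_mk_iff_isConj.1 hp2)⟩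
  have hinv : ∀ x ∈ I, x * x = 1 := fun x hx => by
    rw [← sq, ← (Finset.mem_filter.1 hx).2, pow_orderOf_eq_one]
  -- a bad pair is diagonal or has a common fixed point
  have hshape : ∀ p ∈ bad, p.1 = p.2 ∨ ∃ c : Ω, p.1 • c = c ∧ p.2 • c = c := by
    intro p hp
    obtain ⟨hpP, hpN⟩ := Finset.mem_filter.1 hp
    obtain ⟨h1, h2⟩ := Finset.mem_product.1 hpP
    simp only [hN, Finset.mem_filter, Finset.mem_univ, true_and, not_forall, not_not] at hpN
    obtain ⟨u, hu, huH⟩ := hpN
    obtain ⟨g, hg⟩ := isConj_iff.1 (ConjClasses.mk_eq_mk_iff_isConj.1 hu)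
    by_cases hu1 : u = 1
    · left
      rw [hu1, mul_one, mul_inv_cancel] at hg
      rw [← inv_eq_of_mul_eq_one_right hg.symm]
      exact (inv_eq_of_mul_eq_one_left (hinv _ h1)).symm
    · right
      have hfix : ∀ c, (p.1 * p.2) • c = c ↔ c = g • a := fun c => by
        rw [← hg]
        constructor
        · intro hc
          rw [mul_smul, mul_smul] at hc
          rw [← hHfix u huH hu1 _ (eq_inv_smul_iff.2 hc), smul_inv_smul]
        · rintro rfl
          rw [mul_smul, mul_smul, inv_smul_smul, show u • a = a from hHa huH]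
      have hpa : p.1 • (g • a) = g • a := by
        refine (hfix _).1 ?_
        have e0 : (p.1 * p.2)⁻¹ • (g • a) = g • a := inv_smul_eq_iff.2 ((hfix _).2 rfl).symm
        rw [mul_inv_rev, inv_eq_of_mul_eq_one_left (hinv _ h1),
          inv_eq_of_mul_eq_one_left (hinv _ h2)] at e0
        calc (p.1 * p.2) • p.1 • g • a = p.1 • ((p.2 * p.1) • g • a) := by
              simp only [smul_smul, mul_assoc]
          _ = p.1 • g • a := by rw [e0]
      refine ⟨g • a, hpa, ?_⟩
      have e0 := (hfix (g • a)).2 rfl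
      rw [mul_smul] at e0
      exact smul_left_cancel p.1 (e0.trans hpa.symm)
  have hfixle : ∀ x ∈ I, ∀ c d : Ω, x • c = c → x • d = d → c = d := by
    intro x hx c d hc hd
    by_contra hcd
    obtain ⟨r, hr⟩ := hodd
    have hdvd : orderOf x ∣ Nat.card ↥(stabilizer G c ⊓ stabilizer G d) :=
      Subgroup.orderOf_dvd_natCard _ ⟨hc, hd⟩
    rw [(Finset.mem_filter.1 hx).2, CfsgLib.Zass.card_pair hZ hab hcd, ← he, hr] at hdvd
    omega
  have hnum : ∀ x ∈ I, (Odd n → ∃ c : Ω, x • c = c) ∧ (Even n → ∀ c : Ω, x • c ≠ c) := by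
    intro x hx
    have hx2 := (Finset.mem_filter.1 hx).2
    obtain ⟨c, hc⟩ : ∃ c : Ω, x • c ≠ c := by
      by_contra h
      push Not at h
      have : x = 1 := eq_of_smul_eq_smul (α := Ω) fun c => by rw [h, one_smul]
      rw [this, orderOf_one] at hx2
      omega
    have hf := (Cfsg.Agent.S0740.result hZ (Ne.symm hc)).2.1 x hx2 rfl
      (by rw [smul_smul, hinv x hx, one_smul])
    refine ⟨fun ho => ?_, fun hev d hd => ?_⟩
    · haveI : Nonempty (fixedBy Ω x) :=
        (Nat.card_pos_iff.1 (by rw [hf.1 ho]; exact one_pos)).1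
      obtain ⟨d, hd⟩ := (inferInstance : Nonempty (fixedBy Ω x))
      exact ⟨d, hd⟩
    · rcases hf.2 hev with h | h
      · exact Finite.card_eq_zero_iff.1 h |>.false ⟨d, hd⟩
      · rw [Nat.card_eq_fintype_card] at h
        obtain ⟨⟨p, hp⟩, ⟨q, hq⟩, hpq⟩ := Fintype.one_lt_card_iff.1 (by omega :
          1 < Fintype.card (fixedBy Ω x))
        exact hpq (Subtype.ext (hfixle x hx p q hp hq))
  have hkey : (e - 1) * Nat.card G < good.card := by
    rcases Nat.even_or_odd n with hev | hod
    · rw [if_neg (Nat.not_odd_iff_even.2 hev)] at hIcount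
      have hIc : I.card = (n - 1) * e := by
        refine Nat.eq_of_mul_eq_mul_right (m := n) (by omega) ?_
        rw [hIcount]; ring
      have hb : bad.card ≤ I.card := by
        refine Finset.card_le_card_of_injOn Prod.fst
          (fun p hp => (Finset.mem_product.1 (Finset.mem_filter.1 hp).1).1) fun p hp q hq hpq => ?_
        have hd : ∀ r ∈ bad, r.1 = r.2 := fun r hr => (hshape r hr).resolve_right fun ⟨c, hc, _⟩ =>
          (hnum _ (Finset.mem_product.1 (Finset.mem_filter.1 hr).1).1).2 hev c hc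
        exact Prod.ext hpq ((hd p hp).symm.trans (hpq.trans (hd q hq)))
      obtain ⟨f, hf⟩ : ∃ f, e = f + 3 := ⟨e - 3, by omega⟩
      obtain ⟨m, hm⟩ : ∃ m, n = e + 2 + m := ⟨n - (e + 2), by omega⟩
      rw [hf] at hm
      rw [hG]
      rw [hIc] at hsplit hb
      simp only [hf, hm, show f + 3 + 2 + m - 1 = f + 4 + m by omega, show f + 3 - 1 = f + 2 by omega] at hsplit hb ⊢
      have key : (f + 2) * (f + 3 + 2 + m) + 1 < (f + 4 + m) * (f + 3) := by nlinarith
      have := Nat.mul_lt_mul_of_lt_of_le key (le_refl ((f + 4 + m) * (f + 3))) (by positivity)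
      nlinarith
    · rw [if_pos hod] at hIcount
      have hIc : I.card = n * e := by
        refine Nat.eq_of_mul_eq_mul_right (m := n - 1) (by omega) ?_
        rw [hIcount]; ring
      let M : Ω → ℕ := fun c => (I.filter fun x => x • c = c).card
      have hMeq : ∀ c, M c = M a := by
        intro c
        obtain ⟨g, hg⟩ : ∃ g : G, g • a = c := by
          obtain ⟨d, hd⟩ := Fintype.exists_ne_of_one_lt_card (by omega) c
          obtain ⟨g, hg, -⟩ := CfsgLib.Zass.two_trans hZ hab hd.symm
          exact ⟨g, hg⟩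
        refine Finset.card_nbij' (fun x => g⁻¹ * x * g) (fun x => g * x * g⁻¹) ?_ ?_ ?_ ?_
        · intro x hx
          simp only [Finset.mem_coe, Finset.mem_filter, hI, Finset.mem_univ, true_and] at hx ⊢
          refine ⟨?_, by rw [mul_smul, mul_smul, hg, hx.2, inv_smul_eq_iff, hg]⟩
          rw [← hx.1]
          simpa using MulEquiv.orderOf_eq (MulAut.conj g⁻¹) x
        · intro x hx
          simp only [Finset.mem_coe, Finset.mem_filter, hI, Finset.mem_univ, true_and] at hx ⊢
          refine ⟨?_, by rw [← hg, mul_smul, mul_smul, inv_smul_smul, hx.2]⟩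
          rw [← hx.1]
          exact MulEquiv.orderOf_eq (MulAut.conj g) x
        · intro x _; group
        · intro x _; group
      have hMsum : n * M a = I.card := by
        have h1 : ∑ c : Ω, M c = ∑ x ∈ I, (Finset.univ.filter fun c : Ω => x • c = c).card := by
          simp only [M, Finset.card_filter]
          exact Finset.sum_comm
        rw [Finset.sum_congr rfl fun c _ => hMeq c, Finset.sum_const, Finset.card_univ, smul_eq_mul,
          Finset.sum_congr rfl (g := fun _ => 1), Finset.sum_const, smul_eq_mul, mul_one] at h1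
        · exact h1
        intro x hx
        obtain ⟨c, hc⟩ := (hnum x hx).1 hod
        refine Finset.card_eq_one.2 ⟨c, Finset.ext fun d => ?_⟩
        simp only [Finset.mem_filter, Finset.mem_univ, true_and, Finset.mem_singleton]
        exact ⟨fun hd => hfixle x hx d c hd hc, fun hd => hd ▸ hc⟩
      have hMe : M a = e := Nat.eq_of_mul_eq_mul_left (n := n) (by omega) (hMsum.trans hIc)
      have hb : bad.card ≤ e * I.card := by
        refine Finset.card_le_mul_card_image_of_maps_to (f := Prod.fst)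
          (fun p hp => (Finset.mem_product.1 (Finset.mem_filter.1 hp).1).1) e fun x hx => ?_
        obtain ⟨c, hc⟩ := (hnum x hx).1 hod
        refine le_trans (Finset.card_le_card_of_injOn (t := I.filter fun y => y • c = c) Prod.snd ?_ ?_)
          (le_of_eq ((hMeq c).trans hMe))
        · intro p hp
          obtain ⟨hpb, rfl⟩ := Finset.mem_filter.1 hp
          refine Finset.mem_filter.2 ⟨(Finset.mem_product.1 (Finset.mem_filter.1 hpb).1).2, ?_⟩
          rcases hshape p hpb with h | ⟨d, hd1, hd2⟩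
          · rw [← h]; exact hc
          · rwa [hfixle p.1 hx c d hc hd1]
        · intro p hp q hq hpq
          exact Prod.ext ((Finset.mem_filter.1 hp).2.trans (Finset.mem_filter.1 hq).2.symm) hpq
      obtain ⟨f, hf⟩ : ∃ f, e = f + 3 := ⟨e - 3, by omega⟩
      obtain ⟨m, hm⟩ : ∃ m, n = m + 3 := ⟨n - 3, by omega⟩
      rw [hG]
      rw [hIc] at hsplit hb
      simp only [hf, hm, show f + 3 - 1 = f + 2 by omega, show m + 3 - 1 = m + 2 by omega] at hsplit hb ⊢
      have : 0 < (m + 3) * ((m + 2) * (f + 3)) := by positivity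
      nlinarith
  have := lt_of_lt_of_le hkey hgle
  have := Nat.lt_of_mul_lt_mul_right this
  omega

end CfsgLib.Char
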