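import Cfsg.Agent.Char.FrobeniusMeans
import Cfsg.Agent.Char.OddFrobeniusCoherence
import Cfsg.Agent.Char.ZassenhausChars
import Cfsg.Agent.Char.ZassenhausClasses
import Cfsg.Agent.Char.InducedAbove
import Cfsg.Agent.Char.Constituents
import Cfsg.Agent.S0157

/-!
# Feit's theorem on Zassenhaus groups with two-point stabilisers of odd order
-/

set_option autoImplicit false
set_option linter.style.haveILetI false

namespace CfsgLib.Char

open MulAction

variable {G Ω : Type*} [Group G] [MulAction G Ω] [Fintype Ω]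

/-- Centralisers of non-identity elements of the kernel in the point stabiliser lie in the kernel. -/
theorem zass_kernel_centralizer (hZ : Cfsg.IsZassenhausGroup G Ω) {a : Ω} (H : Subgroup G)
    (hHa : H ≤ stabilizer G a) (hHcard : Nat.card H + 1 = Fintype.card Ω)
    (hHfix : ∀ u ∈ H, u ≠ 1 → ∀ c : Ω, u • c = c → c = a) {x u : G} (hx : x • a = a)
    (hu : u ∈ H) (hu1 : u ≠ 1) (hxu : x * u = u * x) : x ∈ H := by
  by_cases hone : ∀ c : Ω, x • c = c → c = a
  · exact zass_mem_kernel hZ H hHa hHcard hHfix hx hone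
  push Not at hone
  obtain ⟨c, hc, hca⟩ := hone
  have h1 : u • c ≠ c := fun h => hca (hHfix u hu hu1 c h)
  have h2 : u • c ≠ a := fun h => hca (smul_left_cancel u (h.trans (hHa hu).symm))
  have h3 : x • (u • c) = u • c := by rw [← mul_smul, hxu, mul_smul, hc]
  rw [hZ.2.2.1 x a c (u • c) hca.symm (Ne.symm h1) (Ne.symm h2) hx hc h3]
  exact one_mem H

section Simple

variable [Fintype G] [IsSimpleGroup G]

set_option maxHeartbeats 800000 in
/-- Coherence for the point stabiliser is incompatible with a large kernel. -/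
theorem zass_coherence_false (hZ : Cfsg.IsZassenhausGroup G Ω) {a b : Ω} (hab : a ≠ b)
    (hodd : Odd (Nat.card ↥(stabilizer G a ⊓ stabilizer G b))) (H : Subgroup G)
    (hHa : H ≤ stabilizer G a) (hHcard : Nat.card H + 1 = Fintype.card Ω)
    (hHfix : ∀ u ∈ H, u ≠ 1 → ∀ c : Ω, u • c = c → c = a)
    (hlt : 2 * Nat.card ↥(stabilizer G a ⊓ stabilizer G b) + 1 < Nat.card H)
    [Fintype (stabilizer G a)]
    (hcoh : Cfsg.IsCoherent (relevantChars (H.subgroupOf (stabilizer G a))) {1}ᶜ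
      (fun α : stabilizer G a → ℂ => Cfsg.indFun (stabilizer G a) α)) : False := by
  classical
  set A := H.subgroupOf (stabilizer G a) with hAdef
  set e := Nat.card ↥(stabilizer G a ⊓ stabilizer G b) with hedef
  set hn := Nat.card H with hhn
  obtain ⟨hTI0, hN0⟩ := zassenhaus_kernel_TI hZ a H hHa hHcard hHfix
  have he3 := zass_three_le_pair hZ hab hodd
  obtain ⟨hcyc, -, -⟩ := zass_simple_pair hZ hab hodd
  haveI : A.Normal := by
    rw [hAdef, ← hN0]; exact Subgroup.normal_in_normalizer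
  have hC : ∀ k ∈ A, k ≠ 1 → Subgroup.centralizer ({k} : Set (stabilizer G a)) ≤ A := fun k hk hk1 x hx =>
    zass_kernel_centralizer hZ H hHa hHcard hHfix x.2 hk (fun h => hk1 (Subtype.ext h))
      (congrArg Subtype.val (Subgroup.mem_centralizer_singleton_iff.1 hx))
  have hTI : ∀ g : G, g ∉ (stabilizer G a) → ∀ t ∈ A.map (stabilizer G a).subtype, g * t * g⁻¹ ∈ A.map (stabilizer G a).subtype → t = 1 :=
    tI_map_subgroupOf hTI0
  have hAcard : Nat.card A = hn := Nat.card_congr (Subgroup.subgroupOfEquivOfLe hHa).toEquiv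
  have hNcard : Nat.card (stabilizer G a) = hn * e := by
    rw [zass_card_stab hZ hab, ← hHcard, Nat.add_sub_cancel]
  have hAidx : A.index = e := by
    refine Nat.eq_of_mul_eq_mul_left (show 0 < Nat.card A from Nat.card_pos) ?_
    rw [A.card_mul_index, hNcard, hAcard]
  have hG : Nat.card G = (hn + 1) * (hn * e) := by
    rw [zass_card_group hZ hab, ← hHcard, Nat.add_sub_cancel]
  have hNidx : (stabilizer G a).index = hn + 1 := by
    refine Nat.eq_of_mul_eq_mul_left (show 0 < Nat.card (stabilizer G a) from Nat.card_pos) ?_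
    rw [(stabilizer G a).card_mul_index, hG, hNcard]; ring
  -- the quotient by the kernel is cyclic
  have hquot : ∀ x y : (stabilizer G a), x * y * x⁻¹ * y⁻¹ ∈ A := by
    set E : Subgroup (stabilizer G a) := (stabilizer G a ⊓ stabilizer G b).subgroupOf (stabilizer G a) with hE
    let f : E →* (stabilizer G a) ⧸ A := (QuotientGroup.mk' A).comp E.subtype
    have hinj : Function.Injective f := by
      rw [injective_iff_map_eq_one]
      intro z hz
      have h1 : ((z : (stabilizer G a)) : G) ∈ H := (QuotientGroup.eq_one_iff (z : (stabilizer G a))).1 hz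
      by_contra hne
      exact hab (hHfix _ h1 (fun h => hne (Subtype.ext (Subtype.ext h))) b
        ((Subgroup.mem_subgroupOf.1 z.2).2)).symm
    have hbij : Function.Bijective f := hinj.bijective_of_nat_card_le (le_of_eq (by
      rw [← Subgroup.index_eq_card, hAidx]
      exact (Nat.card_congr (Subgroup.subgroupOfEquivOfLe inf_le_left).toEquiv).symm))
    obtain ⟨g₀, hg₀⟩ := hcyc.exists_generator
    have hcommE : ∀ p q : E, p * q = q * p := fun p q => by
      haveI := hcyc
      exact (Subgroup.subgroupOfEquivOfLe (inf_le_left (b := stabilizer G b) :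
        stabilizer G a ⊓ stabilizer G b ≤ (stabilizer G a))).injective (by
          rw [map_mul, map_mul]; exact (IsCyclic.commGroup).mul_comm _ _)
    intro x y
    refine (QuotientGroup.eq_one_iff _).1 ?_
    obtain ⟨p, hp⟩ := hbij.2 (QuotientGroup.mk' A x)
    obtain ⟨q, hq⟩ := hbij.2 (QuotientGroup.mk' A y)
    show QuotientGroup.mk' A (x * y * x⁻¹ * y⁻¹) = 1
    rw [map_mul, map_mul, map_mul, map_inv, map_inv, ← hp, ← hq, ← map_mul, hcommE, map_mul]
    group
  haveI := Fintype.ofFinite A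
  -- splitting off the value at the identity
  have hsplit : ∀ (f : A → ℂ) (c : ℂ), (∀ k : A, k ≠ 1 → f k = c) →
      ∑ k : A, f k = f 1 + ((hn : ℂ) - 1) * c := by
    intro f c hc
    rw [← Finset.add_sum_erase _ _ (Finset.mem_univ (1 : A)),
      Finset.sum_congr rfl fun k hk => hc k (Finset.ne_of_mem_erase hk), Finset.sum_const,
      Finset.card_erase_of_mem (Finset.mem_univ _), Finset.card_univ, ← Nat.card_eq_fintype_card,
      hAcard, nsmul_eq_mul, Nat.cast_sub (by omega), Nat.cast_one]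
  set T := trivialOn A with hTdef
  set S := irrFinset (stabilizer G a) \ T with hSdef
  have hSmem : ∀ χ : (stabilizer G a) → ℂ, χ ∈ S ↔ χ ∈ relevantChars A := by
    intro χ
    simp only [hSdef, hTdef, Finset.mem_sdiff, mem_irrFinset, mem_trivialOn, relevantChars,
      Set.mem_ofPred_eq]
    refine ⟨fun h => ⟨h.1, ?_⟩, fun h => ⟨h.1, fun h' => ?_⟩⟩
    · by_contra hcon
      push Not at hcon
      exact h.2 ⟨h.1, hcon⟩
    · obtain ⟨k, hk, hne⟩ := h.2
      exact hne (h'.2 k hk)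
  have hTsub : T ⊆ irrFinset (stabilizer G a) := fun β hβ => mem_irrFinset.2 (mem_trivialOn.1 hβ).1
  obtain ⟨-, star, hstar, hext⟩ := hcoh
  have hrel : Cfsg.inducedIrrAbove A ⊥ = relevantChars A := inducedIrrAbove_bot_eq hC
  haveI hnilA : Group.IsNilpotent A :=
    frob_kernel_nilpotent (fun h => by rw [h, Subgroup.index_top] at hAidx; omega) hC
  have hsolv : Group.IsSolvable A := inferInstance
  have hbotA : (⊥ : Subgroup (stabilizer G a)) < A := bot_lt_iff_ne_bot.2 fun h => by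
    rw [h, Subgroup.card_bot] at hAcard; omega
  obtain ⟨lam, hlamS, hlamd⟩ := exists_linear_aboveInd (L := (stabilizer G a)) (K := A) hsolv hbotA
  have hlam : lam ∈ relevantChars A := hrel ▸ mem_aboveInd.1 hlamS
  have hSeq : aboveInd A ⊥ = S := Finset.ext fun χ => by rw [mem_aboveInd, hrel, hSmem]
  have hsumS : ∑ χ ∈ S, ((cdeg χ : ℝ)) ^ 2 = (e : ℝ) * ((hn : ℝ) - 1) := by
    have h := sum_weight_aboveInd (K := A) (⊥ : Subgroup (stabilizer G a))
    rw [Subgroup.relIndex_bot_left, hAcard, hAidx, hSeq] at h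
    rw [← h]
    refine Finset.sum_congr rfl fun χ hχ => ?_
    have hn1 : cnorm χ = 1 := by
      rw [cnorm, IsIrrCharacter.classInner_self ((hSmem χ).1 hχ).1]
      simp
    rw [hn1, Nat.cast_one, div_one]
  have htwo : ∃ χ ∈ relevantChars A, ∃ ξ ∈ relevantChars A, χ ≠ ξ := by
    by_contra hcon
    push Not at hcon
    rw [show S = {lam} from Finset.eq_singleton_iff_unique_mem.2
      ⟨(hSmem _).2 hlam, fun χ hχ => hcon χ ((hSmem _).1 hχ) lam hlam⟩, Finset.sum_singleton,
      hlamd, hAidx] at hsumS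
    have h1 : (2 * (e : ℝ) + 1) < hn := by exact_mod_cast hlt
    have h2 : (3 : ℝ) ≤ e := by exact_mod_cast he3
    nlinarith
  obtain ⟨M, hM⟩ := exists_int_star_sub star hstar hext hC hTI hlam
  rw [hAidx] at hM
  -- sums over the kernel
  have hmean : ∀ φ : G → ℂ, Cfsg.IsClassFunction G φ →
      ∑ k : A, φ ((k : (stabilizer G a)) : G) = (hn : ℂ) * ∑ β ∈ T, Cfsg.classInner φ (Cfsg.indFun (stabilizer G a) β) := by
    intro φ hφ
    have h := sum_kernel_eq hC hquot (φ := fun x : (stabilizer G a) => φ x) fun x y => hφ x y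
    rw [hAcard] at h
    rw [h]
    congr 1
    exact Finset.sum_congr rfl fun β _ => (classInner_indFun_right hφ β).symm
  have hone : (fun _ => (1 : ℂ)) ∈ T := mem_trivialOn.2 ⟨isIrrCharacter_one, fun _ _ => rfl⟩
  -- the permutation character
  set π := Cfsg.indFun (stabilizer G a) (fun _ => (1 : ℂ)) with hπdef
  haveI : IsPretransitive G Ω := by
    haveI := hZ.2.1
    exact MulAction.isPretransitive_of_is_two_pretransitive
  have hπval : π = fun g : G => (Nat.card (fixedBy Ω g) : ℂ) := indFun_one_stabilizer a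
  set χp : G → ℂ := π - fun _ => 1 with hχp
  have hχpirr : Cfsg.IsIrrCharacter G χp := by
    rw [hχp, hπval]
    exact (Cfsg.Agent.S0157.result Ω (by rw [Nat.card_eq_fintype_card]; omega)).2 hZ.2.1
  have hχp1 : χp 1 = (hn : ℂ) := by
    rw [hχp, Pi.sub_apply, hπdef, indFun_one, hNidx, mul_one]
    push_cast; ring
  have hχpH : ∀ k : A, k ≠ 1 → χp ((k : (stabilizer G a)) : G) = 0 := by
    intro k hk
    have h1 : ((k : (stabilizer G a)) : G) ∈ H := k.2
    have h2 : Nat.card (fixedBy Ω ((k : (stabilizer G a)) : G)) = 1 := by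
      haveI : Nonempty (fixedBy Ω ((k : (stabilizer G a)) : G)) := ⟨⟨a, hHa h1⟩⟩
      refine Nat.card_eq_one_iff_unique.2 ⟨⟨fun p q => Subtype.ext ?_⟩, inferInstance⟩
      have hne : ((k : (stabilizer G a)) : G) ≠ 1 := fun h => hk (Subtype.ext (Subtype.ext h))
      exact (hHfix _ h1 hne _ p.2).trans (hHfix _ h1 hne _ q.2).symm
    rw [hχp, Pi.sub_apply, hπval]
    show (Nat.card (fixedBy Ω ((k : (stabilizer G a)) : G)) : ℂ) - 1 = 0
    rw [h2]
    simp
  -- the principal series
  set T' := T.erase (fun _ => (1 : ℂ)) with hT'def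
  set Ψ := T'.image (Cfsg.indFun (stabilizer G a)) with hΨdef
  have hΨ : ∀ ψ ∈ Ψ, Cfsg.IsIrrCharacter G ψ ∧ ψ 1 = (hn : ℂ) + 1 ∧
      ∀ k : A, k ≠ 1 → ψ ((k : (stabilizer G a)) : G) = 1 := by
    intro ψ hψ
    obtain ⟨β, hβ, rfl⟩ := Finset.mem_image.1 hψ
    obtain ⟨hβ1, hβT⟩ := Finset.mem_erase.1 hβ
    obtain ⟨h1, h2⟩ := mem_trivialOn.1 hβT
    obtain ⟨μ, rfl⟩ := IsCharacter.exists_hom (IsIrrCharacter.isCharacter h1)
      (trivialOn_apply_one hquot hβT)
    obtain ⟨h3, h4⟩ := zass_principal_series hZ hab hodd H hHa hHcard hHfix μ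
      (fun u hu => Units.ext (by simpa using h2 u hu)) (fun h => hβ1 (by funext x; simp [h]))
    refine ⟨h3, ?_, fun k hk => h4 _ k.2 fun h => hk (Subtype.ext (Subtype.ext h))⟩
    rw [indFun_one, hNidx]
    simp
  have hΨsum : ∀ ψ ∈ Ψ, ∑ k : A, ψ ((k : (stabilizer G a)) : G) = 2 * (hn : ℂ) := by
    intro ψ hψ
    obtain ⟨-, h1, h2⟩ := hΨ ψ hψ
    rw [hsplit _ 1 h2, show ((((1 : A) : (stabilizer G a))) : G) = 1 from rfl, h1]
    ring
  have hPbound : e ≤ 2 * Ψ.card + 1 := by
    have hfib : ∀ ψ ∈ Ψ, (T'.filter fun β => Cfsg.indFun (stabilizer G a) β = ψ).card ≤ 2 := by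
      intro ψ hψ
      have hirr := (hΨ ψ hψ).1
      have h1 := hΨsum ψ hψ
      rw [hmean ψ (IsIrrCharacter.isClassFunction hirr), mul_comm (2 : ℂ)] at h1
      have h2 := mul_left_cancel₀ (Nat.cast_ne_zero.2 (by omega) : (hn : ℂ) ≠ 0) h1
      have hnat : ∀ β ∈ T, ∃ j : ℕ, Cfsg.classInner ψ (Cfsg.indFun (stabilizer G a) β) = (j : ℂ) := fun β hβ =>
        IsCharacter.exists_classInner_eq_natCast' (IsIrrCharacter.isCharacter hirr)
          (IsCharacter.indFun (IsIrrCharacter.isCharacter (mem_trivialOn.1 hβ).1))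
      choose! j hj using hnat
      rw [Finset.sum_congr rfl hj] at h2
      have h3 : ∑ β ∈ T, j β = 2 := by exact_mod_cast h2
      rw [← h3, Finset.card_eq_sum_ones]
      refine le_trans (Finset.sum_le_sum fun β hβ => ?_) (Finset.sum_le_sum_of_subset
        fun β hβ => Finset.mem_of_mem_erase (Finset.mem_filter.1 hβ).1)
      obtain ⟨hβ', hβψ⟩ := Finset.mem_filter.1 hβ
      have h4 := hj β (Finset.mem_of_mem_erase hβ')
      rw [hβψ, IsIrrCharacter.classInner_self hirr] at h4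
      have : (1 : ℕ) = j β := by exact_mod_cast h4
      omega
    have h1 := Finset.card_le_mul_card_image T' 2 hfib
    rw [← hΨdef] at h1
    have h2 : T'.card + 1 = T.card := Finset.card_erase_add_one hone
    have h3 := index_le_card_trivialOn hquot
    rw [hAidx, ← hTdef] at h3
    omega
  -- the signed images
  have hz : ∀ χ ∈ S, χ ∈ Cfsg.zspan (relevantChars A) := fun χ hχ => subset_zspan ((hSmem χ).1 hχ)
  have hsign : ∀ χ ∈ S, ∃ (ε : ℂ) (φ : G → ℂ), (ε = 1 ∨ ε = -1) ∧ Cfsg.IsIrrCharacter G φ ∧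
      star χ = ε • φ := by
    intro χ hχ
    rcases IsGeneralized.isIrr_or_neg (hstar.2.2.2 _ (hz χ hχ)) (by
      rw [hstar.2.2.1 _ (hz χ hχ) _ (hz χ hχ),
        IsIrrCharacter.classInner_self ((hSmem χ).1 hχ).1]) with h | h
    · exact ⟨1, _, Or.inl rfl, h, (one_smul ℂ _).symm⟩
    · exact ⟨-1, _, Or.inr rfl, h, by rw [neg_one_smul, neg_neg]⟩
  choose! ε rep hε hrep hrepe using hsign
  have hR : ∀ χ ∈ S, ∃ p ∈ A, ∃ q ∈ A, p ≠ 1 ∧ q ≠ 1 ∧ rep χ p ≠ rep χ q := fun χ hχ => by
    refine (eq_star_iff_not_const star hstar hext hC htwo (hrep χ hχ)).1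
      ⟨χ, (hSmem χ).1 hχ, ?_⟩
    rcases hε χ hχ with h | h
    · left; rw [hrepe χ hχ, h, one_smul]
    · right; rw [hrepe χ hχ, h, neg_one_smul, neg_neg]
  have hRU : ∀ χ ∈ S, (rep χ ≠ fun _ => 1) ∧ rep χ ≠ χp ∧ rep χ ∉ Ψ := by
    intro χ hχ
    obtain ⟨p, hp, q, hq, hp1, hq1, hne⟩ := hR χ hχ
    refine ⟨fun h => hne (by rw [h]), fun h => hne ?_, fun h => hne ?_⟩
    · rw [h, hχpH ⟨p, hp⟩ (fun e => hp1 (congrArg Subtype.val e)),
        hχpH ⟨q, hq⟩ (fun e => hq1 (congrArg Subtype.val e))]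
    · rw [(hΨ _ h).2.2 ⟨p, hp⟩ (fun e => hp1 (congrArg Subtype.val e)),
        (hΨ _ h).2.2 ⟨q, hq⟩ (fun e => hq1 (congrArg Subtype.val e))]
  -- characters outside the known ones have mean zero
  have hmean0 : ∀ φ : G → ℂ, Cfsg.IsIrrCharacter G φ → (φ ≠ fun _ => 1) → φ ≠ χp → φ ∉ Ψ →
      ∑ k : A, φ ((k : (stabilizer G a)) : G) = 0 := by
    intro φ hφ h1 h2 h3
    rw [hmean φ (IsIrrCharacter.isClassFunction hφ), Finset.sum_eq_zero, mul_zero]
    intro β hβ
    by_cases hβ1 : β = fun _ => 1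
    · rw [hβ1, ← hπdef, show π = χp + fun _ => 1 by rw [hχp]; exact (sub_add_cancel _ _).symm,
        classInner_add_right, IsIrrCharacter.classInner_of_ne hφ hχpirr h2,
        IsIrrCharacter.classInner_of_ne hφ isIrrCharacter_one h1, add_zero]
    · have hm : Cfsg.indFun (stabilizer G a) β ∈ Ψ := Finset.mem_image_of_mem _ (Finset.mem_erase.2 ⟨hβ1, hβ⟩)
      exact IsIrrCharacter.classInner_of_ne hφ (hΨ _ hm).1 fun h => h3 (h ▸ hm)
  have hSzero : ∀ χ ∈ S, ∑ k : A, χ (k : (stabilizer G a)) = 0 := by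
    intro χ hχ
    rw [sum_kernel_eq hC hquot (IsIrrCharacter.isClassFunction ((hSmem χ).1 hχ).1),
      Finset.sum_eq_zero, mul_zero]
    intro β hβ
    exact IsIrrCharacter.classInner_of_ne ((hSmem χ).1 hχ).1 (mem_trivialOn.1 hβ).1
      fun h => (Finset.mem_sdiff.1 hχ).2 (h ▸ hβ)
  have hstar1 : ∀ χ ∈ S, star χ 1 = χ 1 * (1 - ((hn : ℂ) - 1) * (M : ℂ) / (e : ℂ)) := by
    intro χ hχ
    have h0 : ∑ k : A, star χ ((k : (stabilizer G a)) : G) = 0 := by
      rw [hrepe χ hχ]
      simp only [Pi.smul_apply, smul_eq_mul, ← Finset.mul_sum]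
      rw [hmean0 _ (hrep χ hχ) (hRU χ hχ).1 (hRU χ hχ).2.1 (hRU χ hχ).2.2, mul_zero]
    have h1 := hsplit (fun k : A => star χ ((k : (stabilizer G a)) : G) - χ (k : (stabilizer G a))) _ fun k hk =>
      hM χ ((hSmem χ).1 hχ) k k.2 fun h => hk (Subtype.ext h)
    rw [Finset.sum_sub_distrib, h0, hSzero χ hχ] at h1
    simp only [OneMemClass.coe_one] at h1
    linear_combination -h1
  -- the remaining characters
  set Rs := S.image rep with hRs
  set U : Finset (G → ℂ) := insert (fun _ => 1) (insert χp (Ψ ∪ Rs)) with hU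
  set O := irrFinset G \ U with hO
  have hrepinj : Set.InjOn rep (↑S : Set ((stabilizer G a) → ℂ)) := by
    intro χ hχ χ' hχ' heq
    by_contra hne
    have h := hstar.2.2.1 _ (hz χ hχ) _ (hz χ' hχ')
    rw [IsIrrCharacter.classInner_of_ne ((hSmem χ).1 hχ).1 ((hSmem χ').1 hχ').1 hne,
      hrepe χ hχ, hrepe χ' hχ', heq, classInner_smul_left, classInner_smul_right,
      IsIrrCharacter.classInner_self (hrep χ' hχ')] at h
    rcases hε χ hχ with e1 | e1 <;> rcases hε χ' hχ' with e2 | e2 <;> simp [e1, e2] at h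
  have hdeg2 : ∀ χ ∈ S, ((cdeg (rep χ) : ℝ)) ^ 2 =
      (cdeg χ : ℝ) ^ 2 * (1 - ((hn : ℝ) - 1) * (M : ℝ) / (e : ℝ)) ^ 2 := by
    intro χ hχ
    have h := hstar1 χ hχ
    rw [hrepe χ hχ, Pi.smul_apply, smul_eq_mul, irr_apply_one_eq_cdeg (hrep χ hχ),
      irr_apply_one_eq_cdeg ((hSmem χ).1 hχ).1] at h
    have h2 : (((cdeg (rep χ) : ℝ)) ^ 2 : ℂ) =
        (((cdeg χ : ℝ) * (1 - ((hn : ℝ) - 1) * (M : ℝ) / (e : ℝ))) ^ 2 : ℝ) := by
      push_cast
      rw [← h]
      rcases hε χ hχ with e1 | e1 <;> rw [e1] <;> ring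
    rw [← mul_pow]
    exact_mod_cast h2
  have hOdeg : ∀ φ ∈ O, ((hn : ℝ) - 1) ^ 2 ≤ (cdeg φ : ℝ) ^ 2 := by
    intro φ hφ
    obtain ⟨hφi, hφU⟩ := Finset.mem_sdiff.1 hφ
    rw [mem_irrFinset] at hφi
    simp only [hU, Finset.mem_insert, Finset.mem_union, not_or] at hφU
    have hconst : ∀ p ∈ A, ∀ q ∈ A, p ≠ 1 → q ≠ 1 → φ p = φ q := by
      intro p hp q hq hp1 hq1
      by_contra hne
      obtain ⟨χ, hχ, hor⟩ := (eq_star_iff_not_const star hstar hext hC htwo hφi).2
        ⟨p, hp, q, hq, hp1, hq1, hne⟩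
      have hχS := (hSmem χ).2 hχ
      refine hφU.2.2.2 (Finset.mem_image.2 ⟨χ, hχS, ?_⟩)
      by_contra hne'
      have h0 := IsIrrCharacter.classInner_of_ne (hrep χ hχS) hφi hne'
      rcases hor with h | h <;>
        simp [h, hrepe χ hχS, classInner_smul_right, classInner_neg_right,
          IsIrrCharacter.classInner_self (hrep χ hχS)] at h0 <;>
        rcases hε χ hχS with e1 | e1 <;> simp [e1] at h0
    obtain ⟨k₀, hk₀⟩ : ∃ k : A, k ≠ 1 := by
      haveI : Nontrivial A := Finite.one_lt_card_iff_nontrivial.1 (by omega)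
      exact exists_ne 1
    obtain ⟨c, hc⟩ : ∃ c : ℤ, φ ((k₀ : (stabilizer G a)) : G) = c := by
      refine IsCharacter.exists_int_apply (IsIrrCharacter.isCharacter hφi) fun t ht => ?_
      have hk1 : (k₀ : (stabilizer G a)) ≠ 1 := fun h => hk₀ (Subtype.ext h)
      rw [← SubmonoidClass.coe_pow]
      refine hconst _ (A.pow_mem k₀.2 t) _ k₀.2 (fun h => hk₀ ?_) hk1
      refine (powCoprime (show (Nat.card A).Coprime t from ?_)).injective ?_
      · have hd : Nat.card A ∣ Nat.card G :=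
          (Subgroup.card_subgroup_dvd_card A).trans (Subgroup.card_subgroup_dvd_card (stabilizer G a))
        exact (Nat.Coprime.coprime_dvd_right hd ht).symm
      · exact Subtype.ext (by simpa using h)
    have h0 := hmean0 φ hφi hφU.1 hφU.2.1 hφU.2.2.1
    rw [hsplit (fun k : A => φ ((k : (stabilizer G a)) : G)) (c : ℂ) fun k hk =>
      (hconst _ k.2 _ k₀.2 (fun h => hk (Subtype.ext h)) (fun h => hk₀ (Subtype.ext h))).trans hc,
      show ((((1 : A) : (stabilizer G a))) : G) = 1 from rfl, irr_apply_one_eq_cdeg hφi] at h0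
    have hc0 : c ≠ 0 := fun h => by
      rw [h, Int.cast_zero, mul_zero, add_zero, Nat.cast_eq_zero] at h0
      exact (cdeg_pos hφi).ne' h0
    have h2 : (((cdeg φ : ℝ) + ((hn : ℝ) - 1) * (c : ℝ) : ℝ) : ℂ) = ((0 : ℝ) : ℂ) := by
      push_cast
      exact h0
    have h3 : (cdeg φ : ℝ) = -(((hn : ℝ) - 1) * (c : ℝ)) := by
      have := Complex.ofReal_inj.1 h2
      linarith
    have hc1 : (1 : ℝ) ≤ (c : ℝ) ^ 2 := by
      have : (1 : ℤ) ≤ c ^ 2 := by
        rcases lt_trichotomy c 0 with h | h | h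
        · nlinarith
        · exact absurd h hc0
        · nlinarith
      exact_mod_cast this
    rw [h3, neg_sq, mul_pow]
    exact le_mul_of_one_le_right (sq_nonneg _) hc1
  -- the disjointness
  have hΨne : ∀ ψ ∈ Ψ, (ψ ≠ fun _ => 1) ∧ ψ ≠ χp := by
    intro ψ hψ
    refine ⟨fun h => ?_, fun h => ?_⟩
    · have := (hΨ ψ hψ).2.1
      rw [h] at this
      have h' : ((1 : ℕ) : ℂ) = ((hn + 1 : ℕ) : ℂ) := by push_cast; exact this
      have := Nat.cast_inj.1 h'
      omega
    · have := (hΨ ψ hψ).2.1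
      rw [h, hχp1] at this
      have h' : ((hn : ℕ) : ℂ) = ((hn + 1 : ℕ) : ℂ) := by push_cast; exact this
      have := Nat.cast_inj.1 h'
      omega
  have h1p : (fun _ : G => (1 : ℂ)) ≠ χp := fun h => by
    have := congrFun h 1
    rw [hχp1] at this
    have h' : ((1 : ℕ) : ℂ) = ((hn : ℕ) : ℂ) := by push_cast; exact this
    have := Nat.cast_inj.1 h'
    omega
  have hn1 : (fun _ : G => (1 : ℂ)) ∉ insert χp (Ψ ∪ Rs) := by
    simp only [Finset.mem_insert, Finset.mem_union, not_or]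
    refine ⟨h1p, fun h => (hΨne _ h).1 rfl, fun h => ?_⟩
    obtain ⟨χ, hχ, h'⟩ := Finset.mem_image.1 h
    exact (hRU χ hχ).1 h'
  have hn2 : χp ∉ Ψ ∪ Rs := by
    simp only [Finset.mem_union, not_or]
    refine ⟨fun h => (hΨne _ h).2 rfl, fun h => ?_⟩
    obtain ⟨χ, hχ, h'⟩ := Finset.mem_image.1 h
    exact (hRU χ hχ).2.1 h'
  have hn3 : Disjoint Ψ Rs := Finset.disjoint_left.2 fun ψ hψ h => by
    obtain ⟨χ, hχ, rfl⟩ := Finset.mem_image.1 h
    exact (hRU χ hχ).2.2 hψ
  have hUsub : U ⊆ irrFinset G := by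
    intro φ hφ
    simp only [hU, Finset.mem_insert, Finset.mem_union] at hφ
    rw [mem_irrFinset]
    rcases hφ with rfl | rfl | h | h
    · exact isIrrCharacter_one
    · exact hχpirr
    · exact (hΨ φ h).1
    · obtain ⟨χ, hχ, rfl⟩ := Finset.mem_image.1 h
      exact hrep χ hχ
  -- counting characters and classes
  have hcount : e ≤ Ψ.card + O.card + 1 := by
    have hk1 : (irrFinset G).card = O.card + (Ψ.card + S.card + 2) := by
      rw [← Finset.card_sdiff_add_card_eq_card hUsub, ← hO, hU, Finset.card_insert_of_notMem hn1,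
        Finset.card_insert_of_notMem hn2, Finset.card_union_of_disjoint hn3,
        Finset.card_image_of_injOn hrepinj]
    have hk2 : (irrFinset (stabilizer G a)).card = S.card + T.card :=
      (Finset.card_sdiff_add_card_eq_card hTsub).symm
    rw [← card_irr, card_irr_eq_card_conjClasses] at hk1 hk2
    have hav := zass_classes_avoiding hZ hab hodd (by omega) H hHa hHcard hHfix
    have hc := card_conjClasses_le_kernel hC
    rw [hAidx] at hc
    have hinj : Nat.card {C : ConjClasses (stabilizer G a) // ∃ k ∈ A, ConjClasses.mk k = C} +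
        Nat.card {C : ConjClasses G // ∀ g : G, ConjClasses.mk g = C → g ∉ H} ≤
        Nat.card (ConjClasses G) := by
      rw [← Nat.card_sum]
      refine Nat.card_le_card_of_injective
        (Sum.elim (fun C => ConjClasses.map (stabilizer G a).subtype C.1) Subtype.val) ?_
      rintro (⟨C, hC'⟩ | ⟨C, hC'⟩) (⟨D, hD'⟩ | ⟨D, hD'⟩) h
      · obtain ⟨p, hp, rfl⟩ := hC'
        obtain ⟨q, hq, rfl⟩ := hD'
        have h' : IsConj (p : G) (q : G) := ConjClasses.mk_eq_mk_iff_isConj.1 h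
        suffices hpq : (ConjClasses.mk p : ConjClasses (stabilizer G a)) = ConjClasses.mk q by simp [hpq]
        obtain ⟨g, hg⟩ := isConj_iff.1 h'
        by_cases hp1 : p = 1
        · have : q = 1 := Subtype.ext (by rw [← hg, hp1]; simp)
          rw [hp1, this]
        · have hgN : g ∈ (stabilizer G a) := by
            by_contra hgN
            exact hp1 (Subtype.ext (hTI0 g hgN _ hp (hg ▸ hq)))
          exact ConjClasses.mk_eq_mk_iff_isConj.2 (isConj_iff.2 ⟨⟨g, hgN⟩, Subtype.ext hg⟩)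
      · obtain ⟨p, hp, rfl⟩ := hC'
        exact absurd hp (hD' _ h)
      · obtain ⟨q, hq, rfl⟩ := hD'
        exact absurd hq (hC' _ h.symm)
      · exact congrArg Sum.inr (Subtype.ext h)
    have h3 := index_le_card_trivialOn hquot
    rw [hAidx, ← hTdef] at h3
    omega
  -- the sum of squares
  have hM0 : M = 0 := by
    have htot : ∑ φ ∈ irrFinset G, (cdeg φ : ℝ) ^ 2 = ((hn : ℝ) + 1) * ((hn : ℝ) * (e : ℝ)) := by
      have h := congrArg (fun t : ℕ => (t : ℝ)) (sum_cdeg_sq (G := G))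
      simp only [hG] at h
      push_cast at h
      exact h
    have hUsum : ∑ φ ∈ U, (cdeg φ : ℝ) ^ 2 = 1 + ((hn : ℝ) ^ 2 +
        ((Ψ.card : ℝ) * ((hn : ℝ) + 1) ^ 2 +
          (e : ℝ) * ((hn : ℝ) - 1) * (1 - ((hn : ℝ) - 1) * (M : ℝ) / (e : ℝ)) ^ 2)) := by
      rw [hU, Finset.sum_insert hn1, Finset.sum_insert hn2, Finset.sum_union hn3,
        Finset.sum_image hrepinj, Finset.sum_congr (s₁ := S) rfl hdeg2, ← Finset.sum_mul, hsumS]
      congr 1
      · simp [cdeg]
      congr 1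
      · simp [cdeg, hχp1]
      congr 1
      rw [Finset.sum_congr rfl (g := fun _ => ((hn : ℝ) + 1) ^ 2) fun ψ hψ => ?_, Finset.sum_const,
        nsmul_eq_mul]
      have : cdeg ψ = hn + 1 := by
        rw [cdeg, (hΨ ψ hψ).2.1, ← Nat.cast_one, ← Nat.cast_add, Complex.natCast_re, Nat.floor_natCast]
      rw [this]; push_cast; ring
    have hOsum : (O.card : ℝ) * ((hn : ℝ) - 1) ^ 2 ≤ ∑ φ ∈ O, (cdeg φ : ℝ) ^ 2 := by
      rw [← nsmul_eq_mul]
      exact Finset.card_nsmul_le_sum _ _ _ hOdeg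
    rw [← Finset.sum_sdiff hUsub, ← hO, hUsum] at htot
    have hP : (e : ℝ) - 1 ≤ 2 * (Ψ.card : ℝ) := by
      have : (e : ℝ) ≤ ((2 * Ψ.card + 1 : ℕ) : ℝ) := by exact_mod_cast hPbound
      push_cast at this; linarith
    have hPO : (e : ℝ) - 1 ≤ (Ψ.card : ℝ) + O.card := by
      have : (e : ℝ) ≤ ((Ψ.card + O.card + 1 : ℕ) : ℝ) := by exact_mod_cast hcount
      push_cast at this; linarith
    have hlt' : 2 * (e : ℝ) + 1 < hn := by exact_mod_cast hlt
    have he' : (3 : ℝ) ≤ e := by exact_mod_cast he3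
    have hkey : ((e : ℝ) - 1) * ((hn : ℝ) ^ 2 + 1) ≤
        (Ψ.card : ℝ) * ((hn : ℝ) + 1) ^ 2 + (O.card : ℝ) * ((hn : ℝ) - 1) ^ 2 := by
      have h1 := mul_le_mul_of_nonneg_right hPO (sq_nonneg ((hn : ℝ) - 1))
      have h2 := mul_le_mul_of_nonneg_right hP (show (0 : ℝ) ≤ 2 * (hn : ℝ) by positivity)
      nlinarith
    set d := (hn : ℝ) - 1 with hd
    set u := d * (M : ℝ) / (e : ℝ) with hu
    have hue : u * e = d * M := by rw [hu, div_mul_cancel₀]; linarith
    have hle : (e : ℝ) * d * (u ^ 2 - 2 * u) ≤ 0 := by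
      have hh : (hn : ℝ) = d + 1 := by rw [hd]; ring
      rw [hh] at htot hkey
      nlinarith
    have hed : 0 < (e : ℝ) * d := by
      refine mul_pos (by linarith) ?_
      rw [hd]; linarith
    have hu2 : u ^ 2 - 2 * u ≤ 0 := nonpos_of_mul_nonpos_right hle hed |> id
    by_contra hMne
    rcases lt_or_gt_of_ne hMne with h | h
    · have : (M : ℝ) ≤ -1 := by exact_mod_cast (show M ≤ -1 by omega)
      nlinarith
    · have hM1 : (1 : ℝ) ≤ M := by exact_mod_cast (show 1 ≤ M by omega)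
      have hd2 : 2 * (e : ℝ) < d := by rw [hd]; linarith
      have h1 : d ≤ d * M := le_mul_of_one_le_right (by linarith) hM1
      have h2 : 2 < u := by
        by_contra hcon
        have := mul_le_mul_of_nonneg_right (not_lt.1 hcon) (show (0 : ℝ) ≤ e by linarith)
        linarith
      have := mul_pos (show (0 : ℝ) < u by linarith) (show (0 : ℝ) < u - 2 by linarith)
      linarith
  -- the exceptional character
  have hlamS' := (hSmem lam).2 hlam
  have hlam1 : lam 1 = (e : ℂ) := by rw [irr_apply_one_eq_cdeg hlam.1, hlamd, hAidx]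
  set ξ := star lam with hξ
  have hξ1 : ξ 1 = (e : ℂ) := by rw [hξ, hstar1 lam hlamS', hlam1, hM0]; simp
  have hξirr : Cfsg.IsIrrCharacter G ξ := by
    rcases hε lam hlamS' with h | h
    · rw [hξ, hrepe lam hlamS', h, one_smul]; exact hrep lam hlamS'
    · exfalso
      rw [hξ, hrepe lam hlamS', h, neg_one_smul, Pi.neg_apply,
        irr_apply_one_eq_cdeg (hrep lam hlamS'), neg_eq_iff_add_eq_zero, ← Nat.cast_add,
        Nat.cast_eq_zero] at hξ1
      omega
  have hξA : ∀ k : A, ξ ((k : (stabilizer G a)) : G) = lam (k : (stabilizer G a)) := by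
    intro k
    by_cases hk : k = 1
    · rw [hk]; exact hξ1.trans hlam1.symm
    · have h := hM lam hlam k k.2 fun h => hk (Subtype.ext h)
      rw [hM0, Int.cast_zero, zero_mul, zero_div] at h
      exact sub_eq_zero.1 h
  have hξN : (fun x : (stabilizer G a) => ξ x) = lam := by
    obtain ⟨θ, hθ, -, hθe⟩ := exists_indFun_eq_of_centralizer_le hC hlam.1 hlam.2
    have hres := IsCharacter.restrict (IsIrrCharacter.isCharacter hξirr) (stabilizer G a)
    have h1 : Cfsg.classInner (fun x : (stabilizer G a) => ξ x) lam = 1 := by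
      rw [← IsIrrCharacter.classInner_self hlam.1]
      conv_lhs => rw [hθe, classInner_indFun_right (IsCharacter.isClassFunction hres)]
      conv_rhs => arg 2; rw [hθe]
      rw [classInner_indFun_right (IsIrrCharacter.isClassFunction hlam.1)]
      congr 1
      funext k
      exact hξA k
    have h2 := IsCharacter.eq_zero_of_apply_one
      (IsCharacter.sub_irr hres hlam.1 (by rw [h1]; exact one_ne_zero))
      (by simp [hξ1, hlam1])
    exact sub_eq_zero.1 h2
  set ζ : G → ℂ := ξ * fun g => (starRingEnd ℂ) (ξ g) with hζdef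
  have hζc : Cfsg.IsCharacter G ζ :=
    IsCharacter.mul (IsIrrCharacter.isCharacter hξirr) (IsCharacter.conj (IsIrrCharacter.isCharacter hξirr))
  have hζ1 : Cfsg.classInner ζ (fun _ => 1) = 1 := by
    refine Eq.trans ?_ (IsIrrCharacter.classInner_self hξirr)
    rw [classInner_def, classInner_def]
    congr 1
    refine Finset.sum_congr rfl fun g _ => ?_
    simp [hζdef]
  have hζΨ : ∀ ψ ∈ Ψ, Cfsg.classInner ζ ψ = 1 := by
    intro ψ hψ
    obtain ⟨β, hβ, rfl⟩ := Finset.mem_image.1 hψ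
    obtain ⟨h1, h2⟩ := mem_trivialOn.1 (Finset.mem_of_mem_erase hβ)
    rw [classInner_indFun_right (IsCharacter.isClassFunction hζc),
      ← IsIrrCharacter.classInner_self hlam.1, classInner_def, classInner_def]
    congr 1
    refine Finset.sum_congr rfl fun x _ => ?_
    have hx : ξ (x : G) = lam x := congrFun hξN x
    simp only [hζdef, Pi.mul_apply, hx]
    by_cases hxA : x ∈ A
    · rw [h2 x hxA, trivialOn_apply_one hquot (Finset.mem_of_mem_erase hβ), map_one, mul_one]
    · rw [relevant_apply_eq_zero hC hlam hxA]; simp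
  have hnat : ∀ φ ∈ irrFinset G, ∃ j : ℕ, Cfsg.classInner ζ φ = (j : ℂ) := fun φ hφ =>
    IsCharacter.exists_classInner_eq_natCast' hζc
      (IsIrrCharacter.isCharacter (mem_irrFinset.1 hφ))
  choose! j hj using hnat
  have hζsum : ∑ φ ∈ irrFinset G, j φ * cdeg φ = e * e := by
    have h := congrFun (eq_sum_irr (IsCharacter.isClassFunction hζc)) 1
    simp only [Finset.sum_apply, Pi.smul_apply, smul_eq_mul] at h
    rw [Finset.sum_congr rfl fun φ hφ => by rw [hj φ hφ, irr_apply_one_eq_cdeg (mem_irrFinset.1 hφ)],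
      show ζ 1 = ((e * e : ℕ) : ℂ) by simp [hζdef, hξ1]] at h
    exact_mod_cast h.symm
  have hΨ1 : (fun _ : G => (1 : ℂ)) ∉ Ψ := fun h => (hΨne _ h).1 rfl
  have hlow : 1 + Ψ.card * (hn + 1) ≤ e * e := by
    rw [← hζsum]
    refine le_trans (le_of_eq ?_) (Finset.sum_le_sum_of_subset (s := insert (fun _ => 1) Ψ) ?_)
    · rw [Finset.sum_insert hΨ1]
      congr 1
      · have h := hj _ (mem_irrFinset.2 (isIrrCharacter_one (G := G)))
        rw [hζ1] at h
        have h' : j (fun _ => 1) = 1 := by exact_mod_cast h.symm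
        simp [h', cdeg]
      · rw [Finset.sum_congr rfl (g := fun _ => hn + 1) fun ψ hψ => ?_, Finset.sum_const, smul_eq_mul]
        have h := hj ψ (mem_irrFinset.2 (hΨ ψ hψ).1)
        rw [hζΨ ψ hψ] at h
        have h' : j ψ = 1 := by exact_mod_cast h.symm
        rw [h', one_mul, cdeg, (hΨ ψ hψ).2.1, ← Nat.cast_one, ← Nat.cast_add, Complex.natCast_re,
          Nat.floor_natCast]
    · intro φ hφ
      rcases Finset.mem_insert.1 hφ with rfl | hφ
      · exact mem_irrFinset.2 isIrrCharacter_one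
      · exact mem_irrFinset.2 (hΨ φ hφ).1
  obtain ⟨f, hf⟩ : ∃ f, e = f + 1 := ⟨e - 1, by omega⟩
  have h5 : f * (2 * e + 2) ≤ 2 * Ψ.card * (hn + 1) := Nat.mul_le_mul (by omega) (by omega)
  rw [hf] at h5 hlow hlt
  nlinarith

/-- Feit's theorem for simple Zassenhaus groups. -/
theorem zass_feit_simple (hZ : Cfsg.IsZassenhausGroup G Ω) {a b : Ω} (hab : a ≠ b)
    (hodd : Odd (Nat.card ↥(stabilizer G a ⊓ stabilizer G b))) (H : Subgroup G)
    (hHa : H ≤ stabilizer G a) (hHcard : Nat.card H + 1 = Fintype.card Ω)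
    (hHfix : ∀ u ∈ H, u ≠ 1 → ∀ c : Ω, u • c = c → c = a)
    (hlt : 2 * Nat.card ↥(stabilizer G a ⊓ stabilizer G b) + 1 < Nat.card H) :
    IsPGroup 2 H ∧ (∃ u v : H, u * v ≠ v * u) ∧
      (commutator H).index ≤ 4 * Nat.card ↥(stabilizer G a ⊓ stabilizer G b) ^ 2 + 1 := by
  classical
  haveI := Fintype.ofFinite (stabilizer G a)
  set A := H.subgroupOf (stabilizer G a) with hAdef
  obtain ⟨hTI0, hN0⟩ := zassenhaus_kernel_TI hZ a H hHa hHcard hHfix
  haveI : A.Normal := by
    rw [hAdef, ← hN0]; exact Subgroup.normal_in_normalizer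
  have he3 := zass_three_le_pair hZ hab hodd
  have hC : ∀ k ∈ A, k ≠ 1 → Subgroup.centralizer ({k} : Set (stabilizer G a)) ≤ A := fun k hk hk1 x hx =>
    zass_kernel_centralizer hZ H hHa hHcard hHfix x.2 hk (fun h => hk1 (Subtype.ext h))
      (congrArg Subtype.val (Subgroup.mem_centralizer_singleton_iff.1 hx))
  have hNcard : Nat.card (stabilizer G a) = Nat.card H * Nat.card ↥(stabilizer G a ⊓ stabilizer G b) := by
    rw [zass_card_stab hZ hab, ← hHcard, Nat.add_sub_cancel]
  have hAcard : Nat.card A = Nat.card H := Nat.card_congr (Subgroup.subgroupOfEquivOfLe hHa).toEquiv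
  have hAidx : A.index = Nat.card ↥(stabilizer G a ⊓ stabilizer G b) := by
    refine Nat.eq_of_mul_eq_mul_left (show 0 < Nat.card A from Nat.card_pos) ?_
    rw [A.card_mul_index, hNcard, hAcard]
  have hA1 : A ≠ ⊥ := fun h => by rw [h, Subgroup.card_bot] at hAcard; omega
  have hAtop : A ≠ ⊤ := fun h => by rw [h, Subgroup.index_top] at hAidx; omega
  have hrel := inducedIrrAbove_bot_eq hC
  obtain ⟨hτ, hτ1⟩ := indFun_TI_isometry (H := H) (L := stabilizer G a)
    (fun g hg t ht hgt => hTI0 g hg t ht hgt)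
  rw [← hAdef, hrel] at hτ hτ1
  rcases feit_coherence hA1 hAtop hC (by rw [hAcard, hAidx]; omega)
    (fun α : (stabilizer G a) → ℂ => Cfsg.indFun (stabilizer G a) α) hτ hτ1 with hcoh | ⟨p, hp, ⟨m, hm⟩, hnc, hidx⟩
  · exact (zass_coherence_false hZ hab hodd H hHa hHcard hHfix hlt hcoh).elim
  let φ : A ≃* H := Subgroup.subgroupOfEquivOfLe hHa
  rcases eq_or_ne p 2 with rfl | hp2
  · refine ⟨IsPGroup.of_card (n := m) (by rw [← hAcard, hm]), ?_, ?_⟩
    · by_contra hcon
      push Not at hcon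
      exact hnc ⟨⟨fun x y => φ.injective (by rw [map_mul, map_mul]; exact hcon _ _)⟩⟩
    · have e1 : (commutator H).index = (commutator A).index := by
        have hmap : (commutator A).map φ.toMonoidHom = commutator H := by
          rw [commutator_def, Subgroup.map_commutator, Subgroup.map_top_of_surjective _ φ.surjective,
            ← commutator_def]
        rw [← hmap]
        exact Subgroup.index_map_equiv _ φ
      rw [e1, ← hAidx]
      exact hidx
  · exfalso
    have hN2 : Odd (Nat.card (stabilizer G a)) := by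
      rw [hNcard, ← hAcard, hm]
      exact ((hp.odd_of_ne_two hp2).pow).mul hodd
    have hnilH : Group.IsNilpotent H := by
      haveI := Fact.mk hp
      exact (IsPGroup.of_card (n := m) (by rw [← hAcard, hm]) : IsPGroup p H).isNilpotent
    have hHlt : H < (stabilizer G a) := lt_of_le_of_ne hHa fun h => hAtop (by rw [hAdef, h, Subgroup.subgroupOf_self])
    have hcoh := coherent_odd_frobenius_TI (H := H) (L := stabilizer G a) hN2 hHlt
      (fun h => by rw [h, Subgroup.card_bot] at hlt; omega) hnilH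
      (fun x hx u hu => (Subgroup.mem_normalizer_iff.1 (by rw [hN0]; exact hx) u).1 hu)
      (fun u hu hu1 x hx => zass_kernel_centralizer hZ H hHa hHcard hHfix hx.1 hu hu1
        (Subgroup.mem_centralizer_singleton_iff.1 hx.2))
      (fun g hg x hx hgx => hTI0 g (by rw [← hN0]; exact hg) x hx hgx) hN0
    rw [← hAdef, hrel] at hcoh
    exact zass_coherence_false hZ hab hodd H hHa hHcard hHfix hlt hcoh

end Simple

/-- Feit's theorem on Zassenhaus groups with two-point stabilisers of odd order. -/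
theorem zass_feit [Finite G] (hZ : Cfsg.IsZassenhausGroup G Ω) {a b : Ω} (hab : a ≠ b)
    (hodd : Odd (Nat.card ↥(stabilizer G a ⊓ stabilizer G b))) (H : Subgroup G)
    (hHa : H ≤ stabilizer G a) (hHcard : Nat.card H + 1 = Fintype.card Ω)
    (hHfix : ∀ u ∈ H, u ≠ 1 → ∀ c : Ω, u • c = c → c = a)
    (hlt : 2 * Nat.card ↥(stabilizer G a ⊓ stabilizer G b) + 1 < Nat.card H) :
    IsPGroup 2 H ∧ (∃ u v : H, u * v ≠ v * u) ∧
      (commutator H).index ≤ 4 * Nat.card ↥(stabilizer G a ⊓ stabilizer G b) ^ 2 + 1 := by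
  classical
  set S₁ : Set G := {g | g ≠ 1 ∧ ∃ c : Ω, g • c = c ∧ ∀ d, g • d = d → d = c} with hS₁
  set N₀ := Subgroup.closure S₁ with hN₀
  have hconj : ∀ g : G, ∀ s ∈ S₁, g * s * g⁻¹ ∈ S₁ := by
    rintro g s ⟨hs1, c, hc, huniq⟩
    refine ⟨fun h => hs1 (by simpa using h), g • c, ?_, fun d hd => ?_⟩
    · rw [mul_smul, mul_smul, inv_smul_smul, hc]
    · rw [mul_smul, mul_smul] at hd
      rw [← huniq _ (eq_inv_smul_iff.2 hd), smul_inv_smul]
  haveI hN₀n : N₀.Normal := ⟨fun x hx g => by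
    induction hx using Subgroup.closure_induction with
    | mem s hs => exact Subgroup.subset_closure (hconj g s hs)
    | one => simp
    | mul x y _ _ h1 h2 => simpa [mul_assoc] using mul_mem h1 h2
    | inv x _ h => simpa [mul_assoc] using inv_mem h⟩
  have hHS : ∀ u ∈ H, u ≠ 1 → u ∈ S₁ := fun u hu hu1 => ⟨hu1, a, hHa hu, hHfix u hu hu1⟩
  have hH1 : 1 < Nat.card H := by omega
  have hN₀ne : N₀ ≠ ⊥ := fun h => by
    haveI := Finite.one_lt_card_iff_nontrivial.1 hH1
    obtain ⟨u, hu⟩ := exists_ne (1 : H)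
    have : (u : G) ∈ N₀ := Subgroup.subset_closure (hHS u u.2 fun e => hu (Subtype.ext e))
    rw [h, Subgroup.mem_bot] at this
    exact hu (Subtype.ext this)
  have hZ₀ := CfsgLib.Zass.isZassenhaus_normal hZ N₀ hN₀ne
  haveI : Nontrivial N₀ := (Subgroup.nontrivial_iff_ne_bot _).2 hN₀ne
  haveI : IsSimpleGroup N₀ := ⟨fun M hM => by
    by_cases hMne : M = ⊥
    · exact Or.inl hMne
    refine Or.inr (eq_top_iff.2 fun x _ => ?_)
    haveI := hM
    obtain ⟨-, -, hmem⟩ := CfsgLib.Zass.normal_props hZ₀ M hMne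
    have h : ∀ y (hy : y ∈ N₀), (⟨y, hy⟩ : N₀) ∈ M := by
      intro y hy
      induction hy using Subgroup.closure_induction with
      | mem s hs =>
        obtain ⟨c, hc, huniq⟩ := hs.2
        exact hmem ⟨s, Subgroup.subset_closure hs⟩ c hc huniq
      | one => exact M.one_mem
      | mul x y hx hy h1 h2 => exact M.mul_mem h1 h2
      | inv x hx h => exact M.inv_mem h
    exact h x.1 x.2⟩
  haveI := Fintype.ofFinite N₀
  set e := Nat.card ↥(stabilizer G a ⊓ stabilizer G b) with hedef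
  set H' := H.subgroupOf N₀ with hH'
  have hHN : H ≤ N₀ := fun u hu => by
    by_cases hu1 : u = 1
    · rw [hu1]; exact one_mem _
    · exact Subgroup.subset_closure (hHS u hu hu1)
  let φ : H' ≃* H := Subgroup.subgroupOfEquivOfLe hHN
  have hH'card : Nat.card H' = Nat.card H := Nat.card_congr φ.toEquiv
  have hdvd : Nat.card ↥(stabilizer N₀ a ⊓ stabilizer N₀ b) ∣ e := by
    rw [← Subgroup.card_map_of_injective N₀.subtype_injective]
    refine Subgroup.card_dvd_of_le ?_
    rintro _ ⟨x, hx, rfl⟩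
    exact ⟨hx.1, hx.2⟩
  have hle := Nat.le_of_dvd (Nat.card_pos) hdvd
  obtain ⟨h1, ⟨u, v, huv⟩, h3⟩ := zass_feit_simple hZ₀ hab (hodd.of_dvd_nat hdvd) H'
    (fun x hx => hHa (show (x : G) ∈ H from hx)) (by rw [hH'card, hHcard])
    (fun x hx hx1 c hc => hHfix _ hx (fun h => hx1 (Subtype.ext h)) c hc) (by rw [hH'card]; omega)
  refine ⟨h1.of_equiv φ, ⟨φ u, φ v, fun h => huv (φ.injective (by rw [map_mul, map_mul, h]))⟩, ?_⟩
  have hmap : (commutator H').map φ.toMonoidHom = commutator H := by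
    rw [commutator_def, Subgroup.map_commutator, Subgroup.map_top_of_surjective _ φ.surjective,
      ← commutator_def]
  rw [← hmap]
  refine (le_of_eq (Subgroup.index_map_equiv _ φ)).trans (h3.trans ?_)
  exact Nat.add_le_add_right (Nat.mul_le_mul_left 4 (Nat.pow_le_pow_left hle 2)) 1

end CfsgLib.Char
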