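import Cfsg.Agent.Char.TICover
import Cfsg.Agent.OddLocal.CNMinimal
import Cfsg.Agent.OddLocal.CNQuotient

/-!
Finite groups of odd order with nilpotent centralizers are solvable.
-/

set_option autoImplicit false
set_option linter.style.haveILetI false

namespace CfsgLib.Char

open Subgroup CfsgLib.CN

universe u

/-- There is no minimal simple group of odd order with nilpotent centralizers. -/
theorem cn_minSimple_false {G : Type u} [Group G] [Finite G] (hG : Cfsg.IsMinSimpleOddOrder G)
    (hCN : Cfsg.IsCNGroup G) : False := by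
  classical
  haveI := MinSimple.nontrivial hG
  haveI := Fintype.ofFinite G
  let r : Setoid {H : Subgroup G // MaxNilp H} :=
    { r := fun A B => ∃ g : G, B.1 = A.1.map (MulAut.conj g).toMonoidHom
      iseqv :=
        ⟨fun A => ⟨1, by ext x; simp [mem_map_conj]⟩,
          fun {A B} ⟨g, hg⟩ => ⟨g⁻¹, by ext x; simp [hg, mem_map_conj, mul_assoc]⟩,
          fun {A B C} ⟨g, hg⟩ ⟨k, hk⟩ => ⟨k * g, by ext x; simp [hk, hg, mem_map_conj, mul_assoc]⟩⟩ }
  haveI : Fintype (Quotient r) := Fintype.ofFinite _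
  haveI : Nonempty (Quotient r) := by
    obtain ⟨H, hH, -⟩ := exists_maxNilp_ge (nilpotent_zpowers (1 : G))
    exact ⟨Quotient.mk r ⟨H, hH⟩⟩
  let H : Quotient r → Subgroup G := fun i => i.out.1
  have hH : ∀ i, MaxNilp (H i) := fun i => i.out.2
  refine ti_cover_false hG.1 (fun i => normalizer (H i : Set G)) H
    (fun i => lt_of_le_of_ne le_normalizer (normalizer_ne_self hG hCN (hH i)).symm)
    (fun i => (hH i).ne_bot) (fun i x hx h hh => (mem_normalizer_iff.1 hx h).1 hh)
    (fun i h hh h1 => inf_le_right.trans (centLe hG hCN (hH i) h hh h1)) (fun i j hij => ?_)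
    (fun i => ⟨fun g hg t ht ht' => by_contra fun ht1 => hg ?_, rfl⟩) (fun g hg => ?_)
  · by_contra hc
    obtain ⟨q, hq, hq₁, hq₂⟩ := Nat.Prime.not_coprime_iff_dvd.1 hc
    haveI := Fact.mk hq
    obtain ⟨P₁, hP₁⟩ := exists_sylow_le hCN (hH i) hq₁
    obtain ⟨P₂, hP₂⟩ := exists_sylow_le hCN (hH j) hq₂
    obtain ⟨g, hg⟩ := MulAction.exists_smul_eq G P₁ P₂
    obtain ⟨x, hx, hx1⟩ := (Subgroup.bot_or_exists_ne_one _).resolve_left
      (P₂.ne_bot_of_dvd_card (hq₂.trans (Subgroup.card_subgroup_dvd_card _)))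
    have hxg : x ∈ (H i).map (MulAut.conj g).toMonoidHom := by
      have h := hx
      rw [← hg, Sylow.coe_subgroup_smul] at h
      exact Subgroup.map_mono hP₁ h
    exact hij ((Quotient.out_equiv_out.1 ⟨g, eq_of_mem hG hCN (hH j) ((hH i).conj g) (hP₂ hx) hxg hx1⟩))
  · rw [mem_normalizer_iff_map_conj_eq]
    refine eq_of_mem hG hCN ((hH i).conj g) (hH i) ⟨t, ht, rfl⟩ ht' ?_
    simpa using ht1
  · obtain ⟨K, hK, hgK⟩ := exists_maxNilp_ge (nilpotent_zpowers g)
    obtain ⟨x, hx⟩ : ∃ x : G, (H (Quotient.mk r ⟨K, hK⟩)) = K.map (MulAut.conj x).toMonoidHom :=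
      r.symm (Quotient.mk_out (⟨K, hK⟩ : {H : Subgroup G // MaxNilp H}))
    exact ⟨_, x, hx.symm ▸ mem_map_of_mem (MulAut.conj x).toMonoidHom (hgK (mem_zpowers g))⟩

theorem cn_odd_solvable_aux : ∀ (n : ℕ) {G : Type u} [Group G] [Finite G], Nat.card G = n →
    Odd (Nat.card G) → Cfsg.IsCNGroup G → Group.IsSolvable G := by
  intro n
  induction n using Nat.strong_induction_on with
  | _ n ih =>
    intro G _ _ hn hodd hCN
    by_cases hc : IsMulCommutative G
    · exact Group.isSolvable_of_comm fun a b => hc.is_comm.comm a b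
    have hsub : ∀ H : Subgroup G, H ≠ ⊤ → Group.IsSolvable H := fun H hH => by
      refine ih _ ?_ rfl (hodd.of_dvd_nat (card_subgroup_dvd_card H)) (isCNGroup_subgroup hCN H)
      rw [← hn]
      exact lt_of_le_of_ne (Nat.le_of_dvd Nat.card_pos (card_subgroup_dvd_card H))
        fun e => hH (eq_top_of_card_eq H e)
    by_cases hs : ∀ N : Subgroup G, N.Normal → N = ⊥ ∨ N = ⊤
    · refine (cn_minSimple_false ⟨hodd, ?_, hc, hsub⟩ hCN).elim
      haveI : Nontrivial G := by
        by_contra h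
        rw [not_nontrivial_iff_subsingleton] at h
        exact hc ⟨⟨fun a b => Subsingleton.elim _ _⟩⟩
      exact ⟨hs⟩
    push Not at hs
    obtain ⟨N, hN, hN1, hN2⟩ := hs
    haveI := hN
    haveI hNs : Group.IsSolvable N := hsub N hN2
    haveI : Group.IsSolvable (G ⧸ N) := by
      refine ih _ ?_ rfl (hodd.of_dvd_nat ((index_eq_card N).symm ▸ index_dvd_card N))
        (isCNGroup_quotient _ N rfl hCN hNs)
      rw [← hn, ← index_eq_card, ← card_mul_index N]
      exact lt_mul_of_one_lt_left (Nat.pos_of_ne_zero index_ne_zero_of_finite)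
        ((one_lt_card_iff_ne_bot N).2 hN1)
    exact Group.isSolvable_of_ker_le_range N.subtype (QuotientGroup.mk' N) (by simp)

/-- The CN-theorem in odd order. -/
theorem cn_odd_solvable {G : Type u} [Group G] [Finite G] (hodd : Odd (Nat.card G))
    (hCN : Cfsg.IsCNGroup G) : Group.IsSolvable G :=
  cn_odd_solvable_aux _ rfl hodd hCN

end CfsgLib.Char
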