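import Cfsg.Agent.Char.Induction
import Cfsg.Agent.Char.Linear
import Cfsg.Agent.Char.PermChar
import Cfsg.Agent.Char.DegreeRatio
import Mathlib.GroupTheory.Sylow

/-!
# All character degrees below `p`: the Sylow `p`-subgroup is normal and abelian
-/

set_option autoImplicit false
set_option linter.style.haveILetI false

namespace CfsgLib.Char.DegreeBelowPrime

open Finset
open scoped ComplexConjugate Pointwise

universe u

variable {G : Type u} [Group G] [Fintype G]

theorem degree_le_of_classInner_ne_zero {φ θ : G → ℂ} (hφ : Cfsg.IsCharacter G φ)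
    (hθ : Cfsg.IsIrrCharacter G θ) (h : Cfsg.classInner φ θ ≠ 0) {m d : ℕ} (hm : φ 1 = m)
    (hd : θ 1 = d) : d ≤ m := by
  classical
  choose! a ha using fun (f : G → ℂ) (hf : f ∈ irrFinset G) =>
    IsCharacter.exists_classInner_eq_natCast hφ (mem_irrFinset.1 hf)
  choose! b hb0 hb using fun (f : G → ℂ) (hf : f ∈ irrFinset G) =>
    IsIrrCharacter.exists_degree (mem_irrFinset.1 hf)
  have h1 := congrFun (eq_sum_irr (IsCharacter.isClassFunction hφ)) 1
  rw [Finset.sum_apply, sum_congr rfl fun f hf => by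
    rw [Pi.smul_apply, ha f hf, hb f hf, smul_eq_mul, ← Nat.cast_mul], ← Nat.cast_sum, hm,
    Nat.cast_inj] at h1
  have hθm := mem_irrFinset.2 hθ
  have hbd : b θ = d := Nat.cast_inj.1 ((hb θ hθm).symm.trans hd)
  have hpos : 0 < a θ := Nat.pos_of_ne_zero fun h0 => h (by rw [ha θ hθm, h0, Nat.cast_zero])
  calc d ≤ a θ * b θ := hbd ▸ Nat.le_mul_of_pos_left _ hpos
    _ ≤ m := h1 ▸ single_le_sum (f := fun f => a f * b f) (fun _ _ => Nat.zero_le _) hθm

/-- Every irreducible degree of a subgroup is bounded by a degree of the group. -/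
theorem exists_degree_ge (H : Subgroup G) {θ : H → ℂ} (hθ : Cfsg.IsIrrCharacter H θ) {d : ℕ}
    (hd : θ 1 = d) : ∃ f : G → ℂ, Cfsg.IsIrrCharacter G f ∧ ∃ m : ℕ, f 1 = m ∧ d ≤ m := by
  classical
  haveI := Fintype.ofFinite H
  obtain ⟨f, hf, hne⟩ : ∃ f ∈ irrFinset G, Cfsg.classInner (Cfsg.indFun H θ) f ≠ 0 := by
    by_contra hno
    push Not at hno
    have h0 := eq_zero_of_classInner_eq_zero (isClassFunction_indFun H θ)
      fun f hf => hno f (mem_irrFinset.2 hf)
    have h1 := congrFun h0 1
    have hx : ∀ x : G, Cfsg.extendByZero H θ (x⁻¹ * 1 * x) = (d : ℂ) := fun x => by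
      rw [mul_one, inv_mul_cancel, extendByZero_of_mem θ (Subgroup.one_mem H)]
      exact hd
    rw [indFun_def, sum_congr rfl fun x _ => hx x, sum_const, Finset.card_univ, nsmul_eq_mul,
      Pi.zero_apply, mul_eq_zero, mul_eq_zero] at h1
    obtain ⟨d', hd', hd''⟩ := IsIrrCharacter.exists_degree hθ
    rw [hd, Nat.cast_inj] at hd''
    rcases h1 with h1 | h1 | h1
    · exact inv_ne_zero (Nat.cast_ne_zero.2 Nat.card_pos.ne') h1
    · exact Nat.cast_ne_zero.2 Fintype.card_ne_zero h1
    · rw [Nat.cast_eq_zero] at h1; omega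
  obtain ⟨m, -, hm⟩ := IsIrrCharacter.exists_degree (mem_irrFinset.1 hf)
  refine ⟨f, mem_irrFinset.1 hf, m, hm, ?_⟩
  rw [classInner_indFun θ (IsIrrCharacter.isClassFunction (mem_irrFinset.1 hf)),
    ← classInner_conj] at hne
  exact degree_le_of_classInner_ne_zero
    (IsCharacter.restrict (IsIrrCharacter.isCharacter (mem_irrFinset.1 hf)) H) hθ
    (fun h => hne (by rw [h, map_zero])) (by rw [Subgroup.coe_one, hm]) hd

theorem main {p : ℕ} [Fact p.Prime]
    (hb : ∀ f : G → ℂ, Cfsg.IsIrrCharacter G f → ∀ m : ℕ, f 1 = m → m < p) (P : Sylow p G) :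
    (P : Subgroup G).Normal ∧
      ∀ x ∈ (P : Subgroup G), ∀ y ∈ (P : Subgroup G), x * y = y * x := by
  classical
  have hp : p.Prime := Fact.out
  constructor
  · obtain ⟨N, hN⟩ : ∃ N, Subgroup.normalizer ((P : Subgroup G) : Set G) = N := ⟨_, rfl⟩
    rw [← Subgroup.normalizer_eq_top_iff, hN]
    haveI := Fintype.ofFinite (G ⧸ N)
    haveI : Fintype (MulAction.orbitRel.Quotient N (G ⧸ N)) := Fintype.ofFinite _
    obtain ⟨R, hR⟩ : ∃ R, Fintype.card (MulAction.orbitRel.Quotient N (G ⧸ N)) = R := ⟨_, rfl⟩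
    -- the orbits off the fixed point have at least `p` points
    have hidx : 1 + (R - 1) * p ≤ N.index := by
      have hsplit : N.index = ∑ q : MulAction.orbitRel.Quotient N (G ⧸ N),
          Nat.card (MulAction.orbit N q.out) := by
        rw [← Nat.card_sigma]
        exact Nat.card_congr (MulAction.selfEquivSigmaOrbits N (G ⧸ N))
      obtain ⟨q₀, hq₀⟩ : ∃ q₀, (Quotient.mk'' ((1 : G) : G ⧸ N) :
          MulAction.orbitRel.Quotient N (G ⧸ N)) = q₀ := ⟨_, rfl⟩
      rw [hsplit, ← add_sum_erase _ _ (mem_univ q₀)]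
      refine Nat.add_le_add (Nat.card_pos_iff.2 ⟨⟨⟨_, MulAction.mem_orbit_self _⟩⟩, inferInstance⟩) ?_
      rw [← hR, ← Finset.card_univ, ← card_erase_of_mem (mem_univ q₀), ← smul_eq_mul]
      refine card_nsmul_le_sum _ _ _ fun q hq => ?_
      by_contra hlt
      push Not at hlt
      apply (mem_erase.1 hq).1
      obtain ⟨g, hg⟩ := QuotientGroup.mk_surjective q.out
      have hfix : ∀ x ∈ (P : Subgroup G), g⁻¹ * x * g ∈ N := by
        intro x hx
        have hxN : x ∈ N := hN ▸ Subgroup.le_normalizer hx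
        obtain ⟨S, hS⟩ : ∃ S, (MulAction.stabilizer N q.out).map N.subtype = S := ⟨_, rfl⟩
        have hSidx : S.relIndex N < p := by
          rw [← hS, Subgroup.relIndex, Subgroup.subgroupOf,
            Subgroup.comap_map_eq_self_of_injective N.subtype_injective,
            MulAction.index_stabilizer]
          exact hlt
        have hPN : (P : Subgroup G) ≤ N := hN ▸ Subgroup.le_normalizer
        have hPS : (S ⊓ N).relIndex P = 1 := by
          have hSN : S ≤ N := hS ▸ Subgroup.map_subtype_le _
          rw [inf_eq_left.2 hSN]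
          obtain ⟨k, hk⟩ := P.isPGroup'.exists_card_eq
          obtain ⟨j, -, hj⟩ := (Nat.dvd_prime_pow hp).1
            (hk ▸ Subgroup.index_dvd_card (S.subgroupOf (P : Subgroup G)))
          rcases Nat.eq_zero_or_pos j with rfl | hj0
          · exact hj.trans (pow_zero p)
          · exfalso
            have h1 : S.relIndex P ≤ S.relIndex N :=
              Subgroup.relIndex_le_of_le_right hPN Subgroup.index_ne_zero_of_finite
            have h2 := Nat.le_self_pow hj0.ne' p
            rw [← hj] at h2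
            exact absurd (h2.trans h1) (by omega)
        have hxS : x ∈ S := (Subgroup.relIndex_eq_one.1 hPS hx).1
        rw [← hS] at hxS
        obtain ⟨y, hy, rfl⟩ := hxS
        have h1 : y • q.out = q.out := hy
        rw [← hg] at h1
        have h2 := QuotientGroup.eq.1 (show ((g : G) : G ⧸ N) = (((y : G) * g : G) : G ⧸ N) from
          h1.symm)
        rwa [← mul_assoc] at h2
      have hgN : g ∈ N := by
        have h1 : (MulAut.conj g⁻¹ • (P : Subgroup G)) ≤ N := by
          intro z hz
          rw [Subgroup.mem_pointwise_smul_iff_inv_smul_mem] at hz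
          have h2 := hfix _ hz
          simpa [mul_assoc] using h2
        have hPN : (P : Subgroup G) ≤ N := hN ▸ Subgroup.le_normalizer
        have : ((P.subtype hPN : Sylow p N) : Subgroup N).Normal := by
          rw [Sylow.coe_subtype]
          exact hN ▸ Subgroup.normal_in_normalizer
        haveI : Subsingleton (Sylow p N) := Sylow.unique_of_normal (P.subtype hPN) this |>.instSubsingleton
        have h3 : (g⁻¹ • P : Sylow p G).subtype h1 = P.subtype hPN := Subsingleton.elim _ _
        have h4 : (g⁻¹ • P : Sylow p G) = P := Sylow.subtype_injective h3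
        have h5 := Sylow.smul_eq_iff_mem_normalizer.1 h4
        have h6 : g⁻¹ ∈ N := hN ▸ h5
        simpa using N.inv_mem h6
      rw [← hq₀, ← q.out_eq']
      refine Quotient.sound' ⟨⟨g, hgN⟩, ?_⟩
      rw [← hg]
      show ((g * 1 : G) : G ⧸ N) = (g : G ⧸ N)
      rw [mul_one]
    -- the permutation character
    obtain ⟨π, hπ⟩ : ∃ π, permChar N = π := ⟨_, rfl⟩
    have hπc : Cfsg.IsCharacter G π := hπ ▸ IsCharacter.indFun isCharacter_one
    have hnorm : Cfsg.classInner π π = (R : ℂ) := by
      conv_lhs => arg 1; rw [← hπ]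
      rw [permChar, classInner_indFun _ (IsCharacter.isClassFunction hπc), classInner_def]
      have h1 := MulAction.sum_card_fixedBy_eq_card_orbits_mul_card_group N (G ⧸ N)
      rw [hR] at h1
      have h2 : ∑ h : N, (1 : ℂ) * conj (π (h : G)) = ((R * Fintype.card N : ℕ) : ℂ) := by
        rw [← h1, Nat.cast_sum]
        refine sum_congr rfl fun h _ => ?_
        rw [← hπ, permChar_apply, one_mul, Complex.conj_natCast, Nat.card_eq_fintype_card]
        rfl
      rw [h2, Nat.cast_mul, Nat.card_eq_fintype_card, mul_comm (R : ℂ),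
        inv_mul_cancel_left₀ (Nat.cast_ne_zero.2 Fintype.card_ne_zero)]
    have hdeg : π 1 = (N.index : ℂ) := by
      rw [← hπ, permChar_apply, Nat.cast_inj, Subgroup.index]
      exact Nat.card_congr (Equiv.subtypeUnivEquiv fun x => one_smul G x)
    have hone : Cfsg.classInner π (fun _ => (1 : ℂ)) = 1 := by
      rw [← hπ, permChar, classInner_indFun _ (IsCharacter.isClassFunction isCharacter_one),
        classInner_def]
      simp [Nat.card_eq_fintype_card]
    choose! a ha using fun (f : G → ℂ) (hf : f ∈ irrFinset G) =>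
      IsCharacter.exists_classInner_eq_natCast hπc (mem_irrFinset.1 hf)
    choose! b hb0 hbb using fun (f : G → ℂ) (hf : f ∈ irrFinset G) =>
      IsIrrCharacter.exists_degree (mem_irrFinset.1 hf)
    have h1 := congrFun (eq_sum_irr (IsCharacter.isClassFunction hπc)) 1
    rw [Finset.sum_apply, sum_congr rfl fun f hf => by
      rw [Pi.smul_apply, ha f hf, hbb f hf, smul_eq_mul, ← Nat.cast_mul], ← Nat.cast_sum, hdeg,
      Nat.cast_inj] at h1
    have h2 := classInner_eq_sum_irr (IsCharacter.isClassFunction hπc) π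
    rw [hnorm, sum_congr rfl fun f hf => by
      rw [ha f hf, Complex.conj_natCast, ← Nat.cast_mul], ← Nat.cast_sum, Nat.cast_inj] at h2
    have h1m : (fun _ : G => (1 : ℂ)) ∈ irrFinset G := mem_irrFinset.2 isIrrCharacter_one
    have ha1 : a (fun _ : G => (1 : ℂ)) = 1 := by
      have := ha _ h1m
      rw [hone] at this
      exact_mod_cast this.symm
    have hb1 : b (fun _ : G => (1 : ℂ)) = 1 := by
      have := hbb _ h1m
      exact_mod_cast this.symm
    rw [← add_sum_erase _ _ h1m, ha1, hb1] at h1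
    rw [← add_sum_erase _ _ h1m, ha1] at h2
    have hle : ∑ f ∈ (irrFinset G).erase (fun _ => 1), a f * b f ≤
        ∑ f ∈ (irrFinset G).erase (fun _ => 1), a f * a f * (p - 1) := by
      refine sum_le_sum fun f hf => ?_
      have hf' := (mem_erase.1 hf).2
      have hlt := hb f (mem_irrFinset.1 hf') _ (hbb f hf')
      exact (Nat.mul_le_mul (Nat.le_mul_self (a f)) (by omega : b f ≤ p - 1))
    rw [← sum_mul] at hle
    obtain ⟨S, hS⟩ : ∃ S, ∑ f ∈ (irrFinset G).erase (fun _ => 1), a f * a f = S := ⟨_, rfl⟩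
    rw [hS] at hle h2
    have hS0 : S = 0 := by
      by_contra hne
      have : S * (p - 1) < S * p := Nat.mul_lt_mul_of_pos_left (by have := hp.pos; omega)
        (Nat.pos_of_ne_zero hne)
      have : R - 1 = S := by omega
      rw [this] at hidx
      omega
    rw [hS0, Nat.zero_mul] at hle
    exact Subgroup.index_eq_one.1 (by omega)
  · haveI := Fintype.ofFinite (P : Subgroup G)
    have hlin : ∀ θ : ↥(P : Subgroup G) → ℂ, Cfsg.IsIrrCharacter ↥(P : Subgroup G) θ → θ 1 = 1 := by
      intro θ hθ
      obtain ⟨d, -, hd⟩ := IsIrrCharacter.exists_degree hθ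
      obtain ⟨k, hk⟩ := P.isPGroup'.exists_card_eq
      obtain ⟨j, -, rfl⟩ := (Nat.dvd_prime_pow hp).1 (hk ▸ IsIrrCharacter.degree_dvd_card hθ hd)
      obtain ⟨f, hf, m, hm, hle⟩ := exists_degree_ge (P : Subgroup G) hθ hd
      have := hb f hf m hm
      rcases Nat.eq_zero_or_pos j with rfl | hj
      · rw [hd, pow_zero, Nat.cast_one]
      · have := Nat.le_self_pow hj.ne' p
        omega
    intro x hx y hy
    exact congrArg Subtype.val (abelian_iff_degree_one.2 hlin ⟨x, hx⟩ ⟨y, hy⟩)

end CfsgLib.Char.DegreeBelowPrime
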