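import Cfsg.Agent.Char.CenterValues
import Cfsg.Agent.Char.TwoClass
import Cfsg.Agent.Char.DegreeBelowPrime
import Cfsg.Agent.Char.DegreesPrime
import Cfsg.Agent.Char.Kernel
import Cfsg.Agent.Char.DegreeRatio
import Cfsg.Agent.Char.Inflation
import Cfsg.Agent.Solvable.Basics
import Cfsg.Agent.Solvable.PGroupBasic

/-!
# An abelian subgroup whose index is bounded by the largest degree

If all irreducible degrees are at most `b` then there is an abelian subgroup of index at most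
`(b!)²`.

An element with at most `b²` conjugates either has a centralizer with smaller degrees, or commutes
with all its conjugates. The normal closure `D` of these elements is then nilpotent; outside `D` all
classes are large, which bounds the index of `D` by comparing `∑ ⟨χφ, χφ⟩` over the irreducible
`χ` with the norm of `φ` on `D`; in a nilpotent group a class-two quotient gives a normal subgroup
with degrees at most `b / 2`.
-/

set_option autoImplicit false
set_option linter.style.haveILetI false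
set_option linter.unusedSectionVars false

namespace CfsgLib.Char.AbelianIndexBound

open Finset
open scoped ComplexConjugate commutatorElement

universe u

/-- All irreducible degrees are at most `b`. -/
def DegLE (G : Type u) [Group G] (b : ℕ) : Prop :=
  ∀ f : G → ℂ, Cfsg.IsIrrCharacter G f → ∀ m : ℕ, f 1 = m → m ≤ b

variable {G : Type u} [Group G] [Fintype G]

theorem degLE_subgroup {b : ℕ} (hb : DegLE G b) (H : Subgroup G) : DegLE H b := by
  intro θ hθ d hd
  obtain ⟨f, hf, m, hm, hdm⟩ := DegreeBelowPrime.exists_degree_ge H hθ hd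
  exact hdm.trans (hb f hf m hm)

/-- The norm of a character whose constituents have degree at most `b`. -/
theorem degree_le_mul_norm {b : ℕ} (hb : DegLE G b) {φ : G → ℂ} (hφ : Cfsg.IsCharacter G φ)
    {m : ℕ} (hm : φ 1 = m) :
    ∃ M : ℕ, Cfsg.classInner φ φ = M ∧ m ≤ b * M := by
  classical
  choose! a ha using fun (f : G → ℂ) (hf : f ∈ irrFinset G) =>
    IsCharacter.exists_classInner_eq_natCast hφ (mem_irrFinset.1 hf)
  choose! d hd0 hd using fun (f : G → ℂ) (hf : f ∈ irrFinset G) =>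
    IsIrrCharacter.exists_degree (mem_irrFinset.1 hf)
  have h1 := congrFun (eq_sum_irr (IsCharacter.isClassFunction hφ)) 1
  rw [Finset.sum_apply, sum_congr rfl fun f hf => by
    rw [Pi.smul_apply, ha f hf, hd f hf, smul_eq_mul, ← Nat.cast_mul], ← Nat.cast_sum, hm,
    Nat.cast_inj] at h1
  refine ⟨∑ f ∈ irrFinset G, a f * a f, ?_, ?_⟩
  · rw [classInner_eq_sum_irr (IsCharacter.isClassFunction hφ) φ, Nat.cast_sum]
    exact sum_congr rfl fun f hf => by rw [ha f hf, Complex.conj_natCast, Nat.cast_mul]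
  · rw [h1, mul_sum]
    refine sum_le_sum fun f hf => ?_
    calc a f * d f ≤ (a f * a f) * b :=
          Nat.mul_le_mul (Nat.le_mul_self _) (hb f (mem_irrFinset.1 hf) _ (hd f hf))
      _ = b * (a f * a f) := mul_comm _ _

/-- The norm of the restriction of an irreducible character to a normal subgroup. -/
theorem norm_restrict {N : Subgroup G} [N.Normal] [Fintype N] {χ : G → ℂ}
    (hχ : Cfsg.IsIrrCharacter G χ) {θ : N → ℂ} (hθ : Cfsg.IsIrrCharacter N θ) {e : ℕ}
    (he : Cfsg.classInner (fun n : N => χ n) θ = e) (he0 : e ≠ 0) :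
    Cfsg.classInner (fun n : N => χ n) (fun n : N => χ n) =
      ((e * e * (inertia (G := G) θ).index : ℕ) : ℂ) := by
  classical
  have hc : Cfsg.classInner (fun n : N => χ n) θ ≠ 0 := by
    rw [he]; exact Nat.cast_ne_zero.2 he0
  conv_lhs => arg 2; rw [restrict_eq_smul_sum hχ hθ hc]
  rw [classInner_smul_right, classInner_sum_right, he, Complex.conj_natCast,
    sum_congr rfl (g := fun _ => (e : ℂ)) fun f hf => ?_, sum_const, card_conjOrbit, nsmul_eq_mul]
  · push_cast; ring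
  · obtain ⟨g, rfl⟩ := mem_conjOrbit.1 hf
    rw [classInner_restrict_conjOn (IsIrrCharacter.isClassFunction hχ), he]

theorem sum_normSq (f : G → ℂ) {M : ℕ} (h : Cfsg.classInner f f = M) :
    ∑ x, Complex.normSq (f x) = (M : ℝ) * Nat.card G := by
  rw [classInner_def, inv_mul_eq_iff_eq_mul₀ (Nat.cast_ne_zero.2 Nat.card_pos.ne'),
    sum_congr rfl fun x _ => Complex.mul_conj (f x), ← Complex.ofReal_sum] at h
  rw [mul_comm]
  exact_mod_cast h

open scoped Classical in
/-- If classes outside a normal subgroup have more than `b²` elements, its index is small. -/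
theorem index_mul_le {b : ℕ} (hb : DegLE G b) (D : Subgroup G) [D.Normal] [Fintype D]
    (hout : ∀ x ∉ D, b ^ 2 * Nat.card (Subgroup.centralizer ({x} : Set G)) ≤ Nat.card G)
    {φ : G → ℂ} (hφ : Cfsg.IsIrrCharacter G φ) {n : ℕ} (hn : φ 1 = n) {N : ℕ}
    (hN : Cfsg.classInner (fun d : D => φ d) (fun d : D => φ d) = N) :
    n * D.index + N ≤ b ^ 2 * N + D.index := by
  choose! d hd0 hd using fun (f : G → ℂ) (hf : f ∈ irrFinset G) =>
    IsIrrCharacter.exists_degree (mem_irrFinset.1 hf)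
  have hprod : ∀ f ∈ irrFinset G, ∃ M : ℕ, Cfsg.classInner (f * φ) (f * φ) = M ∧ d f * n ≤ b * M :=
    fun f hf => degree_le_mul_norm hb
      (IsCharacter.mul (IsIrrCharacter.isCharacter (mem_irrFinset.1 hf))
        (IsIrrCharacter.isCharacter hφ))
      (by rw [Pi.mul_apply, hd f hf, hn, Nat.cast_mul])
  choose! M hM hMb using hprod
  have hsq : ∑ f ∈ irrFinset G, d f * d f = Nat.card G := by
    have h := sum_degree_sq (G := G)
    rw [sum_congr rfl fun f hf => by rw [hd f hf, sq, ← Nat.cast_mul], ← Nat.cast_sum,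
      Nat.cast_inj] at h
    exact h
  have hlow : n * Nat.card G ≤ b ^ 2 * ∑ f ∈ irrFinset G, M f := by
    rw [← hsq, mul_sum, mul_sum]
    refine sum_le_sum fun f hf => ?_
    calc n * (d f * d f) = d f * (d f * n) := by ring
      _ ≤ b * (b * M f) :=
          Nat.mul_le_mul (hb f (mem_irrFinset.1 hf) _ (hd f hf)) (hMb f hf)
      _ = b ^ 2 * M f := by ring
  obtain ⟨w, hw⟩ : ∃ w : G → ℝ, ∀ x, Complex.normSq (φ x) = w x := ⟨_, fun _ => rfl⟩
  have hw0 : ∀ x, 0 ≤ w x := fun x => hw x ▸ Complex.normSq_nonneg _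
  have hcol : ∀ x : G, ∑ f ∈ irrFinset G, Complex.normSq (f x) =
      (Nat.card (Subgroup.centralizer ({x} : Set G)) : ℝ) := by
    intro x
    have h := sum_irr_mul_conj x x
    rw [if_pos (IsConj.refl x), sum_congr rfl fun f _ => Complex.mul_conj (f x),
      ← Complex.ofReal_sum] at h
    exact_mod_cast h
  have hup : ((∑ f ∈ irrFinset G, M f : ℕ) : ℝ) * Nat.card G =
      ∑ x, (Nat.card (Subgroup.centralizer ({x} : Set G)) : ℝ) * w x := by
    rw [Nat.cast_sum, sum_mul, sum_congr rfl fun f hf => (sum_normSq _ (hM f hf)).symm, sum_comm]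
    refine sum_congr rfl fun x _ => ?_
    rw [← hcol, sum_mul]
    exact sum_congr rfl fun f _ => by rw [Pi.mul_apply, Complex.normSq_mul, hw]
  have hone : ∑ x, w x = (Nat.card G : ℝ) := by
    simp only [← hw]
    rw [sum_normSq φ (M := 1) (by rw [IsIrrCharacter.classInner_self hφ, Nat.cast_one])]
    simp
  have hD : ∑ x ∈ univ.filter (· ∈ D), w x = (N : ℝ) * Nat.card D := by
    rw [← sum_normSq _ hN, sum_subtype (p := (· ∈ D)) _ (fun x => by simp)]
    exact sum_congr rfl fun x _ => (hw x).symm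
  have hmain : ((b : ℝ) ^ 2) *
      ∑ x, (Nat.card (Subgroup.centralizer ({x} : Set G)) : ℝ) * w x ≤
      (Nat.card G : ℝ) * (((b : ℝ) ^ 2 - 1) * ∑ x ∈ univ.filter (· ∈ D), w x + ∑ x, w x) := by
    rw [← sum_filter_add_sum_filter_not univ (· ∈ D)
      (fun x => (Nat.card (Subgroup.centralizer ({x} : Set G)) : ℝ) * w x),
      ← sum_filter_add_sum_filter_not univ (· ∈ D) w, mul_add]
    have h1 : (b : ℝ) ^ 2 * ∑ x ∈ univ.filter (· ∈ D),
        (Nat.card (Subgroup.centralizer ({x} : Set G)) : ℝ) * w x ≤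
        (b : ℝ) ^ 2 * ((Nat.card G : ℝ) * ∑ x ∈ univ.filter (· ∈ D), w x) := by
      refine mul_le_mul_of_nonneg_left ?_ (sq_nonneg _)
      rw [mul_sum]
      refine sum_le_sum fun x _ => mul_le_mul_of_nonneg_right ?_ (hw0 x)
      exact_mod_cast Subgroup.card_le_card_group _
    have h2 : (b : ℝ) ^ 2 * ∑ x ∈ univ.filter (fun x => ¬ x ∈ D),
        (Nat.card (Subgroup.centralizer ({x} : Set G)) : ℝ) * w x ≤
        (Nat.card G : ℝ) * ∑ x ∈ univ.filter (fun x => ¬ x ∈ D), w x := by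
      rw [mul_sum, mul_sum]
      refine sum_le_sum fun x hx => ?_
      rw [← mul_assoc]
      refine mul_le_mul_of_nonneg_right ?_ (hw0 x)
      exact_mod_cast hout x (mem_filter.1 hx).2
    linarith [h1, h2]
  rw [← hup, hone, hD] at hmain
  have hlow' : (n : ℝ) * Nat.card G ≤ (b : ℝ) ^ 2 * ((∑ f ∈ irrFinset G, M f : ℕ) : ℝ) := by
    exact_mod_cast hlow
  have hG : (Nat.card G : ℝ) = Nat.card D * D.index := by exact_mod_cast D.card_mul_index.symm
  have hDpos : (0 : ℝ) < Nat.card D := by exact_mod_cast Nat.card_pos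
  have hGpos : (0 : ℝ) < Nat.card G := by exact_mod_cast Nat.card_pos
  have h3 : (n : ℝ) * Nat.card G ≤
      ((b : ℝ) ^ 2 - 1) * (N * Nat.card D) + Nat.card G := by
    refine le_of_mul_le_mul_right ?_ hGpos
    calc (n : ℝ) * Nat.card G * Nat.card G
        ≤ (b : ℝ) ^ 2 * ((∑ f ∈ irrFinset G, M f : ℕ) : ℝ) * Nat.card G :=
          mul_le_mul_of_nonneg_right hlow' hGpos.le
      _ ≤ _ := by linarith [hmain]
  rw [hG] at h3
  have h4 : (n : ℝ) * D.index + N ≤ (b : ℝ) ^ 2 * N + D.index := by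
    refine le_of_mul_le_mul_right ?_ hDpos
    linarith [h3]
  exact_mod_cast h4

open scoped Classical in
/-- A fully ramified character of prime-power degree halves the degrees of its centre. -/
theorem two_mul_le {b p k : ℕ} (hp : p.Prime) (hk : 0 < k) (hb : DegLE G b) (Z : Subgroup G)
    [Z.Normal] [Fintype Z] {ψ : G → ℂ} (hψ : Cfsg.IsIrrCharacter G ψ)
    (hψ1 : ψ 1 = ((p ^ k : ℕ) : ℂ)) (hZ : Z.index = (p ^ k) ^ 2)
    (hvan : ∀ g ∉ Z, ψ g = 0) (hval : ∀ g ∈ Z, Complex.normSq (ψ g) = ((p ^ k : ℕ) : ℝ) ^ 2)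
    {θ : Z → ℂ} (hθ : Cfsg.IsIrrCharacter Z θ) {d : ℕ} (hd : θ 1 = d) : 2 * d ≤ b := by
  obtain ⟨n, hn⟩ : ∃ n, p ^ k = n := ⟨_, rfl⟩
  rw [hn] at hψ1 hZ hval
  obtain ⟨χ, hχ, hc⟩ := DegreesPrime.exists_over Z hθ
  obtain ⟨m, -, hm⟩ := IsIrrCharacter.exists_degree hχ
  obtain ⟨e, he⟩ := IsCharacter.exists_classInner_eq_natCast
    (IsCharacter.restrict (IsIrrCharacter.isCharacter hχ) Z) hθ
  have he0 : e ≠ 0 := fun h0 => hc (by rw [he, h0, Nat.cast_zero])
  obtain ⟨t, ht⟩ : ∃ t, (inertia (G := G) θ).index = t := ⟨_, rfl⟩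
  have ht0 : t ≠ 0 := ht ▸ Subgroup.index_ne_zero_of_finite
  have hdeg := degree_eq_mul hχ hθ hc
  rw [hm, he, hd, ht, ← Nat.cast_mul, ← Nat.cast_mul, Nat.cast_inj] at hdeg
  have hres := norm_restrict hχ hθ he he0
  rw [ht] at hres
  have hsZ := sum_normSq _ hres
  have hchar := IsCharacter.mul (IsIrrCharacter.isCharacter hψ) (IsIrrCharacter.isCharacter hχ)
  obtain ⟨M, hM, hMb⟩ := degree_le_mul_norm hb hchar (m := n * m)
    (by rw [Pi.mul_apply, hψ1, hm, Nat.cast_mul])
  have hcard : (Nat.card G : ℝ) = Nat.card Z * (n : ℝ) ^ 2 := by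
    rw [← Z.card_mul_index, hZ]; push_cast; ring
  have hZpos : (0 : ℝ) < Nat.card Z := by exact_mod_cast Nat.card_pos
  have hsum : ∑ x, Complex.normSq ((ψ * χ) x) =
      (n : ℝ) ^ 2 * ∑ z : Z, Complex.normSq (χ z) := by
    rw [← sum_subset (s₁ := univ.filter (· ∈ Z)) (subset_univ _) (fun x _ hx => by
      rw [Pi.mul_apply, hvan x (by simpa using hx), zero_mul, map_zero]),
      sum_subtype (p := (· ∈ Z)) _ (fun x => by simp), mul_sum]
    exact sum_congr rfl fun z _ => by rw [Pi.mul_apply, Complex.normSq_mul, hval z z.2]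
  have hMeq : M = e * e * t := by
    have h := (sum_normSq _ hM).symm.trans hsum
    rw [hsZ, hcard] at h
    have hn0 : (0 : ℝ) < (n : ℝ) ^ 2 := by
      rw [← hn]; have := hp.pos; positivity
    have h' : (M : ℝ) = ((e * e * t : ℕ) : ℝ) := by
      refine mul_right_cancel₀ (ne_of_gt (mul_pos hZpos hn0)) ?_
      linarith [h]
    exact_mod_cast h'
  -- the norm of the restriction is at most the index
  have hle : e * e * t ≤ n ^ 2 := by
    have h1 : ∑ z : Z, Complex.normSq (χ z) ≤ ∑ x, Complex.normSq (χ x) := by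
      rw [← sum_subtype (p := (· ∈ Z)) (univ.filter (· ∈ Z)) (fun x => by simp)
        (fun x => Complex.normSq (χ x))]
      exact sum_le_sum_of_subset_of_nonneg (subset_univ _) fun x _ _ => Complex.normSq_nonneg _
    rw [hsZ, sum_normSq χ (M := 1) (by rw [IsIrrCharacter.classInner_self hχ, Nat.cast_one]),
      hcard, Nat.cast_one, one_mul] at h1
    have h2 : ((e * e * t : ℕ) : ℝ) ≤ ((n ^ 2 : ℕ) : ℝ) := by
      rw [Nat.cast_pow]
      refine le_of_mul_le_mul_right ?_ hZpos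
      linarith [h1]
    exact_mod_cast h2
  obtain ⟨r, hr, hr1⟩ := exists_degree_ratio hχ hθ hc
  rw [hm, hd, ← Nat.cast_mul, Nat.cast_inj] at hr1
  have hd0 : d ≠ 0 := by
    obtain ⟨d', hd', hd''⟩ := IsIrrCharacter.exists_degree hθ
    rw [hd, Nat.cast_inj] at hd''
    omega
  have hret : e * t = r := Nat.eq_of_mul_eq_mul_right (Nat.pos_of_ne_zero hd0) (hdeg.symm.trans hr1)
  rw [hZ, ← hn, ← pow_mul, Nat.dvd_prime_pow hp] at hr
  obtain ⟨j, -, hj⟩ := hr
  obtain ⟨i, -, hi⟩ := (Nat.dvd_prime_pow hp).1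
    (show e ∣ p ^ j from hj ▸ hret ▸ dvd_mul_right e t)
  have hee : e * e ≤ n * n := by
    calc e * e ≤ e * e * t := Nat.le_mul_of_pos_right _ (Nat.pos_of_ne_zero ht0)
      _ ≤ n ^ 2 := hle
      _ = n * n := sq n
  have hen : e ≤ n := Nat.mul_self_le_mul_self_iff.1 hee
  rcases hen.eq_or_lt with heq | hlt
  · have ht1 : t = 1 := by
      have h1 : n ^ 2 * t ≤ n ^ 2 * 1 := by rw [heq] at hle; rw [mul_one, sq]; rw [sq] at hle; exact hle
      have := Nat.le_of_mul_le_mul_left h1 (pow_pos (hn ▸ pow_pos hp.pos k) 2)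
      omega
    have hn2 : 2 ≤ n := hn ▸ hp.two_le.trans (Nat.le_self_pow hk.ne' p)
    have hmb := hb χ hχ m hm
    rw [hdeg, ht1, mul_one, heq] at hmb
    exact (Nat.mul_le_mul_right d hn2).trans hmb
  · have hpe : p * e ≤ n := by
      rw [hi, ← hn] at hlt ⊢
      rw [← pow_succ']
      exact Nat.pow_le_pow_right hp.pos ((Nat.pow_lt_pow_iff_right hp.one_lt).1 hlt)
    rw [hMeq, hdeg] at hMb
    have h1 : (e * t) * (n * d) ≤ (e * t) * (b * e) := by
      calc (e * t) * (n * d) = n * (e * t * d) := by ring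
        _ ≤ b * (e * e * t) := hMb
        _ = (e * t) * (b * e) := by ring
    have h2 := Nat.le_of_mul_le_mul_left h1 (Nat.pos_of_ne_zero (mul_ne_zero he0 ht0))
    have h3 : e * (p * d) ≤ e * b :=
      calc e * (p * d) = p * e * d := by ring
        _ ≤ n * d := Nat.mul_le_mul_right d hpe
        _ ≤ b * e := h2
        _ = e * b := mul_comm _ _
    exact (Nat.mul_le_mul_right d hp.two_le).trans
      (Nat.le_of_mul_le_mul_left h3 (Nat.pos_of_ne_zero he0))

/-- In a nilpotent nonabelian group some normal subgroup of index at most `b²` has degrees at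
most `b / 2`. -/
theorem exists_half {b : ℕ} (hb : DegLE G b) (hnil : Group.IsNilpotent G)
    (hna : ∃ x y : G, x * y ≠ y * x) :
    ∃ Z : Subgroup G, Z.index ≤ b ^ 2 ∧ DegLE Z (b / 2) := by
  classical
  haveI := hnil
  have hcne : commutator G ≠ ⊥ := by
    intro h
    obtain ⟨x, y, hxy⟩ := hna
    apply hxy
    have h1 : ⁅x, y⁆ ∈ commutator G :=
      Subgroup.commutator_mem_commutator (Subgroup.mem_top x) (Subgroup.mem_top y)
    rw [h, Subgroup.mem_bot] at h1
    exact commutatorElement_eq_one_iff_mul_comm.1 h1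
  obtain ⟨K, ⟨hKn, hKc⟩, hKmax⟩ :=
    Set.Finite.exists_maximal (s := {K : Subgroup G | K.Normal ∧ ¬ commutator G ≤ K})
      (Set.toFinite _) ⟨⊥, inferInstance, fun h => hcne (le_bot_iff.1 h)⟩
  haveI := hKn
  haveI := Fintype.ofFinite (G ⧸ K)
  have hQc : commutator (G ⧸ K) = (commutator G).map (QuotientGroup.mk' K) := by
    rw [commutator_def, commutator_def, Subgroup.map_commutator,
      Subgroup.map_top_of_surjective _ (QuotientGroup.mk'_surjective K)]
  have hQne : commutator (G ⧸ K) ≠ ⊥ := by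
    rw [hQc, Ne, Subgroup.map_eq_bot_iff, QuotientGroup.ker_mk']
    exact hKc
  -- every nontrivial normal subgroup of the quotient contains the derived group
  have hmin : ∀ L : Subgroup (G ⧸ K), L.Normal → L ≠ ⊥ → commutator (G ⧸ K) ≤ L := by
    intro L hL hL1
    rw [hQc, Subgroup.map_le_iff_le_comap]
    by_contra hno
    apply hL1
    have h1 := hKmax (y := L.comap (QuotientGroup.mk' K)) ⟨hL.comap _, hno⟩ fun x hx => by
      rw [Subgroup.mem_comap, QuotientGroup.mk'_apply, (QuotientGroup.eq_one_iff x).2 hx]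
      exact one_mem L
    rw [eq_bot_iff]
    intro y hy
    obtain ⟨x, rfl⟩ := QuotientGroup.mk'_surjective K y
    exact Subgroup.mem_bot.2 ((QuotientGroup.eq_one_iff x).2 (h1 hy))
  have hcen : commutator (G ⧸ K) ≤ Subgroup.center (G ⧸ K) :=
    (hmin _ inferInstance (CfsgLib.PGroupBasic.inf_center_ne_bot _ hQne)).trans inf_le_right
  -- its centre has index a power of a prime
  obtain ⟨z, hz, hz1⟩ := (Subgroup.bot_or_exists_ne_one _).resolve_left hQne
  obtain ⟨p, hp, hpd⟩ := Nat.exists_prime_and_dvd (fun h => hz1 (orderOf_eq_one_iff.1 h) :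
    orderOf z ≠ 1)
  haveI := Fact.mk hp
  obtain ⟨w, hw⟩ : ∃ w, z ^ (orderOf z / p) = w := ⟨_, rfl⟩
  have hwo : orderOf w = p := hw ▸ orderOf_pow_orderOf_div (orderOf_pos z).ne' hpd
  have hwc : w ∈ Subgroup.center (G ⧸ K) := hcen (hw ▸ pow_mem hz _)
  have hwn : (Subgroup.zpowers w).Normal := ⟨fun y hy g => by
    rwa [Subgroup.mem_center_iff.1 ((Subgroup.zpowers_le.2 hwc) hy) g, mul_inv_cancel_right]⟩
  have hle : commutator (G ⧸ K) ≤ Subgroup.zpowers w := hmin _ hwn fun h => hp.ne_one (by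
    rw [Subgroup.zpowers_eq_bot] at h; rw [← hwo, h, orderOf_one])
  have hpow : ∀ g : G ⧸ K, g ^ p ∈ Subgroup.center (G ⧸ K) := by
    intro g
    rw [Subgroup.mem_center_iff]
    intro h
    have hc1 : g * h * g⁻¹ * h⁻¹ ∈ commutator (G ⧸ K) := DegreesPrime.mem_commutator' g h
    have hcp : (g * h * g⁻¹ * h⁻¹) ^ p = 1 := by
      rw [← orderOf_dvd_iff_pow_eq_one, ← hwo]
      exact orderOf_dvd_of_mem_zpowers (hle hc1)
    have hiter : ∀ j : ℕ, g ^ j * h * (g ^ j)⁻¹ = (g * h * g⁻¹ * h⁻¹) ^ j * h := by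
      intro j
      induction j with
      | zero => simp
      | succ j ih =>
        have hcc := Subgroup.mem_center_iff.1 (pow_mem (hcen hc1) j) g
        calc g ^ (j + 1) * h * (g ^ (j + 1))⁻¹ = g * (g ^ j * h * (g ^ j)⁻¹) * g⁻¹ := by
              rw [pow_succ']; group
          _ = g * (g * h * g⁻¹ * h⁻¹) ^ j * (h * g⁻¹) := by rw [ih]; simp only [mul_assoc]
          _ = (g * h * g⁻¹ * h⁻¹) ^ j * g * (h * g⁻¹) := by rw [hcc]
          _ = (g * h * g⁻¹ * h⁻¹) ^ j * ((g * h * g⁻¹ * h⁻¹) * h) := by group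
          _ = (g * h * g⁻¹ * h⁻¹) ^ (j + 1) * h := by rw [pow_succ]; simp only [mul_assoc]
    have h1 := hiter p
    rw [hcp, one_mul, mul_inv_eq_iff_eq_mul] at h1
    exact h1.symm
  obtain ⟨σ, hσ, hσ1⟩ : ∃ σ : G ⧸ K → ℂ, Cfsg.IsIrrCharacter (G ⧸ K) σ ∧ σ 1 ≠ 1 := by
    by_contra! hall
    apply hQne
    rw [commutator_def, Subgroup.commutator_eq_bot_iff_le_centralizer]
    intro a _ c _
    exact abelian_iff_degree_one.2 hall c a
  have hfaith : ∀ c ∈ commutator (G ⧸ K), c ≠ 1 → σ c ≠ σ 1 := by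
    intro c hc hc1 heq
    apply hσ1
    have hker : commutator (G ⧸ K) ≤ kerSubgroup (IsIrrCharacter.isCharacter hσ) :=
      hmin _ (kerSubgroup_normal _) fun h => hc1 (Subgroup.mem_bot.1
        (h ▸ (heq : c ∈ kerSubgroup (IsIrrCharacter.isCharacter hσ))))
    obtain ⟨τ, hτ, hστ⟩ := TwoClass.exists_deflate (N := commutator (G ⧸ K)) hσ
      fun y hy => hker hy
    haveI := Fintype.ofFinite ((G ⧸ K) ⧸ commutator (G ⧸ K))
    rw [hστ]
    refine IsIrrCharacter.apply_one_eq_one hτ fun a c => ?_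
    exact (Subgroup.Normal.quotient_commutative_iff_commutator_le.2 (le_refl _)).is_comm.comm a c
  obtain ⟨hvan, hsq⟩ := IsIrrCharacter.vanish_of_center_commutator hσ fun g hg => by
    by_contra! hno
    apply hg
    rw [Subgroup.mem_center_iff]
    intro x
    have hc : x * g * x⁻¹ * g⁻¹ ∈ commutator (G ⧸ K) := DegreesPrime.mem_commutator' x g
    by_contra hne
    refine hfaith _ hc (fun h => hne ?_) (hno x (hcen hc))
    exact mul_inv_eq_iff_eq_mul.1 (mul_inv_eq_one.1 h)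
  obtain ⟨n, -, hn⟩ := IsIrrCharacter.exists_degree hσ
  rw [hn, ← Nat.cast_pow, Nat.cast_inj] at hsq
  have hQp : IsPGroup p ((G ⧸ K) ⧸ Subgroup.center (G ⧸ K)) := by
    intro y
    obtain ⟨g, rfl⟩ := QuotientGroup.mk_surjective y
    exact ⟨1, by rw [pow_one]; exact (QuotientGroup.eq_one_iff _).2 (hpow g)⟩
  obtain ⟨j, hj⟩ := IsPGroup.iff_card.1 hQp
  rw [← Subgroup.index_eq_card, ← hsq] at hj
  obtain ⟨k, -, rfl⟩ := (Nat.dvd_prime_pow hp).1 (hj ▸ dvd_pow_self n two_ne_zero)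
  have hk : 0 < k := by
    refine Nat.pos_of_ne_zero fun h => hσ1 ?_
    rw [hn, h, pow_zero, Nat.cast_one]
  obtain ⟨Z, hZ⟩ : ∃ Z, (Subgroup.center (G ⧸ K)).comap (QuotientGroup.mk' K) = Z := ⟨_, rfl⟩
  haveI : Z.Normal := hZ ▸ Subgroup.Normal.comap inferInstance _
  haveI := Fintype.ofFinite Z
  have hidx : Z.index = (p ^ k) ^ 2 := by
    rw [← hZ, Subgroup.index_comap_of_surjective _ (QuotientGroup.mk'_surjective K), hsq]
  have hψ : Cfsg.IsIrrCharacter G (CfsgLib.Char.inflate K σ) := IsIrrCharacter.inflate K hσ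
  have hψ1 : CfsgLib.Char.inflate K σ 1 = ((p ^ k : ℕ) : ℂ) := by
    rw [← hn]; rfl
  refine ⟨Z, ?_, fun θ hθ d hd => ?_⟩
  · rw [hidx]
    exact Nat.pow_le_pow_left (hb _ hψ _ hψ1) 2
  have h2 := two_mul_le hp hk hb Z hψ hψ1 hidx
    (fun g hg => hvan _ fun h => hg (hZ ▸ h))
    (fun g hg => ?_) hθ hd
  · omega
  have hgc : ((g : G ⧸ K)) ∈ Subgroup.center (G ⧸ K) := by
    rw [← hZ] at hg; exact hg
  have h1 := IsIrrCharacter.apply_center_mul hσ hgc ((g : G ⧸ K))⁻¹
  rw [mul_inv_cancel, IsIrrCharacter.apply_inv hσ, hn] at h1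
  have hp0 : ((p ^ k : ℕ) : ℂ) ≠ 0 := Nat.cast_ne_zero.2 (pow_pos hp.pos k).ne'
  rw [div_mul_eq_mul_div, eq_div_iff hp0, Complex.mul_conj, ← sq] at h1
  exact (show ((p ^ k : ℕ) : ℝ) ^ 2 = Complex.normSq (σ g) by exact_mod_cast h1).symm

/-- An element whose centralizer keeps the largest degree commutes with its conjugates. -/
theorem conj_commute {b : ℕ} (hb : DegLE G b) (x : G) {θ : Subgroup.centralizer ({x} : Set G) → ℂ}
    (hθ : Cfsg.IsIrrCharacter _ θ) (hd : θ 1 = b) (g : G) :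
    g * x * g⁻¹ * x = x * (g * x * g⁻¹) := by
  classical
  obtain ⟨H, hH⟩ : ∃ H, Subgroup.centralizer ({x} : Set G) = H := ⟨_, rfl⟩
  revert θ
  rw [hH]
  intro θ hθ hd
  haveI := Fintype.ofFinite H
  have hxH : x ∈ H := hH ▸ Subgroup.mem_centralizer_singleton_iff.2 rfl
  have hb0 : 0 < b := by
    obtain ⟨d, hd0, hd'⟩ := IsIrrCharacter.exists_degree hθ
    rw [hd, Nat.cast_inj] at hd'
    exact hd' ▸ hd0
  have hθx : ‖θ ⟨x, hxH⟩‖ = b := by
    obtain ⟨n', σ, hσ, rfl⟩ := id hθ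
    haveI := hσ
    rw [σ.char_one, Module.finrank_fin_fun, Nat.cast_inj] at hd
    rw [(norm_character_eq_iff σ _).2 ⟨_, eq_smul_one_of_commute σ (σ ⟨x, hxH⟩) fun y => by
      rw [← map_mul, ← map_mul]
      exact congrArg σ (Subtype.ext
        (Subgroup.mem_centralizer_singleton_iff.1 (hH.symm ▸ y.2 :
          (y : G) ∈ Subgroup.centralizer ({x} : Set G))))⟩, Module.finrank_fin_fun, hd]
  obtain ⟨y, hy⟩ : ∃ y, g * x * g⁻¹ * x⁻¹ = y := ⟨_, rfl⟩
  have hI := IsCharacter.indFun (G := G) (IsIrrCharacter.isCharacter hθ)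
  have key : ∀ f ∈ irrFinset G, Cfsg.classInner (Cfsg.indFun H θ) f * f y =
      Cfsg.classInner (Cfsg.indFun H θ) f * f 1 := by
    intro f hf
    have hf' := mem_irrFinset.1 hf
    by_cases h0 : Cfsg.classInner (Cfsg.indFun H θ) f = 0
    · rw [h0, zero_mul, zero_mul]
    congr 1
    rw [classInner_indFun θ (IsIrrCharacter.isClassFunction hf'), ← classInner_conj] at h0
    have hne : Cfsg.classInner (fun h : H => f h) θ ≠ 0 := fun h => h0 (by rw [h, map_zero])
    obtain ⟨m, -, hm⟩ := IsIrrCharacter.exists_degree hf'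
    have hres := IsCharacter.restrict (IsIrrCharacter.isCharacter hf') H
    have hm1 : (fun h : H => f h) 1 = (m : ℂ) := hm
    have hbm := DegreeBelowPrime.degree_le_of_classInner_ne_zero hres hθ hne hm1 hd
    have hmb : m = b := le_antisymm (hb f hf' m hm) hbm
    have heq := IsCharacter.eq_of_constituent hres hθ hne (hm1.trans (by rw [hd, hmb]))
    obtain ⟨n', ρ, hρ, hfρ⟩ := id hf'
    haveI := hρ
    have hn' : n' = b := by
      rw [← hfρ, ρ.char_one, Module.finrank_fin_fun, Nat.cast_inj] at hm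
      exact hm.trans hmb
    obtain ⟨ω, hω⟩ := (norm_character_eq_iff ρ x).1 (by
      rw [hfρ, show f x = θ ⟨x, hxH⟩ from congrFun heq ⟨x, hxH⟩, hθx, Module.finrank_fin_fun,
        hn'])
    rw [← hfρ, ρ.char_one, character_eq_iff, ← hy]
    have hcg : ρ g * ρ x = ρ x * ρ g := by
      rw [hω, ← Module.End.one_eq_id, mul_smul_comm, smul_mul_assoc, mul_one, one_mul]
    rw [map_mul, map_mul, map_mul, hcg, mul_assoc (ρ x) (ρ g) (ρ g⁻¹), ← map_mul ρ g,
      mul_inv_cancel, map_one, mul_one, ← map_mul, mul_inv_cancel, map_one]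
  have hval : Cfsg.indFun H θ y = Cfsg.indFun H θ 1 := by
    rw [eq_sum_irr (IsCharacter.isClassFunction hI), Finset.sum_apply, Finset.sum_apply]
    refine sum_congr rfl fun f hf => ?_
    rw [Pi.smul_apply, Pi.smul_apply, smul_eq_mul, smul_eq_mul]
    exact key f hf
  have hyH : y ∈ H := by
    by_contra hyH
    rw [indFun_def, indFun_def] at hval
    have h1 := mul_left_cancel₀ (inv_ne_zero (Nat.cast_ne_zero.2 Nat.card_pos.ne')) hval
    have hone : ∀ z : G, Cfsg.extendByZero H θ (z⁻¹ * 1 * z) = (b : ℂ) := fun z => by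
      rw [mul_one, inv_mul_cancel, extendByZero_of_mem θ H.one_mem]
      exact hd
    rw [sum_congr rfl fun z _ => hone z] at h1
    have h2 := congrArg Complex.re h1
    rw [Complex.re_sum, Complex.re_sum] at h2
    simp only [Complex.natCast_re] at h2
    have hle : ∀ z : G, (Cfsg.extendByZero H θ (z⁻¹ * y * z)).re ≤ (b : ℝ) := fun z => by
      by_cases hz : z⁻¹ * y * z ∈ H
      · rw [extendByZero_of_mem θ hz]
        refine (Complex.re_le_norm _).trans ?_
        have := IsCharacter.norm_apply_le (IsIrrCharacter.isCharacter hθ) ⟨_, hz⟩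
        rwa [hd, Complex.natCast_re] at this
      · rw [extendByZero_of_not_mem θ hz, Complex.zero_re]
        exact Nat.cast_nonneg b
    have h3 := (sum_eq_sum_iff_of_le fun z _ => hle z).1 h2 1 (mem_univ _)
    rw [inv_one, one_mul, mul_one, extendByZero_of_not_mem θ hyH, Complex.zero_re] at h3
    have : (0 : ℝ) < b := by exact_mod_cast hb0
    linarith
  have hgx : g * x * g⁻¹ = y * x := by rw [← hy]; group
  have hyx : y * x = x * y :=
    Subgroup.mem_centralizer_singleton_iff.1 (hH.symm ▸ hyH :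
      y ∈ Subgroup.centralizer ({x} : Set G))
  rw [hgx, ← mul_assoc, ← hyx]

theorem isNilpotent_normalClosure_singleton {x : G}
    (h : ∀ g : G, g * x * g⁻¹ * x = x * (g * x * g⁻¹)) :
    Group.IsNilpotent (Subgroup.normalClosure ({x} : Set G)) := by
  have hc : ∀ a ∈ Group.conjugatesOfSet ({x} : Set G), ∀ c ∈ Group.conjugatesOfSet ({x} : Set G),
      a * c = c * a := by
    intro a ha c hc
    obtain ⟨x', hx', ha'⟩ := Group.mem_conjugatesOfSet_iff.1 ha
    obtain ⟨x'', hx'', hc'⟩ := Group.mem_conjugatesOfSet_iff.1 hc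
    obtain rfl := Set.mem_singleton_iff.1 hx'
    obtain rfl := Set.mem_singleton_iff.1 hx''
    obtain ⟨g, rfl⟩ := isConj_iff.1 ha'
    obtain ⟨k, rfl⟩ := isConj_iff.1 hc' 
    have h1 := congrArg (fun z => k * z * k⁻¹) (h (k⁻¹ * g))
    simpa [mul_assoc] using h1
  haveI : IsMulCommutative (Subgroup.normalClosure ({x} : Set G)) :=
    Subgroup.isMulCommutative_closure hc
  letI : CommGroup (Subgroup.normalClosure ({x} : Set G)) :=
    { (inferInstance : Group (Subgroup.normalClosure ({x} : Set G))) with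
      mul_comm := fun a c => IsMulCommutative.is_comm.comm a c }
  infer_instance

theorem factorial_bound {b : ℕ} (hb : 3 ≤ b) {j : ℕ} (hj : j ≤ b - 2) :
    (b + 1) * b ^ 2 * Nat.factorial j ^ 2 ≤ Nat.factorial b ^ 2 := by
  obtain ⟨a, rfl⟩ : ∃ a, b = a + 2 := ⟨b - 2, by omega⟩
  have h1 : Nat.factorial j ≤ Nat.factorial a := Nat.factorial_le (by omega)
  have h2 : a + 2 + 1 ≤ (a + 1) ^ 2 := by nlinarith
  calc (a + 2 + 1) * (a + 2) ^ 2 * Nat.factorial j ^ 2
      ≤ (a + 1) ^ 2 * (a + 2) ^ 2 * Nat.factorial a ^ 2 :=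
        Nat.mul_le_mul (Nat.mul_le_mul_right _ h2) (Nat.pow_le_pow_left h1 2)
    _ = Nat.factorial (a + 2) ^ 2 := by
        rw [Nat.factorial_succ, Nat.factorial_succ]; ring

/-- An abelian subgroup of a subgroup gives one of the group. -/
theorem lift_abelian (H : Subgroup G) {B : ℕ}
    (h : ∃ A : Subgroup H, (∀ x ∈ A, ∀ y ∈ A, x * y = y * x) ∧ A.index ≤ B) :
    ∃ A : Subgroup G, (∀ x ∈ A, ∀ y ∈ A, x * y = y * x) ∧ A.index ≤ H.index * B := by
  obtain ⟨A, hA, hAi⟩ := h
  refine ⟨A.map H.subtype, ?_, ?_⟩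
  · rintro _ ⟨x, hx, rfl⟩ _ ⟨y, hy, rfl⟩
    rw [← map_mul, hA x hx y hy, map_mul]
  · rw [Subgroup.index_map_subtype, mul_comm]
    exact Nat.mul_le_mul_left _ hAi

/-- An abelian subgroup of index at most `(b!)²`. -/
theorem exists_abelian (b : ℕ) : ∀ (G : Type u) [Group G] [Finite G], DegLE G b →
    ∃ A : Subgroup G, (∀ x ∈ A, ∀ y ∈ A, x * y = y * x) ∧ A.index ≤ Nat.factorial b ^ 2 := by
  classical
  induction b using Nat.strong_induction_on with | _ b ih => ?_
  intro G _ _ hb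
  haveI := Fintype.ofFinite G
  have habelian : (∀ x y : G, x * y = y * x) →
      ∃ A : Subgroup G, (∀ x ∈ A, ∀ y ∈ A, x * y = y * x) ∧ A.index ≤ Nat.factorial b ^ 2 :=
    fun h => ⟨⊤, fun x _ y _ => h x y, by
      rw [Subgroup.index_top]; exact Nat.one_le_pow _ _ (Nat.factorial_pos b)⟩
  by_cases hex : ∃ f : G → ℂ, Cfsg.IsIrrCharacter G f ∧ f 1 = (b : ℂ)
  swap
  · have hb0 : b ≠ 0 := by
      rintro rfl
      have := hb _ isIrrCharacter_one 1 (by simp)
      omega
    obtain ⟨A, hA, hAi⟩ := ih (b - 1) (by omega) G fun f hf m hm => by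
      have h1 := hb f hf m hm
      have h2 : m ≠ b := fun h => hex ⟨f, hf, h ▸ hm⟩
      omega
    exact ⟨A, hA, hAi.trans (Nat.pow_le_pow_left (Nat.factorial_le (by omega)) 2)⟩
  obtain ⟨χ0, hχ0, hχ0b⟩ := hex
  rcases Nat.lt_or_ge b 3 with hlt | hb3
  · by_cases hab : ∀ x y : G, x * y = y * x
    · exact habelian hab
    have hb2 : b = 2 := by
      by_contra hne
      refine hab (abelian_iff_degree_one.2 fun f hf => ?_)
      obtain ⟨m, hm0, hm⟩ := IsIrrCharacter.exists_degree hf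
      have h1 := hb f hf m hm
      rw [hm, show m = 1 by omega, Nat.cast_one]
    subst hb2
    haveI : Fact (Nat.Prime 2) := ⟨Nat.prime_two⟩
    push Not at hab
    rcases DegreesPrime.abelian_index_or_center (p := 2) hab fun f hf => by
      obtain ⟨m, hm0, hm⟩ := IsIrrCharacter.exists_degree hf
      have h1 := hb f hf m hm
      interval_cases m
      · exact Or.inl (by simpa using hm)
      · exact Or.inr hm
      with ⟨A, -, hA, hAi⟩ | hZ
    · exact ⟨A, hA, by rw [hAi]; decide⟩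
    obtain ⟨x, y, hxy⟩ := hab
    obtain ⟨A, hA⟩ : ∃ A, Subgroup.center G ⊔ Subgroup.zpowers x = A := ⟨_, rfl⟩
    refine ⟨A, ?_, ?_⟩
    · intro a ha c hc
      rw [← hA] at ha hc
      obtain ⟨z, hz, i, hi, rfl⟩ := Subgroup.mem_sup_of_normal_left.1 ha
      obtain ⟨z', hz', i', hi', rfl⟩ := Subgroup.mem_sup_of_normal_left.1 hc
      obtain ⟨m, rfl⟩ := hi
      obtain ⟨m', rfl⟩ := hi'
      have e1 : Commute z (z' * x ^ m') := (Subgroup.mem_center_iff.1 hz _).symm
      have e2 : Commute (x ^ m) z' := Subgroup.mem_center_iff.1 hz' _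
      exact (e1.mul_left (e2.mul_right (Commute.zpow_zpow_self x m m')))
    · have hlt : Subgroup.center G < A := by
        refine hA ▸ lt_of_le_of_ne le_sup_left fun h => hxy ?_
        exact (Subgroup.mem_center_iff.1
          (h ▸ Subgroup.mem_sup_right (Subgroup.mem_zpowers x)) y).symm
      have hd := Subgroup.index_dvd_of_le hlt.le
      rw [hZ] at hd
      have h1 := Subgroup.index_strictAnti hlt
      rw [hZ] at h1
      obtain ⟨i, hi, hi'⟩ := (Nat.dvd_prime_pow Nat.prime_two).1 hd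
      rw [hi'] at h1 ⊢
      interval_cases i <;> simp_all
  -- elements with small classes
  by_cases h1 : ∃ x : G, (Subgroup.centralizer ({x} : Set G)).index ≤ b ^ 2 ∧
      DegLE (Subgroup.centralizer ({x} : Set G)) (b - 1)
  · obtain ⟨x, hx, hxd⟩ := h1
    obtain ⟨A, hA, hAi⟩ := lift_abelian _ (ih (b - 1) (by omega) _ hxd)
    refine ⟨A, hA, hAi.trans ((Nat.mul_le_mul_right _ hx).trans_eq ?_)⟩
    obtain ⟨a, rfl⟩ : ∃ a, b = a + 1 := ⟨b - 1, by omega⟩
    rw [Nat.add_sub_cancel, Nat.factorial_succ, mul_pow]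
  push Not at h1
  obtain ⟨D, hD⟩ : ∃ D, Subgroup.normalClosure
      {x : G | (Subgroup.centralizer ({x} : Set G)).index ≤ b ^ 2} = D := ⟨_, rfl⟩
  haveI : D.Normal := hD ▸ Subgroup.normalClosure_normal
  haveI := Fintype.ofFinite D
  have hDF : D ≤ Cfsg.fittingSubgroup G := by
    rw [← hD]
    refine Subgroup.normalClosure_le_normal fun x hx => ?_
    have hfail := h1 x hx
    rw [DegLE] at hfail
    push Not at hfail
    obtain ⟨θ, hθ, m, hm, hmb⟩ := hfail
    have hmb' : m = b := by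
      have := degLE_subgroup hb _ θ hθ m hm
      omega
    subst hmb'
    exact CfsgLib.Solvable.le_fittingSubgroup Subgroup.normalClosure_normal
      (isNilpotent_normalClosure_singleton (conj_commute hb x hθ hm))
      (Subgroup.subset_normalClosure (Set.mem_singleton x))
  have hnil : Group.IsNilpotent D := by
    haveI := CfsgLib.Solvable.isNilpotent_fittingSubgroup (G := G)
    exact (Group.isNilpotent_congr (Subgroup.subgroupOfEquivOfLe hDF)).1 inferInstance
  have hout : ∀ x ∉ D, b ^ 2 * Nat.card (Subgroup.centralizer ({x} : Set G)) ≤ Nat.card G := by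
    intro x hx
    rw [← (Subgroup.centralizer ({x} : Set G)).card_mul_index, mul_comm (Nat.card _)]
    refine Nat.mul_le_mul_right _ (le_of_not_ge fun h => hx ?_)
    rw [← hD]
    exact Subgroup.subset_normalClosure h
  -- the largest degree of `D`
  obtain ⟨θc, hθc, hθmax⟩ := Finset.exists_max_image (irrFinset D) Cfsg.charDegree
    ⟨_, mem_irrFinset.2 isIrrCharacter_one⟩
  obtain ⟨c, hc0, hc⟩ := IsIrrCharacter.exists_degree (mem_irrFinset.1 hθc)
  have hDle : DegLE D c := fun f hf m hm => by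
    have h := hθmax f (mem_irrFinset.2 hf)
    simpa [Cfsg.charDegree, hm, hc] using h
  have hcb : c ≤ b := degLE_subgroup hb D θc (mem_irrFinset.1 hθc) c hc
  obtain ⟨φ, θ, n, hφ, hθ, hφn, hn2, hθc1, hne⟩ : ∃ (φ : G → ℂ) (θ : D → ℂ) (n : ℕ),
      Cfsg.IsIrrCharacter G φ ∧ Cfsg.IsIrrCharacter D θ ∧ φ 1 = (n : ℂ) ∧ 2 ≤ n ∧
        θ 1 = (c : ℂ) ∧ Cfsg.classInner (fun d : D => φ d) θ ≠ 0 := by
    rcases Nat.lt_or_ge c 2 with hc1 | hc2
    · obtain ⟨θ, hθ, hne⟩ := exists_constituent_restrict (N := D) hχ0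
      obtain ⟨d, hd0, hd⟩ := IsIrrCharacter.exists_degree hθ
      refine ⟨χ0, θ, b, hχ0, hθ, hχ0b, by omega, ?_, hne⟩
      have := hDle θ hθ d hd
      rw [hd, show d = c by omega]
    · obtain ⟨φ, hφ, hne⟩ := DegreesPrime.exists_over D (mem_irrFinset.1 hθc)
      obtain ⟨n, hn0, hn⟩ := IsIrrCharacter.exists_degree hφ
      refine ⟨φ, θc, n, hφ, mem_irrFinset.1 hθc, hn, ?_, hc, hne⟩
      exact hc2.trans
        (Nat.le_of_dvd hn0 (TwoDegrees.degree_dvd hφ (mem_irrFinset.1 hθc) hne hn hc))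
  obtain ⟨e, he⟩ := IsCharacter.exists_classInner_eq_natCast
    (IsCharacter.restrict (IsIrrCharacter.isCharacter hφ) D) hθ
  have he0 : e ≠ 0 := fun h0 => hne (by rw [he, h0, Nat.cast_zero])
  obtain ⟨t, ht⟩ : ∃ t, (inertia (G := G) θ).index = t := ⟨_, rfl⟩
  have ht0 : 0 < t := ht ▸ Nat.pos_of_ne_zero Subgroup.index_ne_zero_of_finite
  have hdeg := degree_eq_mul hφ hθ hne
  rw [hφn, he, hθc1, ht, ← Nat.cast_mul, ← Nat.cast_mul, Nat.cast_inj] at hdeg
  have hineq := index_mul_le hb D hout hφ hφn (ht ▸ norm_restrict hφ hθ he he0)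
  obtain ⟨r, hr⟩ : ∃ r, D.index = r := ⟨_, rfl⟩
  rw [hr] at hineq
  have hnb := hb φ hφ n hφn
  have hrc : r * c ^ 2 ≤ (b + 1) * b ^ 2 := by
    obtain ⟨n', rfl⟩ : ∃ n', n = n' + 1 := ⟨n - 1, by omega⟩
    obtain ⟨b', rfl⟩ : ∃ b', b = b' + 1 := ⟨b - 1, by omega⟩
    have hN : e * e * t * c ^ 2 ≤ (n' + 1) ^ 2 := by
      rw [hdeg]
      calc e * e * t * c ^ 2 ≤ e * e * (t * t) * c ^ 2 :=
            Nat.mul_le_mul_right _ (Nat.mul_le_mul_left _ (Nat.le_mul_self t))
        _ = (e * t * c) ^ 2 := by ring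
    have h1 : r * n' ≤ (b' * (b' + 2)) * (e * e * t) := by nlinarith [hineq]
    have h2 : (n' + 1) ^ 2 * b' ≤ (b' + 1) ^ 2 * n' := by
      obtain ⟨k, rfl⟩ : ∃ k, b' = n' + k := ⟨b' - n', by omega⟩
      obtain ⟨l, rfl⟩ : ∃ l, n' = l + 1 := ⟨n' - 1, by omega⟩
      ring_nf
      nlinarith [Nat.zero_le (k * k), Nat.zero_le (l * k), Nat.zero_le (l * l * k),
        Nat.zero_le (l * k * k)]
    have h3 : r * c ^ 2 * (n' * b') ≤ (b' + 1 + 1) * (b' + 1) ^ 2 * (n' * b') :=
      calc r * c ^ 2 * (n' * b') = r * n' * c ^ 2 * b' := by ring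
        _ ≤ b' * (b' + 2) * (e * e * t) * c ^ 2 * b' :=
            Nat.mul_le_mul_right _ (Nat.mul_le_mul_right _ h1)
        _ = b' * (b' + 2) * ((e * e * t * c ^ 2) * b') := by ring
        _ ≤ b' * (b' + 2) * ((n' + 1) ^ 2 * b') :=
            Nat.mul_le_mul_left _ (Nat.mul_le_mul_right _ hN)
        _ ≤ b' * (b' + 2) * ((b' + 1) ^ 2 * n') := Nat.mul_le_mul_left _ h2
        _ = (b' + 1 + 1) * (b' + 1) ^ 2 * (n' * b') := by ring
    exact Nat.le_of_mul_le_mul_right h3 (Nat.mul_pos (by omega) (by omega))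
  rcases hcb.eq_or_lt with rfl | hclt
  · have hrb : r ≤ c + 1 := Nat.le_of_mul_le_mul_right hrc (pow_pos (by omega) 2)
    have hna : ∃ x y : D, x * y ≠ y * x := by
      by_contra! hall
      have := abelian_iff_degree_one.1 hall θc (mem_irrFinset.1 hθc)
      rw [hc, Nat.cast_eq_one] at this
      omega
    obtain ⟨Z, hZi, hZd⟩ := exists_half hDle hnil hna
    obtain ⟨A, hA, hAi⟩ := lift_abelian D (lift_abelian Z (ih (c / 2) (by omega) Z hZd))
    refine ⟨A, hA, hAi.trans (le_trans ?_ (factorial_bound hb3 (j := c / 2) (by omega)))⟩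
    rw [hr, mul_assoc]
    exact Nat.mul_le_mul hrb (Nat.mul_le_mul_right _ hZi)
  · obtain ⟨A, hA, hAi⟩ := lift_abelian D (ih c hclt D hDle)
    refine ⟨A, hA, hAi.trans (le_trans ?_ (factorial_bound hb3 (j := c - 1) (by omega)))⟩
    obtain ⟨a, rfl⟩ : ∃ a, c = a + 1 := ⟨c - 1, by omega⟩
    rw [hr, Nat.add_sub_cancel, Nat.factorial_succ, mul_pow, ← mul_assoc]
    exact Nat.mul_le_mul_right _ hrc

end CfsgLib.Char.AbelianIndexBound
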