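import Cfsg.Agent.Char.IndSpan
import Cfsg.Agent.Char.Monomial
import Mathlib.GroupTheory.SpecificGroups.Cyclic

/-!
# Artin's induction theorem
-/

namespace CfsgLib.Char

universe u

/-- The order of the group on its generators, zero elsewhere. -/
noncomputable def genIndicator (A : Type u) [Group A] : A → ℂ :=
  fun a => if orderOf a = Nat.card A then (Nat.card A : ℂ) else 0

theorem sum_indFun_genIndicator (G : Type u) [Group G] [Fintype G]
    [DecidablePred fun A : Subgroup G => IsCyclic A] :
    ∑ A ∈ Finset.univ.filter (fun A : Subgroup G => IsCyclic A),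
      Cfsg.indFun A (genIndicator A) = fun _ => (Nat.card G : ℂ) := by
  classical
  funext g
  have key : ∀ (A : Subgroup G) (x : G),
      (Nat.card A : ℂ)⁻¹ * Cfsg.extendByZero A (genIndicator A) (x⁻¹ * g * x) =
        if Subgroup.zpowers (x⁻¹ * g * x) = A then 1 else 0 := by
    intro A x
    by_cases hm : x⁻¹ * g * x ∈ A
    · rw [extendByZero_of_mem _ hm]
      by_cases ho : orderOf (x⁻¹ * g * x) = Nat.card A
      · rw [if_pos (Subgroup.eq_of_le_of_card_ge (Subgroup.zpowers_le.2 hm)
          (by rw [Nat.card_zpowers, ho])), genIndicator, Subgroup.orderOf_mk, if_pos ho,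
          inv_mul_cancel₀ (by exact_mod_cast Nat.card_pos.ne')]
      · rw [if_neg (fun h => ho (by rw [← h, Nat.card_zpowers])), genIndicator,
          Subgroup.orderOf_mk, if_neg ho, mul_zero]
    · rw [extendByZero_of_not_mem _ hm, mul_zero,
        if_neg (fun (h : Subgroup.zpowers (x⁻¹ * g * x) = A) => hm (h ▸ Subgroup.mem_zpowers _))]
  rw [Finset.sum_apply]
  simp only [indFun_def, Finset.mul_sum, key]
  rw [Finset.sum_comm, Finset.sum_congr rfl fun x _ => Finset.sum_ite_eq _ _ _]
  simp only [Finset.mem_filter, Finset.mem_univ, true_and]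
  rw [Finset.sum_congr rfl fun x _ => if_pos (Subgroup.isCyclic_zpowers _)]
  simp [Nat.card_eq_fintype_card]

theorem isGeneralized_genIndicator (A : Type u) [Group A] [Finite A] (hA : IsCyclic A) :
    Cfsg.IsGeneralizedCharacter A (genIndicator A) := by
  classical
  induction hn : Nat.card A using Nat.strong_induction_on generalizing A with
  | _ n ih =>
  subst hn
  have := Fintype.ofFinite A
  have hcl : Cfsg.IsClassFunction A (genIndicator A) := fun g h => by
    rw [show h * g * h⁻¹ = g by rw [mul_comm' h g, mul_inv_cancel_right]]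
  have htop : Cfsg.indFun (⊤ : Subgroup A) (genIndicator (⊤ : Subgroup A)) = genIndicator A := by
    conv_rhs => rw [← indFun_top hcl]
    congr 1
    funext a
    rw [genIndicator, genIndicator, Subgroup.orderOf_coe, Subgroup.card_top]
  have hsum := sum_indFun_genIndicator A
  rw [← Finset.add_sum_erase _ _ (Finset.mem_filter.2 ⟨Finset.mem_univ (⊤ : Subgroup A),
    (inferInstance : IsCyclic (⊤ : Subgroup A))⟩), htop, ← eq_sub_iff_add_eq] at hsum
  rw [hsum]
  refine IsGeneralized.sub ?_ (isGeneralized_sum _ fun B hB => ?_)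
  · have := IsGeneralized.intCast_smul (isGeneralized_one (G := A)) (Nat.card A)
    convert this using 1
    funext a
    simp
  · obtain ⟨hne, hB⟩ := Finset.mem_erase.1 hB
    refine IsGeneralized.indFun (ih _ ?_ B (Finset.mem_filter.1 hB).2 rfl)
    exact lt_of_le_of_ne B.card_le_card_group fun h => hne (Subgroup.eq_top_of_card_eq _ h)

/-- Artin's induction theorem. -/
theorem artin_induction {G : Type u} [Group G] [Fintype G] {χ : G → ℂ}
    (hχ : Cfsg.IsCharacter G χ) :
    (Nat.card G : ℂ) • χ ∈ linSpan (fun A : Subgroup G => IsCyclic A) := by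
  classical
  refine indSpan_le_linSpan (fun E hE _ ψ hψ => ?_) ?_
  · have : IsCyclic E := hE
    have h1 : ψ 1 = 1 := IsIrrCharacter.apply_one_eq_one_of_commutators hψ fun a b => by
      rw [mul_comm' a b, mul_inv_cancel_right, mul_inv_cancel]
    obtain ⟨lam, hlam⟩ := IsCharacter.exists_hom (IsIrrCharacter.isCharacter hψ) h1
    refine ⟨⊤, lam.comp (⊤ : Subgroup E).subtype, ?_, ?_⟩
    · rwa [← MonoidHom.range_eq_map, Subgroup.range_subtype]
    · refine (indFun_top (IsIrrCharacter.isClassFunction hψ)).symm.trans ?_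
      subst hlam
      rfl
  · rw [show (Nat.card G : ℂ) • χ = (fun _ : G => (Nat.card G : ℂ)) * χ from rfl,
      ← sum_indFun_genIndicator G]
    refine mul_mem_indSpan hχ (Submodule.sum_mem _ fun A hA => ?_)
    exact indFun_mem_indSpan_of_generalized (Finset.mem_filter.1 hA).2
      (isGeneralized_genIndicator A (Finset.mem_filter.1 hA).2)

end CfsgLib.Char
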