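import Cfsg.Agent.Char.BergerTools
import Mathlib.LinearAlgebra.Matrix.Determinant.Basic
import Mathlib.Data.Matrix.Basis

/-!
# The projective representation attached to a fully ramified section
-/

set_option autoImplicit false
set_option linter.style.haveILetI false
set_option linter.unusedSectionVars false

namespace CfsgLib.Char

open Module Representation

universe u

variable {G : Type u} [Group G] [Finite G] {N M : Subgroup G} [hN : N.Normal] [hM : M.Normal]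
  {t e : ℕ}

local notation "𝕌" => Fin t → ℂ
local notation "𝕍" => Fin e → Fin t → ℂ
local notation "𝕄" => Matrix (Fin e) (Fin e) ℂ

/-- The intertwiners of an adapted representation of `M` split off a projective representation of
`G` by matrices. -/
theorem exists_projective_coord (σ : Representation ℂ N 𝕌) [σ.IsIrreducible] (hNM : N ≤ M)
    (φ : Representation ℂ M 𝕍) [φ.IsIrreducible]
    (hdiag : ∀ n : N, φ ⟨n, hNM n.2⟩ = diagEnd (Fin e) (σ n))
    (hσ : ∀ g : G, conjOn g σ.character = σ.character)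
    (hφ : ∀ g : G, conjOn g φ.character = φ.character) :
    ∃ (Φ : G → (Module.End ℂ 𝕍)ˣ) (Y : G → (𝕄)ˣ),
      (∀ g, Intertwines φ g (Φ g)) ∧
      (∀ g (Z : 𝕄), (Φ g : Module.End ℂ 𝕍) * rmat Z =
        rmat ((Y g : 𝕄) * Z * (((Y g)⁻¹ : (𝕄)ˣ) : 𝕄)) * (Φ g : Module.End ℂ 𝕍)) ∧
      (∀ g h, ∃ c : ℂˣ, Y (g * h) = scalarUnit 𝕄 c * (Y g * Y h)) ∧
      (∀ g ∈ N, ∃ c : ℂˣ, Y g = scalarUnit 𝕄 c) := by
  classical
  haveI : Nontrivial 𝕌 := Module.nontrivial_of_finrank_pos (finrank_pos_of_isIrreducible σ)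
  obtain ⟨u₀, ξ, hξ⟩ := exists_dual_pair (U := 𝕌)
  choose Θ hΘ using fun g => Intertwines.exists σ hσ g
  choose Φ hΦ using fun g => Intertwines.exists φ hφ g
  let D : (Module.End ℂ 𝕌)ˣ →* (Module.End ℂ 𝕍)ˣ := Units.map (diagHom (Fin e))
  have hDv : ∀ X, (D X : Module.End ℂ 𝕍) = diagEnd (Fin e) (X : Module.End ℂ 𝕌) := fun X => rfl
  let rh : 𝕄 →* Module.End ℂ 𝕍 :=
    { toFun := rmat
      map_one' := rmat_one
      map_mul' := rmat_mul }
  let R : (𝕄)ˣ →* (Module.End ℂ 𝕍)ˣ := Units.map rh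
  have hRv : ∀ X, (R X : Module.End ℂ 𝕍) = rmat (X : 𝕄) := fun X => rfl
  have hRD : ∀ X A, D X * R A = R A * D X := fun X A =>
    Units.ext (diagEnd_comp_rmat (X : Module.End ℂ 𝕌) (A : 𝕄))
  have hRinj : Function.Injective R := fun A B h => Units.ext (by
    have := congrArg (fun x : (Module.End ℂ 𝕍)ˣ => coef u₀ ξ (x : Module.End ℂ 𝕍)) h
    simpa [hRv, coef_rmat hξ] using this)
  have hRs : ∀ c, R (scalarUnit 𝕄 c) = scalarUnit (Module.End ℂ 𝕍) c := fun c => Units.ext (by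
    rw [hRv, scalarUnit_val, scalarUnit_val, rmat_smul, rmat_one]
    rfl)
  have hDs : ∀ c, D (scalarUnit (Module.End ℂ 𝕌) c) = scalarUnit (Module.End ℂ 𝕍) c := fun c =>
    Units.ext (by
      rw [hDv, scalarUnit_val, scalarUnit_val]
      exact LinearMap.ext fun v => funext fun i => by simp [diagEnd_apply])
  -- the matrix part of an intertwiner
  have hsplit : ∀ g, ∃ A : (𝕄)ˣ, Φ g = R A * D (Θ g) := by
    intro g
    set X := Φ g * (D (Θ g))⁻¹ with hX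
    have hc : ∀ n : N, (X : Module.End ℂ 𝕍).comp (diagEnd (Fin e) (σ n)) =
        (diagEnd (Fin e) (σ n)).comp (X : Module.End ℂ 𝕍) := by
      intro n
      change (X : Module.End ℂ 𝕍) * diagHom (Fin e) (σ n) = diagHom (Fin e) (σ n) * X
      have hS : ∀ m : N, σ m = (σ.asGroupHom m : Module.End ℂ 𝕌) := fun m => rfl
      have h1 : ∀ m : N, Θ g * σ.asGroupHom m =
          σ.asGroupHom ⟨g * m * g⁻¹, hN.conj_mem m m.2 g⟩ * Θ g := fun m => Units.ext (hΘ g m)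
      have h2 : ∀ m : N, Φ g * D (σ.asGroupHom m) =
          D (σ.asGroupHom ⟨g * m * g⁻¹, hN.conj_mem m m.2 g⟩) * Φ g := fun m => Units.ext (by
        have h := hΦ g ⟨m, hNM m.2⟩
        rw [hdiag m] at h
        have e2 : (⟨g * ((⟨m, hNM m.2⟩ : M) : G) * g⁻¹, hM.conj_mem _ (hNM m.2) g⟩ : M) =
            ⟨((⟨g * m * g⁻¹, hN.conj_mem m m.2 g⟩ : N) : G), hNM (hN.conj_mem m m.2 g)⟩ := rfl
        rw [e2, hdiag] at h
        exact h)
      refine congrArg Units.val (?_ : X * D (σ.asGroupHom n) = D (σ.asGroupHom n) * X)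
      set m : N := ⟨g⁻¹ * n * g, by simpa using hN.conj_mem n n.2 g⁻¹⟩ with hm
      have hn : (⟨g * m * g⁻¹, hN.conj_mem m m.2 g⟩ : N) = n := by
        ext; simp [hm, mul_assoc]
      have h1' : (D (Θ g))⁻¹ * D (σ.asGroupHom n) = D (σ.asGroupHom m) * (D (Θ g))⁻¹ := by
        rw [inv_mul_eq_iff_eq_mul, ← mul_assoc, eq_mul_inv_iff_mul_eq, ← map_mul, ← map_mul, h1, hn]
      rw [hX, mul_assoc, h1', ← mul_assoc, h2, hn, mul_assoc]
    have hc' : ∀ n : N, ((X⁻¹ : (Module.End ℂ 𝕍)ˣ) : Module.End ℂ 𝕍).comp (diagEnd (Fin e) (σ n)) =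
        (diagEnd (Fin e) (σ n)).comp ((X⁻¹ : (Module.End ℂ 𝕍)ˣ) : Module.End ℂ 𝕍) := fun n =>
      ((show Commute (X : Module.End ℂ 𝕍) (diagEnd (Fin e) (σ n)) from hc n).units_inv_left).eq
    have e1 := eq_rmat_of_commute σ hξ _ hc
    have e2 := eq_rmat_of_commute σ hξ _ hc'
    refine ⟨⟨coef u₀ ξ (X : Module.End ℂ 𝕍), coef u₀ ξ ((X⁻¹ : (Module.End ℂ 𝕍)ˣ) : Module.End ℂ 𝕍),
      ?_, ?_⟩, ?_⟩
    · have := congrArg (coef u₀ ξ) (rmat_mul (U := 𝕌) (coef u₀ ξ (X : Module.End ℂ 𝕍))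
        (coef u₀ ξ ((X⁻¹ : (Module.End ℂ 𝕍)ˣ) : Module.End ℂ 𝕍)))
      rw [coef_rmat hξ, e1, e2, ← Module.End.mul_eq_comp, Units.mul_inv, Module.End.one_eq_id, ← rmat_one,
        coef_rmat hξ] at this
      exact this
    · have := congrArg (coef u₀ ξ) (rmat_mul (U := 𝕌) (coef u₀ ξ ((X⁻¹ : (Module.End ℂ 𝕍)ˣ) : Module.End ℂ 𝕍))
        (coef u₀ ξ (X : Module.End ℂ 𝕍)))
      rw [coef_rmat hξ, e1, e2, ← Module.End.mul_eq_comp, Units.inv_mul, Module.End.one_eq_id, ← rmat_one,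
        coef_rmat hξ] at this
      exact this
    · rw [← mul_inv_eq_iff_eq_mul]
      exact Units.ext e1.symm
  choose Y hY using hsplit
  refine ⟨Φ, Y, hΦ, fun g Z => ?_, fun g h => ?_, fun g hg => ?_⟩
  · rw [hY, Units.val_mul, hRv, hDv, mul_assoc]
    rw [show diagEnd (Fin e) (Θ g : Module.End ℂ 𝕌) * rmat Z =
      rmat Z * diagEnd (Fin e) (Θ g : Module.End ℂ 𝕌) from diagEnd_comp_rmat _ Z]
    rw [← mul_assoc, ← mul_assoc]
    congr 1
    simp only [Module.End.mul_eq_comp, ← rmat_mul]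
    rw [mul_assoc ((Y g : 𝕄) * Z), Units.inv_mul, mul_one]
  · obtain ⟨c, hc⟩ := Intertwines.unique ((hΦ g).mul (hΦ h)) (hΦ (g * h))
    obtain ⟨c', hc'⟩ := Intertwines.unique ((hΘ g).mul (hΘ h)) (hΘ (g * h))
    refine ⟨c * c'⁻¹, hRinj ?_⟩
    have h3 := hc
    rw [hY (g * h), hY g, hY h, hc', map_mul D, map_mul D, hDs, mul_assoc (R (Y g)),
      ← mul_assoc (D (Θ g)), hRD, mul_assoc (R (Y h)), ← mul_assoc (R (Y g)),
      ← mul_assoc (R (Y (g * h))), ← mul_assoc (scalarUnit _ c)] at h3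
    have h4 := mul_right_cancel h3
    rw [map_mul R, map_mul R, hRs, map_mul, map_inv, scalarUnit_comm]
    rw [← eq_mul_inv_iff_mul_eq] at h4
    rw [h4, scalarUnit_comm, mul_assoc, ← map_inv, ← map_mul, ← map_mul, ← scalarUnit_comm, mul_comm c, map_mul (scalarUnit _)]
  · obtain ⟨c, hc⟩ := Intertwines.unique (intertwines_of_mem φ ⟨g, hNM hg⟩) (hΦ g)
    obtain ⟨c', hc'⟩ := Intertwines.unique (intertwines_of_mem σ ⟨g, hg⟩) (hΘ g)
    refine ⟨c * c'⁻¹, hRinj ?_⟩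
    have h3 : φ.asGroupHom ⟨g, hNM hg⟩ = D (σ.asGroupHom ⟨g, hg⟩) := Units.ext (hdiag ⟨g, hg⟩)
    rw [hY, hc', h3, map_mul D, hDs, ← mul_assoc] at hc
    rw [hRs, map_mul, map_inv, eq_mul_inv_iff_mul_eq]
    exact mul_right_cancel hc

end CfsgLib.Char
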