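import Cfsg.Agent.Char.BergerTwisted
import Cfsg.Agent.Char.Induction
import Cfsg.Agent.Char.Constituents
import Mathlib.LinearAlgebra.DFinsupp
import Mathlib.LinearAlgebra.TensorProduct.Submodule
import Mathlib.LinearAlgebra.Dimension.Constructions

/-!
# An induced character with a fully ramified complemented section is induced from above it
-/

set_option autoImplicit false
set_option linter.style.haveILetI false
set_option linter.unusedSectionVars false

namespace CfsgLib.Char

open Module Representation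
open scoped TensorProduct

universe u v w

/-- The dimensions of independent subspaces add up to at most the dimension of the space. -/
theorem sum_finrank_le_of_iSupIndep {ι : Type u} [Fintype ι] {T : Type v} [AddCommGroup T]
    [Module ℂ T] [FiniteDimensional ℂ T] {p : ι → Submodule ℂ T} (h : iSupIndep p) :
    ∑ i, finrank ℂ (p i) ≤ finrank ℂ T := by
  classical
  have h1 := h.dfinsupp_lsum_injective
  rw [← Module.finrank_directSum]
  exact LinearMap.finrank_le_finrank_of_injective h1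

/-- The dimension of the space swept out by a subspace under a bilinear map. -/
theorem finrank_map₂_top_le {T V W : Type*} [AddCommGroup T] [Module ℂ T] [FiniteDimensional ℂ T]
    [AddCommGroup V] [Module ℂ V] [FiniteDimensional ℂ V] [AddCommGroup W] [Module ℂ W]
    [FiniteDimensional ℂ W] (f : T →ₗ[ℂ] V →ₗ[ℂ] W) (E : Submodule ℂ T) :
    finrank ℂ (Submodule.map₂ f E ⊤) ≤ finrank ℂ E * finrank ℂ V := by
  rw [← Module.finrank_tensorProduct]
  refine le_trans (Submodule.finrank_mono ?_) (LinearMap.finrank_range_le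
    (TensorProduct.lift (f.comp E.subtype)))
  exact Submodule.map₂_le.2 fun x hx y _ => ⟨(⟨x, hx⟩ : E) ⊗ₜ y, rfl⟩

variable {G : Type u} [Group G] [Fintype G]

set_option maxHeartbeats 2000000 in
/-- If an irreducible character is induced from a complement of a fully ramified section, it is
induced from a proper subgroup containing the section. -/
theorem berger_step {χ : G → ℂ} (hχ : Cfsg.IsIrrCharacter G χ) {K N M L : Subgroup G}
    [hN : N.Normal] [hM : M.Normal] (hNK : N ≤ K) (hNM : N ≤ M)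
    (hKM : ∀ x ∈ K, x ∈ M → x ∈ N) (hmul : ∀ x : G, ∃ m ∈ M, ∃ k ∈ K, m * k = x)
    (hLK : L ≤ K) (hLn : ∀ k ∈ K, ∀ l ∈ L, k * l * k⁻¹ ∈ L)
    (hab : ∀ a ∈ L, ∀ b ∈ L, a * b * a⁻¹ * b⁻¹ ∈ N) {r : ℕ} (hpow : ∀ a ∈ L, a ^ r ∈ N)
    (hlm : ∃ l ∈ L, ∃ m ∈ M, l * m * l⁻¹ * m⁻¹ ∉ N)
    (hmin : ∀ M₁ : Subgroup G, M₁.Normal → N ≤ M₁ → M₁ ≤ M → M₁ = N ∨ M₁ = M)
    {t e a : ℕ} (σ : Representation ℂ N (Fin t → ℂ)) [σ.IsIrreducible]
    (φ : Representation ℂ M (Fin e → Fin t → ℂ)) [φ.IsIrreducible]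
    (π : Representation ℂ K (Fin a → Fin t → ℂ))
    (hdφ : ∀ n : N, φ ⟨n, hNM n.2⟩ = diagEnd (Fin e) (σ n))
    (hdπ : ∀ n : N, π ⟨n, hNK n.2⟩ = diagEnd (Fin a) (σ n))
    (hσ : ∀ g : G, conjOn g σ.character = σ.character)
    (hφ : ∀ g : G, conjOn g φ.character = φ.character)
    (hind : Cfsg.indFun K π.character = χ) (ha : 0 < a) (he : 1 < e) (hcard : e * e = K.index)
    (hr : e.Coprime r) :
    ∃ S : Subgroup G, S ≠ ⊤ ∧ M ≤ S ∧ ∃ w : S → ℂ, Cfsg.IsCharacter S w ∧ Cfsg.indFun S w = χ := by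
  classical
  obtain ⟨Φ, Y, hΦ, hnorm, hYmul, hYN⟩ := exists_projective_coord σ hNM φ hdφ hσ hφ
  have hYc := twisted_commute N L Y (by omega) hYmul hYN hab hr hpow
  have hYns : ∃ l ∈ L, ¬ ∃ c : ℂˣ, Y l = scalarUnit _ c := by
    obtain ⟨l, hl, m, hm, hlm⟩ := hlm
    exact ⟨l, hl, exists_not_scalar hNM σ φ hdφ he hmin Φ Y hΦ hnorm hm hlm⟩
  haveI : Nontrivial (Fin t → ℂ) :=
    Module.nontrivial_of_finrank_pos (finrank_pos_of_isIrreducible σ)
  obtain ⟨u₀, ξ, hξ⟩ := exists_dual_pair (U := Fin t → ℂ)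
  obtain ⟨d, ρ, hρ, rfl⟩ := hχ
  haveI := hρ
  haveI := Fintype.ofFinite K
  haveI := Fintype.ofFinite M
  have hrm : ∀ g h, ρ (g * h) = (ρ g).comp (ρ h) := fun g h => map_mul ρ g h
  have hd : d = e * e * (a * t) := by
    have := congrFun hind 1
    rw [indFun_one, π.char_one, ρ.char_one] at this
    simp only [Module.finrank_pi_fintype, Module.finrank_fintype_fun_eq_card, Fintype.card_fin,
      Finset.sum_const, Finset.card_univ, smul_eq_mul, Module.finrank_self, mul_one] at this
    rw [hcard]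
    exact_mod_cast this.symm
  -- the embedding of the inducing representation
  obtain ⟨f, hf⟩ := exists_intertwiningMap_ne_zero π (ρ.comp K.subtype) (by
    intro h0
    have h1 := classInner_indFun π.character
      (IsCharacter.isClassFunction (isCharacter_character ρ))
    have h2 : Cfsg.classInner π.character (fun k : K => ρ.character k) = 0 := by
      rw [← classInner_conj]
      exact (congrArg (starRingEnd ℂ) h0).trans (map_zero _)
    rw [hind, h2, IsIrrCharacter.classInner_self (isIrrCharacter_character ρ)] at h1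
    exact one_ne_zero h1)
  set ι := f.toLinearMap with hιdef
  have hι : ∀ (k : K) (p : Fin a → Fin t → ℂ), ρ k (ι p) = ι (π k p) := fun k p =>
    (LinearMap.congr_fun (f.isIntertwining' k) p).symm
  -- the translates are independent
  set out : G ⧸ K → G := fun x => x.out with hout
  have houtK : ∀ g : G, (out g)⁻¹ * g ∈ K := fun g =>
    QuotientGroup.eq.1 (QuotientGroup.out_eq' (g : G ⧸ K))
  let Λ : (G ⧸ K → Fin a → Fin t → ℂ) →ₗ[ℂ] (Fin d → ℂ) :=
    ∑ x, ((ρ (out x)).comp ι).comp (LinearMap.proj x)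
  have hΛs : ∀ g p, ρ g (ι p) = Λ (Pi.single (g : G ⧸ K) (π ⟨_, houtK g⟩ p)) := by
    intro g p
    simp only [Λ, LinearMap.sum_apply, LinearMap.comp_apply, LinearMap.proj_apply]
    rw [Finset.sum_eq_single (g : G ⧸ K) (fun x _ hx => by rw [Pi.single_eq_of_ne hx, map_zero, map_zero])
      (by simp), Pi.single_eq_same, ← hι, ← Module.End.mul_apply, ← map_mul]
    simp
  have hΛsur : Function.Surjective Λ := by
    have hinv : ∀ g : G, ∀ w ∈ LinearMap.range Λ, ρ g w ∈ LinearMap.range Λ := by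
      rintro g _ ⟨f', rfl⟩
      simp only [Λ, LinearMap.sum_apply, LinearMap.comp_apply, LinearMap.proj_apply, map_sum]
      refine Submodule.sum_mem _ fun x _ => ?_
      rw [← LinearMap.comp_apply (ρ g), ← hrm, hΛs]
      exact ⟨_, rfl⟩
    rcases IsSimpleOrder.eq_bot_or_eq_top (⟨LinearMap.range Λ, fun g w hw => hinv g w hw⟩ : Subrepresentation ρ)
      with h | h
    · refine absurd (LinearMap.ext fun p => ?_) hf
      have hp : ι p ∈ LinearMap.range Λ := by
        refine ⟨Pi.single ((1 : G) : G ⧸ K) (π ⟨_, houtK 1⟩ p), ?_⟩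
        rw [← hΛs, map_one, Module.End.one_apply]
      rw [show LinearMap.range Λ = ⊥ from congrArg Subrepresentation.toSubmodule h] at hp
      exact hp
    · exact LinearMap.range_eq_top.1 (congrArg Subrepresentation.toSubmodule h)
  have hΛinj : Function.Injective Λ := by
    refine (LinearMap.injective_iff_surjective_of_finrank_eq_finrank ?_).2 hΛsur
    simp only [Module.finrank_pi_fintype, Module.finrank_fintype_fun_eq_card, Fintype.card_fin,
      Finset.sum_const, Finset.card_univ, smul_eq_mul, Module.finrank_self, mul_one]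
    rw [← Nat.card_eq_fintype_card, ← Subgroup.index_eq_card, ← hcard, hd]
  let Λe := LinearEquiv.ofBijective Λ ⟨hΛinj, hΛsur⟩
  let π₀ : (Fin d → ℂ) →ₗ[ℂ] (Fin a → Fin t → ℂ) :=
    (π ⟨out ((1 : G) : G ⧸ K), by simpa using K.inv_mem (houtK 1)⟩).comp
      ((LinearMap.proj ((1 : G) : G ⧸ K)).comp Λe.symm.toLinearMap)
  have hπ₀ : ∀ g p, π₀ (ρ g (ι p)) = if h : g ∈ K then π ⟨g, h⟩ p else 0 := by
    intro g p
    have h0 : Λe.symm (ρ g (ι p)) = Pi.single (g : G ⧸ K) (π ⟨_, houtK g⟩ p) := by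
      rw [LinearEquiv.symm_apply_eq]
      exact hΛs g p
    simp only [π₀, LinearMap.comp_apply, LinearEquiv.coe_coe, h0, LinearMap.proj_apply]
    by_cases hg : g ∈ K
    · have hcos : (g : G ⧸ K) = ((1 : G) : G ⧸ K) := QuotientGroup.eq.2 (by simpa using K.inv_mem hg)
      rw [dif_pos hg, Pi.single_apply, if_pos hcos.symm, ← Module.End.mul_apply, ← map_mul]
      congr 2
      ext
      simp [hcos]
    · rw [dif_neg hg, Pi.single_eq_of_ne (fun h => hg (by
        simpa using (QuotientGroup.eq.1 h : (1 : G)⁻¹ * g ∈ K))), map_zero]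
  -- the lifts of the matrices
  let hat : Matrix (Fin a) (Fin e) ℂ →ₗ[ℂ] (Fin e → Fin t → ℂ) →ₗ[ℂ] (Fin d → ℂ) :=
    { toFun := fun b => ∑ m : M, (ρ m).comp (ι.comp ((rmat b).comp (φ m⁻¹)))
      map_add' := fun b b' => by
        simp [rmat_add, LinearMap.add_comp, LinearMap.comp_add, Finset.sum_add_distrib]
      map_smul' := fun c b => by
        simp [rmat_smul, LinearMap.smul_comp, LinearMap.comp_smul, Finset.smul_sum] }
  have hhat : ∀ b v, hat b v = ∑ m : M, ρ m (ι (rmat b (φ m⁻¹ v))) := fun b v => by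
    simp [hat, LinearMap.sum_apply]
  have hhat0 : ∀ b, hat b = 0 → b = 0 := by
    intro b hb
    have key : ∀ v, ((Finset.univ.filter fun m : M => (m : G) ∈ K).card : ℂ) • rmat (U := Fin t → ℂ) b v = 0 := by
      intro v
      have h1 := congrArg π₀ (LinearMap.congr_fun hb v)
      rw [hhat, map_sum, LinearMap.zero_apply, map_zero] at h1
      rw [← h1, Finset.sum_congr (rfl : (Finset.univ : Finset M) = _) fun (m : M) _ => hπ₀ (m : G) (rmat b (φ m⁻¹ v)), Finset.sum_dite,
        Finset.sum_const_zero, add_zero, Finset.sum_congr rfl (g := fun _ => rmat b v) fun m _ => ?_,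
        Finset.sum_const, Finset.card_univ, Fintype.card_coe, Nat.cast_smul_eq_nsmul]
      obtain ⟨m, hm⟩ := m
      have hmK : (m : G) ∈ K := (Finset.mem_filter.1 hm).2
      have hmN : (m : G) ∈ N := hKM _ hmK m.2
      change π ⟨((⟨m, hmN⟩ : N) : G), hNK hmN⟩ (rmat b (φ m⁻¹ v)) = rmat b v
      rw [hdπ, ← LinearMap.comp_apply, diagEnd_comp_rmat, LinearMap.comp_apply]
      congr 1
      rw [← hdφ ⟨m, hmN⟩, ← Module.End.mul_apply, ← map_mul]
      simp
    have hne : ((Finset.univ.filter fun m : M => (m : G) ∈ K).card : ℂ) ≠ 0 := by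
      exact_mod_cast Finset.card_ne_zero_of_mem ((Finset.mem_filter (p := fun m : M => (m : G) ∈ K)).2 ⟨Finset.mem_univ 1, K.one_mem⟩)
    have h2 : rmat b = (0 : (Fin e → Fin t → ℂ) →ₗ[ℂ] _) := LinearMap.ext fun v =>
      (smul_eq_zero.1 (key v)).resolve_left hne
    rw [← coef_rmat hξ b, h2, map_zero]
  have hatM : ∀ (m : M) b v, ρ m (hat b v) = hat b (φ m v) := by
    intro m b v
    rw [hhat, hhat, map_sum]
    refine Fintype.sum_equiv (Equiv.mulLeft m) _ _ fun x => ?_
    rw [Equiv.coe_mulLeft, Subgroup.coe_mul, hrm, LinearMap.comp_apply, mul_inv_rev, map_mul φ,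
      Module.End.mul_apply, ← Module.End.mul_apply (φ m⁻¹), ← map_mul, inv_mul_cancel, map_one,
      Module.End.one_apply]
  -- the action of `K` on matrices
  let A : K → Matrix (Fin a) (Fin e) ℂ →ₗ[ℂ] Matrix (Fin a) (Fin e) ℂ := fun k =>
    (coef u₀ ξ).comp (σ₁₂ := RingHom.id ℂ)
      { toFun := fun b => (π k).comp ((rmat b).comp ((Φ (k : G))⁻¹ : (Module.End ℂ _)ˣ).val)
        map_add' := fun b b' => by simp [rmat_add, LinearMap.add_comp, LinearMap.comp_add]
        map_smul' := fun c b => by simp [rmat_smul, LinearMap.smul_comp, LinearMap.comp_smul, RingHom.id_apply] }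
  have hA : ∀ k b, rmat (A k b) =
      (π k).comp ((rmat b).comp ((Φ (k : G))⁻¹ : (Module.End ℂ _)ˣ).val) := by
    intro k b
    refine eq_rmat_of_commute σ hξ _ fun n => ?_
    set n' : N := ⟨(k : G)⁻¹ * n * k, by simpa using hN.conj_mem n n.2 (k : G)⁻¹⟩ with hn'
    have h1 : (Φ (k : G)).val * diagEnd (Fin e) (σ n') = diagEnd (Fin e) (σ n) * (Φ (k : G)).val := by
      rw [← hdφ, hΦ, ← hdφ]
      congr 2
      ext
      simp [hn', mul_assoc]
    have h2 : ((Φ (k : G))⁻¹ : (Module.End ℂ _)ˣ).val * diagEnd (Fin e) (σ n) =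
        diagEnd (Fin e) (σ n') * ((Φ (k : G))⁻¹ : (Module.End ℂ _)ˣ).val := by
      rw [Units.inv_mul_eq_iff_eq_mul, ← mul_assoc, h1, Units.mul_inv_cancel_right]
    have h3 : (π k).comp (diagEnd (Fin a) (σ n')) = (diagEnd (Fin a) (σ n)).comp (π k) := by
      rw [← Module.End.mul_eq_comp, ← Module.End.mul_eq_comp, ← hdπ, ← hdπ, ← map_mul, ← map_mul]
      congr 1
      ext
      simp [hn', ← mul_assoc]
    simp only [LinearMap.comp_assoc, LinearMap.coe_mk, AddHom.coe_mk]
    rw [← Module.End.mul_eq_comp _ (diagEnd (Fin e) (σ n)), h2, Module.End.mul_eq_comp,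
      ← LinearMap.comp_assoc _ (diagEnd (Fin e) (σ n')) (rmat b), ← diagEnd_comp_rmat,
      LinearMap.comp_assoc, ← LinearMap.comp_assoc _ (diagEnd (Fin a) (σ n')) (π k), h3,
      LinearMap.comp_assoc]
  have hAinj : ∀ k, Function.Injective (A k) := by
    refine fun k => (injective_iff_map_eq_zero _).2 fun b hb => ?_
    have h := hA k b
    rw [hb] at h
    have h' : rmat b = (0 : (Fin e → Fin t → ℂ) →ₗ[ℂ] _) := by
      refine LinearMap.ext fun v => ?_
      have h5 := congrArg (π k⁻¹) (LinearMap.congr_fun h ((Φ (k : G)).val v))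
      rw [LinearMap.comp_apply, LinearMap.comp_apply, ← Module.End.mul_apply ((Φ (k : G))⁻¹).val,
        Units.inv_mul, Module.End.one_apply, ← Module.End.mul_apply (π k⁻¹), ← map_mul π,
        inv_mul_cancel, map_one, Module.End.one_apply] at h5
      have h0 : rmat (U := Fin t → ℂ) (0 : Matrix (Fin a) (Fin e) ℂ) = 0 :=
        LinearMap.ext fun w => funext fun i => by simp [rmat_apply]
      rw [← h5, h0]
      simp
    rw [← coef_rmat hξ b, h', map_zero]
  have hAsur : ∀ k, Function.Surjective (A k) := fun k =>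
    LinearMap.injective_iff_surjective.1 (hAinj k)
  have hatK : ∀ (k : K) b v, ρ k (hat b v) = hat (A k b) ((Φ (k : G)).val v) := by
    intro k b v
    rw [hhat, hhat, map_sum]
    refine Fintype.sum_equiv (MulAut.conjNormal (k : G)).toEquiv _ _ fun x => ?_
    rw [hA]
    simp only [MulEquiv.toEquiv_eq_coe, EquivLike.coe_coe, LinearMap.comp_apply]
    have h1 : ∀ y : M, φ (MulAut.conjNormal (k : G) y) ((Φ (k : G)).val v) = (Φ (k : G)).val (φ y v) :=
      fun y => (LinearMap.congr_fun (hΦ (k : G) y) v).symm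
    rw [← map_inv (MulAut.conjNormal (k : G)), h1, ← Module.End.mul_apply ((Φ (k : G))⁻¹).val,
      Units.inv_mul, Module.End.one_apply, ← hι, ← Module.End.mul_apply, ← Module.End.mul_apply,
      ← map_mul, ← map_mul]
    congr 2
    simp [mul_assoc]
  -- right multiplication by the matrices of the section
  let R : L → Module.End ℂ (Matrix (Fin a) (Fin e) ℂ) := fun l =>
    { toFun := fun b => b * (Y (l : G) : Matrix (Fin e) (Fin e) ℂ)
      map_add' := fun b b' => Matrix.add_mul b b' _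
      map_smul' := fun c b => Matrix.smul_mul c b _ }
  have hR : ∀ l b, R l b = b * (Y (l : G) : Matrix (Fin e) (Fin e) ℂ) := fun l b => rfl
  have hRc : ∀ l l', R l * R l' = R l' * R l := fun l l' => LinearMap.ext fun b => by
    simp only [Module.End.mul_apply, hR, Matrix.mul_assoc]
    rw [← Units.val_mul, ← Units.val_mul, hYc _ l'.2 _ l.2]
  have hAR : ∀ (k : K) (l : L), ∃ c : ℂˣ, ∀ b, A k (R l b) =
      (c : ℂ) • R ⟨(k : G) * l * (k : G)⁻¹, hLn k k.2 l l.2⟩ (A k b) := by
    intro k l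
    obtain ⟨c₁, h₁⟩ := hYmul ((k : G) * l * (k : G)⁻¹) k
    obtain ⟨c₂, h₂⟩ := hYmul (k : G) l
    rw [inv_mul_cancel_right, h₂] at h₁
    refine ⟨c₂⁻¹ * c₁, fun b => ?_⟩
    have h3 : Y (k : G) * Y l * (Y (k : G))⁻¹ =
        scalarUnit _ (c₂⁻¹ * c₁) * Y ((k : G) * l * (k : G)⁻¹) := by
      rw [map_mul, map_inv, mul_assoc _ (scalarUnit _ c₁), eq_inv_mul_iff_mul_eq, ← mul_assoc, h₁, ← mul_assoc,
        mul_inv_cancel_right]
    have h4 := congrArg Units.val h3
    rw [Units.val_mul, Units.val_mul, Units.val_mul, scalarUnit_val, smul_one_mul] at h4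
    have h5 : ((Φ (k : G))⁻¹).val.comp (rmat (U := Fin t → ℂ) (((c₂⁻¹ * c₁ : ℂˣ) : ℂ) • (Y ((k : G) * l * (k : G)⁻¹)).val)) =
        (rmat (U := Fin t → ℂ) (Y (l : G)).val).comp ((Φ (k : G))⁻¹).val := by
      have h6 := hnorm (k : G) (Y (l : G)).val
      rw [h4] at h6
      simp only [← Module.End.mul_eq_comp]
      rw [Units.inv_mul_eq_iff_eq_mul, ← mul_assoc, h6, Units.mul_inv_cancel_right]
    have h7 : rmat (U := Fin t → ℂ) (A k (R l b)) =
        rmat (((c₂⁻¹ * c₁ : ℂˣ) : ℂ) • R ⟨(k : G) * l * (k : G)⁻¹, hLn k k.2 l l.2⟩ (A k b)) := by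
      rw [hA, hR, hR, ← Matrix.mul_smul, rmat_mul, rmat_mul, hA]
      simp only [LinearMap.comp_assoc]
      rw [h5]
    have := congrArg (coef u₀ ξ) h7
    rwa [coef_rmat hξ, coef_rmat hξ] at this
  choose cA hcA using hAR
  -- the common eigenspaces
  let E : (L → ℂ) → Submodule ℂ (Matrix (Fin a) (Fin e) ℂ) := fun x => ⨅ l, (R l).eigenspace (x l)
  have memE : ∀ x b, b ∈ E x ↔ ∀ l, R l b = x l • b := fun x b => by
    simp [E, Submodule.mem_iInf]
  let F : K → (L → ℂ) → L → ℂ := fun k x l =>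
    ((cA k ⟨(k : G)⁻¹ * l * k, by simpa using hLn _ (K.inv_mem k.2) l l.2⟩ : ℂˣ) : ℂ)⁻¹ *
      x ⟨(k : G)⁻¹ * l * k, by simpa using hLn _ (K.inv_mem k.2) l l.2⟩
  have hEA : ∀ k x, (E x).map (A k) = E (F k x) := by
    intro k x
    have hF : ∀ l : L, F k x ⟨(k : G) * l * (k : G)⁻¹, hLn k k.2 l l.2⟩ =
        ((cA k l : ℂˣ) : ℂ)⁻¹ * x l := by
      intro l
      have e1 : ∀ h, (⟨(k : G)⁻¹ * ((k : G) * l * (k : G)⁻¹) * k, h⟩ : L) = l := fun h => by
        ext; simp [mul_assoc]
      simp only [F, e1]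
    apply le_antisymm
    · rintro _ ⟨b, hb, rfl⟩
      rw [memE]
      intro l
      obtain ⟨l', rfl⟩ : ∃ l' : L, l = ⟨(k : G) * l' * (k : G)⁻¹, hLn k k.2 l' l'.2⟩ :=
        ⟨⟨(k : G)⁻¹ * l * k, by simpa using hLn _ (K.inv_mem k.2) l l.2⟩, by ext; simp [mul_assoc]⟩
      have h := hcA k l' b
      rw [(memE x b).1 hb l', map_smul] at h
      rw [hF, ← smul_smul, h, smul_smul, inv_mul_cancel₀ (Units.ne_zero _), one_smul]
    · intro y hy
      obtain ⟨b, rfl⟩ := hAsur k y
      refine ⟨b, (memE x b).2 fun l => hAinj k ?_, rfl⟩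
      rw [hcA, (memE _ _).1 hy, hF, map_smul, smul_smul, ← mul_assoc,
        mul_inv_cancel₀ (Units.ne_zero _), one_mul]
  haveI : Nontrivial (Matrix (Fin a) (Fin e) ℂ) :=
    ⟨Matrix.single ⟨0, ha⟩ ⟨0, by omega⟩ 1, 0, fun h => by
      simpa using congrFun (congrFun h ⟨0, ha⟩) ⟨0, by omega⟩⟩
  obtain ⟨x₁, b₁, hb₁, hb₁'⟩ := exists_common_eigenvector R hRc
  let W₁ : Submodule ℂ (Fin d → ℂ) := Submodule.map₂ hat (E x₁) ⊤
  let Wsp : (L → ℂ) → Submodule ℂ (Fin d → ℂ) := fun x => Submodule.map₂ hat (E x) ⊤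
  have hW1 : W₁ ≠ ⊥ := fun h => hb₁ (hhat0 b₁ (LinearMap.ext fun v =>
    (Submodule.mem_bot ℂ).1 (h ▸ Submodule.apply_mem_map₂ hat ((memE _ _).2 hb₁') trivial)))
  have hWM : ∀ (m : M) x, (Wsp x).map (ρ m) = Wsp x := by
    intro m x
    apply le_antisymm
    · rw [Submodule.map_le_iff_le_comap, Submodule.map₂_le]
      exact fun b hb v _ => by
        rw [Submodule.mem_comap, hatM]; exact Submodule.apply_mem_map₂ hat hb trivial
    · rw [Submodule.map₂_le]
      refine fun b hb v _ => ⟨hat b (φ m⁻¹ v), Submodule.apply_mem_map₂ hat hb trivial, ?_⟩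
      rw [hatM, ← Module.End.mul_apply, ← map_mul, mul_inv_cancel, map_one, Module.End.one_apply]
  have hWK : ∀ (k : K) x, (Wsp x).map (ρ k) = Wsp (F k x) := by
    intro k x
    apply le_antisymm
    · rw [Submodule.map_le_iff_le_comap, Submodule.map₂_le]
      exact fun b hb v _ => by
        rw [Submodule.mem_comap, hatK]
        exact Submodule.apply_mem_map₂ hat (hEA k x ▸ Submodule.mem_map_of_mem hb) trivial
    · rw [Submodule.map₂_le]
      intro b hb v _
      rw [← hEA] at hb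
      obtain ⟨b', hb', rfl⟩ := hb
      refine ⟨hat b' (((Φ (k : G))⁻¹).val v), Submodule.apply_mem_map₂ hat hb' trivial, ?_⟩
      rw [hatK, ← Module.End.mul_apply, Units.mul_inv, Module.End.one_apply]
  -- the stabilizer
  have hmm : ∀ (g h : G) (P : Submodule ℂ (Fin d → ℂ)), (P.map (ρ h)).map (ρ g) = P.map (ρ (g * h)) :=
    fun g h P => by rw [← Submodule.map_comp, ← hrm]
  let S : Subgroup G :=
    { carrier := {g | W₁.map (ρ g) = W₁}
      one_mem' := by
        change W₁.map (ρ 1) = W₁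
        rw [map_one]; exact Submodule.map_id W₁
      mul_mem' := fun {g h} hg hh => by
        change W₁.map (ρ (g * h)) = W₁
        rw [← hmm, hh, hg]
      inv_mem' := fun {g} hg => by
        change W₁.map (ρ g⁻¹) = W₁
        conv_lhs => rw [← (hg : W₁.map (ρ g) = W₁)]
        rw [hmm, inv_mul_cancel, map_one]
        exact Submodule.map_id W₁ }
  have hMS : M ≤ S := fun m hm => hWM ⟨m, hm⟩ x₁
  have hS : S ≠ ⊤ := by
    intro hS
    have hinv : ∀ g : G, ∀ w ∈ W₁, ρ g w ∈ W₁ := fun g w hw => by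
      have hg : W₁.map (ρ g) = W₁ := (hS ▸ Subgroup.mem_top g : g ∈ S)
      rw [← hg]; exact Submodule.mem_map_of_mem hw
    have htop : W₁ = ⊤ := by
      rcases IsSimpleOrder.eq_bot_or_eq_top (⟨W₁, fun g w hw => hinv g w hw⟩ : Subrepresentation ρ) with h | h
      · exact absurd (congrArg Subrepresentation.toSubmodule h) hW1
      · exact congrArg Subrepresentation.toSubmodule h
    have hle := finrank_map₂_top_le hat (E x₁)
    rw [show Submodule.map₂ hat (E x₁) ⊤ = (⊤ : Submodule ℂ (Fin d → ℂ)) from htop, finrank_top] at hle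
    simp only [Module.finrank_pi_fintype, Module.finrank_fintype_fun_eq_card, Fintype.card_fin,
      Finset.sum_const, Finset.card_univ, smul_eq_mul, Module.finrank_self, mul_one] at hle
    have ht : 0 < t := by
      have := finrank_pos_of_isIrreducible σ
      rwa [Module.finrank_fin_fun] at this
    have hE : E x₁ = ⊤ := Submodule.eq_top_of_finrank_eq (le_antisymm (Submodule.finrank_le _) (by
      rw [Module.finrank_matrix, Fintype.card_fin, Fintype.card_fin, Module.finrank_self, mul_one]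
      refine Nat.le_of_mul_le_mul_right (?_ : a * e * (e * t) ≤ _ * (e * t)) (by positivity)
      rw [show a * e * (e * t) = d by rw [hd]; ring]
      exact hle))
    obtain ⟨l, hl, hns⟩ := hYns
    refine hns ?_
    have hsc : (Y l).val = x₁ ⟨l, hl⟩ • (1 : Matrix (Fin e) (Fin e) ℂ) := by
      ext i j
      have h := congrFun (congrFun ((memE _ _).1 (hE ▸ Submodule.mem_top :
        Matrix.single (⟨0, ha⟩ : Fin a) i (1 : ℂ) ∈ E x₁) ⟨l, hl⟩) ⟨0, ha⟩) j
      simpa [hR, Matrix.one_apply, Matrix.single_apply] using h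
    have hc0 : x₁ ⟨l, hl⟩ ≠ 0 := fun h0 => by
      haveI : Nonempty (Fin e) := ⟨⟨0, by omega⟩⟩
      exact (Y l).ne_zero (by rw [hsc, h0, zero_smul])
    exact ⟨Units.mk0 _ hc0, Units.ext (by rw [scalarUnit_val, hsc, Units.val_mk0])⟩
  refine ⟨S, hS, hMS, ?_⟩
  haveI := Fintype.ofFinite S
  let sub : Subrepresentation (ρ.comp S.subtype) :=
    ⟨W₁, fun g w hw => by
      have hg : W₁.map (ρ (g : G)) = W₁ := g.2
      rw [← hg]; exact Submodule.mem_map_of_mem hw⟩
  refine ⟨sub.toRepresentation.character, isCharacter_character _, ?_⟩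
  have hχc := IsCharacter.isClassFunction (isCharacter_character ρ)
  have hne : Cfsg.classInner (Cfsg.indFun S sub.toRepresentation.character) ρ.character ≠ 0 := by
    rw [classInner_indFun _ hχc]
    let incl : IntertwiningMap sub.toRepresentation (ρ.comp S.subtype) :=
      ⟨W₁.subtype, fun g => rfl⟩
    have h := classInner_ne_zero_of_intertwiningMap _ _ incl (fun h0 => hW1 (by
      rw [← Submodule.range_subtype W₁]
      exact LinearMap.range_eq_bot.2 h0))
    intro h0
    exact h (by rw [← classInner_conj]; exact (congrArg (starRingEnd ℂ) h0).trans (map_zero _))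
  refine IsCharacter.eq_of_constituent (IsCharacter.indFun (isCharacter_character _))
    (isIrrCharacter_character ρ) hne ?_
  have hge := IsCharacter.re_constituent_le (IsCharacter.indFun (isCharacter_character _))
    (isIrrCharacter_character ρ) hne
  rw [indFun_one, sub.toRepresentation.char_one, ρ.char_one] at hge ⊢
  -- counting the translates
  have hcoset : ∀ g : G, ∃ x, (∃ k : K, x = F k x₁) ∧ W₁.map (ρ g) = Wsp x := by
    intro g
    obtain ⟨m, hm, k, hk, rfl⟩ := hmul g
    refine ⟨_, ⟨⟨k, hk⟩, rfl⟩, ?_⟩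
    rw [← hmm]
    exact (congrArg (Submodule.map (ρ m)) (hWK ⟨k, hk⟩ x₁)).trans (hWM ⟨m, hm⟩ _)
  choose X hX hXW using fun q : G ⧸ S => hcoset q.out
  have hXinj : Function.Injective X := by
    intro q q' h
    rw [← QuotientGroup.out_eq' q, ← QuotientGroup.out_eq' q', QuotientGroup.eq]
    have h1 : W₁.map (ρ q.out) = W₁.map (ρ q'.out) := by rw [hXW, hXW, h]
    change W₁.map (ρ (q.out⁻¹ * q'.out)) = W₁
    rw [← hmm, ← h1, hmm, inv_mul_cancel, map_one]
    exact Submodule.map_id W₁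
  have hmaps : ∀ (i j : L) (c : ℂ), Set.MapsTo (R i) ((R j).maxGenEigenspace c)
      ((R j).maxGenEigenspace c) := fun i j c =>
    Module.End.mapsTo_genEigenspace_of_comm (hRc j i) c ⊤
  have hind' : iSupIndep fun q : G ⧸ S => E (X q) :=
    ((Module.End.independent_iInf_maxGenEigenspace_of_forall_mapsTo R hmaps).comp hXinj).mono
      fun q => iInf_mono fun l => Module.End.eigenspace_le_maxGenEigenspace
  have hsum := sum_finrank_le_of_iSupIndep hind'
  rw [Finset.sum_congr rfl (g := fun _ => finrank ℂ (E x₁)) fun q _ => ?_, Finset.sum_const,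
    Finset.card_univ, smul_eq_mul, ← Nat.card_eq_fintype_card, ← Subgroup.index_eq_card,
    Module.finrank_matrix, Fintype.card_fin, Fintype.card_fin, Module.finrank_self, mul_one] at hsum
  swap
  · obtain ⟨k, hk⟩ := hX q
    rw [hk, ← hEA]
    exact (Submodule.equivMapOfInjective _ (hAinj k) _).finrank_eq.symm
  have hdim : finrank ℂ sub.toSubmodule ≤ finrank ℂ (E x₁) * (e * t) := by
    refine (finrank_map₂_top_le hat (E x₁)).trans (le_of_eq ?_)
    simp [Module.finrank_pi_fintype]
  have hup : S.index * finrank ℂ sub.toSubmodule ≤ d := by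
    calc S.index * finrank ℂ sub.toSubmodule ≤ S.index * (finrank ℂ (E x₁) * (e * t)) :=
          Nat.mul_le_mul_left _ hdim
      _ = S.index * finrank ℂ (E x₁) * (e * t) := by ring
      _ ≤ a * e * (e * t) := Nat.mul_le_mul_right _ hsum
      _ = d := by rw [hd]; ring
  rw [Module.finrank_fin_fun] at hge ⊢
  rw [← Nat.cast_mul, Complex.natCast_re, Complex.natCast_re, Nat.cast_le] at hge
  exact_mod_cast le_antisymm hup hge

end CfsgLib.Char
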