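import Cfsg.Agent.Char.Constituents
import Cfsg.Agent.Char.Induction

/-!
# Restriction of an induced function along a factorisation
-/

set_option autoImplicit false

namespace CfsgLib.Char

universe u

variable {G : Type u} [Group G] [Fintype G]

/-- If `G = M T`, inducing from `T` and restricting to `M` is restricting to `M ⊓ T` and
inducing to `M`. -/
theorem indFun_restrict_of_mul_eq_top (M T : Subgroup G) [Fintype M]
    (hmul : ∀ x : G, ∃ a ∈ M, ∃ b ∈ T, a * b = x) {ψ : T → ℂ}
    (hψ : Cfsg.IsClassFunction T ψ) :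
    (fun m : M => Cfsg.indFun T ψ m) =
      Cfsg.indFun (T.subgroupOf M) (fun u : T.subgroupOf M => ψ ⟨((u : M) : G), u.2⟩) := by
  classical
  haveI := Fintype.ofFinite T
  haveI := Fintype.ofFinite (T.subgroupOf M)
  funext m
  let F : G → ℂ := fun x => Cfsg.extendByZero T ψ (x⁻¹ * (m : G) * x)
  have hinv : ∀ (x : G) (t : T), F (x * t) = F x := by
    intro x t
    have e : (x * t)⁻¹ * (m : G) * (x * t) = (t : G)⁻¹ * (x⁻¹ * (m : G) * x) * t := by group
    simp only [F, e]
    by_cases hy : x⁻¹ * (m : G) * x ∈ T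
    · rw [extendByZero_of_mem _ hy,
        extendByZero_of_mem _ (T.mul_mem (T.mul_mem (T.inv_mem t.2) hy) t.2)]
      have := hψ ⟨_, hy⟩ t⁻¹
      rw [← this]
      congr 1
      ext
      simp [mul_assoc]
    · rw [extendByZero_of_not_mem _ hy, extendByZero_of_not_mem _ fun h => hy ?_]
      have := T.mul_mem (T.mul_mem t.2 h) (T.inv_mem t.2)
      simpa [mul_assoc] using this
  have hfib : ∀ x : G, (Finset.univ.filter fun q : M × T => (q.1 : G) * q.2 = x).card
      = Nat.card (T.subgroupOf M) := by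
    intro x
    obtain ⟨a, ha, b, hb, rfl⟩ := hmul x
    rw [← Nat.card_eq_finsetCard]
    let e : T.subgroupOf M ≃
        {q : M × T // q ∈ Finset.univ.filter fun q : M × T => (q.1 : G) * q.2 = a * b} :=
      { toFun := fun u => ⟨(⟨a, ha⟩ * (u : M), ⟨((u : M) : G)⁻¹ * b,
          T.mul_mem (T.inv_mem (show ((u : M) : G) ∈ T from u.2)) hb⟩),
          Finset.mem_filter.2 ⟨Finset.mem_univ _, by simp [mul_assoc]⟩⟩
        invFun := fun q => ⟨(⟨a, ha⟩ : M)⁻¹ * q.1.1, Subgroup.mem_subgroupOf.2 (by
          have h := (Finset.mem_filter.1 q.2).2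
          have : (a : G)⁻¹ * (q.1.1 : G) = b * (q.1.2 : G)⁻¹ := by
            rw [eq_mul_inv_iff_mul_eq, mul_assoc, h, inv_mul_cancel_left]
          rw [Subgroup.coe_mul, Subgroup.coe_inv, this]
          exact T.mul_mem hb (T.inv_mem q.1.2.2))⟩
        left_inv := fun u => Subtype.ext (by simp)
        right_inv := fun q => Subtype.ext (Prod.ext (by simp) (Subtype.ext (by
          have h := (Finset.mem_filter.1 q.2).2
          simp only [Subgroup.coe_mul, Subgroup.coe_inv, mul_inv_rev, inv_inv]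
          rw [mul_assoc, inv_mul_eq_iff_eq_mul]
          exact h.symm))) }
    exact (Nat.card_congr e).symm
  have hsum : (Nat.card (T.subgroupOf M) : ℂ) * ∑ x : G, F x
      = (Nat.card T : ℂ) * ∑ a : M, F a := by
    have h1 : ∑ q : M × T, F ((q.1 : G) * q.2) = (Nat.card T : ℂ) * ∑ a : M, F a := by
      rw [Fintype.sum_prod_type, Finset.mul_sum]
      refine Finset.sum_congr rfl fun a _ => ?_
      simp only [hinv, Finset.sum_const, Finset.card_univ, nsmul_eq_mul, Fintype.card_eq_nat_card]
    rw [← h1, ← Finset.sum_fiberwise Finset.univ (fun q : M × T => (q.1 : G) * q.2),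
      Finset.mul_sum]
    refine Finset.sum_congr rfl fun x _ => ?_
    rw [Finset.sum_congr rfl (g := fun _ => F x) fun q hq => by rw [(Finset.mem_filter.1 hq).2],
      Finset.sum_const, hfib, nsmul_eq_mul]
  have hext : ∀ a : M, Cfsg.extendByZero (T.subgroupOf M)
      (fun u : T.subgroupOf M => ψ ⟨((u : M) : G), u.2⟩) (a⁻¹ * m * a) = F a := by
    intro a
    by_cases hy : a⁻¹ * m * a ∈ T.subgroupOf M
    · rw [extendByZero_of_mem _ hy]
      simp only [F]
      rw [extendByZero_of_mem _ (show (a : G)⁻¹ * (m : G) * a ∈ T from hy)]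
      rfl
    · rw [extendByZero_of_not_mem _ hy]
      exact (extendByZero_of_not_mem _ (show (a : G)⁻¹ * (m : G) * a ∉ T from hy)).symm
  rw [indFun_def, indFun_def, Finset.sum_congr rfl fun a _ => hext a]
  have hT : (Nat.card T : ℂ) ≠ 0 := Nat.cast_ne_zero.2 Nat.card_pos.ne'
  have hU : (Nat.card (T.subgroupOf M) : ℂ) ≠ 0 := Nat.cast_ne_zero.2 Nat.card_pos.ne'
  field_simp
  linear_combination hsum

/-- A character inducing to an irreducible one is irreducible. -/
theorem isIrr_of_indFun_isIrr {H : Subgroup G} {f : H → ℂ} (hf : Cfsg.IsCharacter H f)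
    (hirr : Cfsg.IsIrrCharacter G (Cfsg.indFun H f)) : Cfsg.IsIrrCharacter H f := by
  classical
  haveI := Fintype.ofFinite H
  have hf0 : f ≠ 0 := fun h =>
    IsIrrCharacter.ne_zero hirr (by rw [h, indFun_zero])
  obtain ⟨a, ha, hc⟩ := IsCharacter.exists_constituent hf hf0
  by_contra hn
  have hsub := IsCharacter.sub_irr hf ha hc
  obtain ⟨d, hd⟩ := IsCharacter.exists_degree hsub
  have hd0 : d ≠ 0 := by
    intro h0
    rw [h0, Nat.cast_zero] at hd
    apply hn
    have := IsCharacter.eq_zero_of_apply_one hsub hd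
    rwa [sub_eq_zero.1 this]
  obtain ⟨da, hda0, hda⟩ := IsIrrCharacter.exists_degree ha
  have hA := IsCharacter.indFun (H := H) (IsIrrCharacter.isCharacter ha)
  have hB := IsCharacter.indFun (H := H) hsub
  have hne : ∀ φ : H → ℂ, ∀ k : ℕ, k ≠ 0 → φ 1 = k → Cfsg.indFun H φ ≠ 0 := by
    intro φ k hk hφ h0
    have := congrFun h0 1
    rw [indFun_one, hφ, Pi.zero_apply, mul_eq_zero] at this
    rcases this with h | h
    · exact Subgroup.index_ne_zero_of_finite (Nat.cast_eq_zero.1 h)
    · exact hk (Nat.cast_eq_zero.1 h)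
  obtain ⟨x, hx⟩ := IsCharacter.exists_classInner_eq_natCast' hA hA
  obtain ⟨y, hy⟩ := IsCharacter.exists_classInner_eq_natCast' hA hB
  obtain ⟨z, hz⟩ := IsCharacter.exists_classInner_eq_natCast' hB hA
  obtain ⟨w, hw⟩ := IsCharacter.exists_classInner_eq_natCast' hB hB
  have hx0 : x ≠ 0 := fun h => hne a da (by omega) hda (classInner_self_eq_zero (by rw [hx, h, Nat.cast_zero]))
  have hw0 : w ≠ 0 := fun h => hne _ d hd0 hd (classInner_self_eq_zero (by rw [hw, h, Nat.cast_zero]))
  have h1 := IsIrrCharacter.classInner_self hirr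
  rw [show Cfsg.indFun H f = Cfsg.indFun H a + Cfsg.indFun H (f - a) by
      rw [← indFun_add]; congr 1; funext u; simp,
    classInner_add_left, classInner_add_right, classInner_add_right, hx, hy, hz, hw] at h1
  have h2 : x + y + (z + w) = 1 := by exact_mod_cast h1
  omega

end CfsgLib.Char
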