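import Cfsg.Agent.Char.BergerInduce
import Cfsg.Agent.Char.RestrictInd
import Cfsg.Agent.Char.Clifford
import Cfsg.Agent.Solvable.Basics
import Cfsg.Agent.Solvable.PGroupBasic

/-!
# Quasiprimitive characters of solvable groups are primitive
-/

set_option autoImplicit false
set_option linter.style.haveILetI false
set_option linter.unusedSectionVars false

namespace CfsgLib.Char

open Module Representation
open scoped ComplexConjugate

universe u

variable {G : Type u} [Group G]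

/-- A character with only one irreducible constituent is a multiple of it. -/
theorem IsCharacter.eq_natCast_smul_of_constituents {H : Type u} [Group H] [Fintype H]
    {ζ θ : H → ℂ} (hζ : Cfsg.IsCharacter H ζ) (hθ : Cfsg.IsIrrCharacter H θ)
    (h : ∀ η, Cfsg.IsIrrCharacter H η → Cfsg.classInner ζ η ≠ 0 → η = θ) :
    ∃ a : ℕ, ζ = (a : ℂ) • θ := by
  obtain ⟨a, ha⟩ := IsCharacter.exists_classInner_eq_natCast hζ hθ
  refine ⟨a, sub_eq_zero.1 (eq_zero_of_classInner_eq_zero (fun g x => ?_) fun η hη => ?_)⟩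
  · simp only [Pi.sub_apply, Pi.smul_apply]
    rw [IsCharacter.isClassFunction hζ g x, IsIrrCharacter.isClassFunction hθ g x]
  · rw [classInner_sub_left, classInner_smul_left]
    by_cases he : η = θ
    · rw [he, ha, IsIrrCharacter.classInner_self hθ, mul_one, sub_self]
    · rw [IsIrrCharacter.classInner_of_ne hθ hη (Ne.symm he), mul_zero, sub_zero]
      by_contra hne
      exact he (h η hη hne)

/-- The group-theoretic frame of the section under a maximal subgroup. -/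
theorem exists_section [Finite G] [Group.IsSolvable G] {K N : Subgroup G} [hN : N.Normal]
    (hK : IsCoatom K) (hcore : ∀ X : Subgroup G, X.Normal → X ≤ K → X ≤ N) (hNK : N < K) :
    ∃ (M L : Subgroup G) (p r : ℕ), M.Normal ∧ N < M ∧
      (∀ x ∈ K, x ∈ M → x ∈ N) ∧ (∀ x : G, ∃ m ∈ M, ∃ k ∈ K, m * k = x) ∧
      (∀ M₁ : Subgroup G, M₁.Normal → N ≤ M₁ → M₁ ≤ M → M₁ = N ∨ M₁ = M) ∧
      L ≤ K ∧ (∀ k ∈ K, ∀ l ∈ L, k * l * k⁻¹ ∈ L) ∧ (∀ a ∈ L, ∀ b ∈ L, a * b * a⁻¹ * b⁻¹ ∈ N) ∧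
      (∀ a ∈ L, a ^ r ∈ N) ∧ (∃ l ∈ L, ∃ m ∈ M, l * m * l⁻¹ * m⁻¹ ∉ N) ∧
      p.Prime ∧ r.Prime ∧ r ≠ p ∧ (∃ n, N.relIndex M = p ^ n) := by
  classical
  set π := QuotientGroup.mk' N with hπdef
  have hπ : Function.Surjective π := QuotientGroup.mk'_surjective N
  have hker : π.ker = N := QuotientGroup.ker_mk' N
  have hπ1 : ∀ x : G, π x = 1 ↔ x ∈ N := fun x => QuotientGroup.eq_one_iff x
  haveI : Group.IsSolvable (G ⧸ N) := Group.isSolvable_of_surjective hπ
  have hNtop : N ≠ ⊤ := fun h => hK.1 (top_le_iff.1 (h ▸ hNK.le))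
  haveI : Nontrivial (G ⧸ N) := QuotientGroup.nontrivial_iff.2 hNtop
  obtain ⟨B, hB, hB1, -, hBc, hBmin, p, hp, -, hBp⟩ :=
    CfsgLib.Solvable.exists_normal_elementary_le (G := G ⧸ N) (N := ⊤) top_ne_bot inferInstance
  haveI := hB
  set M := B.comap π with hMdef
  haveI hMn : M.Normal := hB.comap π
  have hNM : N ≤ M := fun x hx => by
    rw [hMdef, Subgroup.mem_comap, (hπ1 x).2 hx]; exact B.one_mem
  have hMB : M.map π = B := Subgroup.map_comap_eq_self_of_surjective hπ B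
  have hNM' : N < M := lt_of_le_of_ne hNM fun h => hB1 (by
    rw [← hMB, ← h, Subgroup.map_eq_bot_iff, hker])
  have hMcomm : ∀ a ∈ M, ∀ b ∈ M, a * b * a⁻¹ * b⁻¹ ∈ N := fun a ha b hb => by
    rw [← hπ1, map_mul, map_mul, map_mul, map_inv, map_inv, mul_inv_eq_one, mul_inv_eq_iff_eq_mul]
    exact setLike_mul_comm (s := B) ha hb
  have hMK : ¬ M ≤ K := fun h => hNM'.not_ge (hcore M hMn h)
  have hsup : M ⊔ K = ⊤ :=
    hK.2 _ (lt_of_le_of_ne le_sup_right fun h => hMK (le_sup_left.trans h.ge))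
  have hmul : ∀ x : G, ∃ m ∈ M, ∃ k ∈ K, m * k = x := fun x =>
    Subgroup.mem_sup_of_normal_left.1 (hsup ▸ Subgroup.mem_top x)
  have hKM : ∀ x ∈ K, x ∈ M → x ∈ N := by
    have hn : (K ⊓ M).Normal := by
      refine ⟨fun y hy g => ?_⟩
      obtain ⟨m, hm, k, hk, rfl⟩ := hmul g
      have h1 : k * y * k⁻¹ ∈ K ⊓ M :=
        ⟨K.mul_mem (K.mul_mem hk hy.1) (K.inv_mem hk), hMn.conj_mem y hy.2 k⟩
      have h2 : m * (k * y * k⁻¹) * m⁻¹ * (k * y * k⁻¹)⁻¹ ∈ K ⊓ M :=
        ⟨hNK.le (hMcomm m hm _ h1.2), hNM (hMcomm m hm _ h1.2)⟩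
      have h3 := (K ⊓ M).mul_mem h2 h1
      simpa [mul_assoc] using h3
    exact fun x hxK hxM => hcore _ hn inf_le_left ⟨hxK, hxM⟩
  have hmin : ∀ M₁ : Subgroup G, M₁.Normal → N ≤ M₁ → M₁ ≤ M → M₁ = N ∨ M₁ = M := by
    intro M₁ hn hN₁ h₁
    have hc : (M₁.map π).comap π = M₁ := Subgroup.comap_map_eq_self (by rwa [hker])
    rcases hBmin _ (hn.map π hπ) (hMB ▸ Subgroup.map_mono h₁) with h | h
    · exact Or.inl (by rw [← hc, h, MonoidHom.comap_bot, hker])
    · exact Or.inr (by rw [← hc, h])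
  -- the normal subgroup of the complement
  set A := K.map π with hAdef
  have hA1 : A ≠ ⊥ := fun h => hNK.not_ge (by
    have := (Subgroup.map_eq_bot_iff K).1 h
    rwa [hker] at this)
  haveI : Nontrivial A := (Subgroup.nontrivial_iff_ne_bot A).2 hA1
  haveI : Group.IsSolvable A := inferInstance
  obtain ⟨C, hC, hC1, -, hCc, -, r, hr, hCexp, hCp⟩ :=
    CfsgLib.Solvable.exists_normal_elementary_le (G := A) (N := ⊤) top_ne_bot inferInstance
  set D := C.map A.subtype with hDdef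
  set L := D.comap π with hLdef
  have hLK : L ≤ K := by
    have h : L ≤ A.comap π := Subgroup.comap_mono (Subgroup.map_subtype_le C)
    rwa [hAdef, Subgroup.comap_map_eq_self (by rw [hker]; exact hNK.le)] at h
  have hLn : ∀ k ∈ K, ∀ l ∈ L, k * l * k⁻¹ ∈ L := by
    intro k hk l hl
    obtain ⟨c, hc, hcl⟩ := hl
    refine ⟨⟨π k, Subgroup.mem_map_of_mem π hk⟩ * c * ⟨π k, Subgroup.mem_map_of_mem π hk⟩⁻¹,
      hC.conj_mem c hc _, ?_⟩
    change π k * A.subtype c * (π k)⁻¹ = _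
    rw [hcl, map_mul, map_mul, map_inv]
  have hab : ∀ a ∈ L, ∀ b ∈ L, a * b * a⁻¹ * b⁻¹ ∈ N := by
    rintro a ⟨c, hc, hca⟩ b ⟨c', hc', hcb⟩
    rw [← hπ1, map_mul, map_mul, map_mul, map_inv, map_inv, mul_inv_eq_one, mul_inv_eq_iff_eq_mul,
      ← hca, ← hcb, ← map_mul, ← map_mul]
    exact congrArg _ (setLike_mul_comm (s := C) hc hc')
  have hpow : ∀ a ∈ L, a ^ r ∈ N := by
    rintro a ⟨c, hc, hca⟩
    rw [← hπ1, map_pow, ← hca, ← map_pow, hCexp c hc, map_one]
  have hlm : ∃ l ∈ L, ∃ m ∈ M, l * m * l⁻¹ * m⁻¹ ∉ N := by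
    by_contra hno
    push Not at hno
    have hNL : N ≤ L := fun x hx => by
      rw [hLdef, Subgroup.mem_comap, (hπ1 x).2 hx]; exact D.one_mem
    have hLnormal : L.Normal := by
      refine ⟨fun l hl g => ?_⟩
      obtain ⟨m, hm, k, hk, rfl⟩ := hmul g
      have h1 := hLn k hk l hl
      have h2 := L.mul_mem (hNL (N.inv_mem (hno _ h1 m hm))) h1
      simpa [mul_assoc] using h2
    have h3 := hcore L hLnormal hLK
    refine hC1 ((Subgroup.map_eq_bot_iff_of_injective C A.subtype_injective).1 ?_)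
    rw [← Subgroup.map_comap_eq_self_of_surjective hπ (C.map A.subtype), Subgroup.map_eq_bot_iff,
      hker]
    exact h3
  have hrp : r ≠ p := by
    intro hrp
    subst hrp
    haveI := Fact.mk hr
    obtain ⟨l, hl, m, hm, hlmN⟩ := hlm
    have hDp : IsPGroup r D := hCp.map A.subtype
    set J := D ⊔ B with hJdef
    have hJp : IsPGroup r J := hDp.to_sup_of_normal_right hBp
    have hBJ : B ≤ J := le_sup_right
    have hJn : J.Normal := by
      refine ⟨fun y hy g => ?_⟩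
      obtain ⟨g, rfl⟩ := hπ g
      obtain ⟨m', hm', k, hk, rfl⟩ := hmul g
      have hy1 : π k * y * (π k)⁻¹ ∈ J := by
        obtain ⟨d, hd, b, hb, rfl⟩ := Subgroup.mem_sup_of_normal_right.1 hy
        obtain ⟨c, hc, rfl⟩ := hd
        have e : π k * (A.subtype c * b) * (π k)⁻¹ =
            (π k * A.subtype c * (π k)⁻¹) * (π k * b * (π k)⁻¹) := by group
        rw [e]
        refine J.mul_mem (Subgroup.mem_sup_left ⟨⟨π k, Subgroup.mem_map_of_mem π hk⟩ * c *
          ⟨π k, Subgroup.mem_map_of_mem π hk⟩⁻¹, hC.conj_mem c hc _, rfl⟩) (hBJ (hB.conj_mem b hb _))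
      have hm1 : π m' ∈ J := hBJ hm'
      have := J.mul_mem (J.mul_mem hm1 hy1) (J.inv_mem hm1)
      rw [map_mul]
      simpa [mul_assoc] using this
    haveI := hJn
    haveI : Group.IsNilpotent J := hJp.isNilpotent
    have hne : B.subgroupOf J ≠ ⊥ := fun h => hB1 (by
      rw [← Subgroup.map_subgroupOf_eq_of_le hBJ, h, Subgroup.map_bot])
    obtain ⟨z, hz, hz1⟩ := (Subgroup.bot_or_exists_ne_one _).resolve_left
      (CfsgLib.PGroupBasic.inf_center_ne_bot (B.subgroupOf J) hne)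
    rcases hBmin (B ⊓ Subgroup.centralizer (J : Set (G ⧸ N))) inferInstance inf_le_left with h | h
    · refine hz1 (Subtype.ext (Subgroup.mem_bot.1 (h ▸ (⟨hz.1, ?_⟩ :
        (z : G ⧸ N) ∈ B ⊓ Subgroup.centralizer (J : Set (G ⧸ N))))))
      exact Subgroup.mem_centralizer_iff.2 fun y hy =>
        congrArg Subtype.val (Subgroup.mem_center_iff.1 hz.2 ⟨y, hy⟩)
    · refine hlmN ?_
      have hmB : π m ∈ B := hm
      rw [← h] at hmB
      have hc : π m ∈ Subgroup.centralizer (J : Set (G ⧸ N)) := hmB.2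
      rw [← hπ1, map_mul, map_mul, map_mul, map_inv, map_inv, mul_inv_eq_one, mul_inv_eq_iff_eq_mul]
      exact Subgroup.mem_centralizer_iff.1 hc _ (Subgroup.mem_sup_left hl)
  refine ⟨M, L, p, r, hMn, hNM', hKM, hmul, hmin, hLK, hLn, hab, hpow, hlm, hp, hr, hrp, ?_⟩
  haveI := Fact.mk hp
  obtain ⟨n, hn⟩ := IsPGroup.iff_card.1 hBp
  refine ⟨n, ?_⟩
  rw [← hn, ← Subgroup.relIndex_bot_left (H := B), ← hMB, ← Subgroup.relIndex_comap,
    MonoidHom.comap_bot, hker]

variable [Fintype G]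

set_option maxHeartbeats 1000000 in
/-- An induced quasiprimitive character is induced from a subgroup with a larger core. -/
theorem berger_climb [Group.IsSolvable G] {χ : G → ℂ} (hχ : Cfsg.IsIrrCharacter G χ)
    (hqp : ∀ (N : Subgroup G), N.Normal → ∃ (ϑ : N → ℂ) (e : ℕ),
      Cfsg.IsIrrCharacter N ϑ ∧ (fun n : N => χ n) = (e : ℂ) • ϑ)
    {K : Subgroup G} (hK : IsCoatom K) {ψ : K → ℂ} (hψ : Cfsg.IsCharacter K ψ)
    (hind : Cfsg.indFun K ψ = χ) :
    ∃ S : Subgroup G, S ≠ ⊤ ∧ K.normalCore < S.normalCore ∧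
      ∃ w : S → ℂ, Cfsg.IsCharacter S w ∧ Cfsg.indFun S w = χ := by
  classical
  set N := K.normalCore with hNdef
  haveI hN : N.Normal := Subgroup.normalCore_normal K
  have hNK : N ≤ K := Subgroup.normalCore_le K
  haveI := Fintype.ofFinite K
  haveI := Fintype.ofFinite N
  have hψi : Cfsg.IsIrrCharacter K ψ := isIrr_of_indFun_isIrr hψ (hind.symm ▸ hχ)
  have hχc := IsIrrCharacter.isClassFunction hχ
  have hψχ : Cfsg.classInner (fun k : K => χ k) ψ ≠ 0 := by
    intro h0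
    have h1 := classInner_indFun ψ hχc
    rw [hind, IsIrrCharacter.classInner_self hχ, ← classInner_conj, h0, map_zero] at h1
    exact one_ne_zero h1
  obtain ⟨θ, h, hθ, hχN⟩ := hqp N hN
  have hχ1 : χ 1 ≠ 0 := IsIrrCharacter.apply_one_ne_zero hχ
  have hh : (h : ℂ) ≠ 0 := fun h0 => hχ1 (by
    have := congrFun hχN 1
    simpa [h0] using this)
  -- the restriction of the inducing character
  have hres : Cfsg.IsCharacter N (fun n : N => ψ ⟨n, hNK n.2⟩) :=
    IsCharacter.comp hψ (Subgroup.inclusion hNK)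
  obtain ⟨a, ha⟩ : ∃ a : ℕ, (fun n : N => ψ ⟨n, hNK n.2⟩) = (a : ℂ) • θ := by
    refine IsCharacter.eq_natCast_smul_of_constituents hres hθ fun η hη hne => ?_
    by_contra hηθ
    have hrest := IsCharacter.sub_irr (IsCharacter.restrict (IsIrrCharacter.isCharacter hχ) K) hψi hψχ
    obtain ⟨x, hx⟩ := IsCharacter.exists_classInner_eq_natCast hres hη
    obtain ⟨y, hy⟩ := IsCharacter.exists_classInner_eq_natCast
      (IsCharacter.comp hrest (Subgroup.inclusion hNK)) hη
    have hsum : (x : ℂ) + y = 0 := by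
      rw [← hx, ← hy, ← classInner_add_left]
      have : ((fun n : N => ψ ⟨n, hNK n.2⟩) + fun n : N =>
          ((fun k : K => χ k) - ψ) (Subgroup.inclusion hNK n)) = fun n : N => χ n := by
        funext n
        simp only [Pi.add_apply, Pi.sub_apply]
        exact add_sub_cancel _ _
      rw [this, hχN, classInner_smul_left, IsIrrCharacter.classInner_of_ne hθ hη (Ne.symm hηθ),
        mul_zero]
    have hx0 : x = 0 := by
      have : x + y = 0 := by exact_mod_cast hsum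
      omega
    exact hne (by rw [hx, hx0, Nat.cast_zero])
  have hψ1 : ψ 1 = (a : ℂ) * θ 1 := congrFun ha 1
  have ha0 : 0 < a := Nat.pos_of_ne_zero fun h0 => IsIrrCharacter.apply_one_ne_zero hψi (by
    rw [hψ1, h0, Nat.cast_zero, zero_mul])
  have hχ1' : χ 1 = (K.index : ℂ) * (a * θ 1) := by rw [← hind, indFun_one, hψ1]
  by_cases hNK' : N = K
  · -- a normal subgroup cannot carry the inducing character
    exfalso
    refine hK.1 (Subgroup.index_eq_one.1 ?_)
    obtain ⟨θ', h', hθ', hχK⟩ := hqp K (hNK' ▸ hN)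
    have hψθ : θ' = ψ := by
      by_contra hne
      rw [hχK, classInner_smul_left, IsIrrCharacter.classInner_of_ne hθ' hψi hne, mul_zero] at hψχ
      exact hψχ rfl
    subst hψθ
    have h1 := classInner_indFun θ' hχc
    rw [hind, IsIrrCharacter.classInner_self hχ, hχK, classInner_smul_right,
      IsIrrCharacter.classInner_self hψi, Complex.conj_natCast, mul_one] at h1
    have h3 : χ 1 = θ' 1 := by
      have := congrFun hχK 1
      simpa [← h1] using this
    have h4 := indFun_one (H := K) θ'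
    rw [hind, h3] at h4
    have h5 : (K.index : ℂ) = 1 :=
      mul_right_cancel₀ (IsIrrCharacter.apply_one_ne_zero hψi) (by rw [one_mul]; exact h4.symm)
    exact_mod_cast h5
  have hNK2 : N < K := lt_of_le_of_ne hNK hNK'
  obtain ⟨M, L, p, r, hMn, hNM, hKM, hmul, hmin, hLK, hLn, hab, hpow, hlm, hp, hr, hrp, n, hn⟩ :=
    exists_section hK (fun X hX hXK => Subgroup.normal_le_normalCore.2 hXK) hNK2
  haveI := hMn
  haveI := Fintype.ofFinite M
  obtain ⟨φ, f, hφ, hχM⟩ := hqp M hMn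
  have hf : (f : ℂ) ≠ 0 := fun h0 => hχ1 (by
    have := congrFun hχM 1
    simpa [h0] using this)
  have hfa : ∀ m : M, χ m = (f : ℂ) * φ m := fun m => by simpa using congrFun hχM m
  have hha : ∀ x : N, χ x = (h : ℂ) * θ x := fun x => by simpa using congrFun hχN x
  -- invariance
  have hθinv : ∀ g : G, conjOn g θ = θ := fun g => funext fun x => by
    refine mul_left_cancel₀ hh ?_
    rw [conjOn_apply, ← hha, ← hha]
    exact hχc x g
  have hφinv : ∀ g : G, conjOn g φ = φ := fun g => funext fun x => by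
    refine mul_left_cancel₀ hf ?_
    rw [conjOn_apply, ← hfa, ← hfa]
    exact hχc x g
  -- the restriction of the character of the section
  have hφres : Cfsg.IsCharacter N (fun x : N => φ ⟨x, hNM.le x.2⟩) :=
    IsCharacter.comp (IsIrrCharacter.isCharacter hφ) (Subgroup.inclusion hNM.le)
  have hφN : (fun x : N => φ ⟨x, hNM.le x.2⟩) = ((h : ℂ) / f) • θ := funext fun x => by
    rw [Pi.smul_apply, smul_eq_mul, div_mul_eq_mul_div, ← hha, eq_div_iff hf, mul_comm,
      ← hfa ⟨x, hNM.le x.2⟩]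
  obtain ⟨e, he⟩ : ∃ e : ℕ, (fun x : N => φ ⟨x, hNM.le x.2⟩) = (e : ℂ) • θ := by
    refine IsCharacter.eq_natCast_smul_of_constituents hφres hθ fun η hη hne => ?_
    by_contra hηθ
    rw [hφN, classInner_smul_left, IsIrrCharacter.classInner_of_ne hθ hη (Ne.symm hηθ),
      mul_zero] at hne
    exact hne rfl
  -- the induced character on the section
  set U := K.subgroupOf M with hUdef
  haveI := Fintype.ofFinite U
  have hU : ∀ x : M, x ∈ U ↔ (x : G) ∈ N := fun x =>
    ⟨fun hx => hKM _ hx x.2, fun hx => hNK hx⟩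
  haveI hUn : U.Normal := ⟨fun x hx g => (hU _).2 (by
    simpa using hN.conj_mem _ ((hU x).1 hx) (g : G))⟩
  let η : U → ℂ := fun x => θ ⟨((x : M) : G), (hU x).1 x.2⟩
  have hη : Cfsg.IsIrrCharacter U η := by
    let g : U →* N :=
      { toFun := fun x => ⟨((x : M) : G), (hU x).1 x.2⟩
        map_one' := rfl
        map_mul' := fun _ _ => rfl }
    exact IsIrrCharacter.comp_surjective hθ g fun y => ⟨⟨⟨y, hNM.le y.2⟩, (hU _).2 y.2⟩, rfl⟩
  have hηinv : inertia η = ⊤ := by
    refine eq_top_iff.2 fun m _ => ?_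
    rw [mem_inertia]
    funext x
    rw [conjOn_apply]
    change θ _ = θ _
    conv_rhs => rw [← hθinv (m : G)]
    rw [conjOn_apply]
    rfl
  have hχη : (fun m : M => χ m) = (a : ℂ) • Cfsg.indFun U η := by
    rw [← hind, indFun_restrict_of_mul_eq_top M K hmul (IsCharacter.isClassFunction hψ),
      ← indFun_smul]
    congr 1
    funext x
    exact congrFun ha ⟨((x : M) : G), (hU x).1 x.2⟩
  have hrec : Cfsg.classInner (Cfsg.indFun U η) φ = e := by
    rw [classInner_indFun η (IsIrrCharacter.isClassFunction hφ)]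
    have : (fun x : U => φ x) = (e : ℂ) • η := funext fun x =>
      congrFun he ⟨((x : M) : G), (hU x).1 x.2⟩
    rw [this, classInner_smul_right, IsIrrCharacter.classInner_self hη, Complex.conj_natCast,
      mul_one]
  have haC : (a : ℂ) ≠ 0 := Nat.cast_ne_zero.2 ha0.ne'
  have hind' : Cfsg.indFun U η = (e : ℂ) • φ := by
    have h1 : Cfsg.indFun U η = ((f : ℂ) / a) • φ := funext fun m => by
      have h2 := congrFun hχη m
      rw [hfa, Pi.smul_apply, smul_eq_mul] at h2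
      rw [Pi.smul_apply, smul_eq_mul, div_mul_eq_mul_div, eq_div_iff haC, h2, mul_comm]
    have h3 := hrec
    rw [h1, classInner_smul_left, IsIrrCharacter.classInner_self hφ, mul_one] at h3
    rw [h1, h3]
  have he2 : e * e = U.index := by
    have h1 := classInner_indFun_self (N := U) hη
    rw [hηinv, hind', classInner_smul_left, classInner_smul_right,
      IsIrrCharacter.classInner_self hφ, Complex.conj_natCast, mul_one, Subgroup.card_top,
      eq_div_iff (Nat.cast_ne_zero.2 Nat.card_pos.ne'), ← U.card_mul_index, Nat.cast_mul,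
      mul_comm (Nat.card U : ℂ)] at h1
    have h2 := mul_right_cancel₀ (Nat.cast_ne_zero.2 Nat.card_pos.ne') h1
    exact_mod_cast h2
  have hidx : U.index = K.index := by
    have h1 := congrFun hχη 1
    rw [Pi.smul_apply, smul_eq_mul, indFun_one] at h1
    have h2 : (η 1 : ℂ) = θ 1 := congrArg θ (Subtype.ext rfl)
    rw [OneMemClass.coe_one, h2, hχ1'] at h1
    have h3 : (U.index : ℂ) * ((a : ℂ) * θ 1) = (K.index : ℂ) * ((a : ℂ) * θ 1) := by rw [h1]; ring
    exact_mod_cast mul_right_cancel₀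
      (mul_ne_zero haC (IsIrrCharacter.apply_one_ne_zero hθ)) h3
  have hrel : U.index = N.relIndex M := by
    rw [Subgroup.relIndex]
    congr 1
    ext x
    rw [hU, Subgroup.mem_subgroupOf]
  have he1 : 1 < e := by
    have h1 : N.relIndex M ≠ 1 := fun h1 => hNM.not_ge (Subgroup.relIndex_eq_one.1 h1)
    have h0 : U.index ≠ 0 := Subgroup.index_ne_zero_of_finite
    rcases e with _ | _ | e
    · simp at he2; exact absurd he2.symm h0
    · simp at he2; exact absurd (hrel ▸ he2.symm) h1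
    · omega
  have hcop : e.Coprime r := by
    refine Nat.Coprime.coprime_dvd_left (Dvd.intro e he2) ?_
    rw [hrel, hn]
    exact Nat.Coprime.pow_left n ((Nat.coprime_primes hp hr).2 hrp.symm)
  -- representations
  obtain ⟨t, σ, hσ, rfl⟩ := hθ
  haveI := hσ
  obtain ⟨φr, hφr, hdφ⟩ := exists_adapted_rep hNM.le (IsIrrCharacter.isCharacter hφ) σ e
    (fun x => congrFun he x)
  subst hφr
  haveI : φr.IsIrreducible := (isIrreducible_iff_isIrrCharacter φr).2 hφ
  obtain ⟨πr, hπr, hdπ⟩ := exists_adapted_rep hNK hψ σ a (fun x => congrFun ha x)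
  subst hπr
  obtain ⟨S, hS, hMS, w, hw, hw'⟩ := berger_step hχ hNK hNM.le hKM hmul hLK hLn hab hpow hlm hmin
    σ φr πr hdφ hdπ hθinv hφinv hind ha0 he1 (he2.trans hidx) hcop
  refine ⟨S, hS, lt_of_lt_of_le hNM (Subgroup.normal_le_normalCore.2 hMS), w, hw, hw'⟩

/-- Berger's theorem. -/
theorem berger_quasiprimitive [Group.IsSolvable G] {χ : G → ℂ} (hχ : Cfsg.IsIrrCharacter G χ)
    (hqp : ∀ (N : Subgroup G), N.Normal → ∃ (ϑ : N → ℂ) (e : ℕ),
      Cfsg.IsIrrCharacter N ϑ ∧ (fun n : N => χ n) = (e : ℂ) • ϑ)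
    (K : Subgroup G) (hK : K ≠ ⊤) (ψ : K → ℂ) (hψ : Cfsg.IsCharacter K ψ) :
    Cfsg.indFun K ψ ≠ χ := by
  intro hind
  obtain ⟨K₀, ⟨hK₀, ψ₀, hψ₀, hind₀⟩, hmax⟩ := Set.exists_max_image
    {K : Subgroup G | K ≠ ⊤ ∧ ∃ ψ : K → ℂ, Cfsg.IsCharacter K ψ ∧ Cfsg.indFun K ψ = χ}
    (fun K => Nat.card K.normalCore) (Set.toFinite _) ⟨K, hK, ψ, hψ, hind⟩
  obtain ⟨K₁, hK₁, hle⟩ := (eq_top_or_exists_le_coatom K₀).resolve_left hK₀
  haveI := Fintype.ofFinite K₁
  have hψ₁ : Cfsg.IsCharacter K₁ (Cfsg.indFun (K₀.subgroupOf K₁)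
      fun x => ψ₀ ⟨(x : K₁), Subgroup.mem_subgroupOf.mp x.2⟩) :=
    IsCharacter.indFun (IsCharacter.comp hψ₀ (Subgroup.subgroupOfEquivOfLe hle).toMonoidHom)
  obtain ⟨S, hS, hlt, w, hw, hw'⟩ := berger_climb hχ hqp hK₁ hψ₁
    ((indFun_indFun hle ψ₀).trans hind₀)
  have h1 := hmax S ⟨hS, w, hw, hw'⟩
  have h2 : Nat.card K₁.normalCore < Nat.card S.normalCore := by
    refine lt_of_le_of_ne (Nat.le_of_dvd Nat.card_pos (Subgroup.card_dvd_of_le hlt.le)) fun he => ?_
    exact hlt.ne (Subgroup.eq_of_le_of_card_ge hlt.le he.ge)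
  have h3 := Nat.le_of_dvd Nat.card_pos (Subgroup.card_dvd_of_le (Subgroup.normalCore_mono hle))
  omega

end CfsgLib.Char
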