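import Cfsg.Agent.Char.DiagCoord
import Cfsg.Agent.Char.Equivalence
import Mathlib.LinearAlgebra.Eigenspace.Triangularizable
import Mathlib.LinearAlgebra.Eigenspace.Pi

/-!
# Intertwiners, adapted coordinates and twisted commutation
-/

set_option autoImplicit false
set_option linter.style.haveILetI false
set_option linter.unusedSectionVars false

namespace CfsgLib.Char

open Module Representation
open scoped ComplexConjugate

universe u v w

variable {G : Type u} [Group G]

/-- Characters which are not orthogonal come from representations with a nonzero intertwiner. -/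
theorem exists_intertwiningMap_ne_zero {H : Type u} [Group H] [Fintype H] {V : Type v}
    [AddCommGroup V] [Module ℂ V] [FiniteDimensional ℂ V] {W : Type w} [AddCommGroup W] [Module ℂ W]
    [FiniteDimensional ℂ W] (ρ : Representation ℂ H V) (σ : Representation ℂ H W)
    (h : Cfsg.classInner σ.character ρ.character ≠ 0) :
    ∃ f : IntertwiningMap ρ σ, f.toLinearMap ≠ 0 := by
  haveI : Invertible (Nat.card H : ℂ) :=
    invertibleOfNonzero (by exact_mod_cast (Nat.card_pos (α := H)).ne')
  have e1 := card_inv_mul_sum_char_mul_char_eq_finrank ρ σ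
  simp_rw [IsCharacter.apply_inv (isCharacter_character ρ)] at e1
  rw [← classInner_def] at e1
  have h1 : finrank ℂ (IntertwiningMap ρ σ) ≠ 0 := fun h0 => h (by rw [e1, h0, Nat.cast_zero])
  haveI : Nontrivial (IntertwiningMap ρ σ) :=
    Module.nontrivial_of_finrank_pos (Nat.pos_of_ne_zero h1)
  obtain ⟨f, hf⟩ := exists_ne (0 : IntertwiningMap ρ σ)
  exact ⟨f, fun h0 => hf (by
    ext x
    exact LinearMap.congr_fun h0 x)⟩

/-- An intertwiner of a representation of a subgroup into another one forces a common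
constituent. -/
theorem classInner_ne_zero_of_intertwiningMap {H : Type u} [Group H] [Fintype H] {V : Type v}
    [AddCommGroup V] [Module ℂ V] [FiniteDimensional ℂ V] {W : Type w} [AddCommGroup W] [Module ℂ W]
    [FiniteDimensional ℂ W] (ρ : Representation ℂ H V) (σ : Representation ℂ H W)
    (f : IntertwiningMap ρ σ) (hf : f.toLinearMap ≠ 0) :
    Cfsg.classInner σ.character ρ.character ≠ 0 := by
  haveI : Invertible (Nat.card H : ℂ) :=
    invertibleOfNonzero (by exact_mod_cast (Nat.card_pos (α := H)).ne')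
  have e1 := card_inv_mul_sum_char_mul_char_eq_finrank ρ σ
  simp_rw [IsCharacter.apply_inv (isCharacter_character ρ)] at e1
  rw [← classInner_def] at e1
  haveI : Nontrivial (IntertwiningMap ρ σ) := ⟨f, 0, fun h => hf (by rw [h]; rfl)⟩
  rw [e1, Nat.cast_ne_zero]
  exact Module.finrank_pos.ne'

/-- A character whose restriction is `a` times an irreducible one has a representation which is
diagonal on the subgroup. -/
theorem exists_adapted_rep {H : Subgroup G} {N : Subgroup G} [Finite G] (hNH : N ≤ H) {ζ : H → ℂ}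
    (hζ : Cfsg.IsCharacter H ζ) {t : ℕ} (σ : Representation ℂ N (Fin t → ℂ)) (a : ℕ)
    (hres : ∀ n : N, ζ ⟨n, hNH n.2⟩ = (a : ℂ) * σ.character n) :
    ∃ π : Representation ℂ H (Fin a → Fin t → ℂ), π.character = ζ ∧
      ∀ n : N, π ⟨n, hNH n.2⟩ = diagEnd (Fin a) (σ n) := by
  obtain ⟨d, π, rfl⟩ := hζ
  obtain ⟨E⟩ := equiv_of_character_eq (π.comp (Subgroup.inclusion hNH)) (diagRep σ (Fin a))
    (by rw [character_diagRep, Fintype.card_fin]; exact funext hres)
  refine ⟨conjRep π E.toLinearEquiv, character_conjRep π _, fun n => LinearMap.ext fun x => ?_⟩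
  obtain ⟨y, rfl⟩ := E.toLinearEquiv.surjective x
  rw [conjRep_apply, LinearEquiv.conj_apply, LinearMap.comp_apply, LinearMap.comp_apply,
    LinearEquiv.coe_coe, LinearEquiv.coe_coe, LinearEquiv.symm_apply_apply]
  exact LinearMap.congr_fun (E.isIntertwining' n) y

section Intertwines

variable {N : Subgroup G} [hN : N.Normal] {W : Type v} [AddCommGroup W] [Module ℂ W]

/-- `A` intertwines the representation `σ` with its conjugate by `g`. -/
def Intertwines (σ : Representation ℂ N W) (g : G) (A : (Module.End ℂ W)ˣ) : Prop :=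
  ∀ n : N, (A : Module.End ℂ W) * σ n = σ ⟨g * n * g⁻¹, hN.conj_mem n n.2 g⟩ * (A : Module.End ℂ W)

theorem Intertwines.mul {σ : Representation ℂ N W} {g h : G} {A B : (Module.End ℂ W)ˣ}
    (hA : Intertwines σ g A) (hB : Intertwines σ h B) : Intertwines σ (g * h) (A * B) := by
  intro n
  rw [Units.val_mul, mul_assoc, hB n, ← mul_assoc, hA, mul_assoc]
  congr 2
  ext
  simp [mul_assoc]

theorem intertwines_of_mem (σ : Representation ℂ N W) (n : N) :
    Intertwines σ (n : G) (σ.asGroupHom n) := by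
  intro m
  change σ n * σ m = σ _ * σ n
  rw [← map_mul, ← map_mul]
  congr 1
  ext
  simp [mul_assoc]

theorem Intertwines.exists [Finite G] [FiniteDimensional ℂ W] (σ : Representation ℂ N W)
    [σ.IsIrreducible] (hinv : ∀ g : G, conjOn g σ.character = σ.character) (g : G) :
    ∃ A, Intertwines σ g A := by
  obtain ⟨A, hA⟩ := exists_mem_detOneExt σ hinv g
  exact ⟨A, hA.2⟩

/-- The scalar units. -/
def scalarUnit (R : Type v) [Ring R] [Algebra ℂ R] : ℂˣ →* Rˣ :=
  Units.map (algebraMap ℂ R).toMonoidHom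

theorem scalarUnit_comm {R : Type v} [Ring R] [Algebra ℂ R] (c : ℂˣ) (x : Rˣ) :
    scalarUnit R c * x = x * scalarUnit R c :=
  Units.ext (Algebra.commutes (c : ℂ) (x : R))

theorem scalarUnit_val {R : Type v} [Ring R] [Algebra ℂ R] (c : ℂˣ) :
    (scalarUnit R c : R) = (c : ℂ) • (1 : R) := Algebra.algebraMap_eq_smul_one _

theorem exists_scalarUnit_of_commute [FiniteDimensional ℂ W] (σ : Representation ℂ N W)
    [σ.IsIrreducible] (A : (Module.End ℂ W)ˣ)
    (hA : ∀ n, σ n * (A : Module.End ℂ W) = (A : Module.End ℂ W) * σ n) :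
    ∃ c : ℂˣ, A = scalarUnit (Module.End ℂ W) c := by
  obtain ⟨c, hc⟩ := scalar_of_commute_all σ (A : Module.End ℂ W) hA
  haveI : Nontrivial W := Module.nontrivial_of_finrank_pos (finrank_pos_of_isIrreducible σ)
  have hc0 : c ≠ 0 := fun h0 => A.ne_zero (by rw [hc, h0, zero_smul])
  exact ⟨Units.mk0 c hc0, Units.ext (by rw [scalarUnit_val, hc, Units.val_mk0])⟩

theorem Intertwines.unique [FiniteDimensional ℂ W] {σ : Representation ℂ N W} [σ.IsIrreducible]
    {g : G} {A B : (Module.End ℂ W)ˣ} (hA : Intertwines σ g A) (hB : Intertwines σ g B) :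
    ∃ c : ℂˣ, B = scalarUnit (Module.End ℂ W) c * A := by
  obtain ⟨c, hc⟩ := exists_scalarUnit_of_commute σ (A⁻¹ * B) fun n => by
    rw [Units.val_mul]
    calc σ n * ((↑A⁻¹ : Module.End ℂ W) * ↑B)
        = ↑A⁻¹ * ((↑A * σ n) * (↑A⁻¹ * ↑B)) := by simp [← mul_assoc]
      _ = ↑A⁻¹ * (σ ⟨g * n * g⁻¹, hN.conj_mem n n.2 g⟩ * ↑B) := by
          rw [hA n, mul_assoc, ← mul_assoc (A : Module.End ℂ W) ↑A⁻¹, Units.mul_inv, one_mul]
      _ = ↑A⁻¹ * ↑B * σ n := by rw [← hB n, mul_assoc]
  refine ⟨c, ?_⟩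
  rw [scalarUnit_comm, ← hc, mul_inv_cancel_left]

end Intertwines

/-- If `a b = z b a` with `z` central then `a ^ k b = z ^ k b a ^ k`. -/
theorem pow_mul_eq_of_mul_eq {R : Type v} [Monoid R] {a b z : R} (hz : ∀ x, z * x = x * z)
    (h : a * b = z * (b * a)) (k : ℕ) : a ^ k * b = z ^ k * (b * a ^ k) := by
  induction k with
  | zero => simp
  | succ k ih =>
    rw [pow_succ a, mul_assoc, h, ← mul_assoc, ← hz, mul_assoc, ← mul_assoc (a ^ k) b, ih,
      mul_assoc (z ^ k), mul_assoc b, ← mul_assoc z (z ^ k), ← pow_succ']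

/-- Commuting operators have a common eigenvector. -/
theorem exists_common_eigenvector {V : Type v} [AddCommGroup V] [Module ℂ V]
    [FiniteDimensional ℂ V] [Nontrivial V] {ι : Type w} (f : ι → Module.End ℂ V)
    (hf : ∀ i j, f i * f j = f j * f i) : ∃ (c : ι → ℂ) (x : V), x ≠ 0 ∧ ∀ i, f i x = c i • x := by
  classical
  let p : ℕ → Prop := fun n => ∃ D : Submodule ℂ V, D ≠ ⊥ ∧ (∀ i, ∀ x ∈ D, f i x ∈ D) ∧ finrank ℂ D = n
  have hex : ∃ n, p n := ⟨_, ⊤, top_ne_bot, fun _ _ _ => trivial, rfl⟩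
  obtain ⟨D, hD, hinv, hn⟩ := Nat.find_spec hex
  haveI : Nontrivial D := Submodule.nontrivial_iff_ne_bot.2 hD
  have key : ∀ i, ∃ c : ℂ, ∀ x ∈ D, f i x = c • x := by
    intro i
    obtain ⟨c, hc⟩ := Module.End.exists_eigenvalue ((f i).restrict (hinv i))
    obtain ⟨x, hx, hx0⟩ := hc.exists_hasEigenvector
    refine ⟨c, ?_⟩
    let D' : Submodule ℂ V := D ⊓ (f i).eigenspace c
    have hxD : (x : V) ∈ D' := ⟨x.2, Module.End.mem_eigenspace_iff.2
      (congrArg Subtype.val (Module.End.mem_eigenspace_iff.1 hx))⟩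
    have hD' : D' ≠ ⊥ := fun h0 => hx0 (Subtype.ext (by simpa [h0] using hxD))
    have hinv' : ∀ j, ∀ y ∈ D', f j y ∈ D' := fun j y hy => ⟨hinv j y hy.1, by
      rw [SetLike.mem_coe, Module.End.mem_eigenspace_iff, ← Module.End.mul_apply, hf, Module.End.mul_apply,
        Module.End.mem_eigenspace_iff.1 hy.2, map_smul]⟩
    have hle := Nat.find_min' hex ⟨D', hD', hinv', rfl⟩
    have heq : D' = D := Submodule.eq_of_le_of_finrank_le inf_le_left (hn ▸ hle)
    intro y hy
    rw [← heq] at hy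
    exact Module.End.mem_eigenspace_iff.1 hy.2
  choose c hc using key
  obtain ⟨x, hx, hx0⟩ := Submodule.exists_mem_ne_zero_of_ne_bot hD
  exact ⟨c, x, hx0, fun i => hc i x hx⟩

end CfsgLib.Char
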