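import Cfsg.Agent.Char.BergerCoord

/-!
# The matrices of a coprime abelian section
-/

set_option autoImplicit false
set_option linter.style.haveILetI false
set_option linter.unusedSectionVars false

namespace CfsgLib.Char

open Module Representation

universe u

variable {G : Type u} [Group G] {e : ℕ}

local notation "𝕄" => Matrix (Fin e) (Fin e) ℂ

/-- A projective representation of a section of exponent prime to its degree, trivial below the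
section, takes commuting values on an abelian section. -/
theorem twisted_commute (N L : Subgroup G) (Y : G → (𝕄)ˣ) (he : 0 < e)
    (hmul : ∀ g h, ∃ c : ℂˣ, Y (g * h) = scalarUnit 𝕄 c * (Y g * Y h))
    (hN : ∀ g ∈ N, ∃ c : ℂˣ, Y g = scalarUnit 𝕄 c)
    (hab : ∀ a ∈ L, ∀ b ∈ L, a * b * a⁻¹ * b⁻¹ ∈ N)
    {r : ℕ} (hr : e.Coprime r) (hpow : ∀ a ∈ L, a ^ r ∈ N) :
    ∀ a ∈ L, ∀ b ∈ L, Y a * Y b = Y b * Y a := by
  haveI : Nonempty (Fin e) := ⟨⟨0, he⟩⟩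
  intro a ha b hb
  obtain ⟨c₁, h₁⟩ := hmul a b
  obtain ⟨c₂, h₂⟩ := hmul (a * b * a⁻¹ * b⁻¹) (b * a)
  obtain ⟨c₃, h₃⟩ := hmul b a
  obtain ⟨c₄, h₄⟩ := hN _ (hab a ha b hb)
  rw [show a * b * a⁻¹ * b⁻¹ * (b * a) = a * b by group, h₁, h₃, h₄, ← mul_assoc (scalarUnit 𝕄 c₄),
    ← mul_assoc (scalarUnit 𝕄 c₂), ← map_mul, ← map_mul, ← eq_inv_mul_iff_mul_eq, ← mul_assoc,
    ← map_inv, ← map_mul] at h₂
  set z := c₁⁻¹ * (c₂ * (c₄ * c₃)) with hz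
  -- the determinant
  have hze : z ^ e = 1 := by
    have h := congrArg (fun x : (𝕄)ˣ => ((x : 𝕄)).det) h₂
    simp only [Units.val_mul, scalarUnit_val, smul_one_mul, Matrix.det_smul, Matrix.det_mul,
      Fintype.card_fin] at h
    have hA : ((Y a : 𝕄)).det ≠ 0 := ((Matrix.isUnit_iff_isUnit_det _).1 (Y a).isUnit).ne_zero
    have hB : ((Y b : 𝕄)).det ≠ 0 := ((Matrix.isUnit_iff_isUnit_det _).1 (Y b).isUnit).ne_zero
    refine Units.ext ?_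
    rw [Units.val_pow_eq_pow_val, Units.val_one]
    refine mul_right_cancel₀ (mul_ne_zero hB hA) ?_
    rw [one_mul, ← h, mul_comm]
  -- the exponent
  have hk : ∀ k : ℕ, ∃ c : ℂˣ, Y (a ^ k) = scalarUnit 𝕄 c * Y a ^ k := by
    intro k
    induction k with
    | zero =>
      obtain ⟨c, hc⟩ := hN (a ^ 0) (by simp)
      exact ⟨c, by rw [hc, pow_zero, mul_one]⟩
    | succ k ih =>
      obtain ⟨c, hc⟩ := ih
      obtain ⟨d, hd⟩ := hmul (a ^ k) a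
      exact ⟨d * c, by rw [pow_succ, hd, hc, map_mul, pow_succ, mul_assoc, mul_assoc]⟩
  have hzr : z ^ r = 1 := by
    have h := pow_mul_eq_of_mul_eq (fun x => scalarUnit_comm z x) h₂ r
    obtain ⟨c, hc⟩ := hk r
    obtain ⟨d, hd⟩ := hN _ (hpow a ha)
    have hs : Y a ^ r = scalarUnit 𝕄 (c⁻¹ * d) := by
      rw [map_mul, map_inv, eq_inv_mul_iff_mul_eq, ← hc, hd]
    rw [hs, ← map_pow, ← scalarUnit_comm (c⁻¹ * d) (Y b)] at h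
    have h5 := mul_eq_right.1 h.symm
    have h6 := congrArg (fun x : (𝕄)ˣ => ((x : 𝕄)) ⟨0, he⟩ ⟨0, he⟩) h5
    refine Units.ext ?_
    simp only [scalarUnit_val, Matrix.smul_apply, Matrix.one_apply_eq, smul_eq_mul, mul_one, Units.val_one] at h6
    exact h6
  have hz1 : z = 1 := orderOf_eq_one_iff.1 (Nat.eq_one_of_dvd_coprimes hr
    (orderOf_dvd_of_pow_eq_one hze) (orderOf_dvd_of_pow_eq_one hzr))
  rw [h₂, hz1, map_one, one_mul]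

variable [Finite G] {N M : Subgroup G} [hN : N.Normal] [hM : M.Normal] {t : ℕ}

local notation "𝕍" => Fin e → Fin t → ℂ

/-- Some element of the section acts by a non-scalar matrix. -/
theorem exists_not_scalar (hNM : N ≤ M) (σ : Representation ℂ N (Fin t → ℂ))
    [σ.IsIrreducible] (φ : Representation ℂ M 𝕍) [φ.IsIrreducible]
    (hdiag : ∀ n : N, φ ⟨n, hNM n.2⟩ = diagEnd (Fin e) (σ n))
    (he : 1 < e)
    (hmin : ∀ M₁ : Subgroup G, M₁.Normal → N ≤ M₁ → M₁ ≤ M → M₁ = N ∨ M₁ = M)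
    (Φ : G → (Module.End ℂ 𝕍)ˣ) (Y : G → (𝕄)ˣ) (hΦ : ∀ g, Intertwines φ g (Φ g))
    (hnorm : ∀ g (Z : 𝕄), (Φ g : Module.End ℂ 𝕍) * rmat Z =
      rmat ((Y g : 𝕄) * Z * (((Y g)⁻¹ : (𝕄)ˣ) : 𝕄)) * (Φ g : Module.End ℂ 𝕍))
    {l m : G} (hm : m ∈ M) (hlm : l * m * l⁻¹ * m⁻¹ ∉ N) :
    ¬ ∃ c : ℂˣ, Y l = scalarUnit 𝕄 c := by
  classical
  rintro ⟨c, hc⟩
  haveI : Nontrivial (Fin t → ℂ) :=
    Module.nontrivial_of_finrank_pos (finrank_pos_of_isIrreducible σ)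
  obtain ⟨u₀, ξ, hξ⟩ := exists_dual_pair (U := Fin t → ℂ)
  have hΦc : ∀ Z : 𝕄, (Φ l : Module.End ℂ 𝕍) * rmat Z = rmat Z * (Φ l : Module.End ℂ 𝕍) := by
    intro Z
    rw [hnorm, hc, ← map_inv, scalarUnit_val, scalarUnit_val, smul_one_mul, smul_mul_assoc,
      mul_smul_comm, mul_one, smul_smul]
    rw [← Units.val_mul, mul_inv_cancel, Units.val_one, one_smul]
  let M₁ : Subgroup G :=
    { carrier := {g | ∃ hg : g ∈ M, ∀ Z : 𝕄, Commute (φ ⟨g, hg⟩) (rmat Z)}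
      one_mem' := ⟨M.one_mem, fun Z => by
        rw [show (⟨1, M.one_mem⟩ : M) = 1 from rfl, map_one]; exact Commute.one_left _⟩
      mul_mem' := fun {a b} ⟨ha, ha'⟩ ⟨hb, hb'⟩ => ⟨M.mul_mem ha hb, fun Z => by
        rw [show (⟨a * b, M.mul_mem ha hb⟩ : M) = ⟨a, ha⟩ * ⟨b, hb⟩ from rfl, map_mul]
        exact (ha' Z).mul_left (hb' Z)⟩
      inv_mem' := fun {a} ⟨ha, ha'⟩ => ⟨M.inv_mem ha, fun Z => by
        have h := (show Commute ((φ.asGroupHom ⟨a, ha⟩ : (Module.End ℂ 𝕍)ˣ) : Module.End ℂ 𝕍) (rmat Z)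
          from ha' Z).units_inv_left
        rw [← map_inv] at h
        exact h⟩ }
  have hNM₁ : N ≤ M₁ := fun n hn => ⟨hNM hn, fun Z => by
    rw [hdiag ⟨n, hn⟩]; exact diagEnd_comp_rmat _ Z⟩
  have hM₁M : M₁ ≤ M := fun g ⟨hg, _⟩ => hg
  have hconj : ∀ g, ∀ x ∈ M, ∀ hx' : g * x * g⁻¹ ∈ M, ∀ hx : x ∈ M,
      φ ⟨g * x * g⁻¹, hx'⟩ = (Φ g : Module.End ℂ 𝕍) * φ ⟨x, hx⟩ * ((Φ g)⁻¹ : (Module.End ℂ 𝕍)ˣ) :=
    fun g x _ hx' hx => by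
      have h : (Φ g : Module.End ℂ 𝕍) * φ ⟨x, hx⟩ = φ ⟨g * x * g⁻¹, hx'⟩ * (Φ g : Module.End ℂ 𝕍) :=
        hΦ g ⟨x, hx⟩
      rw [h]; exact (Units.mul_inv_cancel_right _ _).symm
  have hM₁n : M₁.Normal := ⟨fun x ⟨hx, hx'⟩ g => ⟨hM.conj_mem x hx g, fun Z => by
    rw [hconj g x hx (hM.conj_mem x hx g) hx]
    have h1 : rmat Z = (Φ g : Module.End ℂ 𝕍) * rmat ((((Y g)⁻¹ : (𝕄)ˣ) : 𝕄) * Z * (Y g : 𝕄)) *
        (((Φ g)⁻¹ : (Module.End ℂ 𝕍)ˣ) : Module.End ℂ 𝕍) := by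
      rw [hnorm, mul_assoc (rmat _), Units.mul_inv, mul_one]
      simp [mul_assoc, Units.mul_inv_cancel_left]
    rw [h1]
    have h2 := hx' ((((Y g)⁻¹ : (𝕄)ˣ) : 𝕄) * Z * (Y g : 𝕄))
    change _ * _ = _ * _
    generalize rmat (U := Fin t → ℂ) ((((Y g)⁻¹ : (𝕄)ˣ) : 𝕄) * Z * (Y g : 𝕄)) = b at h2 ⊢
    simp only [mul_assoc, Units.inv_mul_cancel_left]
    rw [← mul_assoc (φ ⟨x, hx⟩), h2.eq, mul_assoc]⟩⟩
  rcases hmin M₁ hM₁n hNM₁ hM₁M with h | h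
  · refine hlm (h ▸ ?_)
    refine ⟨M.mul_mem (hM.conj_mem m hm l) (M.inv_mem hm), fun Z => ?_⟩
    rw [show (⟨l * m * l⁻¹ * m⁻¹, M.mul_mem (hM.conj_mem m hm l) (M.inv_mem hm)⟩ : M) =
      ⟨l * m * l⁻¹, hM.conj_mem m hm l⟩ * ⟨m, hm⟩⁻¹ from rfl, map_mul,
      hconj l m hm (hM.conj_mem m hm l) hm]
    -- the normalising matrix of `m`
    obtain ⟨d, hd⟩ := Intertwines.unique (hΦ m) (intertwines_of_mem φ ⟨m, hm⟩)
    have hval : φ ⟨m, hm⟩ = (d : ℂ) • (Φ m : Module.End ℂ 𝕍) := by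
      have := congrArg Units.val hd
      rw [Units.val_mul, scalarUnit_val, smul_one_mul] at this
      exact this
    have hm1 : ∀ W : 𝕄, φ ⟨m, hm⟩ * rmat W =
        rmat ((Y m : 𝕄) * W * (((Y m)⁻¹ : (𝕄)ˣ) : 𝕄)) * φ ⟨m, hm⟩ := fun W => by
      rw [hval, smul_mul_assoc, mul_smul_comm, hnorm]
    have h1 : φ ⟨m, hm⟩ * φ (⟨m, hm⟩⁻¹ : M) = 1 := by rw [← map_mul, mul_inv_cancel, map_one]
    have h1' : φ (⟨m, hm⟩⁻¹ : M) * φ ⟨m, hm⟩ = 1 := by rw [← map_mul, inv_mul_cancel, map_one]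
    obtain ⟨W, hW⟩ : ∃ W : 𝕄, φ (⟨m, hm⟩⁻¹ : M) * rmat Z = rmat W * φ (⟨m, hm⟩⁻¹ : M) := by
      refine ⟨(((Y m)⁻¹ : (𝕄)ˣ) : 𝕄) * Z * (Y m : 𝕄), ?_⟩
      have := hm1 ((((Y m)⁻¹ : (𝕄)ˣ) : 𝕄) * Z * (Y m : 𝕄))
      rw [← mul_assoc, ← mul_assoc, Units.mul_inv, one_mul, mul_assoc Z, Units.mul_inv, mul_one] at this
      calc φ (⟨m, hm⟩⁻¹ : M) * rmat Z
          = φ (⟨m, hm⟩⁻¹ : M) * (rmat Z * φ ⟨m, hm⟩) * φ (⟨m, hm⟩⁻¹ : M) := by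
            rw [mul_assoc, mul_assoc (rmat Z), h1, mul_one]
        _ = _ := by rw [← this, ← mul_assoc, h1', one_mul]
    have hΦi : ((Φ l)⁻¹ : (Module.End ℂ 𝕍)ˣ).val * rmat W = rmat W * ((Φ l)⁻¹ : (Module.End ℂ 𝕍)ˣ).val :=
      ((show Commute (Φ l : Module.End ℂ 𝕍) (rmat W) from hΦc W).units_inv_left).eq
    have hmW : φ ⟨m, hm⟩ * rmat W = rmat Z * φ ⟨m, hm⟩ := by
      calc φ ⟨m, hm⟩ * rmat W = φ ⟨m, hm⟩ * (rmat W * φ (⟨m, hm⟩⁻¹ : M)) * φ ⟨m, hm⟩ := by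
            rw [mul_assoc, mul_assoc (rmat W), h1', mul_one]
        _ = _ := by rw [← hW, ← mul_assoc, h1, one_mul]
    change _ * _ = _ * _
    rw [mul_assoc, hW, ← mul_assoc, mul_assoc _ _ (rmat W), hΦi, ← mul_assoc, mul_assoc _ _ (rmat W),
      hmW, ← mul_assoc (Φ l : Module.End ℂ 𝕍), hΦc]
    simp [mul_assoc]
  · -- every matrix would be scalar
    have hcm : ∀ (Z : 𝕄) (x : M), φ x * rmat Z = rmat Z * φ x := fun Z x => by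
      have hxM : (x : G) ∈ M₁ := by rw [h]; exact x.2
      obtain ⟨_, hx'⟩ := hxM
      exact hx' Z
    obtain ⟨d, hd⟩ := scalar_of_commute_all φ
      (rmat (Matrix.single (⟨0, by omega⟩ : Fin e) ⟨0, by omega⟩ (1 : ℂ))) (hcm _)
    rw [Module.End.one_eq_id, ← rmat_one, ← rmat_smul] at hd
    have h0 := congrArg (coef u₀ ξ) hd
    rw [coef_rmat hξ, coef_rmat hξ] at h0
    have h00 := congrFun (congrFun h0 ⟨0, by omega⟩) ⟨0, by omega⟩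
    have h11 := congrFun (congrFun h0 ⟨1, he⟩) ⟨1, he⟩
    simp at h00 h11
    rw [← h00] at h11
    exact one_ne_zero h11.symm

end CfsgLib.Char
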