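import Cfsg.Agent.Char.PowTwist
import Cfsg.Agent.Char.Kernel

/-!
# Blichfeldt: the abelian Hall subgroup for the primes above `n + 1`
-/

set_option autoImplicit false
set_option linter.style.haveILetI false
set_option linter.unusedSectionVars false

namespace CfsgLib.Char.BlichfeldtHall

open Finset Representation
open scoped ComplexConjugate

universe u

/-- A `p`-subgroup for `p` above the degree of a faithful character is abelian. -/
theorem abelian_of_lt {G : Type u} [Group G] [Fintype G] {χ : G → ℂ} (hχ : Cfsg.IsCharacter G χ)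
    (hfaith : ∀ g, χ g = χ 1 → g = 1) {n : ℕ} (hn : χ 1 = n) {p : ℕ} [Fact p.Prime] (hp : n < p)
    {P : Subgroup G} (hP : IsPGroup p P) : ∀ x ∈ P, ∀ y ∈ P, x * y = y * x := by
  classical
  haveI := Fintype.ofFinite P
  intro x hx y hy
  have hc : Cfsg.IsCharacter P fun g : P => χ g := IsCharacter.restrict hχ P
  obtain ⟨s, hs, hsum⟩ := IsCharacter.exists_multiset hc
  have hsum' : ∀ g : P, χ g = (s.map fun ψ => ψ g).sum := fun g => by
    have h := congrFun hsum g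
    first
      | exact h.trans (Multiset.sum_map_singleton _ ▸ Pi.multiset_sum_apply g s)
      | exact h.symm.trans (Multiset.sum_map_singleton _ ▸ Pi.multiset_sum_apply g s)
      | exact h.trans (Pi.multiset_sum_apply g s)
      | exact h.symm.trans (Pi.multiset_sum_apply g s)
  have hlin : ∀ ψ ∈ s, ψ 1 = 1 := by
    intro ψ hψ
    obtain ⟨d, hd0, hd⟩ := IsIrrCharacter.exists_degree (hs ψ hψ)
    obtain ⟨i, hi⟩ := hP.exists_card_eq
    have hdvd : d ∣ p ^ i := hi ▸ IsIrrCharacter.degree_dvd_card (hs ψ hψ) hd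
    obtain ⟨j, -, rfl⟩ := (Nat.dvd_prime_pow Fact.out).1 hdvd
    obtain ⟨t, rfl⟩ := Multiset.exists_cons_of_mem hψ
    have h1 := hsum' 1
    rw [Multiset.map_cons, Multiset.sum_cons, Subgroup.coe_one, hn, hd] at h1
    have ht : ∀ u : Multiset (P → ℂ), (∀ φ ∈ u, Cfsg.IsIrrCharacter P φ) →
        ∃ m : ℕ, (u.map fun φ => φ 1).sum = m := by
      intro u
      induction u using Multiset.induction with
      | empty => exact fun _ => ⟨0, by simp⟩
      | cons a u ih =>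
        intro hu
        obtain ⟨m, hm⟩ := ih fun φ hφ => hu φ (Multiset.mem_cons_of_mem hφ)
        obtain ⟨a', -, ha'⟩ := IsIrrCharacter.exists_degree (hu a (Multiset.mem_cons_self a u))
        exact ⟨a' + m, by rw [Multiset.map_cons, Multiset.sum_cons, hm, ha', Nat.cast_add]⟩
    obtain ⟨m, hm⟩ := ht t fun φ hφ => hs φ (Multiset.mem_cons_of_mem hφ)
    rw [hm, ← Nat.cast_add, Nat.cast_inj] at h1
    rcases Nat.eq_zero_or_pos j with rfl | hj
    · rw [hd, pow_zero, Nat.cast_one]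
    · have := Nat.le_self_pow hj.ne' p
      omega
  have h1 : ((⟨x, hx⟩ : P) * ⟨y, hy⟩ * (⟨x, hx⟩ : P)⁻¹ * (⟨y, hy⟩ : P)⁻¹ : P) = 1 := by
    refine Subtype.ext (hfaith _ ?_)
    rw [hsum', show χ 1 = χ ((1 : P) : G) from rfl, hsum' 1]
    refine congrArg Multiset.sum (Multiset.map_congr rfl fun ψ hψ => ?_)
    obtain ⟨lam, rfl⟩ := IsCharacter.exists_hom (IsIrrCharacter.isCharacter (hs ψ hψ)) (hlin ψ hψ)
    simp only [map_mul, map_inv, map_one, mul_comm (lam ⟨x, hx⟩) (lam ⟨y, hy⟩)]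
    simp
  have h2 := congrArg Subtype.val h1
  calc x * y = (x * y * x⁻¹ * y⁻¹) * (y * x) := by group
    _ = y * x := by
      rw [show x * y * x⁻¹ * y⁻¹ = 1 from h2, one_mul]

section twist

variable {G : Type u} [Group G] [Fintype G]

/-- Exponents splitting off the `p`-part. -/
theorem exists_split {p : ℕ} (hp : p.Prime) :
    ∃ e m : ℕ, Nat.card G = p ^ e * m ∧ (p ^ e).Coprime m ∧ ¬ p ∣ m := by
  refine ⟨(Nat.card G).factorization p, Nat.card G / p ^ (Nat.card G).factorization p,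
    (Nat.ordProj_mul_ordCompl_eq_self _ p).symm, ?_, Nat.not_dvd_ordCompl hp Nat.card_pos.ne'⟩
  exact (hp.coprime_iff_not_dvd.2 (Nat.not_dvd_ordCompl hp Nat.card_pos.ne')).pow_left _

theorem apply_eq_one_of_small {p : ℕ} [Fact p.Prime] {n : ℕ} (hn : n + 1 < p) {C : Type u} [Group C]
    [Fintype C] (hC : IsPGroup p C) (hab : ∀ a b : C, a * b = b * a) {φ : C → ℂ}
    (hφ : Cfsg.IsCharacter C φ) (h1 : φ 1 = n)
    (hinv : ∀ i : ℕ, ¬ p ∣ i → ∀ c, φ (c ^ i) = φ c) (c : C) : φ c = n := by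
  classical
  obtain ⟨e, he⟩ := hC.exists_card_eq
  choose! a ha using fun (f : C → ℂ) (hf : f ∈ irrFinset C) =>
    IsCharacter.exists_classInner_eq_natCast hφ (mem_irrFinset.1 hf)
  have hexp : ∀ c, φ c = ∑ f ∈ irrFinset C, (a f : ℂ) * f c := fun c => by
    conv_lhs => rw [eq_sum_irr (IsCharacter.isClassFunction hφ)]
    rw [Finset.sum_apply]
    exact sum_congr rfl fun f hf => by rw [Pi.smul_apply, ha f hf, smul_eq_mul]
  have hlin : ∀ f ∈ irrFinset C, f 1 = 1 := fun f hf =>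
    abelian_iff_degree_one.1 hab f (mem_irrFinset.1 hf)
  have hdeg : ∑ f ∈ irrFinset C, a f = n := by
    have h := hexp 1
    rw [h1, sum_congr rfl fun f hf => by rw [hlin f hf, mul_one], ← Nat.cast_sum, Nat.cast_inj] at h
    exact h.symm
  rw [hexp, ← hdeg, Nat.cast_sum]
  refine sum_congr rfl fun f hf => ?_
  by_cases h0 : a f = 0
  · simp [h0]
  obtain ⟨lam, rfl⟩ := IsCharacter.exists_hom (IsIrrCharacter.isCharacter (mem_irrFinset.1 hf))
    (hlin f hf)
  suffices hl : lam = 1 by simp [hl]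
  by_contra hl
  have hfin : orderOf lam ∣ p ^ e := orderOf_dvd_of_pow_eq_one (MonoidHom.ext fun d => by
    rw [MonoidHom.pow_apply, ← map_pow, ← he, pow_card_eq_one', map_one]; rfl)
  have hp_le : p ≤ orderOf lam := by
    obtain ⟨j, -, hj⟩ := (Nat.dvd_prime_pow Fact.out).1 hfin
    rw [hj]
    exact Nat.le_self_pow (fun h => hl (orderOf_eq_one_iff.1 (by rw [hj, h, pow_zero]))) p
  obtain ⟨T, hT⟩ : ∃ T, (Finset.Icc 1 (p - 1)).image
      (fun i => fun d => ((lam ^ i) d : ℂ)) = T := ⟨_, rfl⟩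
  have hTsub : T ⊆ irrFinset C := fun f hf => by
    rw [← hT] at hf
    obtain ⟨i, -, rfl⟩ := mem_image.1 hf
    exact mem_irrFinset.2 (isIrrCharacter_ofHom _)
  have hTcard : T.card = p - 1 := by
    rw [← hT, card_image_of_injOn, Nat.card_Icc, Nat.add_sub_cancel]
    intro i hi j hj hij
    simp only [coe_Icc, Set.mem_Icc] at hi hj
    exact pow_injOn_Iio_orderOf (x := lam) (show i < orderOf lam by omega)
      (show j < orderOf lam by omega)
      (MonoidHom.ext fun d => Units.ext (congrFun hij d))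
  have hone : ∀ f ∈ T, 1 ≤ a f := fun f hfT => by
    have hmem := hTsub hfT
    rw [← hT] at hfT
    obtain ⟨i, hi, rfl⟩ := mem_image.1 hfT
    rw [mem_Icc] at hi
    have hpi : ¬ p ∣ i := fun h => absurd (Nat.le_of_dvd (by omega) h) (by omega)
    have hic : i.Coprime (Nat.card C) := by
      rw [he]
      exact (((Fact.out : p.Prime).coprime_iff_not_dvd.2 hpi).symm).pow_right e
    have h := PowTwist.classInner_pow hic φ fun d => (lam d : ℂ)
    rw [funext (hinv i hpi), show (fun d => ((lam (d ^ i) : ℂˣ) : ℂ)) =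
      fun d => ((lam ^ i) d : ℂ) from funext fun d => by rw [map_pow]; rfl, ha _ hmem, ha _ hf,
      Nat.cast_inj] at h
    omega
  have : p - 1 ≤ n := by
    rw [← hTcard, ← hdeg, card_eq_sum_ones]
    exact (sum_le_sum hone).trans (sum_le_sum_of_subset hTsub)
  omega

/-- An irreducible character of degree below `p - 1` either is scalar on the `p`-elements or has a
nonzero twisted difference supported on elements with noncentral `p`-part. -/
theorem exists_twist {p : ℕ} [Fact p.Prime] (χ : Cfsg.IrrCharacter G) {n : ℕ}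
    (hn : (χ : G → ℂ) 1 = n) (hnp : n + 1 < p) :
    (∀ x : G, (∃ i : ℕ, x ^ p ^ i = 1) → ‖(χ : G → ℂ) x‖ = n) ∨
      ∃ χ' : Cfsg.IrrCharacter G, χ' ≠ χ ∧ ∀ g, (χ : G → ℂ) g ≠ (χ' : G → ℂ) g →
        ∃ z : G, (∃ i : ℕ, z ^ p ^ i = 1) ∧ z ∈ Subgroup.zpowers g ∧ z ∉ Subgroup.center G := by
  classical
  have hp : p.Prime := Fact.out
  obtain ⟨e, m, hcard, hcop, hpm⟩ := exists_split (G := G) hp
  obtain ⟨d, ρ, hρ, hρχ⟩ := χ.2
  haveI := hρ
  have hdn : d = n := by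
    rw [← hρχ, ρ.char_one, Module.finrank_fin_fun] at hn
    exact_mod_cast hn
  subst hdn
  have hd0 : 0 < d := by
    obtain ⟨k, hk, hk'⟩ := IsIrrCharacter.exists_degree χ.2
    rw [hn, Nat.cast_inj] at hk'
    omega
  have hdp : ¬ p ∣ d := fun h => absurd (Nat.le_of_dvd hd0 h) (by omega)
  obtain ⟨w, hw⟩ : ∃ w : ℕ, d * w ≡ 1 [MOD p ^ e] := by
    rcases Nat.eq_zero_or_pos e with rfl | he
    · exact ⟨0, by simp [Nat.modEq_one]⟩
    · obtain ⟨w, -, hw⟩ := Nat.exists_mul_mod_eq_one_of_coprime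
        (((hp.coprime_iff_not_dvd.2 hdp).symm).pow_right e) (Nat.one_lt_pow he.ne' hp.one_lt)
      exact ⟨w, by rw [Nat.ModEq, hw, Nat.one_mod_eq_one.2 (Nat.one_lt_pow he.ne' hp.one_lt).ne']⟩
  let D : G →* ℂˣ := detHom ρ
  obtain ⟨φ, hφdef⟩ : ∃ φ : G → ℂ, φ = (χ : G → ℂ) * fun g => (((D ^ w)⁻¹) g : ℂ) := ⟨_, rfl⟩
  by_cases hall : ∀ i : ℕ, ¬ p ∣ i → ∀ g : G, g ^ p ^ e = 1 → φ (g ^ i) = φ g
  · left
    rintro x ⟨i, hx⟩
    have hxe : x ^ p ^ e = 1 := by
      rw [← orderOf_dvd_iff_pow_eq_one]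
      obtain ⟨j, -, hj⟩ := (Nat.dvd_prime_pow hp).1 (orderOf_dvd_of_pow_eq_one hx)
      have h2 : p ^ j ∣ p ^ e * m := hcard ▸ hj ▸ orderOf_dvd_natCard x
      rw [hj]
      exact ((hp.coprime_iff_not_dvd.2 hpm).pow_left j).dvd_of_dvd_mul_right h2
    haveI := Fintype.ofFinite (Subgroup.zpowers x)
    have hC : IsPGroup p (Subgroup.zpowers x) := by
      obtain ⟨j, -, hj⟩ := (Nat.dvd_prime_pow hp).1 (orderOf_dvd_of_pow_eq_one hx)
      exact IsPGroup.of_card (by rw [Nat.card_zpowers, hj])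
    have hφc : Cfsg.IsCharacter G φ := hφdef ▸ IsCharacter.mul (IsIrrCharacter.isCharacter χ.2)
      (IsIrrCharacter.isCharacter (isIrrCharacter_ofHom _))
    have h := apply_eq_one_of_small hnp hC
      (fun a b => by
        obtain ⟨a, ha⟩ := a; obtain ⟨b, hb⟩ := b
        obtain ⟨i, rfl⟩ := Subgroup.mem_zpowers_iff.1 ha
        obtain ⟨j, rfl⟩ := Subgroup.mem_zpowers_iff.1 hb
        exact Subtype.ext ((Commute.refl x).zpow_zpow i j).eq)
      (IsCharacter.restrict hφc (Subgroup.zpowers x))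
      (by rw [Subgroup.coe_one, hφdef, Pi.mul_apply, map_one, Units.val_one, mul_one, hn])
      (fun i hi c => by
        rw [Subgroup.coe_pow]
        refine hall i hi c ?_
        obtain ⟨j, hj⟩ := Subgroup.mem_zpowers_iff.1 c.2
        rw [← hj, ← zpow_natCast, ← zpow_mul, mul_comm, zpow_mul, zpow_natCast, hxe, _root_.one_zpow])
      ⟨x, Subgroup.mem_zpowers x⟩
    rw [hφdef, Pi.mul_apply] at h
    have h2 := congrArg (‖·‖) h
    rwa [norm_mul, norm_hom_eq_one, mul_one, Complex.norm_natCast] at h2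
  · right
    push Not at hall
    obtain ⟨i, hi, g₀, hg₀, hne⟩ := hall
    obtain ⟨k, hk1, hk2⟩ := Nat.chineseRemainder hcop i 1
    have hkG : k.Coprime (Nat.card G) := by
      rw [hcard]
      refine Nat.Coprime.mul_right ?_ ?_
      · rw [Nat.coprime_iff_gcd_eq_one, hk1.gcd_eq]
        exact ((hp.coprime_iff_not_dvd.2 hi).symm).pow_right e
      · rw [Nat.coprime_iff_gcd_eq_one, hk2.gcd_eq, Nat.gcd_one_left]
    obtain ⟨L, hL⟩ : ∃ L : G →* ℂˣ, L = D ^ w * (D ^ (k * w))⁻¹ := ⟨_, rfl⟩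
    refine ⟨⟨_, IsIrrCharacter.mul_hom (PowTwist.isIrrCharacter_pow hkG χ.2) L⟩, fun h => hne ?_,
      fun g hg => ?_⟩
    · have h2 := congrFun (congrArg Subtype.val h) g₀
      have hgk : g₀ ^ k = g₀ ^ i := by
        refine pow_eq_pow_iff_modEq.2 (hk1.of_dvd (orderOf_dvd_of_pow_eq_one hg₀))
      simp only [Pi.mul_apply, hgk, hL, MonoidHom.mul_apply, MonoidHom.inv_apply,
        MonoidHom.pow_apply, Units.val_mul, Units.val_inv_eq_inv_val, Units.val_pow_eq_pow_val]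
        at h2
      simp only [hφdef, Pi.mul_apply, MonoidHom.inv_apply, MonoidHom.pow_apply,
        Units.val_inv_eq_inv_val, Units.val_pow_eq_pow_val, map_pow]
      have hD0 : ∀ j : ℕ, ((D g₀ : ℂˣ) : ℂ) ^ j ≠ 0 := fun j => pow_ne_zero _ (Units.ne_zero _)
      have hDk : ((D g₀ : ℂˣ) : ℂ) ^ k = ((D g₀ : ℂˣ) : ℂ) ^ i := by
        rw [← Units.val_pow_eq_pow_val, ← Units.val_pow_eq_pow_val, ← map_pow, ← map_pow, hgk]
      rw [pow_mul, hDk] at h2
      have hiw := hD0 w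
      rw [← h2]
      field_simp
    · by_contra hno
      push Not at hno
      apply hg
      obtain ⟨u, hu1, hu2⟩ := Nat.chineseRemainder hcop 1 0
      obtain ⟨v, hv1, hv2⟩ := Nat.chineseRemainder hcop 0 1
      have hmm : m ∣ u := (Nat.modEq_zero_iff_dvd).1 hu2
      have hpv : p ^ e ∣ v := (Nat.modEq_zero_iff_dvd).1 hv1
      have huv : g ^ (u + v) = g ^ 1 := by
        refine pow_eq_pow_iff_modEq.2 (Nat.ModEq.of_dvd (hcard ▸ orderOf_dvd_natCard g) ?_)
        exact (Nat.modEq_and_modEq_iff_modEq_mul hcop).1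
          ⟨by simpa using hu1.add hv1, by simpa using hu2.add hv2⟩
      have hzp : (g ^ u) ^ p ^ e = 1 := by
        obtain ⟨c, rfl⟩ := hmm
        rw [← pow_mul, show m * c * p ^ e = Nat.card G * c by rw [hcard]; ring, pow_mul,
          pow_card_eq_one', one_pow]
      have hz := hno (g ^ u) ⟨e, hzp⟩ (Subgroup.npow_mem_zpowers g u)
      obtain ⟨ω, hω⟩ : ∃ ω : ℂ, ρ (g ^ u) = ω • (1 : Module.End ℂ (Fin d → ℂ)) :=
        ⟨_, eq_smul_one_of_commute ρ (ρ (g ^ u)) fun y => by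
        rw [← map_mul, ← map_mul, Subgroup.mem_center_iff.1 hz y]⟩
      obtain ⟨z, hzdef⟩ : ∃ z, g ^ u = z := ⟨_, rfl⟩
      obtain ⟨y, hydef⟩ : ∃ y, g ^ v = y := ⟨_, rfl⟩
      rw [hzdef] at hω hzp
      have hzy : g = z * y := by rw [← hzdef, ← hydef, ← pow_add, huv, pow_one]
      have hyk : y ^ k = y := by
        rw [← hydef, ← pow_mul]
        refine pow_eq_pow_iff_modEq.2 (Nat.ModEq.of_dvd (hcard ▸ orderOf_dvd_natCard g) ?_)
        refine (Nat.modEq_and_modEq_iff_modEq_mul hcop).1 ⟨?_, ?_⟩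
        · exact ((Nat.modEq_zero_iff_dvd).2 (hpv.trans (dvd_mul_right v k))).trans
            ((Nat.modEq_zero_iff_dvd).2 hpv).symm
        · have := hk2.mul_left v
          rwa [mul_one] at this
      have hgk : g ^ k = z ^ k * y := by
        rw [hzy, (show Commute z y by rw [← hzdef, ← hydef]; exact Commute.pow_pow_self g u v).mul_pow,
          hyk]
      have hzk : ρ (z ^ k) = (ω ^ k) • (1 : Module.End ℂ (Fin d → ℂ)) := by
        rw [map_pow, hω, smul_pow, one_pow]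
      have hDz : ((D z : ℂˣ) : ℂ) = ω ^ d := by
        rw [detHom_apply, hω, det_smul_one, Module.finrank_fin_fun]
      have hω1 : ω ^ p ^ e = 1 := by
        have h2 : (ω ^ p ^ e) • (1 : Module.End ℂ (Fin d → ℂ)) = 1 := by
          rw [← one_pow (p ^ e), ← smul_pow, ← hω, ← map_pow, hzp, map_one]
          simp
        have h3 := congrArg (LinearMap.trace ℂ (Fin d → ℂ)) h2
        rw [map_smul, LinearMap.trace_one, Module.finrank_fin_fun, smul_eq_mul] at h3
        exact mul_right_cancel₀ (Nat.cast_ne_zero.2 hd0.ne') (h3.trans (one_mul _).symm)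
      have hω0 : ω ≠ 0 := fun h => by
        rw [h, zero_pow (pow_pos hp.pos e).ne'] at hω1
        exact zero_ne_one hω1
      have hpd : ω ^ (d * w) = ω := by
        rw [pow_eq_pow_mod (d * w) hω1, hw, ← pow_eq_pow_mod 1 hω1, pow_one]
      have hDy : ((D y : ℂˣ) : ℂ) ^ k = ((D y : ℂˣ) : ℂ) := by
        rw [← Units.val_pow_eq_pow_val, ← map_pow, hyk]
      have hχg : ∀ (c : ℂ) (a : G), ρ a = c • (1 : Module.End ℂ (Fin d → ℂ)) →
          (χ : G → ℂ) (a * y) = c * (χ : G → ℂ) y := fun c a ha => by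
        simp only [← hρχ, Representation.character, map_mul, ha, smul_mul_assoc, one_mul, map_smul,
          smul_eq_mul]
      simp only [Pi.mul_apply, hL, MonoidHom.mul_apply, MonoidHom.inv_apply, MonoidHom.pow_apply,
        Units.val_mul, Units.val_inv_eq_inv_val, Units.val_pow_eq_pow_val]
      have hDyw : ((D y : ℂˣ) : ℂ) ^ (k * w) = ((D y : ℂˣ) : ℂ) ^ w := by rw [pow_mul, hDy]
      have hωk : ω ^ (d * (k * w)) = ω ^ k := by
        rw [show d * (k * w) = (d * w) * k by ring, pow_mul, hpd]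
      rw [hgk, hχg _ _ hzk, hzy, hχg _ _ hω, map_mul, Units.val_mul, hDz, mul_pow, mul_pow,
        ← pow_mul, ← pow_mul, hpd, hDyw, hωk]
      have hy0 : ((D y : ℂˣ) : ℂ) ≠ 0 := Units.ne_zero _
      field_simp

theorem mem_center_of_scalar {χ : G → ℂ} (hχ : Cfsg.IsCharacter G χ)
    (hfaith : ∀ g, χ g = χ 1 → g = 1) {x y : G}
    (h : ∀ ψ : Cfsg.IrrCharacter G, Cfsg.classInner χ (ψ : G → ℂ) ≠ 0 →
      (ψ : G → ℂ) (x * y * x⁻¹ * y⁻¹) = (ψ : G → ℂ) 1) : x * y = y * x := by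
  classical
  have h1 : x * y * x⁻¹ * y⁻¹ = 1 := hfaith _ (by
    conv_lhs => rw [eq_sum_irr (IsCharacter.isClassFunction hχ)]
    conv_rhs => rw [eq_sum_irr (IsCharacter.isClassFunction hχ)]
    rw [Finset.sum_apply, Finset.sum_apply]
    refine sum_congr rfl fun f hf => ?_
    simp only [Pi.smul_apply, smul_eq_mul]
    by_cases h0 : Cfsg.classInner χ f = 0
    · simp [h0]
    · have h2 : f (x * y * x⁻¹ * y⁻¹) = f 1 := h ⟨f, mem_irrFinset.1 hf⟩ h0
      rw [h2])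
  calc x * y = (x * y * x⁻¹ * y⁻¹) * (y * x) := by group
    _ = y * x := by rw [h1, one_mul]

/-- Noncentral Sylow subgroups for two primes above `n + 1` contain commuting noncentral
elements, up to conjugation. -/
theorem exists_commuting {χ : G → ℂ} (hχ : Cfsg.IsCharacter G χ)
    (hfaith : ∀ g, χ g = χ 1 → g = 1) {n : ℕ} (hn : χ 1 = n) {p q : ℕ} (hp : p.Prime)
    (hq : q.Prime) (hnp : n + 1 < p) (hnq : n + 1 < q) {x y : G} (hx : ∃ i : ℕ, x ^ p ^ i = 1)
    (hy : ∃ i : ℕ, y ^ q ^ i = 1) (hxy : x * y ≠ y * x) :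
    ∃ x' y' : G, (∃ i : ℕ, x' ^ p ^ i = 1) ∧ (∃ i : ℕ, y' ^ q ^ i = 1) ∧
      x' ∉ Subgroup.center G ∧ y' ∉ Subgroup.center G ∧ x' * y' = y' * x' := by
  classical
  haveI := Fact.mk hp
  haveI := Fact.mk hq
  by_contra hno
  push Not at hno
  refine hxy (mem_center_of_scalar hχ hfaith fun ψ hψ => ?_)
  obtain ⟨d, ρ, hρ, hρψ⟩ := ψ.2
  have hd : (ψ : G → ℂ) 1 = d := by rw [← hρψ, ρ.char_one, Module.finrank_fin_fun]
  have hdn : d ≤ n := by
    choose! a ha using fun (f : G → ℂ) (hf : f ∈ irrFinset G) =>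
      IsCharacter.exists_classInner_eq_natCast hχ (mem_irrFinset.1 hf)
    choose! b hb0 hb using fun (f : G → ℂ) (hf : f ∈ irrFinset G) =>
      IsIrrCharacter.exists_degree (mem_irrFinset.1 hf)
    have h := congrFun (eq_sum_irr (IsCharacter.isClassFunction hχ)) 1
    rw [Finset.sum_apply, sum_congr rfl fun f hf => by
      rw [Pi.smul_apply, ha f hf, hb f hf, smul_eq_mul, ← Nat.cast_mul], ← Nat.cast_sum, hn,
      Nat.cast_inj] at h
    have hψmem := mem_irrFinset.2 ψ.2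
    have hbd : b (ψ : G → ℂ) = d := by
      have := hb _ hψmem
      rw [hd, Nat.cast_inj] at this
      exact this.symm
    have hapos : 0 < a (ψ : G → ℂ) := Nat.pos_of_ne_zero fun h0 => hψ (by
      rw [ha _ hψmem, h0, Nat.cast_zero])
    calc d ≤ a (ψ : G → ℂ) * b (ψ : G → ℂ) := hbd ▸ Nat.le_mul_of_pos_left _ hapos
      _ ≤ n := h ▸ single_le_sum (f := fun f => a f * b f) (fun _ _ => Nat.zero_le _) hψmem
  have hscalar : ∀ z : G, ‖(ψ : G → ℂ) z‖ = d → ∀ w : G,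
      (ψ : G → ℂ) (z * w * z⁻¹ * w⁻¹) = (ψ : G → ℂ) 1 ∧
        (ψ : G → ℂ) (w * z * w⁻¹ * z⁻¹) = (ψ : G → ℂ) 1 := by
    intro z hz w
    obtain ⟨c, hc⟩ := (norm_character_eq_iff ρ z).1 (by
      rw [hρψ, hz, Module.finrank_fin_fun])
    have hzw : ∀ w, ρ (z * w) = ρ (w * z) := fun w => by
      rw [map_mul, map_mul, hc]; ext v; simp
    constructor
    · simp only [← hρψ, Representation.character]
      rw [show z * w * z⁻¹ * w⁻¹ = (z * w) * (z⁻¹ * w⁻¹) by group, map_mul, hzw, ← map_mul,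
        show w * z * (z⁻¹ * w⁻¹) = 1 by group]
    · simp only [← hρψ, Representation.character]
      rw [show w * z * w⁻¹ * z⁻¹ = (w * z) * (w⁻¹ * z⁻¹) by group, map_mul, ← hzw, ← map_mul,
        show z * w * (w⁻¹ * z⁻¹) = 1 by group]
  rcases exists_twist (p := p) ψ hd (by omega) with h | ⟨ψp, hp1, hp2⟩
  · exact (hscalar x (h x hx) y).1
  rcases exists_twist (p := q) ψ hd (by omega) with h | ⟨ψq, hq1, hq2⟩
  · exact (hscalar y (h y hy) x).2
  exfalso
  have hzero : Cfsg.classInner ((ψ : G → ℂ) - (ψp : G → ℂ)) ((ψ : G → ℂ) - (ψq : G → ℂ)) = 0 := by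
    rw [classInner_def]
    refine mul_eq_zero_of_right _ (sum_eq_zero fun g _ => ?_)
    by_cases h1 : (ψ : G → ℂ) g = (ψp : G → ℂ) g
    · simp [h1]
    by_cases h2 : (ψ : G → ℂ) g = (ψq : G → ℂ) g
    · simp [h2]
    obtain ⟨z, hz, hzg, hzc⟩ := hp2 g h1
    obtain ⟨z', hz', hzg', hzc'⟩ := hq2 g h2
    obtain ⟨i, rfl⟩ := Subgroup.mem_zpowers_iff.1 hzg
    obtain ⟨j, rfl⟩ := Subgroup.mem_zpowers_iff.1 hzg'
    exact absurd ((Commute.refl g).zpow_zpow i j).eq (hno _ _ hz hz' hzc hzc')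
  rw [classInner_sub_left, classInner_sub_right, classInner_sub_right,
    IsIrrCharacter.classInner_self ψ.2,
    IsIrrCharacter.classInner_of_ne ψ.2 ψq.2 (fun h => hq1 (Subtype.ext h).symm),
    IsIrrCharacter.classInner_of_ne ψp.2 ψ.2 (fun h => hp1 (Subtype.ext h)),
    IsIrrCharacter.classInner_eq ψp.2 ψq.2] at hzero
  split_ifs at hzero <;> norm_num at hzero

end twist

theorem relIndex_map_subtype_eq {G : Type u} [Group G] {K : Subgroup G} (H : Subgroup K) :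
    (H.map K.subtype).relIndex K = H.index :=
  congrArg Subgroup.index (Subgroup.comap_map_eq_self_of_injective K.subtype_injective H)

/-- Blichfeldt's theorem. -/
theorem exists_abelian_hall : ∀ (N : ℕ) {G : Type u} [Group G] [Fintype G], Nat.card G = N →
    ∀ (χ : G → ℂ), Cfsg.IsCharacter G χ → (∀ g, χ g = χ 1 → g = 1) → ∀ n : ℕ, χ 1 = n →
      ∃ A : Subgroup G, (∀ x ∈ A, ∀ y ∈ A, x * y = y * x) ∧
        (∀ q : ℕ, q.Prime → q ∣ Nat.card A → n + 1 < q) ∧
          ∀ q : ℕ, q.Prime → q ∣ A.index → q ≤ n + 1 := by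
  intro N
  induction N using Nat.strong_induction_on with
  | _ N ih =>
  intro G _ _ hcard χ hχ hfaith n hn
  classical
  obtain ⟨S, hS⟩ : ∃ S : Set G, {x | ∃ q, q.Prime ∧ n + 1 < q ∧ ∃ i : ℕ, x ^ q ^ i = 1} = S :=
    ⟨_, rfl⟩
  by_cases hcen : ∀ x ∈ S, x ∈ Subgroup.center G
  · -- the Sylow subgroups for these primes are central
    let T : Subgroup G :=
      { carrier := {g | g ∈ Subgroup.center G ∧ ∀ q : ℕ, q.Prime → q ∣ orderOf g → n + 1 < q}
        one_mem' := ⟨Subgroup.one_mem _, fun q hq h => absurd h (by simp [hq.not_dvd_one])⟩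
        mul_mem' := fun {a b} ha hb => ⟨Subgroup.mul_mem _ ha.1 hb.1, fun q hq h => by
          have h1 := h.trans (Commute.orderOf_mul_dvd_lcm
            (show Commute a b from (Subgroup.mem_center_iff.1 ha.1 b).symm))
          rcases hq.dvd_mul.1 (h1.trans (Nat.lcm_dvd_mul _ _)) with h2 | h2
          · exact ha.2 q hq h2
          · exact hb.2 q hq h2⟩
        inv_mem' := fun {a} ha => ⟨Subgroup.inv_mem _ ha.1, fun q hq h => by
          rw [orderOf_inv] at h; exact ha.2 q hq h⟩ }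
    refine ⟨T, fun x hx y hy => (Subgroup.mem_center_iff.1 hx.1 y).symm, fun q hq h => ?_,
      fun q hq h => ?_⟩
    · haveI := Fact.mk hq
      obtain ⟨g, hg⟩ := exists_prime_orderOf_dvd_card' (G := T) q h
      exact g.2.2 q hq (by rw [Subgroup.orderOf_coe, hg])
    · by_contra hlt
      push Not at hlt
      haveI := Fact.mk hq
      obtain ⟨Q⟩ : Nonempty (Sylow q G) := inferInstance
      refine Q.not_dvd_index (h.trans (Subgroup.index_dvd_of_le fun x hx => ?_))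
      obtain ⟨i, hi⟩ := Q.isPGroup' ⟨x, hx⟩
      have hxi : x ^ q ^ i = 1 := congrArg Subtype.val hi
      refine ⟨hcen x (hS ▸ ⟨q, hq, hlt, i, hxi⟩), fun r hr hd => ?_⟩
      have hrq := hr.dvd_of_dvd_pow (hd.trans (orderOf_dvd_of_pow_eq_one hxi))
      rwa [(Nat.prime_dvd_prime_iff_eq hr hq).1 hrq]
  push Not at hcen
  obtain ⟨x, hxS, hxc⟩ := hcen
  rw [← hS] at hxS
  obtain ⟨p, hp, hnp, i, hxp⟩ := hxS
  haveI := Fact.mk hp
  -- induction in centralizers of noncentral elements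
  have hsub : ∀ a : G, a ∉ Subgroup.center G → ∃ A : Subgroup G,
      A ≤ Subgroup.centralizer ({a} : Set G) ∧ (∀ x ∈ A, ∀ y ∈ A, x * y = y * x) ∧
        (∀ q : ℕ, q.Prime → q ∣ Nat.card A → n + 1 < q) ∧
          ∀ q : ℕ, q.Prime → n + 1 < q → ¬ q ∣ A.relIndex (Subgroup.centralizer ({a} : Set G)) := by
    intro a ha
    obtain ⟨C, hC⟩ : ∃ C, Subgroup.centralizer ({a} : Set G) = C := ⟨_, rfl⟩
    rw [hC]
    haveI := Fintype.ofFinite C
    have hlt : Nat.card C < N := hcard ▸ lt_of_le_of_ne (Subgroup.card_le_card_group C) fun h =>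
      ha (Subgroup.mem_center_iff.2 fun g => Subgroup.mem_centralizer_singleton_iff.1
        (hC ▸ Subgroup.eq_top_of_card_eq C h ▸ Subgroup.mem_top g))
    obtain ⟨A, hA1, hA2, hA3⟩ := ih _ hlt (G := C) rfl (fun x => χ x) (IsCharacter.restrict hχ C)
      (fun g hg => Subtype.ext (hfaith g hg)) n hn
    refine ⟨A.map C.subtype, Subgroup.map_subtype_le A, ?_, fun q hq h => hA2 q hq ?_,
      fun q hq hlt' h => absurd (hA3 q hq ?_) (by omega)⟩
    · rintro _ ⟨u, hu, rfl⟩ _ ⟨v, hv, rfl⟩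
      exact congrArg Subtype.val (hA1 u hu v hv)
    · rwa [Subgroup.card_map_of_injective C.subtype_injective] at h
    · rwa [relIndex_map_subtype_eq] at h
  have hab : ∀ q : ℕ, q.Prime → n + 1 < q → ∀ Q : Sylow q G, ∀ a ∈ (Q : Subgroup G),
      (Q : Subgroup G) ≤ Subgroup.centralizer ({a} : Set G) := by
    intro q hq hlt Q a ha b hb
    haveI := Fact.mk hq
    exact Subgroup.mem_centralizer_singleton_iff.2
      (abelian_of_lt hχ hfaith hn (by omega) Q.isPGroup' b hb a ha)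
  have hindexC : ∀ q : ℕ, q.Prime → n + 1 < q → ∀ a : G, (∃ i : ℕ, a ^ q ^ i = 1) →
      ¬ q ∣ (Subgroup.centralizer ({a} : Set G)).index := by
    intro q hq hlt a ⟨j, hj⟩ h
    haveI := Fact.mk hq
    obtain ⟨b, -, hb⟩ := (Nat.dvd_prime_pow hq).1 (orderOf_dvd_of_pow_eq_one hj)
    obtain ⟨Q, hQ⟩ := (IsPGroup.of_card (n := b) (by rw [Nat.card_zpowers, hb]) :
      IsPGroup q (Subgroup.zpowers a)).exists_le_sylow
    exact Q.not_dvd_index (h.trans (Subgroup.index_dvd_of_le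
      (hab q hq hlt Q a (hQ (Subgroup.mem_zpowers a)))))
  have hfull : ∀ (a : G) (A : Subgroup G), A ≤ Subgroup.centralizer ({a} : Set G) →
      ∀ q : ℕ, q.Prime → ¬ q ∣ A.relIndex (Subgroup.centralizer ({a} : Set G)) →
      ¬ q ∣ (Subgroup.centralizer ({a} : Set G)).index → ¬ q ∣ A.index := by
    intro a A hA q hq h1 h2 h
    rw [← Subgroup.relIndex_mul_index hA] at h
    exact (hq.dvd_mul.1 h).elim h1 h2
  have hconj_mem : ∀ (a : G) (A : Subgroup G) (q : ℕ), q.Prime → n + 1 < q →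
      A ≤ Subgroup.centralizer ({a} : Set G) →
      ¬ q ∣ A.relIndex (Subgroup.centralizer ({a} : Set G)) →
      ∀ b ∈ Subgroup.centralizer ({a} : Set G), (∃ i : ℕ, b ^ q ^ i = 1) →
      ∃ g ∈ Subgroup.centralizer ({a} : Set G), g⁻¹ * b * g ∈ A := by
    intro a A q hq hlt hA hdvd b hb ⟨j, hj⟩
    haveI := Fact.mk hq
    obtain ⟨C, hC⟩ : ∃ C, Subgroup.centralizer ({a} : Set G) = C := ⟨_, rfl⟩
    rw [hC] at hA hdvd hb ⊢
    obtain ⟨R⟩ : Nonempty (Sylow q (A.subgroupOf C)) := inferInstance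
    have hR : ¬ q ∣ ((R : Subgroup (A.subgroupOf C)).map (A.subgroupOf C).subtype).index := by
      rw [← Subgroup.relIndex_mul_index (Subgroup.map_subtype_le (R : Subgroup (A.subgroupOf C)))]
      intro h
      rcases hq.dvd_mul.1 h with h | h
      · apply R.not_dvd_index
        rwa [relIndex_map_subtype_eq] at h
      · exact hdvd h
    let R' : Sylow q C := (R.isPGroup'.map (A.subgroupOf C).subtype).toSylow hR
    obtain ⟨c, -, hc⟩ := (Nat.dvd_prime_pow hq).1 (orderOf_dvd_of_pow_eq_one hj)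
    have hz : IsPGroup q (Subgroup.zpowers (⟨b, hb⟩ : C)) :=
      IsPGroup.of_card (n := c) (by
        rw [Nat.card_zpowers, ← orderOf_injective C.subtype C.subtype_injective]
        exact hc)
    obtain ⟨Q, hQ⟩ := hz.exists_le_sylow
    obtain ⟨g, hg⟩ := MulAction.exists_smul_eq C R' Q
    have h1 := hQ (Subgroup.mem_zpowers (⟨b, hb⟩ : C))
    rw [← hg, Sylow.coe_subgroup_smul, Subgroup.mem_pointwise_smul_iff_inv_smul_mem] at h1
    have h2 : ((MulAut.conj g)⁻¹ • (⟨b, hb⟩ : C)) ∈ A.subgroupOf C :=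
      Subgroup.map_subtype_le _ (by rwa [IsPGroup.toSylow_coe] at h1)
    exact ⟨g, g.2, Subgroup.mem_subgroupOf.1 h2⟩
  obtain ⟨A, hAC, hA1, hA2, hA3⟩ := hsub x hxc
  refine ⟨A, hA1, hA2, fun q hq h => ?_⟩
  by_contra hlt
  push Not at hlt
  haveI := Fact.mk hq
  refine hfull x A hAC q hq (hA3 q hq hlt) ?_ h
  -- `C(x)` has index prime to `q`
  by_cases hQc : ∀ y : G, (∃ i : ℕ, y ^ q ^ i = 1) → x * y = y * x
  · intro h'
    obtain ⟨Q⟩ : Nonempty (Sylow q G) := inferInstance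
    refine Q.not_dvd_index (h'.trans (Subgroup.index_dvd_of_le fun y hy => ?_))
    obtain ⟨j, hj⟩ := Q.isPGroup' ⟨y, hy⟩
    exact Subgroup.mem_centralizer_singleton_iff.2 (hQc y ⟨j, congrArg Subtype.val hj⟩).symm
  push Not at hQc
  obtain ⟨y, hy, hxy⟩ := hQc
  obtain ⟨x', y', hx', hy', hx'c, hy'c, hcomm⟩ :=
    exists_commuting hχ hfaith hn hp hq hnp hlt ⟨i, hxp⟩ hy hxy
  obtain ⟨By, hBy, hBy1, -, hBy3⟩ := hsub y' hy'c
  obtain ⟨g, hg, hgB⟩ := hconj_mem y' By p hp hnp hBy (hBy3 p hp hnp) x'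
    (Subgroup.mem_centralizer_singleton_iff.2 hcomm) hx'
  obtain ⟨x1, hx1⟩ : ∃ x1, g⁻¹ * x' * g = x1 := ⟨_, rfl⟩
  rw [hx1] at hgB
  have hx1p : ∃ i : ℕ, x1 ^ p ^ i = 1 := by
    obtain ⟨j, hj⟩ := hx'
    exact ⟨j, by rw [← hx1, show g⁻¹ * x' * g = g⁻¹ * x' * g⁻¹⁻¹ by group, conj_pow, hj,
      mul_one, mul_inv_cancel]⟩
  have hx1c : x1 ∉ Subgroup.center G := fun h1 => hx'c (by
    have h2 : x' = x1 := by
      calc x' = g * x1 * g⁻¹ := by rw [← hx1]; group
        _ = x1 := by rw [Subgroup.mem_center_iff.1 h1 g, mul_inv_cancel_right]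
    rwa [h2])
  have hq1 : ¬ q ∣ (Subgroup.centralizer ({x1} : Set G)).index := fun h1 =>
    hfull y' By hBy q hq (hBy3 q hq hlt) (hindexC q hq hlt y' hy')
      (h1.trans (Subgroup.index_dvd_of_le fun b hb =>
        Subgroup.mem_centralizer_singleton_iff.2 (hBy1 b hb x1 hgB)))
  -- move to a conjugate of `x` commuting with `x1`
  obtain ⟨c1, -, hc1⟩ := (Nat.dvd_prime_pow hp).1
    (orderOf_dvd_of_pow_eq_one hxp)
  obtain ⟨P, hP⟩ := (IsPGroup.of_card (n := c1) (by rw [Nat.card_zpowers, hc1]) :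
    IsPGroup p (Subgroup.zpowers x)).exists_le_sylow
  obtain ⟨j1, hj1⟩ := hx1p
  obtain ⟨c2, -, hc2⟩ := (Nat.dvd_prime_pow hp).1 (orderOf_dvd_of_pow_eq_one hj1)
  obtain ⟨P1, hP1⟩ := (IsPGroup.of_card (n := c2) (by rw [Nat.card_zpowers, hc2]) :
    IsPGroup p (Subgroup.zpowers x1)).exists_le_sylow
  obtain ⟨c, hc⟩ := MulAction.exists_smul_eq G P P1
  obtain ⟨x2, hx2⟩ : ∃ x2, c * x * c⁻¹ = x2 := ⟨_, rfl⟩
  have hx2P : x2 ∈ (P1 : Subgroup G) := by
    rw [← hx2, ← hc, Sylow.coe_subgroup_smul]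
    exact Subgroup.smul_mem_pointwise_smul x (MulAut.conj c) _ (hP (Subgroup.mem_zpowers x))
  obtain ⟨B1, hB1, hB11, -, hB13⟩ := hsub x1 hx1c
  have hx2C : x2 ∈ Subgroup.centralizer ({x1} : Set G) :=
    hab p hp hnp P1 x1 (hP1 (Subgroup.mem_zpowers x1)) hx2P
  obtain ⟨g2, -, hg2⟩ := hconj_mem x1 B1 p hp hnp hB1 (hB13 p hp hnp) x2 hx2C
    ⟨i, by rw [← hx2, conj_pow, hxp, mul_one, mul_inv_cancel]⟩
  intro h1
  refine hfull x1 B1 hB1 q hq (hB13 q hq hlt) hq1
    ((?_ : q ∣ (Subgroup.centralizer ({g2⁻¹ * x2 * g2} : Set G)).index).trans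
      (Subgroup.index_dvd_of_le fun b hb =>
        Subgroup.mem_centralizer_singleton_iff.2 (hB11 b hb _ hg2)))
  have hconj : Subgroup.centralizer ({g2⁻¹ * x2 * g2} : Set G) =
      (Subgroup.centralizer ({x} : Set G)).map (MulAut.conj (g2⁻¹ * c)).toMonoidHom := by
    ext b
    rw [Subgroup.mem_map_equiv, Subgroup.mem_centralizer_singleton_iff,
      Subgroup.mem_centralizer_singleton_iff, MulAut.conj_symm_apply, ← hx2]
    constructor
    · intro hb
      calc (g2⁻¹ * c)⁻¹ * b * (g2⁻¹ * c) * x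
          = (g2⁻¹ * c)⁻¹ * (b * (g2⁻¹ * (c * x * c⁻¹) * g2)) * (g2⁻¹ * c) := by group
        _ = (g2⁻¹ * c)⁻¹ * ((g2⁻¹ * (c * x * c⁻¹) * g2) * b) * (g2⁻¹ * c) := by rw [hb]
        _ = x * ((g2⁻¹ * c)⁻¹ * b * (g2⁻¹ * c)) := by group
    · intro hb
      calc b * (g2⁻¹ * (c * x * c⁻¹) * g2)
          = (g2⁻¹ * c) * (((g2⁻¹ * c)⁻¹ * b * (g2⁻¹ * c)) * x) * (g2⁻¹ * c)⁻¹ := by group
        _ = (g2⁻¹ * c) * (x * ((g2⁻¹ * c)⁻¹ * b * (g2⁻¹ * c))) * (g2⁻¹ * c)⁻¹ := by rw [hb]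
        _ = g2⁻¹ * (c * x * c⁻¹) * g2 * b := by group
  rw [hconj]
  rw [Subgroup.index_map_of_bijective (f := (MulAut.conj (g2⁻¹ * c)).toMonoidHom)
    (MulAut.conj (g2⁻¹ * c)).bijective]
  exact h1

end CfsgLib.Char.BlichfeldtHall
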