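import Cfsg.Agent.Char.PowPart
import Mathlib.GroupTheory.Complement
import Mathlib.Dynamics.PeriodicPts.Defs

/-!
# The Brauer–Suzuki transfer theorem
-/

namespace CfsgLib.Char

open scoped ComplexConjugate

universe u

variable {G : Type u} [Group G] [Finite G] {H : Subgroup G}

section

variable (helem : ∀ (E : Subgroup G) (p : ℕ), p.Prime → Cfsg.IsElementary p E →
  Nat.card E ∣ Nat.card H → ∃ g : G, E.map (MulAut.conj g).toMonoidHom ≤ H)
include helem

theorem exists_conj_mem_of_pow {y : G} (hy : y ^ Nat.card H = 1) : ∃ g : G, g * y * g⁻¹ ∈ H := by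
  obtain ⟨p, hp, hpp⟩ := Nat.exists_infinite_primes (orderOf y + 1)
  have hE : Cfsg.IsElementary p (Subgroup.zpowers y) := by
    refine ⟨⟨y, Subgroup.mem_zpowers y⟩, Subgroup.mem_center_iff.2 fun g => mul_comm' g _, ?_, 0, ?_⟩
    · rw [Subgroup.orderOf_mk]
      exact (hpp.coprime_iff_not_dvd.2 fun h => by
        have := Nat.le_of_dvd (orderOf_pos y) h; omega).symm
    · rw [pow_zero, Subgroup.index_eq_one, eq_top_iff]
      rintro ⟨z, hz⟩ -
      obtain ⟨i, rfl⟩ := Subgroup.mem_zpowers_iff.1 hz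
      exact Subgroup.mem_zpowers_iff.2 ⟨i, Subtype.ext (by simp)⟩
  obtain ⟨g, hg⟩ := helem _ p hpp hE (by
    rw [Nat.card_zpowers]; exact orderOf_dvd_of_pow_eq_one hy)
  exact ⟨g, hg ⟨y, Subgroup.mem_zpowers y, rfl⟩⟩

theorem relIndex_centralizer_coprime (hHall : Nat.Coprime (Nat.card H) H.index)
    (hfus : ∀ x ∈ H, ∀ y ∈ H, IsConj x y → ∃ h ∈ H, h * x * h⁻¹ = y) {h : G} (hh : h ∈ H) :
    Nat.Coprime (H.relIndex (Subgroup.centralizer ({h} : Set G))) (Nat.card H) := by
  set C := Subgroup.centralizer ({h} : Set G) with hC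
  rw [Nat.coprime_iff_gcd_eq_one]
  by_contra hne
  obtain ⟨q, hq, hqd⟩ := Nat.exists_prime_and_dvd hne
  have hqm : q ∣ Nat.card H := hqd.trans (Nat.gcd_dvd_right _ _)
  have : Fact q.Prime := ⟨hq⟩
  obtain ⟨S⟩ : Nonempty (Sylow q C) := inferInstance
  obtain ⟨e, he⟩ := IsPGroup.iff_card.1 S.isPGroup'
  set Q := (S : Subgroup C).map C.subtype with hQ
  have hQC : Q ≤ C := Subgroup.map_subtype_le _
  have hQcard : Nat.card Q = q ^ e :=
    (Subgroup.card_map_of_injective C.subtype_injective).trans he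
  have ho : orderOf h ≠ 0 := (orderOf_pos h).ne'
  have hov : q ^ (orderOf h).factorization q ∣ orderOf h := Nat.ordProj_dvd _ q
  set v := (orderOf h).factorization q with hv
  set E := Q ⊔ Subgroup.zpowers h with hE
  have hcomm : ∀ x ∈ E, h * x = x * h := by
    have : E ≤ C := sup_le hQC (Subgroup.zpowers_le.2
      (Subgroup.mem_centralizer_singleton_iff.2 rfl))
    exact fun x hx => (Subgroup.mem_centralizer_singleton_iff.1 (this hx)).symm
  have hn : Q ≤ Subgroup.normalizer (Subgroup.zpowers h : Set G) := by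
    refine le_trans ?_ (Subgroup.centralizer_le_normalizer _)
    intro x hx
    rw [Subgroup.mem_centralizer_iff]
    rintro z hz
    obtain ⟨i, rfl⟩ := Subgroup.mem_zpowers_iff.1 hz
    exact (Commute.zpow_left (hcomm x (le_sup_left (b := Subgroup.zpowers h) hx)) i).eq
  have hEdvd : Nat.card E ∣ q ^ e * orderOf h := ⟨_, by
    rw [← hQcard, ← Nat.card_zpowers, ← CfsgLib.Solvable.card_sup_mul_card_inf hn]⟩
  have hEm : Nat.card E ∣ Nat.card H := by
    refine (Nat.Coprime.dvd_mul_right ?_).1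
      ((Subgroup.card_subgroup_dvd_card E).trans H.card_mul_index.symm.dvd)
    refine Nat.Coprime.coprime_dvd_left hEdvd (Nat.Coprime.mul_left ?_ ?_)
    · exact Nat.Coprime.pow_left _ (hHall.coprime_dvd_left hqm)
    · exact hHall.coprime_dvd_left (H.orderOf_dvd_natCard hh)
  have hEel : Cfsg.IsElementary q E := by
    have hhE : h ∈ E := le_sup_right (a := Q) (Subgroup.mem_zpowers h)
    set y : E := ⟨h, hhE⟩ ^ q ^ v with hy
    have hoy : orderOf y = orderOf h / q ^ v := by
      rw [hy, orderOf_pow_of_dvd (pow_ne_zero _ hq.ne_zero), Subgroup.orderOf_mk]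
      rw [Subgroup.orderOf_mk]; exact hov
    have hdvd : (Subgroup.zpowers y).index ∣ q ^ (e + v) := by
      refine (Nat.mul_dvd_mul_iff_left (Nat.card_pos (α := Subgroup.zpowers y))).1 ?_
      rw [Subgroup.card_mul_index, Nat.card_zpowers, hoy, pow_add, mul_comm (q ^ e),
        ← mul_assoc, Nat.div_mul_cancel hov, mul_comm]
      exact hEdvd
    obtain ⟨k, -, hk⟩ := (Nat.dvd_prime_pow hq).1 hdvd
    refine ⟨y, Subgroup.pow_mem _ ?_ _, ?_, k, hk⟩
    · exact Subgroup.mem_center_iff.2 fun g => Subtype.ext (hcomm g g.2).symm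
    · rw [hoy]
      exact (hq.coprime_iff_not_dvd.2 (Nat.not_dvd_ordCompl hq ho)).symm
  obtain ⟨g, hg⟩ := helem E q hq hEel hEm
  have hgh : g * h * g⁻¹ ∈ H :=
    hg ⟨h, le_sup_right (a := Q) (Subgroup.mem_zpowers h), rfl⟩
  obtain ⟨u, hu, hug⟩ := hfus _ hgh h hh (isConj_iff.2 ⟨g⁻¹, by group⟩)
  have hle : Q.map (MulAut.conj (u * g)).toMonoidHom ≤ H ⊓ C := by
    rintro _ ⟨x, hx, rfl⟩
    have hxE : x ∈ E := le_sup_left (b := Subgroup.zpowers h) hx
    refine ⟨?_, Subgroup.mem_centralizer_singleton_iff.2 ?_⟩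
    · have h1 : g * x * g⁻¹ ∈ H := hg ⟨x, hxE, rfl⟩
      have h2 := H.mul_mem (H.mul_mem hu h1) (H.inv_mem hu)
      simpa [mul_assoc] using h2
    · have hw : (MulAut.conj (u * g)).toMonoidHom h = h := by
        conv_rhs => rw [← hug]
        simp [mul_assoc]
      conv_lhs => rw [← hw, ← map_mul, ← hcomm x hxE, map_mul, hw]
  have hQd : q ^ e ∣ Nat.card (H.subgroupOf C) := by
    have e1 : Nat.card (H.subgroupOf C) = Nat.card ↥(H ⊓ C) := by
      rw [← Subgroup.inf_subgroupOf_right,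
        Nat.card_congr (Subgroup.subgroupOfEquivOfLe inf_le_right).toEquiv]
    rw [e1, ← hQcard, ← Subgroup.card_map_of_injective (K := Q)
      (f := (MulAut.conj (u * g)).toMonoidHom) (MulAut.conj (u * g)).injective]
    exact Subgroup.card_dvd_of_le hle
  obtain ⟨t, ht⟩ := hQd
  obtain ⟨s, hs⟩ : q ∣ H.relIndex C := hqd.trans (Nat.gcd_dvd_left _ _)
  have hCard : Nat.card C = q ^ (e + 1) * (t * s) := by
    rw [← Subgroup.card_mul_index (H.subgroupOf C), ht,
      show (H.subgroupOf C).index = H.relIndex C from rfl, hs]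
    ring
  apply S.not_dvd_index
  have h2 := (S : Subgroup C).card_mul_index
  rw [he, hCard, pow_succ, mul_assoc] at h2
  exact ⟨t * s, Nat.eq_of_mul_eq_mul_left (pow_pos hq.pos e) h2⟩

end

/-- The Brauer–Suzuki transfer theorem. -/
theorem exists_normal_complement_of_fusion (hHall : Nat.Coprime (Nat.card H) H.index)
    (hfus : ∀ x ∈ H, ∀ y ∈ H, IsConj x y → ∃ h ∈ H, h * x * h⁻¹ = y)
    (helem : ∀ (E : Subgroup G) (p : ℕ), p.Prime → Cfsg.IsElementary p E →
      Nat.card E ∣ Nat.card H → ∃ g : G, E.map (MulAut.conj g).toMonoidHom ≤ H) :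
    ∃ K : Subgroup G, K.Normal ∧ K ⊔ H = ⊤ ∧ K ⊓ H = ⊥ := by
  classical
  have := Fintype.ofFinite G
  set m := Nat.card H with hmdef
  set n := H.index with hndef
  have hmn : Nat.card G = m * n := H.card_mul_index.symm
  have hm0 : m ≠ 0 := Nat.card_pos.ne'
  have hn0 : n ≠ 0 := H.index_ne_zero_of_finite
  obtain ⟨j, hj, hj1, hj0⟩ := exists_exp hHall hm0 hn0
  have hHpow : ∀ h ∈ H, h ^ m = 1 := fun h hh =>
    orderOf_dvd_iff_pow_eq_one.1 (H.orderOf_dvd_natCard hh)
  have hHj : ∀ h ∈ H, h ^ j = h := fun h hh => pow_part_eq_self hj1 hj0 (hHpow h hh)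
  have hex : ∀ x : G, ∃ g : G, g * x ^ j * g⁻¹ ∈ H := fun x =>
    exists_conj_mem_of_pow helem (pow_part_pow hj1 hj0 hmn.dvd x)
  choose gx hgx using hex
  let hx : G → H := fun x => ⟨gx x * x ^ j * (gx x)⁻¹, hgx x⟩
  have hwd : ∀ (φ : H → ℂ), Cfsg.IsClassFunction H φ → ∀ (x : G) (h : H),
      IsConj (x ^ j) (h : G) → φ (hx x) = φ h := by
    intro φ hφ x h hc
    obtain ⟨u, hu, hux⟩ := hfus _ (hgx x) h h.2
      ((isConj_iff.2 ⟨(gx x)⁻¹, by group⟩ : IsConj (gx x * x ^ j * (gx x)⁻¹) (x ^ j)).trans hc)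
    rw [← hφ (hx x) ⟨u, hu⟩]
    congr 1
    exact Subtype.ext hux
  have hcl : ∀ (φ : H → ℂ), Cfsg.IsClassFunction H φ →
      Cfsg.IsClassFunction G (fun x => φ (hx x)) := by
    intro φ hφ x g
    refine hwd φ hφ _ (hx x) (isConj_iff.2 ⟨gx x * g⁻¹, ?_⟩)
    rw [conj_pow]
    simp only [hx]
    group
  have hgen : ∀ θ : H → ℂ, Cfsg.IsCharacter H θ →
      Cfsg.IsGeneralizedCharacter G (fun x => θ (hx x)) := by
    intro θ hθ
    refine isGeneralized_of_restrict_elementary
      (hcl θ (IsCharacter.isClassFunction hθ)) fun E p hp hE => ?_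
    have hEd : Nat.card E ∣ m * n := hmn ▸ Subgroup.card_subgroup_dvd_card E
    let φ : E →* E := MonoidHom.mk' (fun e => e ^ j) fun a b =>
      pow_part_mul hj1 hj0 hp hE hEd hHall hj a b
    let R := φ.range.map E.subtype
    have hRel : Cfsg.IsElementary p R := isElementary_of_mulEquiv
      (φ.range.equivMapOfInjective E.subtype E.subtype_injective)
      (IsElementary.subgroup hp hE _)
    have hR : Nat.card R ∣ m := by
      refine (Nat.Coprime.dvd_mul_right ?_).1
        ((Subgroup.card_subgroup_dvd_card R).trans hmn.dvd)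
      rw [Nat.coprime_iff_gcd_eq_one]
      by_contra h
      obtain ⟨q, hq, hqd⟩ := Nat.exists_prime_and_dvd h
      have : Fact q.Prime := ⟨hq⟩
      obtain ⟨r, hr⟩ := exists_prime_orderOf_dvd_card' q (hqd.trans (Nat.gcd_dvd_left _ _))
      obtain ⟨r', ⟨a, ha⟩, hr'⟩ := r.2
      have hrm : (r : G) ^ m = 1 := by
        rw [← hr', ← ha, ← map_pow, show φ a ^ m = 1 from pow_part_pow hj1 hj0 hEd a, map_one]
      have : q ∣ m := by
        rw [← hr, ← Subgroup.orderOf_coe]; exact orderOf_dvd_of_pow_eq_one hrm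
      exact hq.not_dvd_one (hHall ▸ Nat.dvd_gcd this (hqd.trans (Nat.gcd_dvd_right _ _)))
    obtain ⟨g, hg⟩ := helem R p hp hRel hR
    have hmem : ∀ e : E, g * (e : G) ^ j * g⁻¹ ∈ H := fun e =>
      hg ⟨(e : G) ^ j, ⟨φ e, ⟨e, rfl⟩, by simp [φ]⟩, rfl⟩
    let ψ : E →* H := MonoidHom.mk' (fun e => ⟨g * (e : G) ^ j * g⁻¹, hmem e⟩) fun a b =>
      Subtype.ext (by
        have h1 : ((a * b) ^ j : E) = a ^ j * b ^ j := pow_part_mul hj1 hj0 hp hE hEd hHall hj a b
        have h2 : ((a : G) * b) ^ j = (a : G) ^ j * (b : G) ^ j := by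
          simpa using congrArg Subtype.val h1
        simp [h2, mul_assoc])
    convert IsCharacter.isGeneralized (IsCharacter.comp hθ ψ) using 1
    funext e
    exact hwd θ (IsCharacter.isClassFunction hθ) _ _ (isConj_iff.2 ⟨g, rfl⟩)
  -- the size of a section
  let N : G → ℕ := fun y => Nat.card {x : G // x ^ j = y}
  let c : G → ℕ := fun y => H.relIndex (Subgroup.centralizer ({y} : Set G))
  have hc0 : ∀ y, c y ≠ 0 := fun y => (H.subgroupOf _).index_ne_zero_of_finite
  have hNc : ∀ h ∈ H, c h ∣ N h := by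
    intro h hh
    set C := Subgroup.centralizer ({h} : Set G) with hC
    have hcard : Nat.card C = Nat.card (H.subgroupOf C) * c h :=
      (H.subgroupOf C).card_mul_index.symm
    have hcop := relIndex_centralizer_coprime helem hHall hfus hh
    have hHC : Nat.card (H.subgroupOf C) ∣ m := by
      rw [hmdef, ← Subgroup.inf_subgroupOf_right,
        Nat.card_congr (Subgroup.subgroupOfEquivOfLe inf_le_right).toEquiv]
      exact Subgroup.card_dvd_of_le inf_le_left
    have hcn : c h ∣ n := (Nat.Coprime.dvd_mul_left hcop).1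
      ((Dvd.intro_left _ hcard.symm).trans (hmn ▸ Subgroup.card_subgroup_dvd_card C))
    refine (dvd_card_pow_eq_one (G := C) hcard
      ((hcop.coprime_dvd_right hHC).symm)).trans (dvd_of_eq ?_)
    have hcomm : ∀ x : G, x ^ j = h → x ∈ C := fun x hx => by
      rw [hC, Subgroup.mem_centralizer_singleton_iff, ← hx]
      exact (Commute.self_pow x j).eq
    have hiff : ∀ y : C, y ^ c h = 1 ↔ ((y : G) * h) ^ j = h := by
      intro y
      have hy : Commute (y : G) h := Subgroup.mem_centralizer_singleton_iff.1 y.2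
      rw [hy.mul_pow, hHj h hh, mul_eq_right]
      constructor
      · intro hyc
        obtain ⟨t, ht⟩ := hcn
        refine pow_part_eq_one hj1 hj0 ?_
        rw [ht, pow_mul, show ((y : G)) ^ c h = 1 from congrArg Subtype.val hyc, one_pow]
      · intro hyj
        have hyn := (pow_part_eq_one_iff hj1 hj0 hmn.dvd hHall (y : G)).1 hyj
        apply Subtype.ext
        refine orderOf_dvd_iff_pow_eq_one.1 ?_
        refine (Nat.Coprime.dvd_mul_left (m := Nat.card (H.subgroupOf C)) ?_).1 ?_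
        · exact (hHall.coprime_dvd_left hHC).symm.coprime_dvd_left
            (orderOf_dvd_of_pow_eq_one hyn)
        · rw [← hcard]
          exact C.orderOf_dvd_natCard y.2
    refine Nat.card_congr
      { toFun := fun y => ⟨(y.1 : G) * h, (hiff y.1).1 y.2⟩
        invFun := fun x => ⟨⟨x.1 * h⁻¹, C.mul_mem (hcomm _ x.2) (C.inv_mem
          (Subgroup.mem_centralizer_singleton_iff.2 rfl))⟩, (hiff _).2 (by
            simp only [inv_mul_cancel_right]; exact x.2)⟩
        left_inv := fun y => by simp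
        right_inv := fun x => by simp }
  have hT : ∀ (y : G), ∀ h ∈ H, IsConj y h →
      Nat.card {g : G // g * y * g⁻¹ ∈ H} = m * c h := by
    intro y h hh hc
    obtain ⟨w, hw⟩ := isConj_iff.1 hc
    set C := Subgroup.centralizer ({h} : Set G) with hC
    have hset : {g : G | g * h * g⁻¹ ∈ H} =
        (fun g : G => ((g⁻¹ : G) : G ⧸ H)) ⁻¹' MulAction.orbit C ((1 : G) : G ⧸ H) := by
      ext g
      simp only [Set.mem_ofPred_eq, Set.mem_preimage, MulAction.mem_orbit_iff]
      constructor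
      · intro hg
        obtain ⟨u, hu, hug⟩ := hfus _ hg h hh (isConj_iff.2 ⟨g⁻¹, by group⟩)
        have hug' : u * g * h = h * (u * g) := by
          conv_rhs => rw [← hug]
          group
        refine ⟨⟨(u * g)⁻¹, C.inv_mem (Subgroup.mem_centralizer_singleton_iff.2 hug')⟩, ?_⟩
        change (((u * g)⁻¹ * 1 : G) : G ⧸ H) = ((g⁻¹ : G) : G ⧸ H)
        rw [QuotientGroup.eq]
        simpa [mul_assoc] using hu
      · rintro ⟨⟨v, hv⟩, hvg⟩
        change ((v * 1 : G) : G ⧸ H) = ((g⁻¹ : G) : G ⧸ H) at hvg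
        rw [QuotientGroup.eq, mul_one] at hvg
        have hv' : v * h = h * v := Subgroup.mem_centralizer_singleton_iff.1 hv
        have h2 := H.mul_mem (H.mul_mem (H.inv_mem hvg) hh) hvg
        have e : (v⁻¹ * g⁻¹)⁻¹ * h * (v⁻¹ * g⁻¹) = g * h * g⁻¹ := by
          calc (v⁻¹ * g⁻¹)⁻¹ * h * (v⁻¹ * g⁻¹) = g * (v * h) * v⁻¹ * g⁻¹ := by group
            _ = g * h * g⁻¹ := by rw [hv']; group
        rwa [e] at h2
    have h1 : Nat.card {g : G // g * y * g⁻¹ ∈ H} = Nat.card {g : G // g * h * g⁻¹ ∈ H} :=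
      Nat.card_congr ((Equiv.mulRight w⁻¹).subtypeEquiv fun g => by
        simp [← hw, mul_assoc])
    have h2 : Nat.card {g : G // g * h * g⁻¹ ∈ H} =
        Nat.card ↥(QuotientGroup.mk ⁻¹' MulAction.orbit C ((1 : G) : G ⧸ H) : Set G) :=
      Nat.card_congr ((Equiv.inv G).subtypeEquiv fun g => by
        change g ∈ {g : G | g * h * g⁻¹ ∈ H} ↔ _
        rw [hset]
        rfl)
    rw [h1, h2, Nat.card_congr (QuotientGroup.preimageMkEquivSubgroupProdSet H _), Nat.card_prod,
      ← hmdef]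
    congr 1
    rw [Nat.card_coe_set_eq, ← MulAction.index_stabilizer]
    change _ = (H.subgroupOf C).index
    congr 1
    ext v
    simp only [MulAction.mem_stabilizer_iff, Subgroup.mem_subgroupOf]
    change ((((v : G) * 1 : G)) : G ⧸ H) = ((1 : G) : G ⧸ H) ↔ _
    rw [QuotientGroup.eq]
    simp
  let k : H → ℕ := fun h => N h / c h
  have hkc : ∀ h : H, N h = c h * k h := fun h => (Nat.mul_div_cancel' (hNc h h.2)).symm
  have key : ∀ φ : H → ℂ, Cfsg.IsClassFunction H φ →
      ∑ x : G, φ (hx x) = (n : ℂ) * ∑ h : H, (k h : ℂ) * φ h := by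
    intro φ hφ
    let f : G → H → G → ℂ := fun x h g =>
      if g * x ^ j * g⁻¹ = h then φ h / ((m : ℂ) * c h) else 0
    have h1 : ∀ x : G, φ (hx x) = ∑ g : G, ∑ h : H, f x h g := by
      intro x
      have hin : ∀ g : G, ∑ h : H, f x h g =
          if g * x ^ j * g⁻¹ ∈ H then φ (hx x) / ((m : ℂ) * c (hx x)) else 0 := by
        intro g
        split_ifs with hg
        · rw [Finset.sum_eq_single ⟨_, hg⟩
            (fun h _ hne => if_neg fun he => hne (Subtype.ext he.symm))
            (fun h => absurd (Finset.mem_univ _) h)]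
          simp only [f, if_true]
          have hc : IsConj (x ^ j) (g * x ^ j * g⁻¹) := isConj_iff.2 ⟨g, rfl⟩
          have e1 := hT (x ^ j) _ hg hc
          have e2 := hT (x ^ j) _ (hgx x) (isConj_iff.2 ⟨gx x, rfl⟩)
          rw [hwd φ hφ x ⟨_, hg⟩ hc,
            show c (hx x) = c (g * x ^ j * g⁻¹) from
              Nat.eq_of_mul_eq_mul_left (Nat.pos_of_ne_zero hm0) (e2.symm.trans e1)]
        · exact Finset.sum_eq_zero fun h _ => if_neg fun (he : g * x ^ j * g⁻¹ = h) => hg (he ▸ h.2)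
      simp only [hin, Finset.sum_ite, Finset.sum_const_zero, add_zero, Finset.sum_const,
        nsmul_eq_mul]
      rw [← Fintype.card_subtype, ← Nat.card_eq_fintype_card,
        hT (x ^ j) _ (hgx x) (isConj_iff.2 ⟨gx x, rfl⟩)]
      have : (m : ℂ) * c (hx x) ≠ 0 := mul_ne_zero (by exact_mod_cast hm0)
        (by exact_mod_cast hc0 _)
      push_cast
      rw [show (c (gx x * x ^ j * (gx x)⁻¹) : ℂ) = c (hx x) from rfl,
        mul_div_cancel₀ _ this]
    have h2 : ∀ (g : G) (h : H), ∑ x : G, f x h g = (N h : ℂ) * (φ h / ((m : ℂ) * c h)) := by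
      intro g h
      simp only [f, Finset.sum_ite, Finset.sum_const_zero, add_zero, Finset.sum_const,
        nsmul_eq_mul]
      congr 2
      rw [← Fintype.card_subtype, ← Nat.card_eq_fintype_card]
      refine Nat.card_congr ((MulAut.conj g).toEquiv.subtypeEquiv fun x => ?_)
      simp [conj_pow]
    rw [Finset.sum_congr rfl fun x _ => h1 x, Finset.sum_comm]
    rw [Finset.sum_congr rfl fun g _ => Finset.sum_comm.trans
      (Finset.sum_congr rfl fun h _ => h2 g h), Finset.sum_const, Finset.card_univ,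
      nsmul_eq_mul, ← Nat.card_eq_fintype_card, hmn, Finset.mul_sum, Finset.mul_sum]
    refine Finset.sum_congr rfl fun h _ => ?_
    rw [hkc h]
    have h3 : (m : ℂ) ≠ 0 := by exact_mod_cast hm0
    have h4 : (c (h : G) : ℂ) ≠ 0 := by exact_mod_cast hc0 _
    push_cast
    field_simp
  have hk1 : ∀ h : H, k h = 1 := by
    have h1 := key (fun _ => 1) fun _ _ => rfl
    simp only [mul_one, Finset.sum_const, Finset.card_univ, nsmul_eq_mul,
      ← Nat.card_eq_fintype_card, hmn] at h1
    have h2 : ((m * n : ℕ) : ℂ) = ((n * ∑ h : H, k h : ℕ) : ℂ) := by rw [h1]; push_cast; rfl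
    have h3 : ∑ h : H, k h = ∑ _h : H, 1 := by
      rw [Finset.sum_const, Finset.card_univ, smul_eq_mul, mul_one, ← Nat.card_eq_fintype_card,
        ← hmdef]
      exact Nat.eq_of_mul_eq_mul_left (Nat.pos_of_ne_zero hn0)
        ((Nat.cast_injective h2).symm.trans (mul_comm _ _))
    have hpos : ∀ h : H, 1 ≤ k h := fun h => by
      have : 0 < N h := Nat.card_pos_iff.2 ⟨⟨⟨h, hHj h h.2⟩⟩, inferInstance⟩
      rw [hkc h] at this
      exact Nat.pos_of_mul_pos_left this
    exact fun h => ((Finset.sum_eq_sum_iff_of_le fun h _ => hpos h).1 h3.symm h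
      (Finset.mem_univ h)).symm
  have hirr : ∀ θ : H → ℂ, Cfsg.IsIrrCharacter H θ →
      Cfsg.IsIrrCharacter G (fun x => θ (hx x)) := by
    intro θ hθ
    have hθc := IsIrrCharacter.isClassFunction hθ
    have hnorm : Cfsg.classInner (fun x => θ (hx x)) (fun x => θ (hx x)) = 1 := by
      have h1 := key (fun h => θ h * conj (θ h))
        (fun a b => by simp only [hθc a b])
      have h2 := sum_eq_card_mul_classInner θ θ
      rw [IsIrrCharacter.classInner_self hθ, mul_one] at h2
      simp only [hk1, Nat.cast_one, one_mul] at h1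
      rw [classInner_def, h1, h2, hmn, ← hmdef]
      have h3 : (m : ℂ) ≠ 0 := by exact_mod_cast hm0
      have h4 : (n : ℂ) ≠ 0 := by exact_mod_cast hn0
      push_cast
      field_simp
    refine (IsGeneralized.isIrr_or_neg (hgen θ (IsIrrCharacter.isCharacter hθ)) hnorm
      ).resolve_right fun hneg => ?_
    obtain ⟨d, hd, hd'⟩ := IsIrrCharacter.exists_degree hθ
    obtain ⟨e, he, he'⟩ := IsIrrCharacter.exists_degree hneg
    have h1 : θ (hx 1) = θ 1 := hwd θ hθc 1 1 (by simp)
    rw [Pi.neg_apply, h1, hd', neg_eq_iff_add_eq_zero, ← Nat.cast_add, Nat.cast_eq_zero] at he'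
    omega
  have hmul : ∀ a b : G, a ^ j = 1 → b ^ j = 1 → (a * b) ^ j = 1 := by
    intro a b ha hb
    have h1 : ∀ x : G, x ^ j = 1 → ∀ θ : H → ℂ, Cfsg.IsIrrCharacter H θ → θ (hx x) = θ 1 :=
      fun x hxj θ hθ => hwd θ (IsIrrCharacter.isClassFunction hθ) x 1 (by simp [hxj])
    have h2 : IsConj (hx (a * b)) 1 := (isConj_iff_irr_eq _ _).2 fun θ hθ => by
      have hc := IsIrrCharacter.isCharacter (hirr θ hθ)
      have hone : θ (hx 1) = θ 1 := h1 1 (one_pow j) θ hθ
      exact (IsCharacter.apply_mul_of_apply_eq hc ((h1 a ha θ hθ).trans hone.symm) b).trans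
        (h1 b hb θ hθ)
    rw [isConj_one_left] at h2
    exact conj_eq_one_iff.1 (congrArg Subtype.val h2)
  let K : Subgroup G :=
    { carrier := {x | x ^ j = 1}
      mul_mem' := fun {a b} => hmul a b
      one_mem' := one_pow j
      inv_mem' := fun {a} ha => by
        change a⁻¹ ^ j = 1
        rw [inv_pow, show a ^ j = 1 from ha, inv_one] }
  have hKn : K.Normal := ⟨fun a ha g => by
    change (g * a * g⁻¹) ^ j = 1
    rw [conj_pow, show a ^ j = 1 from ha, mul_one, mul_inv_cancel]⟩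
  have hd : K ⊓ H = ⊥ := by
    rw [eq_bot_iff]
    rintro x ⟨hxK, hxH⟩
    rw [Subgroup.mem_bot, ← hHj x hxH]
    exact hxK
  refine ⟨K, hKn, Subgroup.eq_top_of_card_eq _ ?_, hd⟩
  rw [sup_comm, CfsgLib.Solvable.card_sup_of_disjoint
    (by rw [Subgroup.normalizer_eq_top]; exact le_top) (by rw [inf_comm]; exact hd), hmn]
  congr 1
  have h1 := hkc 1
  rw [hk1, mul_one] at h1
  change N ((1 : H) : G) = _
  rw [h1]
  change H.relIndex (Subgroup.centralizer ({(1 : G)} : Set G)) = n
  have : Subgroup.centralizer ({(1 : G)} : Set G) = ⊤ :=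
    eq_top_iff.2 fun g _ => Subgroup.mem_centralizer_singleton_iff.2 (by simp)
  rw [this, Subgroup.relIndex_top_right]

end CfsgLib.Char
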