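import Cfsg.Agent.Char.Central

/-!
# Averaging a character over the products of two conjugacy classes
-/

set_option autoImplicit false

namespace CfsgLib.Char

open Module Representation

universe u

variable {G : Type u} [Group G]

/-- A character value summed over all products of conjugates of two elements. -/
theorem sum_sum_conj_mul [Fintype G] {χ : G → ℂ} (hχ : Cfsg.IsIrrCharacter G χ) (x y : G) :
    χ 1 * ∑ a : G, ∑ b : G, χ (a * x * a⁻¹ * (b * y * b⁻¹)) =
      (Nat.card G : ℂ) ^ 2 * (χ x * χ y) := by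
  obtain ⟨n, ρ, hρ, rfl⟩ := id hχ
  have key : ∀ w : G, ∑ a : G, ρ (a * w * a⁻¹) =
      ((Nat.card G : ℂ) * ρ.character w / (finrank ℂ (Fin n → ℂ) : ℂ)) •
        (1 : Module.End ℂ (Fin n → ℂ)) := by
    intro w
    have h := eq_smul_one_of_commute ρ (∑ a : G, ρ (a * w * a⁻¹)) fun g => by
      rw [Finset.mul_sum, Finset.sum_mul]
      refine Fintype.sum_equiv (Equiv.mulLeft g) _ _ fun a => ?_
      rw [← map_mul, ← map_mul, Equiv.coe_mulLeft]
      congr 1
      group
    have htr : LinearMap.trace ℂ (Fin n → ℂ) (∑ a : G, ρ (a * w * a⁻¹)) =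
        (Nat.card G : ℂ) * ρ.character w := by
      show _ = _
      rw [map_sum]
      refine (Finset.sum_congr rfl (g := fun _ => ρ.character w) fun a _ => ρ.char_conj w a).trans ?_
      rw [Finset.sum_const, Finset.card_univ, nsmul_eq_mul, Nat.card_eq_fintype_card]
    rwa [htr] at h
  have h2 : ∑ a : G, ∑ b : G, ρ.character (a * x * a⁻¹ * (b * y * b⁻¹)) =
      LinearMap.trace ℂ (Fin n → ℂ)
        ((∑ a : G, ρ (a * x * a⁻¹)) * ∑ b : G, ρ (b * y * b⁻¹)) := by
    simp only [Finset.sum_mul, Finset.mul_sum, map_sum, ← map_mul, Representation.character]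
    exact Finset.sum_comm
  have hn : (finrank ℂ (Fin n → ℂ) : ℂ) ≠ 0 := by
    exact_mod_cast (finrank_pos_of_isIrreducible ρ).ne'
  rw [h2, key, key, smul_mul_smul_comm, one_mul, map_smul, LinearMap.trace_one, smul_eq_mul,
    ρ.char_one]
  field_simp

/-- A character constant on the products of two classes is multiplicative on them. -/
theorem mul_eq_of_const [Finite G] {χ : G → ℂ} (hχ : Cfsg.IsIrrCharacter G χ) (x y : G) {c : ℂ}
    (hc : ∀ a b : G, χ (a * x * a⁻¹ * (b * y * b⁻¹)) = c) : χ 1 * c = χ x * χ y := by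
  have := Fintype.ofFinite G
  have h := sum_sum_conj_mul hχ x y
  simp only [hc, Finset.sum_const, Finset.card_univ, nsmul_eq_mul] at h
  have hG : (Nat.card G : ℂ) ≠ 0 := Nat.cast_ne_zero.2 Nat.card_pos.ne'
  rw [← Nat.card_eq_fintype_card] at h
  refine mul_left_cancel₀ (pow_ne_zero 2 hG) ?_
  rw [← h]; ring

end CfsgLib.Char
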