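import Cfsg.Agent.Char.FeitCoherence

/-!
# Coherence from degree bounds on the kernel
-/

set_option autoImplicit false
set_option linter.style.haveILetI false

namespace CfsgLib.Char

universe u v

variable {N : Type u} [Group N] [Fintype N] {H : Subgroup N} [hH : H.Normal]
variable {G : Type v} [Group G] [Fintype G]

/-- Coherence by induction on the degree of the characters of the kernel. -/
theorem coherent_by_degree (hH1 : H ≠ ⊥) (hH2 : H ≠ ⊤)
    (hC : ∀ h ∈ H, h ≠ 1 → Subgroup.centralizer ({h} : Set N) ≤ H) (τ : (N → ℂ) → (G → ℂ))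
    (hτ : Cfsg.IsLinearIsometryOn
      (Cfsg.zspanOn {χ : N → ℂ | Cfsg.IsIrrCharacter N χ ∧ ∃ h ∈ H, χ h ≠ χ 1} {1}ᶜ) τ)
    (hτ1 : ∀ α ∈ Cfsg.zspanOn {χ : N → ℂ | Cfsg.IsIrrCharacter N χ ∧ ∃ h ∈ H, χ h ≠ χ 1} {1}ᶜ,
      τ α 1 = 0)
    (hlin : H.index + 1 < (commutator H).index)
    (hkey : ∀ n, 1 ≤ n → ∀ θ : H → ℂ, Cfsg.IsIrrCharacter H θ → cdeg θ = n + 1 →
      2 * H.index * (n + 1) + 1 <
        ∑ ψ ∈ (irrFinset H).filter (fun ψ => cdeg ψ ≤ n), cdeg ψ ^ 2) :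
    Cfsg.IsCoherent {χ : N → ℂ | Cfsg.IsIrrCharacter N χ ∧ ∃ h ∈ H, χ h ≠ χ 1} {1}ᶜ τ := by
  classical
  set S := {χ : N → ℂ | Cfsg.IsIrrCharacter N χ ∧ ∃ h ∈ H, χ h ≠ χ 1} with hS
  set e := H.index with hedef
  have he2 : 2 ≤ e := by
    have : H.index ≠ 1 := fun h => hH2 (Subgroup.index_eq_one.1 h)
    have := H.index_ne_zero_of_finite
    omega
  have hH0 : 1 < Nat.card H := Finite.one_lt_card_iff_nontrivial.2 (H.nontrivial_iff_ne_bot.2 hH1)
  let T : ℕ → Finset (H → ℂ) := fun n =>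
    ((irrFinset H).filter fun θ => cdeg θ ≤ n).erase fun _ => 1
  let S' : ℕ → Finset (N → ℂ) := fun n => (T n).image (Cfsg.indFun H)
  have hTmem : ∀ n θ, θ ∈ T n ↔ Cfsg.IsIrrCharacter H θ ∧ cdeg θ ≤ n ∧ θ ≠ fun _ => 1 := by
    intro n θ
    simp only [T, Finset.mem_erase, Finset.mem_filter, mem_irrFinset]
    tauto
  have hind : ∀ θ : H → ℂ, Cfsg.IsIrrCharacter H θ → (θ ≠ fun _ => 1) →
      Cfsg.indFun H θ ∈ S ∧ cdeg (Cfsg.indFun H θ) = e * cdeg θ := fun θ hθ h1 => by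
    refine ⟨⟨isIrrCharacter_indFun_of_centralizer_le hC hθ h1, frob_indFun_relevant hC hθ h1⟩, ?_⟩
    rw [cdeg, indFun_one, irr_apply_one_eq_cdeg hθ, ← Nat.cast_mul, Complex.natCast_re,
      Nat.floor_natCast]
  have hS'mem : ∀ n χ, χ ∈ S' n → χ ∈ S := fun n χ hχ => by
    obtain ⟨θ, hθ, rfl⟩ := Finset.mem_image.1 hχ
    exact (hind θ ((hTmem n θ).1 hθ).1 ((hTmem n θ).1 hθ).2.2).1
  have hSmem : ∀ χ ∈ S, χ ∈ S' (Nat.card H) := fun χ hχ => by
    obtain ⟨θ, hθ, h1, rfl⟩ := exists_indFun_eq_of_centralizer_le hC hχ.1 hχ.2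
    refine Finset.mem_image_of_mem _ ((hTmem _ _).2 ⟨hθ, ?_, h1⟩)
    exact Nat.le_of_dvd Nat.card_pos ((cdeg_dvd_index_center hθ).trans (Subgroup.index_dvd_card _))
  have hconjT : ∀ n, ∀ θ ∈ T n, ∀ g : N, conjOn g θ ∈ T n := by
    intro n θ hθ g
    obtain ⟨h1, h2, h3⟩ := (hTmem n θ).1 hθ
    refine (hTmem n _).2 ⟨isIrrCharacter_conjOn h1 g,
      by rwa [cdeg_eq_of_apply_one (conjOn_apply_one g θ)], fun h => h3 ?_⟩
    rw [← conjOn_one (N := H) θ, ← mul_inv_cancel g, ← conjOn_conjOn, h]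
    rfl
  have hsum : ∀ n, ∑ χ ∈ S' n, cdeg χ ^ 2 = e * ∑ θ ∈ T n, cdeg θ ^ 2 := by
    intro n
    have h := sum_sq_indFun (T n) (fun θ hθ => ((hTmem n θ).1 hθ).1) (hconjT n)
    rw [Finset.sum_congr rfl (g := fun χ => ((cdeg χ ^ 2 : ℕ) : ℂ))] at h
    · exact_mod_cast h
    intro χ hχ
    have hχ' := (hS'mem n χ hχ).1
    rw [IsIrrCharacter.classInner_self hχ', div_one, irr_apply_one_eq_cdeg hχ', Nat.cast_pow]
  -- the number of linear characters
  set A := (commutator H).index with hA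
  have hT1sum : (∑ θ ∈ T 1, cdeg θ ^ 2) + 1 = A := by
    show (∑ θ ∈ ((irrFinset H).filter fun θ => cdeg θ ≤ 1).erase _, cdeg θ ^ 2) + 1 = A
    rw [← sum_cdeg_sq_insert (fun θ : H → ℂ => cdeg θ ≤ 1) (by simp [cdeg]), hA,
      ← card_filter_cdeg_one, Finset.card_eq_sum_ones]
    refine Finset.sum_congr (Finset.filter_congr fun θ hθ => ?_) fun θ hθ => ?_
    · have := cdeg_pos (mem_irrFinset.1 hθ)
      omega
    · rw [(Finset.mem_filter.1 hθ).2, one_pow]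
  have hS'1 : ∀ χ ∈ S' 1, cdeg χ = e := by
    intro χ hχ
    obtain ⟨θ, hθ, rfl⟩ := Finset.mem_image.1 hχ
    obtain ⟨h1, h2, h3⟩ := (hTmem 1 θ).1 hθ
    rw [(hind θ h1 h3).2, le_antisymm h2 (cdeg_pos h1), mul_one]
  have hcard1 : 1 < (S' 1).card := by
    have hgt : e + 1 < A := hlin
    by_contra hle
    have hle' : (S' 1).card ≤ 1 := not_lt.1 hle
    have h := hsum 1
    rw [Finset.sum_congr rfl (fun χ hχ => by rw [hS'1 χ hχ]), Finset.sum_const, smul_eq_mul] at h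
    have h2 : e * (∑ θ ∈ T 1, cdeg θ ^ 2) ≤ e * e := by
      rw [← h]
      calc (S' 1).card * e ^ 2 ≤ 1 * e ^ 2 := Nat.mul_le_mul_right _ hle'
        _ = e * e := by ring
    have := Nat.le_of_mul_le_mul_left h2 (by omega)
    omega
  have hτmono : ∀ s : Finset (N → ℂ), (∀ χ ∈ s, χ ∈ S) →
      Cfsg.IsLinearIsometryOn (Cfsg.zspanOn (↑s : Set (N → ℂ)) ({1}ᶜ : Set N)) τ ∧
        ∀ α ∈ Cfsg.zspanOn (↑s : Set (N → ℂ)) ({1}ᶜ : Set N), τ α 1 = 0 := fun s hs =>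
    ⟨isometryOn_subset (zspanOn_subset_zspanOn (fun χ hχ => hs χ hχ) _) hτ,
      fun α hα => hτ1 α (zspanOn_subset_zspanOn (fun χ hχ => hs χ hχ) _ hα)⟩
  -- the bound used at each step
  have hkey' : ∀ n, 1 ≤ n → ∀ θ : H → ℂ, Cfsg.IsIrrCharacter H θ → cdeg θ = n + 1 →
      2 * e * (n + 1) < ∑ ψ ∈ T n, cdeg ψ ^ 2 := by
    intro n hn θ hθ hd
    have hins := sum_cdeg_sq_insert (K := H) (fun ψ => cdeg ψ ≤ n) (by simpa [cdeg] using hn)
    have h := hkey n hn θ hθ hd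
    rw [hins] at h
    show _ < ∑ ψ ∈ ((irrFinset H).filter fun ψ => cdeg ψ ≤ n).erase _, cdeg ψ ^ 2
    omega
  -- induction on the degree
  have hmain : ∀ n, 1 ≤ n → Cfsg.IsCoherent (↑(S' n) : Set (N → ℂ)) ({1}ᶜ : Set N) τ := by
    intro n hn
    induction n, hn using Nat.le_induction with
    | base =>
      obtain ⟨h1, h2⟩ := hτmono (S' 1) (hS'mem 1)
      refine isCoherent_equal_irr _ (fun χ hχ => (hS'mem 1 χ hχ).1) (fun χ hχ ψ hψ => ?_) hcard1 h1 h2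
      rw [irr_apply_one_eq_cdeg (hS'mem 1 χ hχ).1, irr_apply_one_eq_cdeg (hS'mem 1 ψ hψ).1,
        hS'1 χ hχ, hS'1 ψ hψ]
    | succ n hn ih =>
      have hsub : S' n ⊆ S' (n + 1) := Finset.image_subset_image fun θ hθ => by
        obtain ⟨h1, h2, h3⟩ := (hTmem n θ).1 hθ
        exact (hTmem _ θ).2 ⟨h1, h2.trans n.le_succ, h3⟩
      suffices h : ∀ s : Finset (N → ℂ), s ⊆ S' (n + 1) \ S' n →
          Cfsg.IsCoherent (↑(S' n ∪ s) : Set (N → ℂ)) ({1}ᶜ : Set N) τ by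
        have := h _ subset_rfl
        rwa [Finset.union_sdiff_of_subset hsub] at this
      intro s
      induction s using Finset.induction_on with
      | empty => intro _; rwa [Finset.union_empty]
      | insert χ t hχt ih' =>
        intro hs
        obtain ⟨hχ1, hχ2⟩ := Finset.mem_sdiff.1 (hs (Finset.mem_insert_self χ t))
        have ht : t ⊆ S' (n + 1) \ S' n := fun x hx => hs (Finset.mem_insert_of_mem hx)
        obtain ⟨θ, hθT, rfl⟩ := Finset.mem_image.1 hχ1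
        obtain ⟨hθ, hθd, hθ1⟩ := (hTmem _ θ).1 hθT
        have hθd' : cdeg θ = n + 1 := by
          refine le_antisymm hθd (Nat.succ_le_iff.2 ?_)
          by_contra hle
          exact hχ2 (Finset.mem_image_of_mem _ ((hTmem n θ).2 ⟨hθ, not_lt.1 hle, hθ1⟩))
        have hmem : ∀ ξ ∈ insert (Cfsg.indFun H θ) (S' n ∪ t), ξ ∈ S := by
          intro ξ hξ
          rcases Finset.mem_insert.1 hξ with rfl | hξ
          · exact hS'mem _ _ hχ1
          · rcases Finset.mem_union.1 hξ with hξ | hξ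
            · exact hS'mem _ _ hξ
            · exact hS'mem _ _ (Finset.mem_sdiff.1 (ht hξ)).1
        obtain ⟨ψ, hψ⟩ : ∃ ψ, ψ ∈ S' 1 := Finset.card_pos.1 (by omega)
        have hψn : ψ ∈ S' n := Finset.image_subset_image (fun η hη => by
          obtain ⟨h1, h2, h3⟩ := (hTmem 1 η).1 hη
          exact (hTmem n η).2 ⟨h1, h2.trans hn, h3⟩) hψ
        rw [Finset.union_insert]
        obtain ⟨h1, h2⟩ := hτmono _ hmem
        refine coherence_extend_irr (S' n ∪ t) (fun ξ hξ => (hmem ξ (Finset.mem_insert_of_mem hξ)).1)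
          (hS'mem _ _ hχ1).1 ?_ cdeg (fun ξ hξ => irr_apply_one_eq_cdeg (hmem ξ hξ).1) h1 h2 (ih' ht)
          (Finset.mem_union_left _ hψn) ?_ ?_
        · rw [Finset.mem_union, not_or]
          exact ⟨hχ2, hχt⟩
        · rw [hS'1 ψ hψ, (hind θ hθ hθ1).2]
          exact dvd_mul_right _ _
        · rw [hS'1 ψ hψ, (hind θ hθ hθ1).2, hθd']
          refine lt_of_lt_of_le ?_ (Finset.sum_le_sum_of_subset Finset.subset_union_left)
          rw [hsum n, show 2 * e * (e * (n + 1)) = e * (2 * e * (n + 1)) by ring]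
          exact Nat.mul_lt_mul_of_pos_left (hkey' n hn θ hθ hθd') (by omega)
  have hfinal := hmain (Nat.card H) hH0.le
  have hEq : (↑(S' (Nat.card H)) : Set (N → ℂ)) = S :=
    Set.ext fun χ => ⟨fun h => hS'mem _ χ h, fun h => hSmem χ h⟩
  rwa [hEq] at hfinal

end CfsgLib.Char
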