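import Cfsg.Agent.Char.Coherence

/-!
# Criteria extending coherence
-/

namespace CfsgLib.Char

open scoped ComplexConjugate

universe u v

variable {L : Type u} [Group L] [Fintype L] {G : Type v} [Group G] [Fintype G]

/-- A coherence system on a set of non-real irreducible characters. -/
theorem exists_coherenceSystem (S : Set (L → ℂ)) (hS : S.Nonempty)
    (hirr : ∀ χ ∈ S, Cfsg.IsIrrCharacter L χ)
    (hconj : ∀ χ ∈ S, Cfsg.conjFun χ ∈ S ∧ Cfsg.conjFun χ ≠ χ) {τ : (L → ℂ) → G → ℂ}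
    (hτ : Cfsg.IsLinearIsometryOn (Cfsg.zspanOn S ({1}ᶜ : Set L)) τ)
    (hτ1 : ∀ α ∈ Cfsg.zspanOn S ({1}ᶜ : Set L), τ α 1 = 0) :
    ∃ R : (L → ℂ) → Finset (G → ℂ), Cfsg.IsCoherenceSystem S τ R := by
  classical
  obtain ⟨-, -, hiso, hgen⟩ := id hτ
  have hmem : ∀ χ ∈ S, χ - Cfsg.conjFun χ ∈ Cfsg.zspanOn S ({1}ᶜ : Set L) := fun χ hχ =>
    mem_zspanOn_one.2 ⟨Submodule.sub_mem _ (subset_zspan hχ) (subset_zspan (hconj χ hχ).1), by
      obtain ⟨d, -, hd⟩ := IsIrrCharacter.exists_degree (hirr χ hχ)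
      simp [Cfsg.conjFun, hd]⟩
  have hdec : ∀ χ ∈ S, ∃ μ ν : G → ℂ, Cfsg.IsIrrCharacter G μ ∧ Cfsg.IsIrrCharacter G ν ∧ μ ≠ ν ∧
      τ (χ - Cfsg.conjFun χ) = μ - ν := fun χ hχ => by
    refine IsGeneralized.exists_sub (hgen _ (hmem χ hχ)) ?_ (hτ1 _ (hmem χ hχ))
    rw [hiso _ (hmem χ hχ) _ (hmem χ hχ), classInner_sub_left, classInner_sub_right,
      classInner_sub_right, IsIrrCharacter.classInner_self (hirr χ hχ),
      IsIrrCharacter.classInner_self (hirr _ (hconj χ hχ).1),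
      IsIrrCharacter.classInner_of_ne (hirr χ hχ) (hirr _ (hconj χ hχ).1) (Ne.symm (hconj χ hχ).2),
      IsIrrCharacter.classInner_of_ne (hirr _ (hconj χ hχ).1) (hirr χ hχ) (hconj χ hχ).2]
    norm_num
  choose! μ ν hμ hν hne he using hdec
  have hne' : ∀ χ ∈ S, μ χ ≠ -ν χ := fun χ hχ h => by
    obtain ⟨a, ha0, ha⟩ := IsIrrCharacter.exists_degree (hμ χ hχ)
    obtain ⟨b, hb0, hb⟩ := IsIrrCharacter.exists_degree (hν χ hχ)
    have h1 := congrFun h 1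
    rw [Pi.neg_apply, ha, hb, eq_neg_iff_add_eq_zero, ← Nat.cast_add, Nat.cast_eq_zero] at h1
    omega
  refine ⟨fun χ => {μ χ, -ν χ}, ⟨hS, fun χ hχ => IsIrrCharacter.isCharacter (hirr χ hχ),
    fun χ hχ => (hconj χ hχ).1, fun χ hχ => (hconj χ hχ).2, hτ, hτ1,
    fun χ hχ φ hφ h => IsIrrCharacter.classInner_of_ne (hirr χ hχ) (hirr φ hφ) h, ?_, ?_, ?_, ?_⟩⟩
  · intro χ hχ α hα β hβ
    simp only [Finset.mem_insert, Finset.mem_singleton] at hα hβ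
    rcases hα with rfl | rfl <;> rcases hβ with rfl | rfl
    · rw [if_pos rfl, IsIrrCharacter.classInner_self (hμ χ hχ)]
    · rw [if_neg (hne' χ hχ), classInner_neg_right,
        IsIrrCharacter.classInner_of_ne (hμ χ hχ) (hν χ hχ) (hne χ hχ), neg_zero]
    · rw [if_neg (Ne.symm (hne' χ hχ)), classInner_neg_left,
        IsIrrCharacter.classInner_of_ne (hν χ hχ) (hμ χ hχ) (Ne.symm (hne χ hχ)), neg_zero]
    · rw [if_pos rfl, classInner_neg_left, classInner_neg_right, neg_neg,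
        IsIrrCharacter.classInner_self (hν χ hχ)]
  · intro χ hχ α hα
    simp only [Finset.mem_insert, Finset.mem_singleton] at hα
    rcases hα with rfl | rfl
    · exact IsIrrCharacter.isGeneralized (hμ χ hχ)
    · exact IsGeneralized.neg (IsIrrCharacter.isGeneralized (hν χ hχ))
  · intro χ hχ
    rw [Finset.sum_pair (hne' χ hχ), he χ hχ, sub_eq_add_neg]
  · intro χ hχ φ hφ h1 h2 α hα β hβ
    have h3 : Cfsg.classInner (Cfsg.conjFun φ) χ = 0 := by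
      rw [← conjFun_conjFun χ, classInner_conjFun_conjFun, ← classInner_conj, h2, map_zero]
    have h4 : Cfsg.classInner (Cfsg.conjFun φ) (Cfsg.conjFun χ) = 0 := by
      rw [classInner_conjFun_conjFun, ← classInner_conj, h1, map_zero]
    have hmix : Cfsg.classInner (μ φ - ν φ) (((1 : ℝ) : ℂ) • μ χ - ((1 : ℝ) : ℂ) • ν χ) = 0 := by
      rw [Complex.ofReal_one, one_smul, one_smul, ← he φ hφ, ← he χ hχ,
        hiso _ (hmem φ hφ) _ (hmem χ hχ), classInner_sub_left, classInner_sub_right,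
        classInner_sub_right, h1, h2, h3, h4]
      simp
    have hdeg : ∀ η ∈ S, μ η 1 = ν η 1 := fun η hη => by
      have h := hτ1 _ (hmem η hη)
      rwa [he η hη, Pi.sub_apply, sub_eq_zero] at h
    obtain ⟨a, b, c, d⟩ := four_signed (Or.inl (hμ φ hφ)) (Or.inl (hν φ hφ)) (Or.inl (hμ χ hχ))
      (Or.inl (hν χ hχ)) one_ne_zero one_ne_zero
      (IsIrrCharacter.classInner_of_ne (hμ φ hφ) (hν φ hφ) (hne φ hφ))
      (IsIrrCharacter.classInner_of_ne (hμ χ hχ) (hν χ hχ) (hne χ hχ)) hmix (hdeg φ hφ)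
      (by simpa using hdeg χ hχ)
    simp only [Finset.mem_insert, Finset.mem_singleton] at hα hβ
    rcases hα with rfl | rfl <;> rcases hβ with rfl | rfl <;>
      simp [classInner_neg_left, classInner_neg_right, a, b, c, d]

section Step

omit [Fintype G] in
theorem orthExt_sub (s : Finset (L → ℂ)) (T : (L → ℂ) → G → ℂ) (a b : L → ℂ) :
    orthExt s T (a - b) = orthExt s T a - orthExt s T b := by
  rw [sub_eq_add_neg, orthExt_add, ← neg_one_zsmul b, orthExt_zsmul, neg_one_zsmul,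
    ← sub_eq_add_neg]

/-- Agreement of an extension with an isometry, one step above a subfamily. -/
theorem orthExt_eq_of_step [DecidableEq (L → ℂ)] {s : Finset (L → ℂ)} {T τ : (L → ℂ) → G → ℂ}
    {U : Set (L → ℂ)} (hτ : Cfsg.IsLinearIsometryOn (Cfsg.zspanOn U ({1}ᶜ : Set L)) τ)
    (hU : (↑s : Set (L → ℂ)) ⊆ U) {s₀ : Finset (L → ℂ)} (hs₀ : s₀ ⊆ s) {ψ : L → ℂ}
    (hψ : ψ ∈ s₀) (m : (L → ℂ) → ℤ) (hm : ∀ φ ∈ s \ s₀, φ 1 = m φ • ψ 1)
    (hbase : ∀ α ∈ Cfsg.zspanOn (↑s₀ : Set (L → ℂ)) ({1}ᶜ : Set L), orthExt s T α = τ α)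
    (hstep : ∀ φ ∈ s \ s₀, orthExt s T (φ - m φ • ψ) = τ (φ - m φ • ψ))
    {α : L → ℂ} (hα : α ∈ Cfsg.zspanOn (↑s : Set (L → ℂ)) ({1}ᶜ : Set L)) :
    orthExt s T α = τ α := by
  obtain ⟨hspan, hα1⟩ := mem_zspanOn_one.1 hα
  obtain ⟨c, -, hc⟩ := Submodule.mem_span_finset.1 hspan
  let M := zspanOnSub U ({1}ᶜ : Set L)
  have hlin : Cfsg.IsLinearIsometryOn (M : Set (L → ℂ)) τ := hτ
  set B := ∑ φ ∈ s \ s₀, c φ • (φ - m φ • ψ) with hB
  have hBmem : ∀ φ ∈ s \ s₀, φ - m φ • ψ ∈ M := fun φ hφ => mem_zspanOn_one.2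
    ⟨Submodule.sub_mem _ (subset_zspan (hU (Finset.mem_sdiff.1 hφ).1))
      (Submodule.smul_mem _ _ (subset_zspan (hU (hs₀ hψ)))), by
      rw [Pi.sub_apply, Pi.smul_apply, hm φ hφ, sub_self]⟩
  have hA : α - B ∈ Cfsg.zspanOn (↑s₀ : Set (L → ℂ)) ({1}ᶜ : Set L) := by
    refine mem_zspanOn_one.2 ⟨?_, ?_⟩
    · have : α - B = (∑ φ ∈ s₀, c φ • φ) + ∑ φ ∈ s \ s₀, (c φ * m φ) • ψ := by
        rw [hB, ← hc, ← Finset.sum_sdiff hs₀]
        simp only [smul_sub, Finset.sum_sub_distrib, smul_smul]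
        abel
      rw [this]
      exact Submodule.add_mem _
        (Submodule.sum_mem _ fun φ hφ => Submodule.smul_mem _ _ (subset_zspan hφ))
        (Submodule.sum_mem _ fun φ _ => Submodule.smul_mem _ _ (subset_zspan hψ))
    · rw [Pi.sub_apply, hα1, hB, Finset.sum_apply, Finset.sum_eq_zero fun φ hφ => by
        rw [Pi.smul_apply, Pi.sub_apply, Pi.smul_apply, hm φ hφ, sub_self, smul_zero], sub_zero]
  have hAM : α - B ∈ M := by
    obtain ⟨h1, h2⟩ := mem_zspanOn_one.1 hA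
    exact mem_zspanOn_one.2 ⟨zspan_mono ((Finset.coe_subset.2 hs₀).trans hU) h1, h2⟩
  have hBM : B ∈ M := M.sum_mem fun φ hφ => M.smul_mem _ (hBmem φ hφ)
  have e : α = (α - B) + B := (sub_add_cancel α B).symm
  rw [e, orthExt_add, hbase _ hA, hlin.1 _ hAM _ hBM]
  congr 1
  rw [hB, isometry_map_sum hlin _ c hBmem]
  refine ((map_sum (AddMonoidHom.mk' (orthExt s T) (orthExt_add s T)) _ _)).trans ?_
  refine Finset.sum_congr rfl fun φ hφ => ?_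
  change orthExt s T (c φ • (φ - m φ • ψ)) = _
  rw [orthExt_zsmul, hstep φ hφ]

theorem eqOn_zspan {f g : (L → ℂ) → G → ℂ} {U : Set (L → ℂ)}
    (hf : Cfsg.IsLinearIsometryOn (Cfsg.zspan U) f) (hg : Cfsg.IsLinearIsometryOn (Cfsg.zspan U) g)
    (h : ∀ φ ∈ U, f φ = g φ) {α : L → ℂ} (hα : α ∈ Cfsg.zspan U) : f α = g α := by
  induction hα using Submodule.span_induction with
  | mem φ hφ => exact h φ hφ
  | zero =>
    exact (isometry_map_zero (M := Submodule.span ℤ U) hf).trans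
      (isometry_map_zero (M := Submodule.span ℤ U) hg).symm
  | add a b ha hb h1 h2 => rw [hf.1 a ha b hb, hg.1 a ha b hb, h1, h2]
  | smul n a ha h => rw [hf.2.1 a ha n, hg.2.1 a ha n, h]

theorem orthExt_eq_of_extension {s : Finset (L → ℂ)} {T τ₀ : (L → ℂ) → G → ℂ}
    (horth : ∀ φ ∈ s, ∀ ψ ∈ s, φ ≠ ψ → Cfsg.classInner φ ψ = 0) (hne : ∀ φ ∈ s, φ ≠ 0)
    {U : Set (L → ℂ)} (hτ₀ : Cfsg.IsLinearIsometryOn (Cfsg.zspan U) τ₀) (hU : U ⊆ ↑s)
    (h : ∀ φ ∈ U, T φ = τ₀ φ) {α : L → ℂ} (hα : α ∈ Cfsg.zspan U) : orthExt s T α = τ₀ α := by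
  induction hα using Submodule.span_induction with
  | mem φ hφ => rw [orthExt_self horth hne (hU hφ), h φ hφ]
  | zero =>
    rw [isometry_map_zero (M := Submodule.span ℤ U) hτ₀]
    simp [orthExt]
  | add a b ha hb h1 h2 => rw [orthExt_add, h1, h2, hτ₀.1 a ha b hb]
  | smul n a ha h' => rw [orthExt_zsmul, h', hτ₀.2.1 a ha n]

end Step


theorem classInner_residual_orth {ι : Type*} (s : Finset ι) [DecidableEq ι] (f : ι → G → ℂ)
    (N : ι → ℝ) (hN : ∀ i ∈ s, N i ≠ 0)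
    (hf : ∀ i ∈ s, ∀ j ∈ s, Cfsg.classInner (f i) (f j) = if i = j then (N i : ℂ) else 0)
    (D : G → ℂ) :
    Cfsg.classInner (D - ∑ i ∈ s, (Cfsg.classInner D (f i) / (N i : ℂ)) • f i)
        (D - ∑ i ∈ s, (Cfsg.classInner D (f i) / (N i : ℂ)) • f i) =
      Cfsg.classInner D D - ((∑ i ∈ s, ‖Cfsg.classInner D (f i)‖ ^ 2 / N i : ℝ) : ℂ) ∧
    ∀ j ∈ s, Cfsg.classInner (D - ∑ i ∈ s, (Cfsg.classInner D (f i) / (N i : ℂ)) • f i) (f j) = 0 := by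
  set P := ∑ i ∈ s, (Cfsg.classInner D (f i) / (N i : ℂ)) • f i with hP
  have h1 : ∀ j ∈ s, Cfsg.classInner (D - P) (f j) = 0 := fun j hj => by
    rw [classInner_sub_left, hP, classInner_sum_left, Finset.sum_eq_single j (fun i hi hne => by
      rw [classInner_smul_left, hf i hi j hj, if_neg hne, mul_zero]) (fun h => absurd hj h),
      classInner_smul_left, hf j hj j hj, if_pos rfl,
      div_mul_cancel₀ _ (Complex.ofReal_ne_zero.2 (hN j hj)), sub_self]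
  have h2 : Cfsg.classInner (D - P) P = 0 := by
    rw [hP, classInner_sum_right]
    exact Finset.sum_eq_zero fun i hi => by rw [classInner_smul_right, ← hP, h1 i hi, mul_zero]
  have h3 : Cfsg.classInner P D = ((∑ i ∈ s, ‖Cfsg.classInner D (f i)‖ ^ 2 / N i : ℝ) : ℂ) := by
    rw [hP, classInner_sum_left, Complex.ofReal_sum]
    refine Finset.sum_congr rfl fun i _ => ?_
    rw [classInner_smul_left, ← classInner_conj D (f i), Complex.ofReal_div, Complex.ofReal_pow,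
      ← Complex.mul_conj' (Cfsg.classInner D (f i))]
    ring
  refine ⟨?_, h1⟩
  rw [classInner_sub_right, h2, sub_zero, classInner_sub_left, h3]

theorem coeff_norm_sum {ι : Type*} [DecidableEq ι] (s : Finset ι) (i₀ : ι) (hi : i₀ ∈ s)
    (b d N : ι → ℝ) (a c : ℝ) (hd : d i₀ ≠ 0) (hN : ∀ i ∈ s, N i ≠ 0)
    (hb : ∀ i ∈ s, b i * d i₀ = c * d i - if i = i₀ then a * N i₀ * d i₀ else 0) :
    ∑ i ∈ s, b i ^ 2 / N i =
      c ^ 2 * (∑ i ∈ s, d i ^ 2 / N i) / d i₀ ^ 2 - 2 * a * c + a ^ 2 * N i₀ := by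
  have hterm : ∀ i ∈ s, b i ^ 2 / N i = c ^ 2 / d i₀ ^ 2 * (d i ^ 2 / N i) +
      if i = i₀ then a ^ 2 * N i₀ - 2 * a * c else 0 := by
    intro i hi'
    have h := hb i hi'
    have hn := hN i hi'
    split_ifs at h ⊢ with he
    · subst he
      have : b i = c - a * N i := mul_right_cancel₀ hd (by linarith)
      rw [this]
      field_simp
      ring
    · have : b i = c * d i / d i₀ := by rw [eq_div_iff hd]; linarith
      rw [this]
      field_simp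
      ring
  rw [Finset.sum_congr rfl hterm, Finset.sum_add_distrib, ← Finset.mul_sum, Finset.sum_ite_eq',
    if_pos hi]
  ring

theorem coherence_extend {S : Set (L → ℂ)} {τ : (L → ℂ) → G → ℂ} {R : (L → ℂ) → Finset (G → ℂ)}
    (hS : Cfsg.IsCoherenceSystem S τ R) (d n : (L → ℂ) → ℕ) (hd : ∀ φ ∈ S, φ 1 = (d φ : ℂ))
    (hn : ∀ φ ∈ S, Cfsg.classInner φ φ = (n φ : ℂ)) (S₁ : Finset (L → ℂ)) (hS₁ : ↑S₁ ⊆ S)
    (hS₁c : ∀ φ ∈ S₁, Cfsg.conjFun φ ∈ S₁)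
    (hcoh : Cfsg.IsCoherent (↑S₁ : Set (L → ℂ)) ({1}ᶜ : Set L) τ) {χ : L → ℂ} (hχ : χ ∈ S)
    (hχ₁ : χ ∉ S₁) (hχ₂ : Cfsg.conjFun χ ∉ S₁) {ψ : L → ℂ} (hψ : ψ ∈ S₁) (hdvd : d ψ ∣ d χ)
    (hineq : (2 * d χ * d ψ : ℝ) < ∑ φ ∈ S₁, ((d φ : ℝ) ^ 2 / (n φ : ℝ))) :
    Cfsg.IsCoherent (↑S₁ ∪ {χ, Cfsg.conjFun χ} : Set (L → ℂ)) ({1}ᶜ : Set L) τ := by
  classical
  obtain ⟨hadd, hsmul, hiso, hgen⟩ := hS.isometry
  obtain ⟨-, τ₁, hτ₁, hagree⟩ := hcoh
  obtain ⟨hadd₁, hsmul₁, hiso₁, hgen₁⟩ := id hτ₁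
  set χ' := Cfsg.conjFun χ with hχ'def
  have hχ'S : χ' ∈ S := hS.conj_mem χ hχ
  have hmem : ∀ φ ∈ S₁, φ ∈ S := fun φ hφ => hS₁ hφ
  have hd0 : ∀ φ ∈ S, (d φ : ℝ) ≠ 0 := fun φ hφ h => by
    refine coherenceSystem_ne_zero hS hφ
      (IsCharacter.eq_zero_of_apply_one (hS.isCharacter φ hφ) ?_)
    rw [hd φ hφ]; exact_mod_cast h
  have hn0 : ∀ φ ∈ S, (n φ : ℝ) ≠ 0 := fun φ hφ h => by
    refine coherenceSystem_ne_zero hS hφ (classInner_self_eq_zero ?_)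
    rw [hn φ hφ]; exact_mod_cast h
  obtain ⟨a, ha⟩ := hdvd
  have ha0 : 0 < a := Nat.pos_of_ne_zero fun h => hd0 χ hχ (by rw [ha, h, mul_zero, Nat.cast_zero])
  have hsubτ : ∀ φ ∈ S₁, φ - Cfsg.conjFun φ ∈ Cfsg.zspanOn (↑S₁ : Set (L → ℂ)) ({1}ᶜ : Set L) :=
    fun φ hφ => mem_zspanOn_one.2
      ⟨Submodule.sub_mem _ (subset_zspan hφ) (subset_zspan (hS₁c φ hφ)),
        (mem_zspanOn_one.1 (coherenceSystem_sub_mem hS (hmem φ hφ))).2⟩
  have hz₁ : ∀ φ ∈ S₁, φ ∈ Cfsg.zspan (↑S₁ : Set (L → ℂ)) := fun φ hφ => subset_zspan hφ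
  -- images of S₁ avoid R χ
  have havoid : ∀ φ ∈ S₁, ∀ α ∈ R χ, Cfsg.classInner (τ₁ φ) α = 0 := by
    intro φ hφ α hα
    have hφS := hmem φ hφ
    have e1 : τ₁ (φ - Cfsg.conjFun φ) = τ (φ - Cfsg.conjFun φ) := hagree _ (hsubτ φ hφ)
    have hp := (projection_R hS hφS (D := τ₁ φ) (hgen₁ _ (hz₁ φ hφ)) (by
      rw [← e1, hiso₁ _ (hz₁ φ hφ) _
          (Submodule.sub_mem _ (hz₁ φ hφ) (hz₁ _ (hS₁c φ hφ))),
        classInner_sub_right, classInner_conj_eq_zero hS hφS, sub_zero])).1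
    rw [← hiso₁ _ (hz₁ φ hφ) _ (hz₁ φ hφ)] at hp
    have he := eq_sum_of_bessel_eq (R φ) (hS.orthonormal φ hφS) (τ₁ φ) hp
    rw [he, classInner_sum_left]
    exact Finset.sum_eq_zero fun γ hγ => by
      rw [classInner_smul_left, classInner_R_eq_zero hS hφS hχ (fun e => hχ₁ (by rw [← e]; exact hφ))
        (fun e => hχ₂ (by rw [hχ'def, ← e]; exact hφ)) hγ hα, mul_zero]
  have horth' : ∀ φ ∈ S₁, Cfsg.classInner χ φ = 0 ∧ Cfsg.classInner χ' φ = 0 := fun φ hφ =>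
    ⟨hS.orthogonal χ hχ φ (hmem φ hφ) (fun e => hχ₁ (e ▸ hφ)),
      hS.orthogonal χ' hχ'S φ (hmem φ hφ) (fun e => hχ₂ (e ▸ hφ))⟩
  -- the element of degree zero
  set θ := χ - (a : ℤ) • ψ with hθ
  have hθmem : θ ∈ Cfsg.zspanOn S ({1}ᶜ : Set L) := mem_zspanOn_one.2
    ⟨Submodule.sub_mem _ (subset_zspan hχ) (Submodule.smul_mem _ _ (subset_zspan (hmem ψ hψ))), by
      rw [hθ, Pi.sub_apply, Pi.smul_apply, hd χ hχ, hd ψ (hmem ψ hψ), ha]
      simp [mul_comm]⟩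
  set β := τ θ with hβ
  have hθψ : ∀ φ ∈ S₁, Cfsg.classInner θ φ = -((a : ℂ) * Cfsg.classInner ψ φ) := fun φ hφ => by
    rw [hθ, classInner_sub_left, (horth' φ hφ).1, ← Int.cast_smul_eq_zsmul ℂ, classInner_smul_left]
    simp
  have hχψ := horth' ψ hψ
  have hψχ : Cfsg.classInner ψ χ = 0 := by rw [← classInner_conj, hχψ.1, map_zero]
  have hψχ' : Cfsg.classInner ψ χ' = 0 := by rw [← classInner_conj, hχψ.2, map_zero]
  have hβn : Cfsg.classInner β β = ((n χ + a ^ 2 * n ψ : ℕ) : ℂ) := by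
    rw [hβ, hiso _ hθmem _ hθmem, hθ, ← Int.cast_smul_eq_zsmul ℂ]
    simp only [classInner_sub_left, classInner_sub_right, classInner_smul_left,
      classInner_smul_right, hψχ, hχψ.1, hn χ hχ, hn ψ (hmem ψ hψ), Int.cast_natCast, map_natCast]
    push_cast
    ring
  have hβgen := hgen _ hθmem
  obtain ⟨hA, hA'⟩ := projection_R hS hχ (D := β) hβgen (by
    rw [hβ, hiso _ hθmem _ (coherenceSystem_sub_mem hS hχ), hθ, ← Int.cast_smul_eq_zsmul ℂ]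
    have h0 : Cfsg.classInner χ χ' = 0 := classInner_conj_eq_zero hS hχ
    simp only [classInner_sub_left, classInner_sub_right, classInner_smul_left, hψχ, ← hχ'def,
      hψχ', hn χ hχ, h0]
    simp)
  set D₁ := β - ∑ α ∈ R χ, Cfsg.classInner β α • α with hD₁
  have hD₁n : (Cfsg.classInner D₁ D₁).re =
      (n χ : ℝ) + (a : ℝ) ^ 2 * n ψ - ∑ α ∈ R χ, ‖Cfsg.classInner β α‖ ^ 2 := by
    rw [hD₁, classInner_residual (R χ) (hS.orthonormal χ hχ) β, hβn, Complex.sub_re,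
      Complex.ofReal_re, Complex.natCast_re]
    push_cast; ring
  have hf : ∀ i ∈ S₁, ∀ j ∈ S₁, Cfsg.classInner (τ₁ i) (τ₁ j) =
      if i = j then ((n i : ℝ) : ℂ) else 0 := fun i hi j hj => by
    rw [hiso₁ _ (hz₁ i hi) _ (hz₁ j hj)]
    split_ifs with h
    · subst h; simpa using hn i (hmem i hi)
    · exact hS.orthogonal i (hmem i hi) j (hmem j hj) h
  obtain ⟨hres, hperp⟩ := classInner_residual_orth S₁ τ₁ (fun φ => (n φ : ℝ))
    (fun φ hφ => hn0 φ (hmem φ hφ)) hf D₁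
  have hint : ∀ φ ∈ S₁, ∃ k : ℤ, Cfsg.classInner β (τ₁ φ) = k := fun φ hφ =>
    IsGeneralized.exists_classInner_eq_int hβgen (hgen₁ _ (hz₁ φ hφ))
  choose! b hb using hint
  have hD₁b : ∀ φ ∈ S₁, Cfsg.classInner D₁ (τ₁ φ) = (b φ : ℂ) := fun φ hφ => by
    rw [hD₁, classInner_sub_left, hb φ hφ, classInner_sum_left, Finset.sum_eq_zero, sub_zero]
    intro α hα
    rw [classInner_smul_left, ← classInner_conj (τ₁ φ) α, havoid φ hφ α hα, map_zero, mul_zero]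
  -- the relation between the coefficients
  set c : ℤ := b ψ + a * n ψ with hc
  have hrel : ∀ φ ∈ S₁, (b φ : ℝ) * d ψ =
      (c : ℝ) * d φ - if φ = ψ then (a : ℝ) * n ψ * d ψ else 0 := by
    intro φ hφ
    split_ifs with he
    · subst he; rw [hc]; push_cast; ring
    have hmψ := mem_zspanOn_one (α := (d ψ : ℤ) • φ - (d φ : ℤ) • ψ) (S := (↑S₁ : Set (L → ℂ)))
    have hγ : (d ψ : ℤ) • φ - (d φ : ℤ) • ψ ∈ Cfsg.zspanOn (↑S₁ : Set (L → ℂ)) ({1}ᶜ : Set L) :=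
      hmψ.2 ⟨Submodule.sub_mem _ (Submodule.smul_mem _ _ (hz₁ φ hφ))
        (Submodule.smul_mem _ _ (hz₁ ψ hψ)), by
        rw [Pi.sub_apply, Pi.smul_apply, Pi.smul_apply, hd φ (hmem φ hφ), hd ψ (hmem ψ hψ)]
        simp [mul_comm]⟩
    have hγS : (d ψ : ℤ) • φ - (d φ : ℤ) • ψ ∈ Cfsg.zspanOn S ({1}ᶜ : Set L) :=
      ⟨zspan_mono hS₁ hγ.1, hγ.2⟩
    have h1 := hiso _ hθmem _ hγS
    rw [← hagree _ hγ,
      isometry_map_sub (M := Submodule.span ℤ (↑S₁ : Set (L → ℂ))) hτ₁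
        (Submodule.smul_mem _ _ (hz₁ φ hφ)) (Submodule.smul_mem _ _ (hz₁ ψ hψ)),
      hsmul₁ _ (hz₁ φ hφ), hsmul₁ _ (hz₁ ψ hψ), ← hβ] at h1
    simp only [← Int.cast_smul_eq_zsmul ℂ, classInner_sub_right, classInner_smul_right, map_intCast,
      hb φ hφ, hb ψ hψ, hθψ φ hφ, hθψ ψ hψ, hn ψ (hmem ψ hψ),
      hS.orthogonal ψ (hmem ψ hψ) φ (hmem φ hφ) (Ne.symm he)] at h1
    have h2 : ((d ψ : ℤ) * b φ - d φ * b ψ : ℤ) = (d φ : ℤ) * ((a : ℤ) * n ψ) := by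
      have h3 : (((d ψ : ℤ) * b φ - d φ * b ψ : ℤ) : ℂ) =
          (((d φ : ℤ) * ((a : ℤ) * n ψ) : ℤ) : ℂ) := by
        push_cast at h1 ⊢; linear_combination h1
      exact_mod_cast h3
    have h4 : (b φ : ℤ) * d ψ = c * d φ := by rw [hc]; linear_combination h2
    rw [sub_zero]
    exact_mod_cast h4
  set Q := ∑ φ ∈ S₁, ((d φ : ℝ) ^ 2 / (n φ : ℝ)) with hQ
  have hcoef := coeff_norm_sum S₁ ψ hψ (fun φ => (b φ : ℝ)) (fun φ => (d φ : ℝ))
    (fun φ => (n φ : ℝ)) (a : ℝ) (c : ℝ) (hd0 ψ (hmem ψ hψ)) (fun φ hφ => hn0 φ (hmem φ hφ)) hrel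
  rw [← hQ] at hcoef
  have hsumb : ∑ φ ∈ S₁, ‖Cfsg.classInner D₁ (τ₁ φ)‖ ^ 2 / (n φ : ℝ) =
      ∑ φ ∈ S₁, (b φ : ℝ) ^ 2 / (n φ : ℝ) := Finset.sum_congr rfl fun φ hφ => by
    rw [hD₁b φ hφ, Complex.norm_intCast, sq_abs]
  rw [hsumb, hcoef] at hres
  have hnonneg := classInner_self_re_nonneg
    (D₁ - ∑ φ ∈ S₁, (Cfsg.classInner D₁ (τ₁ φ) / ((n φ : ℝ) : ℂ)) • τ₁ φ)
  rw [hres, Complex.sub_re, Complex.ofReal_re, hD₁n] at hnonneg
  rw [hn χ hχ, Complex.natCast_re] at hA hA'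
  have hc0 : c = 0 := by
    by_contra hcne
    have hψpos : (0 : ℝ) < d ψ := lt_of_le_of_ne (Nat.cast_nonneg _) (Ne.symm (hd0 ψ (hmem ψ hψ)))
    have hQbig : 2 * (a : ℝ) < Q / (d ψ : ℝ) ^ 2 := by
      rw [lt_div_iff₀ (by positivity)]
      have := hineq
      rw [ha] at this; push_cast at this
      linarith [this]
    have hcsq : (0 : ℝ) < (c : ℝ) ^ 2 := by
      have : (c : ℝ) ≠ 0 := by exact_mod_cast hcne
      positivity
    have hle : (c : ℝ) ^ 2 * Q / (d ψ : ℝ) ^ 2 ≤ 2 * a * c := by linarith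
    have h2 : (c : ℝ) ^ 2 * (2 * a) < 2 * a * c := by
      calc (c : ℝ) ^ 2 * (2 * a) < (c : ℝ) ^ 2 * (Q / (d ψ : ℝ) ^ 2) :=
            (mul_lt_mul_iff_right₀ hcsq).2 hQbig
        _ ≤ 2 * a * c := by rw [← mul_div_assoc]; exact hle
    have h3 : (c : ℤ) ^ 2 < c := by
      have ha' : (0 : ℝ) < a := by exact_mod_cast ha0
      have h5 : (c : ℝ) ^ 2 < (c : ℝ) := by nlinarith
      exact_mod_cast h5
    rcases le_or_gt c 0 with h | h <;> nlinarith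
  have hc0' : (c : ℝ) = 0 := by exact_mod_cast hc0
  rw [hc0'] at hnonneg hres
  obtain ⟨hAeq, hA01⟩ := hA' (by ring_nf at hnonneg ⊢; linarith)
  set X := ∑ α ∈ R χ, Cfsg.classInner β α • α with hX
  have hDzero : D₁ - ∑ φ ∈ S₁, (Cfsg.classInner D₁ (τ₁ φ) / ((n φ : ℝ) : ℂ)) • τ₁ φ = 0 := by
    apply classInner_self_eq_zero
    apply Complex.ext
    · rw [hres, Complex.sub_re, Complex.ofReal_re, hD₁n, hAeq, Complex.zero_re]; ring
    · rw [classInner_self, Complex.ofReal_im, Complex.zero_im]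
  have hbval : ∀ φ ∈ S₁, b φ = if φ = ψ then -(a : ℤ) * n ψ else 0 := fun φ hφ => by
    have h := hrel φ hφ
    rw [hc0', zero_mul] at h
    split_ifs at h ⊢ with he
    · subst he
      have h5 : (b φ : ℝ) = ((-(a : ℤ) * n φ : ℤ) : ℝ) := by
        push_cast
        exact mul_right_cancel₀ (hd0 φ (hmem φ hφ)) (by linarith)
      exact_mod_cast h5
    · have h5 : (b φ : ℝ) = 0 := by
        have := h; rw [sub_zero] at this
        exact (mul_eq_zero.1 this).resolve_right (hd0 ψ (hmem ψ hψ))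
      exact_mod_cast h5
  have hβeq : β = X - (a : ℤ) • τ₁ ψ := by
    have h := sub_eq_zero.1 hDzero
    rw [Finset.sum_eq_single ψ (fun φ hφ hne => by
      rw [hD₁b φ hφ, hbval φ hφ, if_neg hne]; simp) (fun h => absurd hψ h),
      hD₁b ψ hψ, hbval ψ hψ, if_pos rfl, hD₁, sub_eq_iff_eq_add] at h
    rw [h, ← Int.cast_smul_eq_zsmul ℂ, sub_eq_add_neg, ← neg_smul, add_comm]
    congr 2
    have : (n ψ : ℂ) ≠ 0 := by exact_mod_cast hn0 ψ (hmem ψ hψ)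
    push_cast
    field_simp
  -- properties of X
  have hXgen : Cfsg.IsGeneralizedCharacter G X := isGeneralized_sum _ fun α hα => by
    rcases hA01 α hα with h | h
    · simpa [h] using isGeneralized_zero
    · simpa [h] using hS.virtual χ hχ α hα
  have hXα : ∀ α ∈ R χ, Cfsg.classInner X α = Cfsg.classInner β α := fun α hα => by
    rw [hX, classInner_sum_left, Finset.sum_eq_single α (fun γ hγ hne => by
      rw [classInner_smul_left, hS.orthonormal χ hχ γ hγ α hα, if_neg hne, mul_zero])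
      (fun h => absurd hα h), classInner_smul_left, hS.orthonormal χ hχ α hα α hα, if_pos rfl,
      mul_one]
  have hsum01 : ∑ α ∈ R χ, Cfsg.classInner β α = (n χ : ℂ) := by
    have h1 : ∀ α ∈ R χ, Cfsg.classInner β α = ((‖Cfsg.classInner β α‖ ^ 2 : ℝ) : ℂ) := fun α hα => by
      rcases hA01 α hα with h | h <;> simp [h]
    rw [Finset.sum_congr rfl h1, ← Complex.ofReal_sum, hAeq, Complex.ofReal_natCast]
  have hXX : Cfsg.classInner X X = (n χ : ℂ) := by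
    conv_lhs => arg 2; rw [hX]
    rw [classInner_sum_right, ← hsum01]
    refine Finset.sum_congr rfl fun α hα => ?_
    rw [classInner_smul_right, hXα α hα]
    rcases hA01 α hα with h | h <;> simp [h]
  set E := τ (χ - χ') with hE
  have hXE : Cfsg.classInner X E = (n χ : ℂ) := by
    rw [hE, hS.sum_eq χ hχ, classInner_sum_right, ← hsum01]
    exact Finset.sum_congr rfl hXα
  have hEX : Cfsg.classInner E X = (n χ : ℂ) := by rw [← classInner_conj, hXE, map_natCast]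
  have hEE : Cfsg.classInner E E = 2 * (n χ : ℂ) := by
    rw [hE, hiso _ (coherenceSystem_sub_mem hS hχ) _ (coherenceSystem_sub_mem hS hχ),
      coherenceSystem_norm_diff hS hχ, hn χ hχ]
  have hX₁ : ∀ φ ∈ S₁, Cfsg.classInner X (τ₁ φ) = 0 := fun φ hφ => by
    rw [hX, classInner_sum_left]
    exact Finset.sum_eq_zero fun α hα => by
      rw [classInner_smul_left, ← classInner_conj (τ₁ φ) α, havoid φ hφ α hα, map_zero, mul_zero]
  have hE₁ : ∀ φ ∈ S₁, Cfsg.classInner E (τ₁ φ) = 0 := fun φ hφ => by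
    rw [hE, hS.sum_eq χ hχ, classInner_sum_left]
    exact Finset.sum_eq_zero fun α hα => by
      rw [← classInner_conj (τ₁ φ) α, havoid φ hφ α hα, map_zero]
  let T : (L → ℂ) → G → ℂ := fun φ => if φ = χ then X else if φ = χ' then X - E else τ₁ φ
  have hne : χ' ≠ χ := hS.conj_ne χ hχ
  have hTχ : T χ = X := if_pos rfl
  have hTχ' : T χ' = X - E := (if_neg hne).trans (if_pos rfl)
  have hT₁ : ∀ φ ∈ S₁, T φ = τ₁ φ := fun φ hφ => by
    simp only [T]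
    rw [if_neg (fun e : φ = χ => hχ₁ (e ▸ hφ)), if_neg (fun e : φ = χ' => hχ₂ (e ▸ hφ))]
  set s := insert χ (insert χ' S₁) with hs
  have hsset : (↑s : Set (L → ℂ)) = ↑S₁ ∪ {χ, χ'} := by
    rw [hs, Finset.coe_insert, Finset.coe_insert]
    ext x
    simp only [Set.mem_insert_iff, Set.mem_union, Set.mem_singleton_iff]
    tauto
  have hsS : ∀ φ ∈ s, φ ∈ S := fun φ hφ => by
    simp only [hs, Finset.mem_insert] at hφ
    rcases hφ with rfl | rfl | h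
    exacts [hχ, hχ'S, hmem φ h]
  have horth : ∀ φ ∈ s, ∀ η ∈ s, φ ≠ η → Cfsg.classInner φ η = 0 := fun φ hφ η hη =>
    hS.orthogonal φ (hsS φ hφ) η (hsS η hη)
  have hne0 : ∀ φ ∈ s, φ ≠ 0 := fun φ hφ => coherenceSystem_ne_zero hS (hsS φ hφ)
  have hisom : Cfsg.IsLinearIsometryOn (Cfsg.zspan (↑s : Set (L → ℂ))) (orthExt s T) := by
    refine orthExt_isometry horth hne0 (fun φ hφ => ?_) fun φ hφ η hη => ?_
    · simp only [hs, Finset.mem_insert] at hφ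
      rcases hφ with rfl | rfl | h
      · rw [hTχ]; exact hXgen
      · rw [hTχ']; exact IsGeneralized.sub hXgen (hgen _ (coherenceSystem_sub_mem hS hχ))
      · rw [hT₁ φ h]; exact hgen₁ _ (hz₁ φ h)
    · simp only [hs, Finset.mem_insert] at hφ hη
      have hc' : Cfsg.classInner χ' χ' = (n χ : ℂ) := by
        rw [hχ'def, classInner_conjFun_conjFun, hn χ hχ]
      have h0 := classInner_conj_eq_zero hS hχ
      rw [← hχ'def] at h0
      have h0' : Cfsg.classInner χ' χ = 0 := by rw [← classInner_conj, h0, map_zero]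
      rcases hφ with rfl | rfl | h <;> rcases hη with rfl | rfl | h'
      · rw [hTχ, hXX, hn _ hχ]
      · rw [hTχ, hTχ', classInner_sub_right, hXX, hXE, h0, sub_self]
      · rw [hTχ, hT₁ η h', hX₁ η h', (horth' η h').1]
      · rw [hTχ, hTχ', classInner_sub_left, hXX, hEX, h0', sub_self]
      · rw [hTχ', classInner_sub_left, classInner_sub_right, classInner_sub_right, hXX, hXE, hEX,
          hEE, hc']
        ring
      · rw [hTχ', hT₁ η h', classInner_sub_left, hX₁ η h', hE₁ η h', (horth' η h').2, sub_self]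
      · rw [hTχ, hT₁ φ h, ← classInner_conj, hX₁ φ h, map_zero, ← classInner_conj,
          (horth' φ h).1, map_zero]
      · rw [hTχ', hT₁ φ h, ← classInner_conj, classInner_sub_left, hX₁ φ h, hE₁ φ h, sub_self,
          map_zero, ← classInner_conj, (horth' φ h).2, map_zero]
      · rw [hT₁ φ h, hT₁ η h', hiso₁ _ (hz₁ φ h) _ (hz₁ η h')]
  refine ⟨⟨_, mem_zspanOn_one.2 ⟨Submodule.sub_mem _ (subset_zspan (Or.inr (Or.inl rfl)))
      (subset_zspan (Or.inr (Or.inr rfl))),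
      (mem_zspanOn_one.1 (coherenceSystem_sub_mem hS hχ)).2⟩, sub_ne_zero.2 (Ne.symm hne)⟩,
    orthExt s T, by rw [← hsset]; exact hisom, fun α hα => ?_⟩
  rw [← hsset] at hα
  have hs₀ : S₁ ⊆ s := fun φ hφ => by simp [hs, hφ]
  refine orthExt_eq_of_step hS.isometry (fun φ hφ => hsS φ hφ) hs₀ hψ (fun _ => (a : ℤ))
    (fun φ hφ => ?_) (fun η hη => ?_) (fun φ hφ => ?_) hα
  · obtain ⟨h, h'⟩ := Finset.mem_sdiff.1 hφ
    simp only [hs, Finset.mem_insert] at h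
    rcases h with rfl | rfl | h
    · rw [hd φ hχ, hd ψ (hmem ψ hψ), ha]; simp [mul_comm]
    · rw [hχ'def, Cfsg.conjFun, hd χ hχ, hd ψ (hmem ψ hψ), ha]; simp [mul_comm]
    · exact absurd h h'
  · rw [← hagree η hη]
    exact orthExt_eq_of_extension horth hne0 hτ₁ (Finset.coe_subset.2 hs₀) hT₁ hη.1
  · obtain ⟨h, h'⟩ := Finset.mem_sdiff.1 hφ
    simp only [hs, Finset.mem_insert] at h
    have hψs : ψ ∈ s := hs₀ hψ
    rcases h with rfl | rfl | h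
    · rw [orthExt_sub, orthExt_zsmul, orthExt_self horth hne0 (by simp [hs]),
        orthExt_self horth hne0 hψs, hTχ, hT₁ ψ hψ, ← hθ, ← hβ, hβeq]
    · rw [orthExt_sub, orthExt_zsmul, orthExt_self horth hne0 (by simp [hs]),
        orthExt_self horth hne0 hψs, hTχ', hT₁ ψ hψ,
        show χ' - (a : ℤ) • ψ = θ - (χ - χ') by rw [hθ]; abel,
        isometry_map_sub (M := zspanOnSub S ({1}ᶜ : Set L)) hS.isometry hθmem
          (coherenceSystem_sub_mem hS hχ), ← hβ, ← hE, hβeq]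
      abel
    · exact absurd h h'

/-- Two weighted differences of signed irreducibles. -/
theorem weighted_signed {a b c d : G → ℂ} (ha : IsSignedIrr a) (hb : IsSignedIrr b)
    (hc : IsSignedIrr c) (hd : IsSignedIrr d) {p q r s : ℕ} (hp : 0 < p) (hq : 0 < q) (hr : 0 < r)
    (hs : 0 < s) (hab : Cfsg.classInner a b = 0) (hcd : Cfsg.classInner c d = 0)
    (hmix : Cfsg.classInner ((p : ℂ) • a - (q : ℂ) • b) ((r : ℂ) • c - (s : ℂ) • d) = 0)
    (h1 : (p : ℂ) * a 1 = q * b 1) (h2 : (r : ℂ) * c 1 = s * d 1) :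
    Cfsg.classInner a c = 0 := by
  by_contra hne
  obtain ⟨σ, hσ, rfl, hσv⟩ := IsSignedIrr.eq_smul_of_classInner_ne ha hc hne
  have hσ0 : σ ≠ 0 := by rcases hσ with rfl | rfl <;> norm_num
  have hp' : (p : ℂ) ≠ 0 := by exact_mod_cast hp.ne'
  have hr' : (r : ℂ) ≠ 0 := by exact_mod_cast hr.ne'
  have had : Cfsg.classInner a d = 0 := by
    rw [classInner_smul_left, mul_eq_zero] at hcd
    exact hcd.resolve_left hσ0
  have hba : Cfsg.classInner b a = 0 := by rw [← classInner_conj, hab, map_zero]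
  simp only [classInner_sub_left, classInner_sub_right, classInner_smul_left (p : ℂ),
    classInner_smul_left (q : ℂ), classInner_smul_right, map_natCast] at hmix
  have hconj : conj σ = σ := by rcases hσ with rfl | rfl <;> simp
  rw [IsSignedIrr.classInner_self ha, had, hba, hconj] at hmix
  simp only [mul_one, mul_zero, sub_zero] at hmix
  have hbd : Cfsg.classInner b d ≠ 0 := fun h0 => by
    rw [h0] at hmix
    simp only [mul_zero, sub_zero] at hmix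
    exact mul_ne_zero hr' (mul_ne_zero hσ0 hp') hmix
  obtain ⟨t, ht, rfl, htv⟩ := IsSignedIrr.eq_smul_of_classInner_ne hb hd hbd
  rw [htv] at hmix
  have key : ((r : ℂ) * σ * q - s * t * p) * (a 1) = 0 := by
    simp only [Pi.smul_apply, smul_eq_mul] at h2
    have hq' : (q : ℂ) ≠ 0 := by exact_mod_cast hq.ne'
    apply mul_left_cancel₀ hq'
    linear_combination (q : ℂ) * q * h2 - (q : ℂ) * s * t * h1
  have key' := (mul_eq_zero.1 key).resolve_right (IsSignedIrr.apply_one_ne_zero ha)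
  have h3 : (r : ℂ) * σ * ((q : ℂ) * q + p * p) = 0 := by
    linear_combination (q : ℂ) * key' + (p : ℂ) * hmix
  have h4 : ((q : ℂ) * q + p * p) = 0 := (mul_eq_zero.1 h3).resolve_left (mul_ne_zero hr' hσ0)
  have h5 : q * q + p * p = 0 := by exact_mod_cast h4
  have : 0 < q * q + p * p := by positivity
  omega

/-- Feit's coherence criterion. -/
theorem coherence_extend_irr (S₀ : Finset (L → ℂ)) [DecidableEq (L → ℂ)] {χ : L → ℂ}
    (hirr : ∀ ξ ∈ S₀, Cfsg.IsIrrCharacter L ξ) (hχ : Cfsg.IsIrrCharacter L χ) (hχS : χ ∉ S₀)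
    (d : (L → ℂ) → ℕ) (hd : ∀ ξ ∈ insert χ S₀, ξ 1 = (d ξ : ℂ)) {τ : (L → ℂ) → G → ℂ}
    (hτ : Cfsg.IsLinearIsometryOn
      (Cfsg.zspanOn (↑(insert χ S₀) : Set (L → ℂ)) ({1}ᶜ : Set L)) τ)
    (hτ1 : ∀ α ∈ Cfsg.zspanOn (↑(insert χ S₀) : Set (L → ℂ)) ({1}ᶜ : Set L), τ α 1 = 0)
    (hcoh : Cfsg.IsCoherent (↑S₀ : Set (L → ℂ)) ({1}ᶜ : Set L) τ) {ψ : L → ℂ} (hψ : ψ ∈ S₀)
    (hdvd : d ψ ∣ d χ) (hlt : 2 * d ψ * d χ < ∑ ξ ∈ S₀, d ξ ^ 2) :
    Cfsg.IsCoherent (↑(insert χ S₀) : Set (L → ℂ)) ({1}ᶜ : Set L) τ := by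
  classical
  obtain ⟨hadd, hsmul, hiso, hgen⟩ := id hτ
  obtain ⟨⟨α₀, hα₀, hα₀ne⟩, τ₁, hτ₁, hagree⟩ := hcoh
  obtain ⟨hadd₁, hsmul₁, hiso₁, hgen₁⟩ := id hτ₁
  have hsub : S₀ ⊆ insert χ S₀ := Finset.subset_insert _ _
  have hsub' : (↑S₀ : Set (L → ℂ)) ⊆ ↑(insert χ S₀) := Finset.coe_subset.2 hsub
  have hirr' : ∀ ξ ∈ insert χ S₀, Cfsg.IsIrrCharacter L ξ := fun ξ hξ =>
    (Finset.mem_insert.1 hξ).elim (fun h => h ▸ hχ) (hirr ξ)
  have hdpos : ∀ ξ ∈ insert χ S₀, 0 < d ξ := fun ξ hξ => Nat.pos_of_ne_zero fun h =>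
    IsIrrCharacter.apply_one_ne_zero (hirr' ξ hξ) (by rw [hd ξ hξ, h, Nat.cast_zero])
  have hdψ := hdpos ψ (hsub hψ)
  obtain ⟨a, ha⟩ := hdvd
  have ha0 : 0 < a := Nat.pos_of_ne_zero fun h => by
    have := hdpos χ (Finset.mem_insert_self χ S₀)
    rw [ha, h, mul_zero] at this
    exact lt_irrefl 0 this
  have hz : ∀ ξ ∈ S₀, ξ ∈ Cfsg.zspan (↑S₀ : Set (L → ℂ)) := fun ξ hξ => subset_zspan hξ
  set θ := χ - (a : ℤ) • ψ with hθ
  have hθmem : θ ∈ Cfsg.zspanOn (↑(insert χ S₀) : Set (L → ℂ)) ({1}ᶜ : Set L) :=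
    mem_zspanOn_one.2 ⟨Submodule.sub_mem _ (subset_zspan (Finset.mem_insert_self χ S₀))
      (Submodule.smul_mem _ _ (subset_zspan (hsub hψ))), by
      rw [hθ, Pi.sub_apply, Pi.smul_apply, hd χ (Finset.mem_insert_self χ S₀), hd ψ (hsub hψ), ha]
      simp [mul_comm]⟩
  set β := τ θ with hβ
  have hχξ : ∀ ξ ∈ S₀, Cfsg.classInner χ ξ = 0 := fun ξ hξ =>
    IsIrrCharacter.classInner_of_ne hχ (hirr ξ hξ) fun h => hχS (h ▸ hξ)
  have hψψ : Cfsg.classInner ψ ψ = 1 := IsIrrCharacter.classInner_self (hirr ψ hψ)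
  have hθξ : ∀ ξ ∈ S₀, Cfsg.classInner θ ξ = -((a : ℂ) * Cfsg.classInner ψ ξ) := fun ξ hξ => by
    rw [hθ, classInner_sub_left, hχξ ξ hξ, ← Int.cast_smul_eq_zsmul ℂ, classInner_smul_left]
    simp
  have hψχ : Cfsg.classInner ψ χ = 0 := by rw [← classInner_conj, hχξ ψ hψ, map_zero]
  have hβn : Cfsg.classInner β β = ((1 + a ^ 2 : ℕ) : ℂ) := by
    rw [hβ, hiso _ hθmem _ hθmem, hθ, ← Int.cast_smul_eq_zsmul ℂ]
    simp only [classInner_sub_left, classInner_sub_right, classInner_smul_left,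
      classInner_smul_right, hψχ, hχξ ψ hψ, hψψ, IsIrrCharacter.classInner_self hχ,
      Int.cast_natCast, map_natCast]
    push_cast; ring
  have hβgen := hgen _ hθmem
  have hf : ∀ i ∈ S₀, ∀ j ∈ S₀, Cfsg.classInner (τ₁ i) (τ₁ j) =
      if i = j then ((1 : ℝ) : ℂ) else 0 := fun i hi j hj => by
    rw [hiso₁ _ (hz i hi) _ (hz j hj), Complex.ofReal_one]
    exact IsIrrCharacter.classInner_eq (hirr i hi) (hirr j hj)
  obtain ⟨hres, hperp⟩ := classInner_residual_orth S₀ τ₁ (fun _ => (1 : ℝ))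
    (fun _ _ => one_ne_zero) hf β
  have hint : ∀ φ ∈ S₀, ∃ k : ℤ, Cfsg.classInner β (τ₁ φ) = k := fun φ hφ =>
    IsGeneralized.exists_classInner_eq_int hβgen (hgen₁ _ (hz φ hφ))
  choose! b hb using hint
  set c : ℤ := b ψ + a with hc
  have hγ : ∀ φ ∈ S₀, (d ψ : ℤ) • φ - (d φ : ℤ) • ψ ∈
      Cfsg.zspanOn (↑S₀ : Set (L → ℂ)) ({1}ᶜ : Set L) := fun φ hφ => mem_zspanOn_one.2
    ⟨Submodule.sub_mem _ (Submodule.smul_mem _ _ (hz φ hφ)) (Submodule.smul_mem _ _ (hz ψ hψ)), by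
      rw [Pi.sub_apply, Pi.smul_apply, Pi.smul_apply, hd φ (hsub hφ), hd ψ (hsub hψ)]
      simp [mul_comm]⟩
  have hγU : ∀ φ ∈ S₀, (d ψ : ℤ) • φ - (d φ : ℤ) • ψ ∈
      Cfsg.zspanOn (↑(insert χ S₀) : Set (L → ℂ)) ({1}ᶜ : Set L) := fun φ hφ =>
    ⟨zspan_mono hsub' (hγ φ hφ).1, (hγ φ hφ).2⟩
  have hτγ : ∀ φ ∈ S₀, τ ((d ψ : ℤ) • φ - (d φ : ℤ) • ψ) =
      ((d ψ : ℤ) : ℂ) • τ₁ φ - ((d φ : ℤ) : ℂ) • τ₁ ψ := fun φ hφ => by
    rw [← hagree _ (hγ φ hφ),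
      isometry_map_sub (M := Submodule.span ℤ (↑S₀ : Set (L → ℂ))) hτ₁
        (Submodule.smul_mem _ _ (hz φ hφ)) (Submodule.smul_mem _ _ (hz ψ hψ)),
      hsmul₁ _ (hz φ hφ), hsmul₁ _ (hz ψ hψ), Int.cast_smul_eq_zsmul, Int.cast_smul_eq_zsmul]
  have hrelZ : ∀ φ ∈ S₀, b φ * d ψ = c * d φ - if φ = ψ then (a : ℤ) * d ψ else 0 := by
    intro φ hφ
    split_ifs with he
    · subst he; rw [hc]; ring
    have h1 := hiso _ hθmem _ (hγU φ hφ)
    rw [hτγ φ hφ, ← hβ] at h1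
    simp only [← Int.cast_smul_eq_zsmul ℂ, classInner_sub_right, classInner_smul_right, map_intCast,
      hb φ hφ, hb ψ hψ, hθξ φ hφ, hθξ ψ hψ, hψψ,
      IsIrrCharacter.classInner_of_ne (hirr ψ hψ) (hirr φ hφ) (Ne.symm he)] at h1
    have h2 : ((d ψ : ℤ) * b φ - d φ * b ψ : ℤ) = (d φ : ℤ) * (a : ℤ) := by
      have h3 : (((d ψ : ℤ) * b φ - d φ * b ψ : ℤ) : ℂ) = (((d φ : ℤ) * (a : ℤ) : ℤ) : ℂ) := by
        push_cast at h1 ⊢; linear_combination h1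
      exact_mod_cast h3
    rw [hc]; linear_combination h2
  set Q : ℕ := ∑ ξ ∈ S₀, d ξ ^ 2 with hQ
  have hQb : 2 * (a : ℤ) * (d ψ : ℤ) ^ 2 + 1 ≤ (Q : ℤ) := by
    have h : 2 * d ψ * (d ψ * a) + 1 ≤ Q := by rw [← ha]; omega
    have h' : ((2 * d ψ * (d ψ * a) + 1 : ℕ) : ℤ) ≤ (Q : ℤ) := by exact_mod_cast h
    push_cast at h'; linarith
  set η := β - ∑ i ∈ S₀, (Cfsg.classInner β (τ₁ i) / ((1 : ℝ) : ℂ)) • τ₁ i with hη
  have hηgen : Cfsg.IsGeneralizedCharacter G η := by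
    refine IsGeneralized.sub hβgen (isGeneralized_sum _ fun i hi => ?_)
    rw [hb i hi, Complex.ofReal_one, div_one]
    exact IsGeneralized.intCast_smul (hgen₁ _ (hz i hi)) _
  obtain ⟨k, hk⟩ := IsGeneralized.exists_classInner_eq_int hηgen hηgen
  have hk0 : 0 ≤ k := by
    have h := classInner_self_re_nonneg η
    rw [hk, Complex.intCast_re] at h
    exact_mod_cast h
  have hkey : (1 - k) * (d ψ : ℤ) ^ 2 = c ^ 2 * Q - 2 * a * c * (d ψ : ℤ) ^ 2 := by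
    have hcoef := coeff_norm_sum S₀ ψ hψ (fun φ => (b φ : ℝ)) (fun φ => (d φ : ℝ))
      (fun _ => (1 : ℝ)) (a : ℝ) (c : ℝ) (by exact_mod_cast hdψ.ne') (fun _ _ => one_ne_zero)
      (fun φ hφ => by
        have h : ((b φ * d ψ : ℤ) : ℝ) = ((c * d φ - if φ = ψ then (a : ℤ) * d ψ else 0 : ℤ) : ℝ) :=
          congrArg Int.cast (hrelZ φ hφ)
        split_ifs at h ⊢ <;> push_cast at h ⊢ <;> linarith)
    have hsumb : ∑ i ∈ S₀, ‖Cfsg.classInner β (τ₁ i)‖ ^ 2 / (1 : ℝ) =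
        ∑ i ∈ S₀, (b i : ℝ) ^ 2 / (1 : ℝ) := Finset.sum_congr rfl fun φ hφ => by
      rw [hb φ hφ, Complex.norm_intCast, sq_abs]
    rw [hsumb, hcoef, hk, hβn] at hres
    have h5 := congrArg Complex.re hres
    rw [Complex.intCast_re, Complex.sub_re, Complex.natCast_re, Complex.ofReal_re] at h5
    simp only [div_one] at h5
    rw [show (∑ ξ ∈ S₀, ((d ξ : ℝ)) ^ 2) = (Q : ℝ) by rw [hQ]; push_cast; rfl] at h5
    push_cast at h5
    have hd' : (d ψ : ℝ) ≠ 0 := by exact_mod_cast hdψ.ne'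
    field_simp at h5
    have h6 : (((1 - k) * (d ψ : ℤ) ^ 2 : ℤ) : ℝ) =
        ((c ^ 2 * Q - 2 * a * c * (d ψ : ℤ) ^ 2 : ℤ) : ℝ) := by
      push_cast; linear_combination -h5
    exact_mod_cast h6
  have hη0 : ∀ ξ ∈ S₀, Cfsg.classInner η (τ₁ ξ) = 0 := hperp
  have hc0 : c = 0 := by
    have hdd : (0 : ℤ) < (d ψ : ℤ) ^ 2 := by positivity
    have ha' : (1 : ℤ) ≤ a := by exact_mod_cast ha0
    by_contra hcne
    have hc1 : c = 1 := by
      by_contra h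
      have h1 : 2 ≤ c * (c - 1) := by
        rcases le_or_gt c 0 with h' | h'
        · have : c ≤ -1 := by omega
          nlinarith
        · have : 2 ≤ c := by omega
          nlinarith
      have h2 : c ^ 2 * (2 * a * (d ψ : ℤ) ^ 2) + c ^ 2 ≤ c ^ 2 * Q := by
        have := mul_le_mul_of_nonneg_left hQb (sq_nonneg c)
        linarith
      have h3 : (4 : ℤ) * (d ψ : ℤ) ^ 2 ≤ 2 * a * (d ψ : ℤ) ^ 2 * (c * (c - 1)) := by
        have e1 := mul_le_mul_of_nonneg_left h1 (by positivity : (0 : ℤ) ≤ 2 * a * (d ψ : ℤ) ^ 2)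
        have e2 := mul_le_mul_of_nonneg_right ha' hdd.le
        linarith
      linarith [sq_nonneg c, mul_nonneg hk0 hdd.le]
    rw [hc1] at hkey
    have hkz : k = 0 := by
      by_contra h
      have h1 : 1 ≤ k := by omega
      nlinarith
    have hη00 : η = 0 := classInner_self_eq_zero (by rw [hk, hkz, Int.cast_zero])
    have hdeg : ∀ φ ∈ S₀, (d ψ : ℂ) * τ₁ φ 1 = (d φ : ℂ) * τ₁ ψ 1 := fun φ hφ => by
      have h := hτ1 _ (hγU φ hφ)
      rw [hτγ φ hφ, Pi.sub_apply, Pi.smul_apply, Pi.smul_apply, sub_eq_zero] at h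
      simpa using h
    have hβ1 : β 1 = 0 := hτ1 _ hθmem
    rw [hη, sub_eq_zero] at hη00
    rw [hη00, Finset.sum_apply] at hβ1
    have hterm : ∀ φ ∈ S₀, (d ψ : ℂ) ^ 2 *
        ((Cfsg.classInner β (τ₁ φ) / ((1 : ℝ) : ℂ)) • τ₁ φ) 1 =
        (((d φ : ℂ) ^ 2 - if φ = ψ then (a : ℂ) * d ψ ^ 2 else 0)) * τ₁ ψ 1 := fun φ hφ => by
      have h := hrelZ φ hφ
      rw [hc1, one_mul] at h
      have h' := congrArg (Int.cast : ℤ → ℂ) h
      rw [Pi.smul_apply, smul_eq_mul, hb φ hφ, Complex.ofReal_one, div_one]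
      split_ifs at h' ⊢ with he
      · subst he
        push_cast at h'
        linear_combination (d φ : ℂ) * τ₁ φ 1 * h'
      · push_cast at h'
        linear_combination (d ψ : ℂ) * τ₁ φ 1 * h' + (d φ : ℂ) * hdeg φ hφ
    have h7 := congrArg (fun x : ℂ => (d ψ : ℂ) ^ 2 * x) hβ1
    simp only [mul_zero, Finset.mul_sum] at h7
    rw [Finset.sum_congr rfl hterm, ← Finset.sum_mul, Finset.sum_sub_distrib, Finset.sum_ite_eq',
      if_pos hψ, mul_eq_zero] at h7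
    have ht : τ₁ ψ 1 ≠ 0 := IsSignedIrr.apply_one_ne_zero (IsGeneralized.isIrr_or_neg
      (hgen₁ _ (hz ψ hψ)) (by rw [hiso₁ _ (hz ψ hψ) _ (hz ψ hψ), hψψ]))
    have h8 := h7.resolve_right ht
    rw [show ∑ ξ ∈ S₀, (d ξ : ℂ) ^ 2 = (Q : ℂ) by rw [hQ]; push_cast; rfl, sub_eq_zero] at h8
    have h9 : (Q : ℤ) = (a : ℤ) * (d ψ : ℤ) ^ 2 := by exact_mod_cast h8
    nlinarith
  have hk1 : k = 1 := by
    rw [hc0] at hkey
    have hdd : ((d ψ : ℤ)) ^ 2 ≠ 0 := by positivity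
    have : (1 - k) * (d ψ : ℤ) ^ 2 = 0 := by rw [hkey]; ring
    have := (mul_eq_zero.1 this).resolve_right hdd
    omega
  have hβeq : β = η - (a : ℤ) • τ₁ ψ := by
    have hsum : ∑ i ∈ S₀, (Cfsg.classInner β (τ₁ i) / ((1 : ℝ) : ℂ)) • τ₁ i =
        -((a : ℤ) • τ₁ ψ) := by
      rw [Finset.sum_eq_single ψ (fun φ hφ hne => ?_) (fun h => absurd hψ h)]
      · rw [hb ψ hψ, show b ψ = -(a : ℤ) by omega, Complex.ofReal_one, div_one, Int.cast_neg,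
          neg_smul, Int.cast_smul_eq_zsmul]
      · have h := hrelZ φ hφ
        rw [hc0, if_neg hne, zero_mul, sub_zero, mul_eq_zero] at h
        rw [hb φ hφ, h.resolve_right (by exact_mod_cast hdψ.ne')]
        simp
    rw [hη, hsum]; abel
  let T : (L → ℂ) → G → ℂ := fun φ => if φ = χ then η else τ₁ φ
  have hTχ : T χ = η := if_pos rfl
  have hT₁ : ∀ φ ∈ S₀, T φ = τ₁ φ := fun φ hφ => if_neg fun e : φ = χ => hχS (e ▸ hφ)
  have horth : ∀ φ ∈ insert χ S₀, ∀ ξ ∈ insert χ S₀, φ ≠ ξ → Cfsg.classInner φ ξ = 0 :=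
    fun φ hφ ξ hξ h => IsIrrCharacter.classInner_of_ne (hirr' φ hφ) (hirr' ξ hξ) h
  have hne0 : ∀ φ ∈ insert χ S₀, φ ≠ 0 := fun φ hφ => IsIrrCharacter.ne_zero (hirr' φ hφ)
  have hisom : Cfsg.IsLinearIsometryOn (Cfsg.zspan (↑(insert χ S₀) : Set (L → ℂ)))
      (orthExt (insert χ S₀) T) := by
    refine orthExt_isometry horth hne0 (fun φ hφ => ?_) fun φ hφ ξ hξ => ?_
    · rcases Finset.mem_insert.1 hφ with rfl | h
      · rw [hTχ]; exact hηgen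
      · rw [hT₁ φ h]; exact hgen₁ _ (hz φ h)
    · rcases Finset.mem_insert.1 hφ with rfl | h <;> rcases Finset.mem_insert.1 hξ with rfl | h'
      · rw [hTχ, hk, hk1, IsIrrCharacter.classInner_self hχ, Int.cast_one]
      · rw [hTχ, hT₁ ξ h', hη0 ξ h', hχξ ξ h']
      · rw [hTχ, hT₁ φ h, ← classInner_conj, hη0 φ h, map_zero, ← classInner_conj, hχξ φ h,
          map_zero]
      · rw [hT₁ φ h, hT₁ ξ h', hiso₁ _ (hz φ h) _ (hz ξ h')]
  refine ⟨⟨α₀, ⟨zspan_mono hsub' hα₀.1, hα₀.2⟩, hα₀ne⟩, _, hisom, fun α hα => ?_⟩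
  refine orthExt_eq_of_step hτ subset_rfl hsub hψ (fun _ => (a : ℤ)) (fun φ hφ => ?_)
    (fun ξ hξ => ?_) (fun φ hφ => ?_) hα
  · obtain ⟨h, h'⟩ := Finset.mem_sdiff.1 hφ
    obtain rfl := (Finset.mem_insert.1 h).resolve_right h'
    rw [hd φ h, hd ψ (hsub hψ), ha]; simp [mul_comm]
  · rw [← hagree ξ hξ]
    exact orthExt_eq_of_extension horth hne0 hτ₁ hsub' hT₁ hξ.1
  · obtain ⟨h, h'⟩ := Finset.mem_sdiff.1 hφ
    obtain rfl := (Finset.mem_insert.1 h).resolve_right h'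
    rw [orthExt_sub, orthExt_zsmul, orthExt_self horth hne0 h, orthExt_self horth hne0 (hsub hψ),
      hTχ, hT₁ ψ hψ, ← hθ, ← hβ, hβeq]

/-- Gluing two coherent sets. -/
theorem coherence_union {S X Y : Set (L → ℂ)} (hirr : ∀ ξ ∈ S, Cfsg.IsIrrCharacter L ξ)
    (hXS : X ⊆ S) (hYS : Y ⊆ S) (hXY : Disjoint X Y) (hX2 : ∃ a ∈ X, ∃ b ∈ X, a ≠ b)
    (hY2 : ∃ a ∈ Y, ∃ b ∈ Y, a ≠ b) {α : (L → ℂ) → G → ℂ}
    (hα : Cfsg.IsLinearIsometryOn (Cfsg.zspanOn S ({1}ᶜ : Set L)) α)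
    (hα1 : ∀ θ ∈ Cfsg.zspanOn S ({1}ᶜ : Set L), α θ 1 = 0) {σ τ : (L → ℂ) → G → ℂ}
    (hσ : Cfsg.IsLinearIsometryOn (Cfsg.zspan X) σ)
    (hσα : ∀ θ ∈ Cfsg.zspanOn X ({1}ᶜ : Set L), σ θ = α θ)
    (hτ : Cfsg.IsLinearIsometryOn (Cfsg.zspan Y) τ)
    (hτα : ∀ θ ∈ Cfsg.zspanOn Y ({1}ᶜ : Set L), τ θ = α θ) :
    (∀ χ ∈ X, ∀ η ∈ Y, Cfsg.classInner (σ χ) (τ η) = 0) ∧
      ((∃ χ₀ ∈ X, ∃ η₀ ∈ Y, α (χ₀ 1 • η₀ - η₀ 1 • χ₀) = χ₀ 1 • τ η₀ - η₀ 1 • σ χ₀) →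
        Cfsg.IsCoherent (X ∪ Y) ({1}ᶜ : Set L) α) := by
  classical
  obtain ⟨hadd, hsmul, hiso, hgen⟩ := id hα
  have hlin : Cfsg.IsLinearIsometryOn ((zspanOnSub S ({1}ᶜ : Set L) : Submodule ℤ _) : Set (L → ℂ)) α :=
    hα
  have hex : ∀ ξ ∈ S, ∃ k : ℕ, 0 < k ∧ ξ 1 = (k : ℂ) := fun ξ hξ => by
    obtain ⟨k, hk0, hk⟩ := IsIrrCharacter.exists_degree (hirr ξ hξ)
    exact ⟨k, Nat.pos_of_ne_zero (by omega), hk⟩
  choose! d hd0 hd using hex
  have hγ : ∀ {U : Set (L → ℂ)}, U ⊆ S → ∀ a ∈ U, ∀ b ∈ U,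
      (d b : ℤ) • a - (d a : ℤ) • b ∈ Cfsg.zspanOn U ({1}ᶜ : Set L) := fun {U} hU a ha b hb =>
    mem_zspanOn_one.2 ⟨Submodule.sub_mem _ (Submodule.smul_mem _ _ (subset_zspan ha))
      (Submodule.smul_mem _ _ (subset_zspan hb)), by
      rw [Pi.sub_apply, Pi.smul_apply, Pi.smul_apply, hd a (hU ha), hd b (hU hb)]
      simp [mul_comm]⟩
  have himg : ∀ {U : Set (L → ℂ)} {f : (L → ℂ) → G → ℂ}, U ⊆ S →
      Cfsg.IsLinearIsometryOn (Cfsg.zspan U) f →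
      (∀ θ ∈ Cfsg.zspanOn U ({1}ᶜ : Set L), f θ = α θ) → ∀ a ∈ U, ∀ b ∈ U, a ≠ b →
      IsSignedIrr (f a) ∧ Cfsg.classInner (f a) (f b) = 0 ∧
        (d b : ℂ) * f a 1 = (d a : ℂ) * f b 1 ∧
        α ((d b : ℤ) • a - (d a : ℤ) • b) = (d b : ℂ) • f a - (d a : ℂ) • f b := by
    intro U f hU hf hfα a ha b hb hab
    have hza : a ∈ Cfsg.zspan U := subset_zspan ha
    have hzb : b ∈ Cfsg.zspan U := subset_zspan hb
    have e : α ((d b : ℤ) • a - (d a : ℤ) • b) = (d b : ℂ) • f a - (d a : ℂ) • f b := by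
      rw [← hfα _ (hγ hU a ha b hb), isometry_map_sub (M := Submodule.span ℤ U) hf
        (Submodule.smul_mem _ _ hza) (Submodule.smul_mem _ _ hzb), hf.2.1 _ hza, hf.2.1 _ hzb,
        ← Int.cast_smul_eq_zsmul ℂ, ← Int.cast_smul_eq_zsmul ℂ (d a : ℤ), Int.cast_natCast,
        Int.cast_natCast]
    refine ⟨IsGeneralized.isIrr_or_neg (hf.2.2.2 _ hza) (by
      rw [hf.2.2.1 _ hza _ hza, IsIrrCharacter.classInner_self (hirr a (hU ha))]), ?_, ?_, e⟩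
    · rw [hf.2.2.1 _ hza _ hzb, IsIrrCharacter.classInner_of_ne (hirr a (hU ha)) (hirr b (hU hb)) hab]
    · have h := hα1 _ (⟨zspan_mono hU (hγ hU a ha b hb).1, (hγ hU a ha b hb).2⟩ :
        (d b : ℤ) • a - (d a : ℤ) • b ∈ Cfsg.zspanOn S ({1}ᶜ : Set L))
      rw [e, Pi.sub_apply, Pi.smul_apply, Pi.smul_apply, sub_eq_zero] at h
      simpa using h
  have horth' : ∀ χ ∈ X, ∀ η ∈ Y, Cfsg.classInner (σ χ) (τ η) = 0 := by
    intro a ha c hc
    obtain ⟨x, hx, y, hy, hxy⟩ := hX2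
    obtain ⟨b, hb, hab⟩ : ∃ b ∈ X, a ≠ b := by
      by_cases h : a = x
      · exact ⟨y, hy, h ▸ hxy⟩
      · exact ⟨x, hx, h⟩
    obtain ⟨u, hu, v, hv, huv⟩ := hY2
    obtain ⟨e, he, hce⟩ : ∃ e ∈ Y, c ≠ e := by
      by_cases h : c = u
      · exact ⟨v, hv, h ▸ huv⟩
      · exact ⟨u, hu, h⟩
    obtain ⟨sa, oab, dab, eab⟩ := himg hXS hσ hσα a ha b hb hab
    obtain ⟨sb, -, -, -⟩ := himg hXS hσ hσα b hb a ha (Ne.symm hab)
    obtain ⟨sc, oce, dce, ece⟩ := himg hYS hτ hτα c hc e he hce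
    obtain ⟨se, -, -, -⟩ := himg hYS hτ hτα e he c hc (Ne.symm hce)
    have hne : ∀ p ∈ X, ∀ q ∈ Y, Cfsg.classInner p q = 0 := fun p hp q hq =>
      IsIrrCharacter.classInner_of_ne (hirr p (hXS hp)) (hirr q (hYS hq))
        fun h => Set.disjoint_left.1 hXY hp (h ▸ hq)
    refine weighted_signed sa sb sc se (hd0 b (hXS hb)) (hd0 a (hXS ha)) (hd0 e (hYS he))
      (hd0 c (hYS hc)) oab oce ?_ dab dce
    rw [← eab, ← ece, hiso _ ⟨zspan_mono hXS (hγ hXS a ha b hb).1, (hγ hXS a ha b hb).2⟩ _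
      ⟨zspan_mono hYS (hγ hYS c hc e he).1, (hγ hYS c hc e he).2⟩]
    simp only [← Int.cast_smul_eq_zsmul ℂ, classInner_sub_left, classInner_sub_right,
      classInner_smul_left, classInner_smul_right, hne a ha c hc, hne a ha e he, hne b hb c hc,
      hne b hb e he, mul_zero, sub_zero]
  refine ⟨horth', ?_⟩
  rintro ⟨χ₀, hχ₀, η₀, hη₀, hglue⟩
  have hXY' : X ∪ Y ⊆ S := Set.union_subset hXS hYS
  have hSfin : (X ∪ Y).Finite := finite_of_orthogonal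
    (fun p hp q hq h => IsIrrCharacter.classInner_of_ne (hirr p (hXY' hp)) (hirr q (hXY' hq)) h)
    (fun p hp => IsIrrCharacter.ne_zero (hirr p (hXY' hp)))
  set s := hSfin.toFinset with hsdef
  have hsset : (↑s : Set (L → ℂ)) = X ∪ Y := Set.Finite.coe_toFinset _
  let T : (L → ℂ) → G → ℂ := fun φ => if φ ∈ X then σ φ else τ φ
  have hTX : ∀ φ ∈ X, T φ = σ φ := fun φ h => if_pos h
  have hTY : ∀ φ ∈ Y, T φ = τ φ := fun φ h => if_neg fun h' => Set.disjoint_left.1 hXY h' h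
  have hmem : ∀ φ ∈ s, φ ∈ X ∨ φ ∈ Y := fun φ hφ => by
    have : φ ∈ (↑s : Set (L → ℂ)) := hφ
    rwa [hsset] at this
  have hirrs : ∀ φ ∈ s, Cfsg.IsIrrCharacter L φ := fun φ hφ => hirr φ (hXY' (hmem φ hφ))
  have horth : ∀ φ ∈ s, ∀ ξ ∈ s, φ ≠ ξ → Cfsg.classInner φ ξ = 0 :=
    fun φ hφ ξ hξ h => IsIrrCharacter.classInner_of_ne (hirrs φ hφ) (hirrs ξ hξ) h
  have hne0 : ∀ φ ∈ s, φ ≠ 0 := fun φ hφ => IsIrrCharacter.ne_zero (hirrs φ hφ)
  have hisom : Cfsg.IsLinearIsometryOn (Cfsg.zspan (↑s : Set (L → ℂ))) (orthExt s T) := by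
    refine orthExt_isometry horth hne0 (fun φ hφ => ?_) fun φ hφ ξ hξ => ?_
    · rcases hmem φ hφ with h | h
      · rw [hTX φ h]; exact hσ.2.2.2 _ (subset_zspan h)
      · rw [hTY φ h]; exact hτ.2.2.2 _ (subset_zspan h)
    · rcases hmem φ hφ with h | h <;> rcases hmem ξ hξ with h' | h'
      · rw [hTX φ h, hTX ξ h', hσ.2.2.1 _ (subset_zspan h) _ (subset_zspan h')]
      · rw [hTX φ h, hTY ξ h', horth' φ h ξ h',
          horth φ hφ ξ hξ fun e => Set.disjoint_left.1 hXY h (e ▸ h')]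
      · rw [hTY φ h, hTX ξ h', ← classInner_conj, horth' ξ h' φ h, map_zero,
          horth φ hφ ξ hξ fun e => Set.disjoint_left.1 hXY h' (e ▸ h)]
      · rw [hTY φ h, hTY ξ h', hτ.2.2.1 _ (subset_zspan h) _ (subset_zspan h')]
  obtain ⟨a, ha, b, hb, hab⟩ := hX2
  refine ⟨⟨(d b : ℤ) • a - (d a : ℤ) • b,
    ⟨zspan_mono Set.subset_union_left (hγ hXS a ha b hb).1, (hγ hXS a ha b hb).2⟩, fun h0 => ?_⟩,
    orthExt s T, by rw [← hsset]; exact hisom, fun θ hθ => ?_⟩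
  · have h1 := congrArg (fun f => Cfsg.classInner f a) h0
    simp only [← Int.cast_smul_eq_zsmul ℂ, classInner_sub_left, classInner_smul_left,
      IsIrrCharacter.classInner_self (hirr a (hXS ha)),
      IsIrrCharacter.classInner_of_ne (hirr b (hXS hb)) (hirr a (hXS ha)) (Ne.symm hab),
      classInner_zero_left] at h1
    have := hd0 b (hXS hb)
    simp at h1; omega
  obtain ⟨hspan, hθ1⟩ := mem_zspanOn_one.1 hθ
  have hspan' : θ ∈ Submodule.span ℤ X ⊔ Submodule.span ℤ Y := (Submodule.span_union (R := ℤ) X Y).le hspan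
  obtain ⟨θX, hθX, θY, hθY, rfl⟩ := Submodule.mem_sup.1 hspan'
  have hint : ∀ {U : Set (L → ℂ)}, U ⊆ S → ∀ φ ∈ Cfsg.zspan U, ∃ k : ℤ, φ 1 = (k : ℂ) := by
    intro U hU φ hφ
    induction hφ using Submodule.span_induction with
    | mem x hx => exact ⟨d x, by rw [hd x (hU hx), Int.cast_natCast]⟩
    | zero => exact ⟨0, by simp⟩
    | add x y _ _ h1 h2 =>
      obtain ⟨i, hi⟩ := h1; obtain ⟨j, hj⟩ := h2
      exact ⟨i + j, by rw [Pi.add_apply, hi, hj, Int.cast_add]⟩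
    | smul n x _ h =>
      obtain ⟨i, hi⟩ := h
      exact ⟨n * i, by rw [Pi.smul_apply, hi, zsmul_eq_mul, Int.cast_mul]⟩
  obtain ⟨k, hk⟩ := hint hXS θX hθX
  set c : ℤ := ((d χ₀ : ℕ) : ℤ) with hc
  set e : ℤ := ((d η₀ : ℕ) : ℤ) with he
  have hY1 : θY 1 = -(k : ℂ) := by
    rw [Pi.add_apply, hk] at hθ1
    exact eq_neg_of_add_eq_zero_right hθ1
  have hglue' : α (c • η₀ - e • χ₀) = c • τ η₀ - e • σ χ₀ := by
    simpa only [← Int.cast_smul_eq_zsmul ℂ, hc, he, Int.cast_natCast, ← hd χ₀ (hXS hχ₀),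
      ← hd η₀ (hYS hη₀)] using hglue
  have hw : c • η₀ - e • χ₀ ∈ Cfsg.zspanOn S ({1}ᶜ : Set L) := hγ subset_rfl η₀ (hYS hη₀) χ₀ (hXS hχ₀)
  have hA : (c * e) • θX - (k * e) • χ₀ ∈ Cfsg.zspanOn X ({1}ᶜ : Set L) := mem_zspanOn_one.2
    ⟨Submodule.sub_mem _ (Submodule.smul_mem _ _ hθX) (Submodule.smul_mem _ _ (subset_zspan hχ₀)),
      by rw [Pi.sub_apply, Pi.smul_apply, Pi.smul_apply, hk, hd χ₀ (hXS hχ₀), hc]
         simp only [zsmul_eq_mul]; push_cast; ring⟩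
  have hB : (c * e) • θY + (k * c) • η₀ ∈ Cfsg.zspanOn Y ({1}ᶜ : Set L) := mem_zspanOn_one.2
    ⟨Submodule.add_mem _ (Submodule.smul_mem _ _ hθY) (Submodule.smul_mem _ _ (subset_zspan hη₀)),
      by rw [Pi.add_apply, Pi.smul_apply, Pi.smul_apply, hY1, hd η₀ (hYS hη₀), he]
         simp only [zsmul_eq_mul]; push_cast; ring⟩
  let M := zspanOnSub S ({1}ᶜ : Set L)
  have hAM : (c * e) • θX - (k * e) • χ₀ ∈ M := ⟨zspan_mono hXS hA.1, hA.2⟩
  have hBM : (c * e) • θY + (k * c) • η₀ ∈ M := ⟨zspan_mono hYS hB.1, hB.2⟩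
  have hθM : θX + θY ∈ M := ⟨zspan_mono hXY' hspan, hθ.2⟩
  have hident : (c * e) • (θX + θY) =
      ((c * e) • θX - (k * e) • χ₀) + ((c * e) • θY + (k * c) • η₀) - k • (c • η₀ - e • χ₀) := by
    rw [smul_sub, smul_smul, smul_smul, smul_add]
    abel
  have h1 : α ((c * e) • (θX + θY)) = (c * e) • (σ θX + τ θY) := by
    rw [hident, isometry_map_sub hlin (M.add_mem hAM hBM) (M.smul_mem k hw),
      hadd _ hAM _ hBM, hsmul _ hw k, hglue', ← hσα _ hA, ← hτα _ hB,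
      isometry_map_sub (M := Submodule.span ℤ X) hσ (Submodule.smul_mem _ _ hθX)
        (Submodule.smul_mem _ _ (subset_zspan hχ₀)), hσ.2.1 _ hθX, hσ.2.1 _ (subset_zspan hχ₀),
      hτ.1 _ (Submodule.smul_mem _ _ hθY) _ (Submodule.smul_mem _ _ (subset_zspan hη₀)),
      hτ.2.1 _ hθY, hτ.2.1 _ (subset_zspan hη₀), smul_sub, smul_smul, smul_smul, smul_add]
    abel
  rw [hsmul _ hθM] at h1
  have hce : c * e ≠ 0 := by
    rw [hc, he]
    exact mul_ne_zero (by exact_mod_cast (hd0 χ₀ (hXS hχ₀)).ne')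
      (by exact_mod_cast (hd0 η₀ (hYS hη₀)).ne')
  have h2 : α (θX + θY) = σ θX + τ θY := smul_right_injective (G → ℂ) hce h1
  rw [h2, orthExt_add,
    orthExt_eq_of_extension horth hne0 hσ (hsset ▸ Set.subset_union_left) hTX hθX,
    orthExt_eq_of_extension horth hne0 hτ (hsset ▸ Set.subset_union_right) hTY hθY]

end CfsgLib.Char
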