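import Cfsg.Agent.Char.CoherenceEqual

/-!
# Gluing a coherent set to a coherent set of constant degree
-/

set_option autoImplicit false
set_option linter.style.haveILetI false

namespace CfsgLib.Char

open scoped ComplexConjugate

universe u v

variable {L : Type u} [Group L] [Fintype L] {G : Type v} [Group G] [Fintype G]

/-- On a conjugate pair an isometry may be replaced by minus its composite with conjugation. -/
theorem exists_flip_pair [DecidableEq (L → ℂ)] {U : Finset (L → ℂ)} {x : L → ℂ}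
    (hU : U = {x, Cfsg.conjFun x})
    (hirr : ∀ φ ∈ U, Cfsg.IsIrrCharacter L φ) {α σ : (L → ℂ) → G → ℂ}
    (hα : Cfsg.IsLinearIsometryOn (Cfsg.zspanOn (↑U : Set (L → ℂ)) ({1}ᶜ : Set L)) α)
    (hσ : Cfsg.IsLinearIsometryOn (Cfsg.zspan (↑U : Set (L → ℂ))) σ)
    (hσα : ∀ θ ∈ Cfsg.zspanOn (↑U : Set (L → ℂ)) ({1}ᶜ : Set L), σ θ = α θ) :
    ∃ σ' : (L → ℂ) → G → ℂ, Cfsg.IsLinearIsometryOn (Cfsg.zspan (↑U : Set (L → ℂ))) σ' ∧
      (∀ θ ∈ Cfsg.zspanOn (↑U : Set (L → ℂ)) ({1}ᶜ : Set L), σ' θ = α θ) ∧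
      σ' x = -σ (Cfsg.conjFun x) := by
  classical
  have hxU : x ∈ U := by simp [hU]
  have hx'U : Cfsg.conjFun x ∈ U := by simp [hU]
  have hc : ∀ φ ∈ U, Cfsg.conjFun φ ∈ U := fun φ hφ => by
    rcases (by simpa [hU] using hφ : φ = x ∨ φ = Cfsg.conjFun x) with rfl | rfl
    · exact hx'U
    · rwa [conjFun_conjFun]
  have horth : ∀ φ ∈ U, ∀ ψ ∈ U, φ ≠ ψ → Cfsg.classInner φ ψ = 0 := fun φ hφ ψ hψ =>
    IsIrrCharacter.classInner_of_ne (hirr φ hφ) (hirr ψ hψ)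
  have hne : ∀ φ ∈ U, φ ≠ 0 := fun φ hφ => IsIrrCharacter.ne_zero (hirr φ hφ)
  let T : (L → ℂ) → G → ℂ := fun φ => -σ (Cfsg.conjFun φ)
  have hdeg : ∀ φ ∈ U, φ 1 = x 1 := fun φ hφ => by
    rcases (by simpa [hU] using hφ : φ = x ∨ φ = Cfsg.conjFun x) with rfl | rfl
    · rfl
    · obtain ⟨n, -, hn⟩ := IsIrrCharacter.exists_degree (hirr x hxU)
      simp [Cfsg.conjFun, hn]
  refine ⟨orthExt U T, orthExt_isometry horth hne (fun φ hφ =>
    IsGeneralized.neg (hσ.2.2.2 _ (subset_zspan (hc φ hφ)))) (fun φ hφ ψ hψ => ?_), fun θ hθ => ?_,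
    orthExt_self horth hne hxU⟩
  · simp only [T, classInner_neg_left, classInner_neg_right, neg_neg]
    rw [hσ.2.2.1 _ (subset_zspan (hc φ hφ)) _ (subset_zspan (hc ψ hψ)), classInner_conjFun_conjFun]
    by_cases h : φ = ψ
    · rw [h]
    · rw [horth φ hφ ψ hψ h, horth ψ hψ φ hφ (Ne.symm h)]
  · refine orthExt_eq_of_base hα subset_rfl horth hne hxU
      (IsIrrCharacter.apply_one_ne_zero (hirr x hxU)) (fun _ => 1)
      (fun φ hφ => by rw [one_smul, hdeg φ hφ]) (fun φ hφ => ?_) hθ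
    have hmem : φ - x ∈ Cfsg.zspanOn (↑U : Set (L → ℂ)) ({1}ᶜ : Set L) := mem_zspanOn_one.2
      ⟨Submodule.sub_mem _ (subset_zspan hφ) (subset_zspan hxU), by
        rw [Pi.sub_apply, hdeg φ hφ, sub_self]⟩
    rw [one_smul, one_smul, ← hσα _ hmem,
      isometry_map_sub (M := Submodule.span ℤ (↑U : Set (L → ℂ))) hσ (subset_zspan hφ)
        (subset_zspan hxU)]
    simp only [T]
    rcases (by simpa [hU] using hφ : φ = x ∨ φ = Cfsg.conjFun x) with rfl | rfl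
    · simp
    · rw [conjFun_conjFun]; abel

theorem int_quad_nonneg {M : ℤ} (hM : 2 ≤ M) (A : ℤ) : 0 ≤ M * A ^ 2 + 2 * A := by
  have h1 : 2 * A ^ 2 ≤ M * A ^ 2 := mul_le_mul_of_nonneg_right hM (sq_nonneg A)
  rcases le_or_gt A (-1) with h | h <;> nlinarith

theorem int_quad_eq_zero {M A : ℤ} (hM : 2 ≤ M) (h : M * A ^ 2 + 2 * A = 0) :
    A = 0 ∨ (A = -1 ∧ M = 2) := by
  by_cases hz : A = 0
  · exact Or.inl hz
  right
  have hMA : M * A = -2 := mul_right_cancel₀ hz (by linear_combination h)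
  have hA : A = -1 := by
    rcases lt_trichotomy A (-1) with h' | h' | h'
    · nlinarith
    · exact h'
    · have : 1 ≤ A := by omega
      nlinarith
  refine ⟨hA, ?_⟩
  rw [hA] at hMA
  linarith

theorem int_eq_zero_pair {u v : ℤ} (hu : 0 ≤ u) (hv : 0 ≤ v) {c : ℤ} (hc : 0 < c)
    (h : u + c * v ≤ 0) : u = 0 ∧ v = 0 := by
  have h2 := mul_nonneg hc.le hv
  refine ⟨by linarith, ?_⟩
  by_contra hne
  have : 0 < c * v := mul_pos hc (lt_of_le_of_ne hv (Ne.symm hne))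
  linarith

/-- Gluing: `a` is the ratio of the least degree in `X` to the constant degree in `Y`, and it
divides the coefficient of the image of `x₀ - a y₀` at the image of `y₀`. -/
theorem coherence_glue {S : Set (L → ℂ)} (hirr : ∀ φ ∈ S, Cfsg.IsIrrCharacter L φ)
    {α : (L → ℂ) → G → ℂ} (hα : Cfsg.IsLinearIsometryOn (Cfsg.zspanOn S ({1}ᶜ : Set L)) α)
    (hα1 : ∀ θ ∈ Cfsg.zspanOn S ({1}ᶜ : Set L), α θ 1 = 0)
    (X Y : Finset (L → ℂ)) (hXS : ↑X ⊆ S) (hYS : ↑Y ⊆ S) (hXY : ∀ φ ∈ X, φ ∉ Y)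
    (hXc : ∀ φ ∈ X, Cfsg.conjFun φ ∈ X) (hYc : ∀ φ ∈ Y, Cfsg.conjFun φ ∈ Y)
    (hne : ∀ φ ∈ S, Cfsg.conjFun φ ≠ φ)
    {x₀ y₀ : L → ℂ} (hx₀ : x₀ ∈ X) (hy₀ : y₀ ∈ Y) {a : ℕ} (ha : 0 < a)
    (hxy : x₀ 1 = a * y₀ 1) (m : (L → ℂ) → ℕ) (hm : ∀ φ ∈ X, φ 1 = m φ * x₀ 1)
    (hy : ∀ φ ∈ Y, φ 1 = y₀ 1) {σ τ : (L → ℂ) → G → ℂ}
    (hσ : Cfsg.IsLinearIsometryOn (Cfsg.zspan (↑X : Set (L → ℂ))) σ)
    (hσα : ∀ θ ∈ Cfsg.zspanOn (↑X : Set (L → ℂ)) ({1}ᶜ : Set L), σ θ = α θ)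
    (hτ : Cfsg.IsLinearIsometryOn (Cfsg.zspan (↑Y : Set (L → ℂ))) τ)
    (hτα : ∀ θ ∈ Cfsg.zspanOn (↑Y : Set (L → ℂ)) ({1}ᶜ : Set L), τ θ = α θ)
    (hdiv : ∃ k : ℤ, Cfsg.classInner (α (x₀ - (a : ℤ) • y₀)) (τ y₀) = ((a : ℤ) * k : ℤ)) :
    Cfsg.IsCoherent (↑X ∪ ↑Y : Set (L → ℂ)) ({1}ᶜ : Set L) α := by
  classical
  obtain ⟨hadd, hsmul, hiso, hgen⟩ := id hα
  have hdisj : Disjoint (↑X : Set (L → ℂ)) (↑Y : Set (L → ℂ)) :=
    Set.disjoint_left.2 fun φ h h' => hXY φ h h'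
  have hX2 : ∃ p ∈ (↑X : Set (L → ℂ)), ∃ q ∈ (↑X : Set (L → ℂ)), p ≠ q :=
    ⟨x₀, hx₀, _, hXc x₀ hx₀, Ne.symm (hne x₀ (hXS hx₀))⟩
  have hY2 : ∃ p ∈ (↑Y : Set (L → ℂ)), ∃ q ∈ (↑Y : Set (L → ℂ)), p ≠ q :=
    ⟨y₀, hy₀, _, hYc y₀ hy₀, Ne.symm (hne y₀ (hYS hy₀))⟩
  obtain ⟨horth, -⟩ := coherence_union hirr hXS hYS hdisj hX2 hY2 hα hα1 hσ hσα hτ hτα
  set β := x₀ - (a : ℤ) • y₀ with hβ
  have hβmem : β ∈ Cfsg.zspanOn S ({1}ᶜ : Set L) := mem_zspanOn_one.2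
    ⟨Submodule.sub_mem _ (subset_zspan (hXS hx₀))
      (Submodule.smul_mem _ _ (subset_zspan (hYS hy₀))), by
      rw [hβ, Pi.sub_apply, Pi.smul_apply, hxy, zsmul_eq_mul, Int.cast_natCast, sub_self]⟩
  set D := α β with hD
  have hDgen := hgen _ hβmem
  have hself : ∀ φ ∈ S, Cfsg.classInner φ φ = 1 := fun φ hφ =>
    IsIrrCharacter.classInner_self (hirr φ hφ)
  have hx0 : ∀ φ ∈ X, φ ∈ S := fun φ hφ => hXS hφ
  have hy0 : ∀ φ ∈ Y, φ ∈ S := fun φ hφ => hYS hφ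
  have hXYorth : ∀ φ ∈ X, ∀ ψ ∈ Y, Cfsg.classInner φ ψ = 0 ∧ Cfsg.classInner ψ φ = 0 :=
    fun φ hφ ψ hψ => ⟨IsIrrCharacter.classInner_of_ne (hirr φ (hx0 φ hφ)) (hirr ψ (hy0 ψ hψ))
      fun e => hXY φ hφ (e ▸ hψ), IsIrrCharacter.classInner_of_ne (hirr ψ (hy0 ψ hψ))
      (hirr φ (hx0 φ hφ)) fun e => hXY φ hφ (e ▸ hψ)⟩
  obtain ⟨A₀, hA₀⟩ := IsGeneralized.exists_classInner_eq_int hDgen (hσ.2.2.2 _ (subset_zspan hx₀))
  set A := A₀ - 1 with hAdef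
  obtain ⟨k, hk⟩ := hdiv
  set b := k + 1 with hbdef
  have hm₀ : m x₀ = 1 := by
    have h := hm x₀ hx₀
    have h1 : ((m x₀ : ℕ) : ℂ) = ((1 : ℕ) : ℂ) := by
      rw [Nat.cast_one]
      exact mul_right_cancel₀ (IsIrrCharacter.apply_one_ne_zero (hirr x₀ (hx0 x₀ hx₀)))
        (by rw [← h, one_mul])
    exact_mod_cast h1
  -- the coefficients of `D`
  have hcX : ∀ φ ∈ X, Cfsg.classInner D (σ φ) =
      (((if φ = x₀ then 1 else 0) + A * m φ : ℤ) : ℂ) := by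
    intro φ hφ
    have hmem : φ - (m φ : ℤ) • x₀ ∈ Cfsg.zspanOn (↑X : Set (L → ℂ)) ({1}ᶜ : Set L) :=
      mem_zspanOn_one.2 ⟨Submodule.sub_mem _ (subset_zspan hφ)
        (Submodule.smul_mem _ _ (subset_zspan hx₀)), by
        rw [Pi.sub_apply, Pi.smul_apply, hm φ hφ, zsmul_eq_mul, Int.cast_natCast, sub_self]⟩
    have h := hiso _ hβmem _ (zspanOn_subset_zspanOn hXS _ hmem)
    rw [← hσα _ hmem, isometry_map_sub (M := Submodule.span ℤ (↑X : Set (L → ℂ))) hσ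
        (subset_zspan hφ) (Submodule.smul_mem _ _ (subset_zspan hx₀)),
      hσ.2.1 _ (subset_zspan hx₀)] at h
    simp only [hβ, ← Int.cast_smul_eq_zsmul ℂ, classInner_sub_left, classInner_sub_right,
      classInner_smul_left, classInner_smul_right, map_intCast, Int.cast_natCast, map_natCast,
      (hXYorth φ hφ y₀ hy₀).2, (hXYorth x₀ hx₀ y₀ hy₀).2, hself x₀ (hx0 x₀ hx₀), mul_zero,
      sub_zero] at h
    rw [show α (x₀ - ((a : ℕ) : ℂ) • y₀) = D by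
      rw [hD, hβ, ← Int.cast_smul_eq_zsmul ℂ, Int.cast_natCast], hA₀] at h
    by_cases he : φ = x₀
    · subst he
      rw [if_pos rfl, hA₀, hm₀, hAdef]
      push_cast; ring
    · rw [IsIrrCharacter.classInner_of_ne (hirr x₀ (hx0 x₀ hx₀)) (hirr φ (hx0 φ hφ)) (Ne.symm he)] at h
      rw [if_neg he, hAdef]
      push_cast
      linear_combination h
  have hcY : ∀ φ ∈ Y, Cfsg.classInner D (τ φ) =
      (((a : ℤ) * b - if φ = y₀ then (a : ℤ) else 0 : ℤ) : ℂ) := by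
    intro φ hφ
    have hmem : φ - y₀ ∈ Cfsg.zspanOn (↑Y : Set (L → ℂ)) ({1}ᶜ : Set L) :=
      mem_zspanOn_one.2 ⟨Submodule.sub_mem _ (subset_zspan hφ) (subset_zspan hy₀), by
        rw [Pi.sub_apply, hy φ hφ, sub_self]⟩
    have h := hiso _ hβmem _ (zspanOn_subset_zspanOn hYS _ hmem)
    rw [← hτα _ hmem, isometry_map_sub (M := Submodule.span ℤ (↑Y : Set (L → ℂ))) hτ
        (subset_zspan hφ) (subset_zspan hy₀)] at h
    simp only [hβ, ← Int.cast_smul_eq_zsmul ℂ, classInner_sub_left, classInner_sub_right,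
      classInner_smul_left, Int.cast_natCast,
      (hXYorth x₀ hx₀ φ hφ).1, (hXYorth x₀ hx₀ y₀ hy₀).1, hself y₀ (hy0 y₀ hy₀)] at h
    rw [show α (x₀ - ((a : ℕ) : ℂ) • y₀) = D by
      rw [hD, hβ, ← Int.cast_smul_eq_zsmul ℂ, Int.cast_natCast], hk] at h
    by_cases he : φ = y₀
    · subst he
      rw [if_pos rfl, hk, hbdef]
      push_cast; ring
    · rw [IsIrrCharacter.classInner_of_ne (hirr y₀ (hy0 y₀ hy₀)) (hirr φ (hy0 φ hφ)) (Ne.symm he)] at h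
      rw [if_neg he, hbdef]
      push_cast at h ⊢
      linear_combination h
  -- the residual
  let f : (L → ℂ) → G → ℂ := fun φ => if φ ∈ X then σ φ else τ φ
  have hfX : ∀ φ ∈ X, f φ = σ φ := fun φ h => if_pos h
  have hfY : ∀ φ ∈ Y, f φ = τ φ := fun φ h => if_neg fun h' => hXY φ h' h
  have hf : ∀ i ∈ X ∪ Y, ∀ j ∈ X ∪ Y,
      Cfsg.classInner (f i) (f j) = if i = j then ((1 : ℝ) : ℂ) else 0 := by
    intro i hi j hj
    rcases Finset.mem_union.1 hi with h | h <;> rcases Finset.mem_union.1 hj with h' | h'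
    · rw [hfX i h, hfX j h', hσ.2.2.1 _ (subset_zspan h) _ (subset_zspan h'), Complex.ofReal_one]
      exact IsIrrCharacter.classInner_eq (hirr i (hXS h)) (hirr j (hXS h'))
    · rw [hfX i h, hfY j h', horth i h j h', if_neg fun e : i = j => hXY i h (e ▸ h')]
    · rw [hfY i h, hfX j h', ← classInner_conj, horth j h' i h, map_zero,
        if_neg fun e : i = j => hXY j h' (e ▸ h)]
    · rw [hfY i h, hfY j h', hτ.2.2.1 _ (subset_zspan h) _ (subset_zspan h'), Complex.ofReal_one]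
      exact IsIrrCharacter.classInner_eq (hirr i (hYS h)) (hirr j (hYS h'))
  obtain ⟨hres, -⟩ := classInner_residual_orth (X ∪ Y) f (fun _ => (1 : ℝ))
    (fun _ _ => one_ne_zero) hf D
  have hdu : Disjoint X Y := Finset.disjoint_left.2 hXY
  set M : ℤ := ∑ φ ∈ X, (m φ : ℤ) ^ 2 with hM
  set q : ℤ := (Y.card : ℤ) with hq
  have hsum : ∑ i ∈ X ∪ Y, ‖Cfsg.classInner D (f i)‖ ^ 2 / (1 : ℝ) =
      (((1 + 2 * A + A ^ 2 * M) + ((a : ℤ) ^ 2 * (q * b ^ 2 - 2 * b + 1)) : ℤ) : ℝ) := by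
    rw [Finset.sum_union hdu]
    rw [Finset.sum_congr (s₁ := X) rfl
        (g := fun φ => ((((if φ = x₀ then 1 else 0) + A * m φ) ^ 2 : ℤ) : ℝ)) fun φ hφ => by
          rw [hfX φ hφ, hcX φ hφ, Complex.norm_intCast, sq_abs, div_one, Int.cast_pow],
      Finset.sum_congr (s₁ := Y) rfl
        (g := fun φ => ((((a : ℤ) * b - if φ = y₀ then (a : ℤ) else 0) ^ 2 : ℤ) : ℝ)) fun φ hφ => by
          rw [hfY φ hφ, hcY φ hφ, Complex.norm_intCast, sq_abs, div_one, Int.cast_pow],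
      ← Int.cast_sum, ← Int.cast_sum, ← Int.cast_add, Int.cast_inj]
    congr 1
    · rw [Finset.sum_congr rfl (g := fun φ =>
          (if φ = x₀ then 1 + 2 * A * (m φ : ℤ) else 0) + A ^ 2 * (m φ : ℤ) ^ 2) fun φ _ => by
            split_ifs <;> ring,
        Finset.sum_add_distrib, Finset.sum_ite_eq', if_pos hx₀, ← Finset.mul_sum, ← hM, hm₀]
      push_cast; ring
    · rw [Finset.sum_congr rfl (g := fun φ =>
          (if φ = y₀ then (a : ℤ) ^ 2 * (1 - 2 * b) else 0) + (a : ℤ) ^ 2 * b ^ 2) fun φ _ => by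
            split_ifs <;> ring,
        Finset.sum_add_distrib, Finset.sum_ite_eq', if_pos hy₀, Finset.sum_const, nsmul_eq_mul]
      ring
  have hDD : Cfsg.classInner D D = ((1 + (a : ℤ) ^ 2 : ℤ) : ℂ) := by
    rw [hD, hiso _ hβmem _ hβmem, hβ, ← Int.cast_smul_eq_zsmul ℂ]
    simp only [classInner_sub_left, classInner_sub_right, classInner_smul_left,
      classInner_smul_right, (hXYorth x₀ hx₀ y₀ hy₀).1, (hXYorth x₀ hx₀ y₀ hy₀).2,
      hself x₀ (hx0 x₀ hx₀), hself y₀ (hy0 y₀ hy₀), map_intCast]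
    push_cast; ring
  set P := ∑ i ∈ X ∪ Y, (Cfsg.classInner D (f i) / ((1 : ℝ) : ℂ)) • f i with hP
  rw [hsum, hDD] at hres
  have hnonneg := classInner_self_re_nonneg (D - P)
  rw [hres, Complex.sub_re, Complex.intCast_re, Complex.ofReal_re, ← Int.cast_sub,
    Int.cast_nonneg_iff] at hnonneg
  have hpair : ({x₀, Cfsg.conjFun x₀} : Finset (L → ℂ)) ⊆ X :=
    Finset.insert_subset hx₀ (Finset.singleton_subset_iff.2 (hXc x₀ hx₀))
  have hmconj : m (Cfsg.conjFun x₀) = 1 := by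
    have h := hm _ (hXc x₀ hx₀)
    obtain ⟨n, -, hn⟩ := IsIrrCharacter.exists_degree (hirr x₀ (hx0 x₀ hx₀))
    simp only [Cfsg.conjFun] at h
    rw [hn, map_natCast] at h
    have h1 : ((m (Cfsg.conjFun x₀) : ℕ) : ℂ) = ((1 : ℕ) : ℂ) := by
      rw [Nat.cast_one]
      refine mul_right_cancel₀ (b := (n : ℂ)) ?_ ?_
      · rw [← hn]; exact IsIrrCharacter.apply_one_ne_zero (hirr x₀ (hx0 x₀ hx₀))
      · rw [one_mul]; exact h.symm
    exact_mod_cast h1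
  have hpairsum : ∑ φ ∈ ({x₀, Cfsg.conjFun x₀} : Finset (L → ℂ)), (m φ : ℤ) ^ 2 = 2 := by
    rw [Finset.sum_pair (Ne.symm (hne x₀ (hx0 x₀ hx₀))), hm₀, hmconj]
    norm_num
  have hM2 : 2 ≤ M := hpairsum ▸ Finset.sum_le_sum_of_subset_of_nonneg hpair fun _ _ _ => sq_nonneg _
  have hypair : ({y₀, Cfsg.conjFun y₀} : Finset (L → ℂ)) ⊆ Y :=
    Finset.insert_subset hy₀ (Finset.singleton_subset_iff.2 (hYc y₀ hy₀))
  have hycard : ({y₀, Cfsg.conjFun y₀} : Finset (L → ℂ)).card = 2 :=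
    Finset.card_pair (Ne.symm (hne y₀ (hy0 y₀ hy₀)))
  have hq2 : 2 ≤ q := by
    have h := Finset.card_le_card hypair
    rw [hq]; omega
  have ha2 : (0 : ℤ) < (a : ℤ) ^ 2 := by positivity
  obtain ⟨hA0, hb0⟩ := int_eq_zero_pair (int_quad_nonneg hM2 A) (int_quad_nonneg hq2 (-b)) ha2
    (by linear_combination hnonneg)
  have hDP : D = P := by
    refine sub_eq_zero.1 (classInner_self_eq_zero ?_)
    rw [hres]
    have e : (1 + 2 * A + A ^ 2 * M) + (a : ℤ) ^ 2 * (q * b ^ 2 - 2 * b + 1) = 1 + (a : ℤ) ^ 2 := by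
      linear_combination hA0 + (a : ℤ) ^ 2 * hb0
    rw [e]
    push_cast; ring
  -- choose the isometries
  obtain ⟨σ', hσ', hσα', hXpart⟩ : ∃ σ' : (L → ℂ) → G → ℂ,
      Cfsg.IsLinearIsometryOn (Cfsg.zspan (↑X : Set (L → ℂ))) σ' ∧
      (∀ θ ∈ Cfsg.zspanOn (↑X : Set (L → ℂ)) ({1}ᶜ : Set L), σ' θ = α θ) ∧
      ∑ φ ∈ X, (((if φ = x₀ then 1 else 0) + A * m φ : ℤ) : ℂ) • σ φ = σ' x₀ := by
    by_cases hz : A = 0
    · refine ⟨σ, hσ, hσα, ?_⟩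
      rw [Finset.sum_eq_single x₀ (fun φ _ h => by simp [hz, h]) (fun h => absurd hx₀ h)]
      simp [hz]
    · obtain ⟨hA1, hM'⟩ := (int_quad_eq_zero hM2 hA0).resolve_left hz
      have hXeq : X = {x₀, Cfsg.conjFun x₀} := by
        refine Finset.Subset.antisymm (fun φ hφ => ?_) hpair
        by_contra hn
        have h1 := Finset.sum_le_sum_of_subset_of_nonneg (f := fun φ => (m φ : ℤ) ^ 2)
          (Finset.insert_subset hφ hpair) fun _ _ _ => sq_nonneg _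
        rw [Finset.sum_insert hn, hpairsum, ← hM] at h1
        have h2 : 1 ≤ (m φ : ℤ) := by
          have hmp : m φ ≠ 0 := fun h0 => IsIrrCharacter.apply_one_ne_zero (hirr φ (hx0 φ hφ))
            (by rw [hm φ hφ, h0, Nat.cast_zero, zero_mul])
          omega
        nlinarith
      obtain ⟨σ', h1, h2, h3⟩ := exists_flip_pair hXeq (fun φ hφ => hirr φ (hx0 φ hφ))
        (isometryOn_subset (zspanOn_subset_zspanOn hXS _) hα) hσ hσα
      refine ⟨σ', h1, h2, ?_⟩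
      rw [h3, hXeq, Finset.sum_pair (Ne.symm (hne x₀ (hx0 x₀ hx₀))), if_pos rfl,
        if_neg (hne x₀ (hx0 x₀ hx₀)), hm₀, hmconj, hA1]
      simp
  obtain ⟨τ', hτ', hτα', hYpart⟩ : ∃ τ' : (L → ℂ) → G → ℂ,
      Cfsg.IsLinearIsometryOn (Cfsg.zspan (↑Y : Set (L → ℂ))) τ' ∧
      (∀ θ ∈ Cfsg.zspanOn (↑Y : Set (L → ℂ)) ({1}ᶜ : Set L), τ' θ = α θ) ∧
      ∑ φ ∈ Y, (((a : ℤ) * b - if φ = y₀ then (a : ℤ) else 0 : ℤ) : ℂ) • τ φ =
        -((a : ℂ) • τ' y₀) := by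
    by_cases hz : b = 0
    · refine ⟨τ, hτ, hτα, ?_⟩
      rw [Finset.sum_eq_single y₀ (fun φ _ h => by simp [hz, h]) (fun h => absurd hy₀ h)]
      simp [hz]
    · obtain ⟨hb1, hq'⟩ := (int_quad_eq_zero hq2 hb0).resolve_left (neg_ne_zero.2 hz)
      rw [neg_inj] at hb1
      have hYeq : Y = {y₀, Cfsg.conjFun y₀} := (Finset.eq_of_subset_of_card_le hypair (by
        rw [hycard]; omega)).symm
      obtain ⟨τ', h1, h2, h3⟩ := exists_flip_pair hYeq (fun φ hφ => hirr φ (hy0 φ hφ))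
        (isometryOn_subset (zspanOn_subset_zspanOn hYS _) hα) hτ hτα
      refine ⟨τ', h1, h2, ?_⟩
      rw [h3, hYeq, Finset.sum_pair (Ne.symm (hne y₀ (hy0 y₀ hy₀))), if_pos rfl,
        if_neg (hne y₀ (hy0 y₀ hy₀)), hb1]
      simp
  refine (coherence_union hirr hXS hYS hdisj hX2 hY2 hα hα1 hσ' hσα' hτ' hτα').2
    ⟨x₀, hx₀, y₀, hy₀, ?_⟩
  obtain ⟨l, -, hl⟩ := IsIrrCharacter.exists_degree (hirr y₀ (hy0 y₀ hy₀))
  have hcomb : (x₀ 1) • y₀ - (y₀ 1) • x₀ = (-(l : ℤ)) • β := by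
    rw [hβ, hxy, hl]
    simp only [← Int.cast_smul_eq_zsmul ℂ, smul_sub, smul_smul]
    push_cast
    module
  rw [hcomb, hsmul _ hβmem, ← hD, hDP, hP, Finset.sum_union hdu,
    Finset.sum_congr (s₁ := X) rfl (g := fun φ => (((if φ = x₀ then 1 else 0) + A * m φ : ℤ) : ℂ) • σ φ)
      fun φ hφ => by rw [hfX φ hφ, hcX φ hφ, Complex.ofReal_one, div_one],
    Finset.sum_congr (s₁ := Y) rfl
      (g := fun φ => (((a : ℤ) * b - if φ = y₀ then (a : ℤ) else 0 : ℤ) : ℂ) • τ φ)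
      fun φ hφ => by rw [hfY φ hφ, hcY φ hφ, Complex.ofReal_one, div_one],
    hXpart, hYpart, hxy, hl]
  simp only [← Int.cast_smul_eq_zsmul ℂ]
  push_cast
  module

end CfsgLib.Char
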