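import Cfsg.Agent.Char.CoherenceSections
import Cfsg.Agent.Char.Monomial
import Cfsg.Agent.Char.NilpotentSplit

/-!
# Coherence below the derived subgroup of a nilpotent kernel in odd order
-/

set_option autoImplicit false
set_option linter.style.haveILetI false

namespace CfsgLib.Char

universe u v

theorem card_map_quotient {L : Type u} [Group L] [Finite L] (H₁ N : Subgroup L) [H₁.Normal] :
    Nat.card (N.map (QuotientGroup.mk' H₁)) = H₁.relIndex N := by
  have h := Subgroup.index_ker ((QuotientGroup.mk' H₁).comp N.subtype)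
  rw [MonoidHom.range_comp, Subgroup.range_subtype, ← MonoidHom.comap_ker, QuotientGroup.ker_mk'] at h
  exact h.symm

/-- If all centralizers of non-trivial elements of `N` lie in `K`, then `[L : K]` divides `|N| - 1`. -/
theorem index_dvd_card_sub_one_of_le {L : Type u} [Group L] [Finite L] (K N : Subgroup L)
    [hN : N.Normal] (hC : ∀ x ∈ N, x ≠ 1 → Subgroup.centralizer ({x} : Set L) ≤ K) :
    K.index ∣ Nat.card N - 1 := by
  classical
  let X := {a : N // a ≠ 1}
  let _ : MulAction L X :=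
    { smul := fun g a => ⟨⟨g * (a.1 : L) * g⁻¹, hN.conj_mem _ a.1.2 g⟩, fun h => a.2 (by
        have h' : g * (a.1 : L) * g⁻¹ = 1 := congrArg Subtype.val h
        exact Subtype.ext (by simpa using h'))⟩
      one_smul := fun a => Subtype.ext (Subtype.ext (by change (1 : L) * _ * (1 : L)⁻¹ = _; group))
      mul_smul := fun m n a => Subtype.ext (Subtype.ext (by
        change (m * n) * _ * (m * n)⁻¹ = m * (n * _ * n⁻¹) * m⁻¹
        group)) }
  have := Fintype.ofFinite N
  have hX : Nat.card X = Nat.card N - 1 := by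
    rw [Nat.card_eq_fintype_card, Fintype.card_subtype_compl, Nat.card_eq_fintype_card,
      Fintype.card_subtype_eq]
  rw [← hX, Nat.card_congr (MulAction.selfEquivSigmaOrbits L X), Nat.card_sigma]
  refine Finset.dvd_sum fun q _ => ?_
  rw [Nat.card_coe_set_eq, ← MulAction.index_stabilizer]
  refine Subgroup.index_dvd_of_le fun n hn => ?_
  refine hC _ q.out.1.2 (fun h => q.out.2 (Subtype.ext h)) ?_
  rw [Subgroup.mem_centralizer_singleton_iff]
  have h' : n * (q.out.1 : L) * n⁻¹ = (q.out.1 : L) := congrArg (fun a : X => (a.1 : L)) hn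
  exact mul_inv_eq_iff_eq_mul.1 h'

/-- A nilpotent group generated by its derived group and one element is abelian. -/
theorem commutative_of_nilpotent_generated {Q : Type u} [Group Q] [Finite Q] [Group.IsNilpotent Q]
    (x : Q) (h : Subgroup.zpowers x ⊔ commutator Q = ⊤) : ∀ a b : Q, a * b = b * a := by
  have hz : Subgroup.zpowers x = ⊤ := by
    by_contra hne
    obtain ⟨V, hV, hxV⟩ := (eq_top_or_exists_le_coatom (Subgroup.zpowers x)).resolve_left hne
    haveI : V.Normal := Subgroup.NormalizerCondition.normal_of_coatom V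
      Group.normalizerCondition_of_isNilpotent hV
    have hcomm : commutator Q ≤ V := by
      by_contra hc
      have htop : V ⊔ commutator Q = ⊤ := hV.2 _ (left_lt_sup.2 hc)
      haveI : Nontrivial (Q ⧸ V) := by
        rw [← Finite.one_lt_card_iff_nontrivial, ← Subgroup.index_eq_card]
        exact Subgroup.one_lt_index_of_ne_top hV.1
      refine (Group.IsSolvable.commutator_lt_top_of_nontrivial (Q ⧸ V)).ne ?_
      have hm := congrArg (Subgroup.map (QuotientGroup.mk' V)) htop
      rw [Subgroup.map_sup, QuotientGroup.map_mk'_self, bot_sup_eq, commutator_def,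
        Subgroup.map_commutator, Subgroup.map_top_of_surjective _ (QuotientGroup.mk'_surjective V)] at hm
      exact hm
    exact hV.1 (eq_top_iff.2 (h ▸ sup_le hxV hcomm))
  intro a b
  obtain ⟨i, rfl⟩ := Subgroup.mem_zpowers_iff.1 (hz ▸ Subgroup.mem_top a)
  obtain ⟨j, rfl⟩ := Subgroup.mem_zpowers_iff.1 (hz ▸ Subgroup.mem_top b)
  exact ((Commute.refl x).zpow_zpow i j).eq

/-- The primes of a finite nilpotent group divide the index of its derived group. -/
theorem prime_dvd_index_commutator {Q : Type u} [Group Q] [Finite Q] [Group.IsNilpotent Q] {r : ℕ}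
    (hr : r.Prime) (h : r ∣ Nat.card Q) : r ∣ (commutator Q).index := by
  haveI : Fact r.Prime := ⟨hr⟩
  obtain ⟨R, C, f, hR, hrC, -, -, -⟩ := exists_nilpotent_split (H := Q) r
  rw [Nat.card_congr f.toEquiv.symm, Nat.card_prod] at h
  have hRd : r ∣ Nat.card R := (hr.dvd_mul.1 h).resolve_right hrC
  haveI : Nontrivial R :=
    Finite.one_lt_card_iff_nontrivial.1 (hr.one_lt.trans_le (Nat.le_of_dvd Nat.card_pos hRd))
  haveI : Group.IsNilpotent R := Subgroup.isNilpotent R
  obtain ⟨g, hg⟩ : ∃ g : R, g ∉ commutator R := by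
    by_contra hc
    push Not at hc
    exact (Group.IsSolvable.commutator_lt_top_of_nontrivial R).ne (eq_top_iff.2 fun g _ => hc g)
  obtain ⟨lam, hlam⟩ := exists_hom_ne_one hg
  let μ : Q →* ℂˣ := lam.comp ((MonoidHom.fst R C).comp f.symm.toMonoidHom)
  by_contra hnd
  refine hlam ?_
  have h1 : lam g = μ (f (g, 1)) := by simp [μ]
  have h2 : f (g, 1) ^ (commutator Q).index ∈ commutator Q :=
    (commutator Q).pow_index_mem _
  have h3 : μ (f (g, 1)) ^ (commutator Q).index = 1 := by
    rw [← map_pow]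
    exact MonoidHom.mem_ker.1 (Abelianization.commutator_subset_ker μ h2)
  obtain ⟨m, hm⟩ := hR.exists_card_eq
  have h4 : lam g ^ (r ^ m) = 1 := by rw [← map_pow, ← hm, pow_card_eq_one', map_one]
  rw [← h1] at h3
  exact orderOf_eq_one_iff.1 (Nat.eq_one_of_dvd_coprimes
    (((hr.coprime_iff_not_dvd.2 hnd).pow_left m)) (orderOf_dvd_of_pow_eq_one h4)
    (orderOf_dvd_of_pow_eq_one h3))

variable {L : Type u} [Group L] [Fintype L] {G : Type v} [Group G] [Fintype G]
  {K : Subgroup L} [hK : K.Normal] {τ : (L → ℂ) → (G → ℂ)} {R : (L → ℂ) → Finset (G → ℂ)}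

theorem coherenceSystem_subset {S X : Set (L → ℂ)} (hS : Cfsg.IsCoherenceSystem S τ R) (hX : X ⊆ S)
    (hne : X.Nonempty) (hc : ∀ φ ∈ X, Cfsg.conjFun φ ∈ X) : Cfsg.IsCoherenceSystem X τ R where
  nonempty := hne
  isCharacter χ h := hS.isCharacter χ (hX h)
  conj_mem := hc
  conj_ne χ h := hS.conj_ne χ (hX h)
  isometry := isometryOn_subset (zspanOn_subset_zspanOn hX _) hS.isometry
  map_one α h := hS.map_one α (zspanOn_subset_zspanOn hX _ h)
  orthogonal χ h φ h' := hS.orthogonal χ (hX h) φ (hX h')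
  orthonormal χ h := hS.orthonormal χ (hX h)
  virtual χ h := hS.virtual χ (hX h)
  sum_eq χ h := hS.sum_eq χ (hX h)
  disjoint χ h φ h' := hS.disjoint χ (hX h) φ (hX h')

/-- The characters above the derived group are coherent. -/
theorem coherent_above_commutator (hsolv : Group.IsSolvable K)
    (hS : Cfsg.IsCoherenceSystem (Cfsg.inducedIrrAbove K ⊥) τ R) (H₁ : Subgroup L) [H₁.Normal]
    (hH₁K : H₁ < K) (hder : ⁅K, K⁆ ≤ H₁) :
    Cfsg.IsCoherent (Cfsg.inducedIrrAbove K H₁) {1}ᶜ τ := by
  obtain ⟨ψ, hψ, -⟩ := exists_linear_aboveInd hsolv hH₁K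
  refine isCoherent_of_equal_degree (coherenceSystem_subset hS (inducedIrrAbove_subset_bot K H₁)
    ⟨ψ, mem_aboveInd.1 hψ⟩ fun φ h => conjFun_mem_inducedIrrAbove h) ?_
  have hlin : ∀ φ ∈ Cfsg.inducedIrrAbove K H₁, φ 1 = (K.index : ℂ) := by
    rintro φ ⟨θ, h1, h2, h3, rfl⟩
    rw [indFun_one, IsIrrCharacter.apply_one_eq_one_of_commutators h1, mul_one]
    intro a b
    refine h3 _ (hder ?_)
    exact Subgroup.commutator_mem_commutator a.2 b.2
  intro φ hφ φ' hφ'
  rw [hlin φ hφ, hlin φ' hφ']

theorem coherent_odd_nilpotent (hsolv : Group.IsSolvable K)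
    (hS : Cfsg.IsCoherenceSystem (Cfsg.inducedIrrAbove K ⊥) τ R) (hodd : Odd (Nat.card L))
    (M : Subgroup L) [M.Normal] (hMK : M ≤ K) [(M.subgroupOf K).Normal]
    (hnil : Group.IsNilpotent (↥K ⧸ M.subgroupOf K)) (H₁ : Subgroup L) (hH₁ : H₁ = ⁅K, K⁆ ⊔ M)
    (hH₁K : H₁ < K) (hKL : K < ⊤)
    (hfrob : ∀ k ∈ K, k ∉ H₁ → ∀ x : L, x * k * x⁻¹ * k⁻¹ ∈ H₁ → x ∈ K)
    (hgood : (∃ N : Subgroup L, N.Normal ∧ H₁ < N ∧ N < K) ∨
      4 * K.index ^ 2 + 1 < H₁.relIndex K ∨ (¬ ∃ p m : ℕ, p.Prime ∧ M.relIndex K = p ^ m) ∨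
      ⁅K, K⁆ ≤ M ∨ (∃ p m : ℕ, p.Prime ∧ M.relIndex K = p ^ m ∧ K.index ∣ p - 1)) :
    Cfsg.IsCoherent (Cfsg.inducedIrrAbove K M) {1}ᶜ τ := by
  classical
  haveI : H₁.Normal := by rw [hH₁]; infer_instance
  have hMH₁ : M ≤ H₁ := hH₁ ▸ le_sup_right
  have hder : ⁅K, K⁆ ≤ H₁ := hH₁ ▸ le_sup_left
  have hcoh1 := coherent_above_commutator hsolv hS H₁ hH₁K hder
  set q := QuotientGroup.mk' H₁ with hq
  set Kb := K.map q with hKb
  haveI : Kb.Normal := Subgroup.Normal.map hK _ (QuotientGroup.mk'_surjective _)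
  have hidx : Kb.index = K.index :=
    Subgroup.index_map_eq K (QuotientGroup.mk'_surjective _) (by
      rw [hq, QuotientGroup.ker_mk']; exact hH₁K.le)
  have hCb : ∀ x ∈ Kb, x ≠ 1 → Subgroup.centralizer ({x} : Set (L ⧸ H₁)) ≤ Kb := by
    rintro _ ⟨k, hk, rfl⟩ hk1 y hy
    obtain ⟨g, rfl⟩ := QuotientGroup.mk'_surjective H₁ y
    rw [Subgroup.mem_centralizer_singleton_iff] at hy
    refine ⟨g, hfrob k hk (fun h => hk1 ((QuotientGroup.eq_one_iff k).2 h)) g
      ((QuotientGroup.eq_one_iff _).1 ?_), rfl⟩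
    show q (g * k * g⁻¹ * k⁻¹) = 1
    have hy' : q g * q k = q k * q g := hy
    rw [map_mul, map_mul, map_mul, map_inv, map_inv, hy']
    group
  have hl : Odd K.index := hodd.of_dvd_nat (Subgroup.index_dvd_card K)
  have hl1 : K.index ≠ 1 := fun h => hKL.ne (Subgroup.index_eq_one.1 h)
  have hcong : ∀ N : Subgroup L, N.Normal → N ≤ K → K.index ∣ H₁.relIndex N - 1 := by
    intro N hN hNK
    haveI : (N.map q).Normal := Subgroup.Normal.map hN _ (QuotientGroup.mk'_surjective _)
    rw [← hidx, ← card_map_quotient]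
    exact index_dvd_card_sub_one_of_le Kb _ fun x hx => hCb x (Subgroup.map_mono hNK hx)
  have hbigN : ∀ N : Subgroup L, N.Normal → H₁ < N → N < K → 4 * K.index ^ 2 + 1 < H₁.relIndex K := by
    intro N hN h1 h2
    have hbound : ∀ a : ℕ, K.index ∣ a - 1 → 1 < a → Odd a → 2 * K.index + 1 ≤ a := by
      intro a ⟨t, ht⟩ ha ⟨s, hs⟩
      obtain ⟨l, hl'⟩ := hl
      have ht2 : 2 ≤ t := by
        by_contra hlt
        have : t = 0 ∨ t = 1 := by omega
        rcases this with rfl | rfl <;> omega
      have := Nat.mul_le_mul_left K.index ht2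
      omega
    have hoddsub : ∀ A B : Subgroup L, Odd (A.relIndex B) := fun A B =>
      hodd.of_dvd_nat ((Subgroup.index_dvd_card _).trans (Subgroup.card_subgroup_dvd_card B))
    have hone : ∀ A B : Subgroup L, A < B → 1 < A.relIndex B := fun A B h => by
      have h1 : A.relIndex B ≠ 1 := fun e => h.not_ge (Subgroup.relIndex_eq_one.1 e)
      have h2 : A.relIndex B ≠ 0 := Subgroup.index_ne_zero_of_finite
      omega
    have ha := hbound _ (hcong N hN h2.le) (hone _ _ h1) (hoddsub _ _)
    have hb := hbound (N.relIndex K) ?_ (hone _ _ h2) (hoddsub _ _)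
    · rw [← Subgroup.relIndex_mul_relIndex H₁ N K h1.le h2.le]
      have := Nat.mul_le_mul ha hb
      obtain ⟨l, hl'⟩ := hl
      nlinarith
    · have e1 := (Nat.modEq_iff_dvd' (hone _ _ h1).le).2 (hcong N hN h2.le)
      have e2 := (Nat.modEq_iff_dvd' (hone _ _ (h1.trans h2)).le).2 (hcong K hK le_rfl)
      rw [← Subgroup.relIndex_mul_relIndex H₁ N K h1.le h2.le] at e2
      have e3 : 1 ≡ N.relIndex K [MOD K.index] :=
        e2.trans ((e1.symm.mul_right _).trans (by rw [one_mul]))
      exact (Nat.modEq_iff_dvd' (hone _ _ h2).le).1 e3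
  haveI := hnil
  set Q := ↥K ⧸ M.subgroupOf K with hQ
  set π := QuotientGroup.mk' (M.subgroupOf K) with hπ
  have hcardQ : Nat.card Q = M.relIndex K := (Subgroup.index_eq_card _).symm
  -- the derived group of `K / M` is `H₁ / M`
  have hQder : commutator Q = (H₁.subgroupOf K).map π := by
    rw [commutator_def, ← Subgroup.map_top_of_surjective π (QuotientGroup.mk'_surjective _),
      ← Subgroup.map_commutator]
    refine le_antisymm (Subgroup.map_mono fun x hx => ?_) ?_
    · rw [Subgroup.mem_subgroupOf]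
      refine hder ?_
      have h1 := Subgroup.mem_map_of_mem K.subtype hx
      rwa [Subgroup.map_commutator, ← MonoidHom.range_eq_map, Subgroup.range_subtype] at h1
    · rintro _ ⟨x, hx, rfl⟩
      rw [SetLike.mem_coe, Subgroup.mem_subgroupOf, hH₁, ← SetLike.mem_coe, Subgroup.normal_mul] at hx
      obtain ⟨c, hc, m, hm, hcm⟩ := hx
      have hc' : c ∈ Subgroup.map K.subtype (⁅(⊤ : Subgroup K), (⊤ : Subgroup K)⁆ : Subgroup K) := by
        rw [Subgroup.map_commutator, ← MonoidHom.range_eq_map, Subgroup.range_subtype]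
        exact hc
      obtain ⟨c', hc'', rfl⟩ := hc'
      refine ⟨c', hc'', ?_⟩
      rw [hπ, QuotientGroup.mk'_eq_mk']
      refine ⟨⟨m, hMK hm⟩, hm, Subtype.ext ?_⟩
      exact hcm
  have hidxQ : (commutator Q).index = H₁.relIndex K := by
    rw [hQder, Subgroup.index_map_eq _ (QuotientGroup.mk'_surjective _) (by
      rw [QuotientGroup.ker_mk']; exact fun x hx => hMH₁ hx), Subgroup.relIndex]
  have hcase : 4 * K.index ^ 2 + 1 < H₁.relIndex K ∨ ⁅K, K⁆ ≤ M := by
    rcases hgood with ⟨N, hN, h1, h2⟩ | h | hnp | h | ⟨p, m, hp, hm, hdvd⟩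
    · exact Or.inl (hbigN N hN h1 h2)
    · exact Or.inl h
    · left
      obtain ⟨p, hp, hpd⟩ := Nat.exists_prime_and_dvd (show H₁.relIndex K ≠ 1 from
        fun e => hH₁K.not_ge (Subgroup.relIndex_eq_one.1 e))
      obtain ⟨r, hr, hrd, hrp⟩ : ∃ r, r.Prime ∧ r ∣ M.relIndex K ∧ r ≠ p := by
        by_contra hall
        push Not at hall
        exact hnp ⟨p, (M.relIndex K).primeFactorsList.length, hp,
          Nat.eq_prime_pow_of_unique_prime_dvd Subgroup.index_ne_zero_of_finite
            fun {d} hd hdd => hall d hd hdd⟩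
      have hrd' : r ∣ H₁.relIndex K := hidxQ ▸ prime_dvd_index_commutator hr (hcardQ ▸ hrd)
      haveI : Fact p.Prime := ⟨hp⟩
      obtain ⟨P⟩ := (inferInstance : Nonempty (Sylow p Kb))
      have habK : ∀ x y : Kb, x * y = y * x := by
        rintro ⟨_, a, ha, rfl⟩ ⟨_, b, hb, rfl⟩
        refine Subtype.ext ?_
        have h1 : q (a * b * a⁻¹ * b⁻¹) = 1 :=
          (QuotientGroup.eq_one_iff _).2 (hder (Subgroup.commutator_mem_commutator ha hb))
        rw [map_mul, map_mul, map_mul, map_inv, map_inv] at h1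
        show q a * q b = q b * q a
        calc q a * q b = q a * q b * (q a)⁻¹ * (q b)⁻¹ * (q b * q a) := by group
          _ = q b * q a := by rw [h1, one_mul]
      haveI : (P : Subgroup Kb).Normal :=
        ⟨fun x hx g => by rwa [habK g x, mul_inv_cancel_right]⟩
      haveI : Subsingleton (Sylow p Kb) := (Sylow.unique_of_normal P inferInstance).instSubsingleton
      haveI : ((P : Subgroup Kb).map Kb.subtype).Normal := by
        haveI := Sylow.characteristic_of_subsingleton P
        exact ConjAct.normal_of_characteristic_of_normal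
      set N := ((P : Subgroup Kb).map Kb.subtype).comap q with hN
      haveI : N.Normal := Subgroup.Normal.comap inferInstance _
      have hKcard : Nat.card Kb = H₁.relIndex K := card_map_quotient H₁ K
      have hPK : ((P : Subgroup Kb).map Kb.subtype) ≤ Kb := Subgroup.map_subtype_le _
      have hmapN : N.map q = (P : Subgroup Kb).map Kb.subtype :=
        Subgroup.map_comap_eq_self_of_surjective (QuotientGroup.mk'_surjective _) _
      have hcN : H₁.relIndex N = Nat.card P := by
        rw [← card_map_quotient, ← hq, hmapN, Subgroup.card_map_of_injective Kb.subtype_injective]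
      have hH₁N : H₁ ≤ N := fun x hx => by
        rw [hN, Subgroup.mem_comap, show q x = 1 from (QuotientGroup.eq_one_iff x).2 hx]
        exact one_mem _
      refine hbigN N inferInstance (lt_of_le_of_ne hH₁N fun e => ?_) (lt_of_le_of_ne (fun x hx => ?_) fun e => ?_)
      · have h1 := hcN
        rw [← e, Subgroup.relIndex_self] at h1
        exact P.ne_bot_of_dvd_card (hKcard ▸ hpd) (Subgroup.card_eq_one.1 h1.symm)
      · obtain ⟨k, hk, hkx⟩ := hPK (Subgroup.mem_comap.1 hx)
        have h1 : k⁻¹ * x ∈ H₁ := (QuotientGroup.eq (s := H₁)).1 hkx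
        have h2 := mul_mem hk (hH₁K.le h1)
        rwa [mul_inv_cancel_left] at h2
      · rw [e, ← hKcard] at hcN
        obtain ⟨j, hj⟩ := P.isPGroup'.exists_card_eq
        rw [← hKcard, hcN, hj] at hrd'
        exact hrp ((Nat.prime_dvd_prime_iff_eq hr hp).1 (hr.dvd_of_dvd_pow hrd'))
    · exact Or.inr h
    · by_cases hbig : 4 * K.index ^ 2 + 1 < H₁.relIndex K
      · exact Or.inl hbig
      right
      have hdiv : H₁.relIndex K ∣ p ^ m := hm ▸ Subgroup.relIndex_dvd_of_le_left K hMH₁
      obtain ⟨i, -, hi⟩ := (Nat.dvd_prime_pow hp).1 hdiv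
      have hp3 : 2 * K.index + 1 ≤ p := by
        obtain ⟨t, ht⟩ := hdvd
        have := hp.two_le
        have hp2 : p ≠ 2 := by
          rintro rfl
          have : K.index ∣ 1 := ⟨t, ht⟩
          exact hl1 (Nat.dvd_one.1 this)
        obtain ⟨s, hs⟩ := hp.odd_of_ne_two hp2
        obtain ⟨l, hl'⟩ := hl
        have ht2 : 2 ≤ t := by
          by_contra hlt
          have : t = 0 ∨ t = 1 := by omega
          rcases this with rfl | rfl <;> omega
        have := Nat.mul_le_mul_left K.index ht2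
        omega
      have hi1 : i = 1 := by
        rcases i with _ | _ | i
        · exact absurd (Subgroup.relIndex_eq_one.1 (hi.trans (pow_zero p))) hH₁K.not_ge
        · rfl
        · exfalso
          apply hbig
          rw [hi]
          have h1 : p ^ 2 ≤ p ^ (i + 1 + 1) := Nat.pow_le_pow_right hp.pos (by omega)
          have h2 : (2 * K.index + 1) ^ 2 ≤ p ^ 2 := Nat.pow_le_pow_left hp3 2
          have h3 : 0 < K.index := Nat.pos_of_ne_zero K.index_ne_zero_of_finite
          nlinarith
      subst hi1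
      rw [pow_one, ← hidxQ] at hi
      have htop : ∃ x : Q, Subgroup.zpowers x ⊔ commutator Q = ⊤ := by
        obtain ⟨x, hx⟩ : ∃ x, x ∉ commutator Q := by
          by_contra hc
          push Not at hc
          rw [show commutator Q = ⊤ from eq_top_iff.2 fun g _ => hc g, Subgroup.index_top] at hi
          exact hp.one_lt.ne hi
        refine ⟨x, Subgroup.index_eq_one.1 (((Nat.dvd_prime hp).1 (hi ▸ Subgroup.index_dvd_of_le
          le_sup_right)).resolve_right fun e => ?_)⟩
        have heq : Subgroup.zpowers x ⊔ commutator Q = commutator Q :=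
          (Subgroup.eq_of_le_of_card_ge le_sup_right (Nat.le_of_eq (by
            refine Nat.eq_of_mul_eq_mul_right (show 0 < p from hp.pos) ?_
            conv_rhs => rw [← hi]
            rw [← e, Subgroup.card_mul_index, Subgroup.card_mul_index]))).symm
        exact hx (heq ▸ (le_sup_left : Subgroup.zpowers x ≤ _) (Subgroup.mem_zpowers x))
      obtain ⟨x, hx⟩ := htop
      rw [Subgroup.commutator_le]
      intro a ha b hb
      have h1 := commutative_of_nilpotent_generated x hx (π ⟨a, ha⟩) (π ⟨b, hb⟩)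
      have h2 : π (⟨a, ha⟩ * ⟨b, hb⟩ * (⟨a, ha⟩ : K)⁻¹ * (⟨b, hb⟩ : K)⁻¹) = 1 := by
        rw [map_mul, map_mul, map_mul, map_inv, map_inv, h1]
        group
      exact (QuotientGroup.eq_one_iff (N := M.subgroupOf K) _).1 h2
  rcases hcase with hbig | hle
  · exact coherent_nilpotent_section hsolv hS M H₁ K hMH₁ hH₁K.le le_rfl hnil hcoh1 hbig
  · rwa [hH₁, sup_eq_right.2 hle] at hcoh1

end CfsgLib.Char
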