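import Cfsg.Agent.Char.InducedAbove
import Cfsg.Agent.Kinf.Basic

/-!
# Coherence through central and nilpotent sections
-/

set_option autoImplicit false
set_option linter.style.haveILetI false

namespace CfsgLib.Char

universe u v

variable {L : Type u} [Group L] [Fintype L] {G : Type v} [Group G] [Fintype G]
  {K : Subgroup L} [hK : K.Normal] {τ : (L → ℂ) → (G → ℂ)} {R : (L → ℂ) → Finset (G → ℂ)}

/-- Enlarging `S(A)` to `S(B)` by the inequality on degrees. -/
theorem coherent_above_of_degree (hsolv : Group.IsSolvable K)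
    (hS : Cfsg.IsCoherenceSystem (Cfsg.inducedIrrAbove K ⊥) τ R) (A B : Subgroup L) [A.Normal]
    [B.Normal] (hAK : A < K) (hBK : B < K) (hA : Cfsg.IsCoherent (Cfsg.inducedIrrAbove K A) {1}ᶜ τ)
    (hdeg : ∀ θ : K → ℂ, Cfsg.IsIrrCharacter K θ → (∀ a : K, (a : L) ∈ B → θ a = θ 1) →
      2 * (K.index * cdeg θ) + 1 < A.relIndex K) :
    Cfsg.IsCoherent (Cfsg.inducedIrrAbove K B) {1}ᶜ τ := by
  classical
  obtain ⟨ψ, hψ, hψd⟩ := exists_linear_aboveInd hsolv hAK
  have hconjX : ∀ φ ∈ aboveInd K A, Cfsg.conjFun φ ∈ aboveInd K A := fun φ hφ =>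
    mem_aboveInd.2 (conjFun_mem_inducedIrrAbove (mem_aboveInd.1 hφ))
  have hconjY : ∀ φ ∈ aboveInd K A ∪ aboveInd K B, Cfsg.conjFun φ ∈ aboveInd K A ∪ aboveInd K B := by
    intro φ hφ
    rcases Finset.mem_union.1 hφ with h | h
    · exact Finset.mem_union_left _ (hconjX φ h)
    · exact Finset.mem_union_right _
        (mem_aboveInd.2 (conjFun_mem_inducedIrrAbove (mem_aboveInd.1 h)))
  have hY : Cfsg.IsCoherent (↑(aboveInd K A ∪ aboveInd K B) : Set (L → ℂ)) ({1}ᶜ : Set L) τ := by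
    refine coherent_grow hS (aboveInd K A) _ Finset.subset_union_left ?_ hconjX hconjY
      (by rwa [coe_aboveInd]) hψ fun χ hχ hχX => ?_
    · intro φ hφ
      rcases Finset.mem_union.1 (Finset.mem_coe.1 hφ) with h | h
      · exact inducedIrrAbove_subset_bot K A (mem_aboveInd.1 h)
      · exact inducedIrrAbove_subset_bot K B (mem_aboveInd.1 h)
    obtain ⟨θ, h1, h2, h3, rfl⟩ := mem_aboveInd.1 ((Finset.mem_union.1 hχ).resolve_left hχX)
    refine ⟨?_, ?_⟩
    · rw [hψd, cdeg_indFun h1]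
      exact dvd_mul_right _ _
    · rw [sum_weight_aboveInd, hψd, cdeg_indFun h1]
      have hlt : (2 * ((K.index : ℝ) * cdeg θ) + 1 : ℝ) < (A.relIndex K : ℝ) := by
        exact_mod_cast hdeg θ h1 h3
      have hl : (0 : ℝ) < K.index := by
        exact_mod_cast Nat.pos_of_ne_zero K.index_ne_zero_of_finite
      have := mul_lt_mul_of_pos_left (show 2 * ((K.index : ℝ) * cdeg θ) < (A.relIndex K : ℝ) - 1 by
        linarith) hl
      push_cast
      linarith
  obtain ⟨φ, hφ', -⟩ := exists_linear_aboveInd hsolv hBK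
  have hφ := mem_aboveInd.1 hφ'
  refine isCoherent_subset ?_ hY (system_exists_ne_zero hS (inducedIrrAbove_subset_bot K B)
    (fun φ h => conjFun_mem_inducedIrrAbove h) ⟨φ, hφ⟩)
  rw [Finset.coe_union, coe_aboveInd, coe_aboveInd]
  exact Set.subset_union_right

theorem lt_of_coherent {A : Subgroup L} (hAK : A ≤ K)
    (hA : Cfsg.IsCoherent (Cfsg.inducedIrrAbove K A) {1}ᶜ τ) : A < K := by
  refine lt_of_le_of_ne hAK fun hEq => ?_
  subst hEq
  obtain ⟨⟨α, hα, hα0⟩, -⟩ := hA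
  refine hα0 ?_
  have hempty : Cfsg.inducedIrrAbove A A = (∅ : Set (L → ℂ)) := by
    refine Set.eq_empty_iff_forall_notMem.2 fun φ ⟨θ, h1, h2, h3, _⟩ => h2 ?_
    haveI := Fintype.ofFinite A
    by_contra hne
    have h0 := IsIrrCharacter.classInner_of_ne h1 isIrrCharacter_one hne
    simp only [classInner_def, map_one, mul_one] at h0
    rw [Finset.sum_congr rfl fun x _ => h3 x x.2, Finset.sum_const, Finset.card_univ, nsmul_eq_mul,
      ← Nat.card_eq_fintype_card, inv_mul_cancel_left₀ (Nat.cast_ne_zero.2 Nat.card_pos.ne')] at h0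
    exact IsIrrCharacter.apply_one_ne_zero h1 h0
  have := hα.1
  rw [hempty] at this
  simpa [Cfsg.zspan] using this

/-- Coherence passes through a central section. -/
theorem coherent_central_section (hsolv : Group.IsSolvable K)
    (hS : Cfsg.IsCoherenceSystem (Cfsg.inducedIrrAbove K ⊥) τ R) (A B C D : Subgroup L) [A.Normal]
    [B.Normal] (hAK : A < K) (hBK : B < K) (hDC : D ≤ C) (hCK : C ≤ K)
    (hcent : ∀ x ∈ D, ∀ y ∈ C, x * y * x⁻¹ * y⁻¹ ∈ B)
    (hA : Cfsg.IsCoherent (Cfsg.inducedIrrAbove K A) {1}ᶜ τ)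
    (hlt : 4 * C.index ^ 2 * D.relIndex C < (A.relIndex K - 1) ^ 2) :
    Cfsg.IsCoherent (Cfsg.inducedIrrAbove K B) {1}ᶜ τ := by
  refine coherent_above_of_degree hsolv hS A B hAK hBK hA fun θ hθ hker => ?_
  have h1 := cdeg_sq_le_of_section hDC hCK hcent hθ hker
  have h2 : (2 * (K.index * cdeg θ)) ^ 2 < (A.relIndex K - 1) ^ 2 := by
    refine lt_of_le_of_lt ?_ hlt
    rw [← Subgroup.relIndex_mul_index hCK]
    calc (2 * (K.index * cdeg θ)) ^ 2 = 4 * K.index ^ 2 * cdeg θ ^ 2 := by ring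
      _ ≤ 4 * K.index ^ 2 * (C.relIndex K ^ 2 * D.relIndex C) := Nat.mul_le_mul_left _ h1
      _ = 4 * (C.relIndex K * K.index) ^ 2 * D.relIndex C := by ring
  have h3 := (Nat.pow_lt_pow_iff_left (by norm_num)).1 h2
  omega

/-- Coherence passes down a nilpotent section of large index. -/
theorem coherent_nilpotent_section (hsolv : Group.IsSolvable K)
    (hS : Cfsg.IsCoherenceSystem (Cfsg.inducedIrrAbove K ⊥) τ R) (M H₁ H : Subgroup L) [M.Normal]
    [H₁.Normal] [hHn : H.Normal] (hMH₁ : M ≤ H₁) (hH₁H : H₁ ≤ H) (hHK : H ≤ K)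
    [(M.subgroupOf H).Normal] (hnil : Group.IsNilpotent (↥H ⧸ M.subgroupOf H))
    (hcoh : Cfsg.IsCoherent (Cfsg.inducedIrrAbove K H₁) {1}ᶜ τ)
    (hbig : 4 * K.index ^ 2 + 1 < H₁.relIndex H) :
    Cfsg.IsCoherent (Cfsg.inducedIrrAbove K M) {1}ᶜ τ := by
  classical
  have hH₁K : H₁ < K := lt_of_coherent (hH₁H.trans hHK) hcoh
  suffices h : ∀ (n : ℕ) (B : Subgroup L), B.Normal → Nat.card H₁ - Nat.card B = n → M ≤ B → B ≤ H₁ →
      Cfsg.IsCoherent (Cfsg.inducedIrrAbove K B) {1}ᶜ τ from h _ M inferInstance rfl le_rfl hMH₁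
  intro n
  induction n using Nat.strong_induction_on with
  | _ n ih =>
    intro B hBn hn hMB hBH₁
    rcases eq_or_ne B H₁ with rfl | hne
    · exact hcoh
    haveI := hBn
    -- a minimal normal subgroup above `B`
    obtain ⟨D, ⟨hDn, hBD, hDH₁⟩, hDmin⟩ :=
      (Set.toFinite {D : Subgroup L | D.Normal ∧ B < D ∧ D ≤ H₁}).exists_minimal
        ⟨H₁, inferInstance, lt_of_le_of_ne hBH₁ hne, le_rfl⟩
    haveI := hDn
    have hDcoh : Cfsg.IsCoherent (Cfsg.inducedIrrAbove K D) {1}ᶜ τ := by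
      refine ih _ ?_ D hDn rfl (hMB.trans hBD.le) hDH₁
      have hc : Nat.card B < Nat.card D :=
        lt_of_not_ge fun hle => hBD.ne (Subgroup.eq_of_le_of_card_ge hBD.le hle)
      have := Subgroup.card_le_of_le hDH₁
      omega
    -- `D / B` is central in `H / B`
    have hcent : ∀ x ∈ D, ∀ y ∈ H, x * y * x⁻¹ * y⁻¹ ∈ B := by
      let Z : Subgroup L :=
        { carrier := {x | x ∈ D ∧ ∀ y ∈ H, x * y * x⁻¹ * y⁻¹ ∈ B}
          one_mem' := ⟨one_mem _, fun y _ => by simp⟩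
          mul_mem' := by
            rintro a b ⟨ha, ha'⟩ ⟨hb, hb'⟩
            refine ⟨mul_mem ha hb, fun y hy => ?_⟩
            rw [show a * b * y * (a * b)⁻¹ * y⁻¹ =
              a * (b * y * b⁻¹ * y⁻¹) * a⁻¹ * (a * y * a⁻¹ * y⁻¹) by group]
            exact mul_mem (hBn.conj_mem _ (hb' y hy) a) (ha' y hy)
          inv_mem' := by
            rintro a ⟨ha, ha'⟩
            refine ⟨inv_mem ha, fun y hy => ?_⟩
            rw [show a⁻¹ * y * a⁻¹⁻¹ * y⁻¹ = a⁻¹ * (a * y * a⁻¹ * y⁻¹)⁻¹ * a by group]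
            have := hBn.conj_mem _ (inv_mem (ha' y hy)) a⁻¹
            rwa [inv_inv] at this }
      have hZn : Z.Normal := ⟨fun a ha g => ⟨hDn.conj_mem a ha.1 g, fun y hy => by
        rw [show g * a * g⁻¹ * y * (g * a * g⁻¹)⁻¹ * y⁻¹ =
          g * (a * (g⁻¹ * y * g) * a⁻¹ * (g⁻¹ * y * g)⁻¹) * g⁻¹ by group]
        refine hBn.conj_mem _ (ha.2 _ ?_) g
        have := hHn.conj_mem y hy g⁻¹
        rwa [inv_inv] at this⟩⟩
      have hBZ : B ≤ Z := fun b hb => ⟨hBD.le hb, fun y _ => by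
        rw [show b * y * b⁻¹ * y⁻¹ = b * (y * b⁻¹ * y⁻¹) by group]
        exact mul_mem hb (hBn.conj_mem _ (inv_mem hb) y)⟩
      suffices hZ : ¬ Z ≤ B by
        intro x hx
        exact ((hDmin ⟨hZn, lt_of_le_of_ne hBZ fun h => hZ h.ge, fun a ha => hDH₁ ha.1⟩
          (fun a ha => ha.1)) hx).2
      haveI := hnil
      obtain ⟨z, hz, hzB, hzc⟩ := CfsgLib.Kinf.exists_central_mod
        (N := (⊤ : Subgroup (↥H ⧸ M.subgroupOf H)))
        (B := (B.subgroupOf H).map (QuotientGroup.mk' (M.subgroupOf H)))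
        (C := (D.subgroupOf H).map (QuotientGroup.mk' (M.subgroupOf H))) (by
          intro hle
          obtain ⟨d, hd, hdB⟩ := SetLike.exists_of_lt hBD
          obtain ⟨b, hb, hbd⟩ := hle ⟨⟨d, hH₁H (hDH₁ hd)⟩, hd, rfl⟩
          refine hdB ?_
          have h1 : ((b : L))⁻¹ * d ∈ M := (QuotientGroup.eq (s := M.subgroupOf H)).1 hbd
          have h2 := mul_mem (show (b : L) ∈ B from hb) (hMB h1)
          rwa [mul_inv_cancel_left] at h2) (by
          haveI : ((D.subgroupOf H).map (QuotientGroup.mk' (M.subgroupOf H))).Normal :=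
            Subgroup.Normal.map inferInstance _ (QuotientGroup.mk'_surjective _)
          rw [Subgroup.normalizer_eq_top])
      intro hle
      obtain ⟨z₀, hz₀, rfl⟩ := hz
      refine hzB ⟨z₀, hle ⟨hz₀, fun y hy => ?_⟩, rfl⟩
      obtain ⟨-, b, hb, hbe⟩ := hzc (QuotientGroup.mk' (M.subgroupOf H) ⟨y, hy⟩) trivial
      rw [← map_mul, ← map_inv, ← map_mul, ← map_inv, ← map_mul] at hbe
      have h1 : ((b : L))⁻¹ * ((z₀ : L) * y * (z₀ : L)⁻¹ * y⁻¹) ∈ M := (QuotientGroup.eq (s := M.subgroupOf H)).1 hbe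
      have h2 := mul_mem (show (b : L) ∈ B from hb) (hMB h1)
      rwa [mul_inv_cancel_left] at h2
    refine coherent_central_section hsolv hS D B H D (lt_of_le_of_lt hDH₁ hH₁K)
      (lt_of_le_of_lt hBH₁ hH₁K) (hDH₁.trans hH₁H) hHK hcent hDcoh ?_
    -- the inequality
    rw [← Subgroup.relIndex_mul_index hHK, ← Subgroup.relIndex_mul_relIndex D H K (hDH₁.trans hH₁H) hHK]
    have hx : 4 * K.index ^ 2 + 2 ≤ D.relIndex H := by
      have h1 : H₁.relIndex H ≤ D.relIndex H := by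
        rw [← Subgroup.relIndex_mul_relIndex D H₁ H hDH₁ hH₁H]
        exact Nat.le_mul_of_pos_left _ (Nat.pos_of_ne_zero Subgroup.index_ne_zero_of_finite)
      omega
    have hk : 0 < H.relIndex K := Nat.pos_of_ne_zero Subgroup.index_ne_zero_of_finite
    obtain ⟨x, hxe⟩ : ∃ x, D.relIndex H = x + 1 := ⟨D.relIndex H - 1, by omega⟩
    have h2 : H.relIndex K * x ≤ D.relIndex H * H.relIndex K - 1 := by
      rw [hxe, add_mul, one_mul, mul_comm]
      omega
    refine lt_of_lt_of_le ?_ (Nat.pow_le_pow_left h2 2)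
    rw [hxe] at hx ⊢
    have hk2 : 0 < H.relIndex K ^ 2 := by positivity
    calc 4 * (H.relIndex K * K.index) ^ 2 * (x + 1) = H.relIndex K ^ 2 * (4 * K.index ^ 2 * (x + 1)) := by
          ring
      _ < H.relIndex K ^ 2 * (x * x) := by
          refine Nat.mul_lt_mul_of_pos_left ?_ hk2
          have h3 : (4 * K.index ^ 2 + 1) * x ≤ x * x := Nat.mul_le_mul_right _ (by omega)
          have h4 : 4 * K.index ^ 2 < x := by omega
          nlinarith
      _ = (H.relIndex K * x) ^ 2 := by ring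

end CfsgLib.Char
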