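import Cfsg.Agent.BlocksB.ClassSum

/-!
# Frobenius' count of the solutions of a commutator equation
-/

namespace CfsgLib.Char

open Cfsg Finset
open scoped ComplexConjugate

universe u

variable {G : Type u} [Group G]

theorem card_commutator_eq [Finite G] (z : G) :
    (Nat.card {xy : G × G // xy.1 * xy.2 * xy.1⁻¹ * xy.2⁻¹ = z} : ℂ) =
      (Nat.card G : ℂ) * ∑ χ ∈ irrFinset G, χ z / χ 1 := by
  classical
  have := Fintype.ofFinite G
  have hG : (Nat.card G : ℂ) ≠ 0 := Nat.cast_ne_zero.mpr Nat.card_pos.ne'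
  set N := Nat.card {xy : G × G // xy.1 * xy.2 * xy.1⁻¹ * xy.2⁻¹ = z}
  let P : G → Finset (G × G) := fun x =>
    univ.filter fun gh => gh.1 * x * gh.1⁻¹ * (gh.2 * x⁻¹ * gh.2⁻¹) = z
  have h1 : (∑ x : G, (P x).card : ℕ) = Nat.card G * N := by
    have e : {t : G × G × G // t.2.1 * t.1 * t.2.1⁻¹ * (t.2.2 * t.1⁻¹ * t.2.2⁻¹) = z} ≃
        G × {xy : G × G // xy.1 * xy.2 * xy.1⁻¹ * xy.2⁻¹ = z} :=
      { toFun := fun t => (t.1.2.1, ⟨(t.1.2.1 * t.1.1 * t.1.2.1⁻¹, t.1.2.2 * t.1.2.1⁻¹), by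
          refine Eq.trans ?_ t.2; group⟩)
        invFun := fun a => ⟨(a.1⁻¹ * a.2.1.1 * a.1, a.1, a.2.1.2 * a.1), by
          refine Eq.trans ?_ a.2.2; group⟩
        left_inv := fun t => by
          refine Subtype.ext (Prod.ext ?_ (Prod.ext rfl ?_)) <;> dsimp <;> group
        right_inv := fun a => by
          refine Prod.ext rfl (Subtype.ext (Prod.ext ?_ ?_)) <;> dsimp <;> group }
    have h2 : Nat.card {t : G × G × G // t.2.1 * t.1 * t.2.1⁻¹ * (t.2.2 * t.1⁻¹ * t.2.2⁻¹) = z} =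
        ∑ x : G, (P x).card := by
      rw [Nat.card_congr (Equiv.subtypeProdEquivSigmaSubtype fun (x : G) (gh : G × G) =>
        gh.1 * x * gh.1⁻¹ * (gh.2 * x⁻¹ * gh.2⁻¹) = z), Nat.card_sigma]
      exact sum_congr rfl fun x _ => by rw [Nat.card_eq_fintype_card, Fintype.card_subtype]
    rw [← h2, Nat.card_congr e, Nat.card_prod]
  have hper : ∀ χ ∈ irrFinset G, ∑ x : G, χ x * χ x⁻¹ * χ z⁻¹ / χ 1 = (Nat.card G : ℂ) * (χ z⁻¹ / χ 1) := by
    intro χ hχ
    have hself := IsIrrCharacter.classInner_self (mem_irrFinset.mp hχ)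
    rw [classInner, inv_mul_eq_iff_eq_mul₀ hG, mul_one] at hself
    rw [← sum_div, ← sum_mul]
    simp only [IsIrrCharacter.apply_inv (mem_irrFinset.mp hχ)]
    rw [hself]; ring
  have h3 : (Nat.card G : ℂ) * N = (Nat.card G : ℂ) * ((Nat.card G : ℂ) * ∑ χ ∈ irrFinset G, χ z⁻¹ / χ 1) := by
    rw [← Nat.cast_mul, ← h1, Nat.cast_sum, sum_congr rfl (fun x _ => CfsgLib.BlocksB.card_pairs x x⁻¹ z),
      ← mul_sum, sum_comm, sum_congr rfl hper, ← mul_sum]
  have h4 := mul_left_cancel₀ hG h3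
  have h5 := congrArg (starRingEnd ℂ) h4
  rw [Complex.conj_natCast, map_mul, Complex.conj_natCast, map_sum] at h5
  rw [h5]
  congr 1
  refine sum_congr rfl fun χ hχ => ?_
  obtain ⟨n, -, hn⟩ := IsIrrCharacter.exists_degree (mem_irrFinset.mp hχ)
  rw [map_div₀, IsIrrCharacter.apply_inv (mem_irrFinset.mp hχ), Complex.conj_conj, hn, Complex.conj_natCast]

end CfsgLib.Char
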