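import Cfsg.Agent.Char.Linear
import Cfsg.Agent.Char.Central
import Cfsg.Agent.Char.Orthogonality
import Cfsg.Agent.Solvable.Basics
import Cfsg.Prelude.Def_CaseTheorems
import Mathlib

/-!
An element on which every non-principal irreducible character drops by the same amount or vanishes.
-/

set_option autoImplicit false
set_option linter.unusedSectionVars false

namespace CfsgLib.ConstantDrop

open scoped ComplexConjugate
open CfsgLib.Char

universe u

variable {G : Type u} [Group G] [Finite G] {u : G} {c : ℂ}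

/-- The hypothesis. -/
def Hyp (u : G) (c : ℂ) : Prop :=
  ∀ χ : Cfsg.IrrCharacter G, (χ : G → ℂ) ≠ (fun _ => (1 : ℂ)) → ((χ : G → ℂ) 1 - (χ : G → ℂ) u = c ∨ (χ : G → ℂ) u = 0)

theorem hom_value (h : Hyp u c) {lam : G →* ℂˣ} (hl : lam ≠ 1) : (lam u : ℂ) = 1 - c := by
  have hne : (fun g => (lam g : ℂ)) ≠ fun _ => (1 : ℂ) := fun e => hl (MonoidHom.ext fun g => Units.ext (congrFun e g))
  rcases h ⟨fun g => (lam g : ℂ), isIrrCharacter_ofHom lam⟩ hne with e | e
  · simp only [map_one, Units.val_one] at e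
    linear_combination -e
  · exact absurd e (Units.ne_zero _)

theorem degree_eq {χ : G → ℂ} (hχ : Cfsg.IsIrrCharacter G χ) : ∃ d : ℕ, χ 1 = d ∧ 1 ≤ d := by
  obtain ⟨n, ρ, hρ, rfl⟩ := hχ
  refine ⟨n, by rw [ρ.char_one, Module.finrank_fin_fun], ?_⟩
  have := finrank_pos_of_isIrreducible ρ
  rwa [Module.finrank_fin_fun] at this

open scoped Classical in
theorem col_sum (hu : u ≠ 1) : ∑ χ ∈ (irrFinset G).erase (fun _ => 1), χ 1 * conj (χ u) = -1 := by
  classical
  have h := sum_irr_mul_conj (1 : G) u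
  rw [if_neg fun h => hu (isConj_one_right.1 h),
    ← Finset.add_sum_erase _ _ (mem_irrFinset.2 (isIrrCharacter_one (G := G)))] at h
  simp only [map_one, mul_one] at h
  linear_combination h

theorem eq_two (hu : u ≠ 1) (h : Hyp u c) (hnp : commutator G ≠ ⊤) : c = 2 := by
  classical
  obtain ⟨g, hg⟩ : ∃ g, g ∉ commutator G := by
    by_contra! hall
    exact hnp (eq_top_iff.2 fun g _ => hall g)
  obtain ⟨lam, hlam⟩ := exists_hom_ne_one hg
  have hl : lam ≠ 1 := fun e => hlam (by rw [e]; rfl)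
  have hc0 : c ≠ 0 := by
    intro hc
    have hsum := congrArg Complex.re (col_sum (G := G) hu)
    rw [Complex.re_sum] at hsum
    have hpos : 0 ≤ ∑ χ ∈ (irrFinset G).erase (fun _ => 1), (χ 1 * conj (χ u)).re := by
      refine Finset.sum_nonneg fun χ hχ => ?_
      rw [Finset.mem_erase, mem_irrFinset] at hχ
      obtain ⟨d, hd, -⟩ := degree_eq hχ.2
      rcases h ⟨χ, hχ.2⟩ hχ.1 with e | e <;> simp only at e
      · rw [hc, sub_eq_zero, hd] at e
        rw [← e, hd, Complex.conj_natCast, ← Nat.cast_mul, Complex.natCast_re]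
        positivity
      · simp [e]
    simp only [Complex.neg_re, Complex.one_re] at hsum
    linarith
  have ha := hom_value h hl
  by_cases hl2 : lam * lam = 1
  · have : (lam u : ℂ) * lam u = 1 := by
      have := congrArg (fun f : G →* ℂˣ => ((f u : ℂˣ) : ℂ)) hl2
      simpa using this
    rw [ha] at this
    have h2 : c * (c - 2) = 0 := by linear_combination this
    exact sub_eq_zero.1 ((mul_eq_zero.1 h2).resolve_left hc0)
  · exfalso
    have h2 := hom_value h hl2
    rw [MonoidHom.mul_apply, Units.val_mul, ha] at h2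
    have h3 : (1 - c) * c = 0 := by linear_combination -h2
    rcases mul_eq_zero.1 h3 with h4 | h4
    · exact Units.ne_zero (lam u) (ha.trans h4)
    · exact hc0 h4

theorem structure_of_two (hu : u ≠ 1) (h : Hyp u (2 : ℂ)) :
    orderOf u = 2 ∧ Subgroup.zpowers u ⊔ Cfsg.oddCore G = ⊤ ∧
      Subgroup.centralizer ({u} : Set G) = Subgroup.zpowers u := by
  classical
  have hlin : ∀ {lam : G →* ℂˣ}, lam ≠ 1 → (lam u : ℂ) = -1 := fun hl => by
    rw [hom_value h hl]; norm_num
  set S := (irrFinset G).erase (fun _ => (1 : ℂ)) with hS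
  -- the linear character
  have hterm : ∀ χ ∈ S, ∃ d : ℕ, χ 1 = d ∧ 1 ≤ d ∧ (χ u = (d : ℂ) - 2 ∨ χ u = 0) := by
    intro χ hχ
    rw [hS, Finset.mem_erase, mem_irrFinset] at hχ
    obtain ⟨d, hd, hd1⟩ := degree_eq hχ.2
    refine ⟨d, hd, hd1, ?_⟩
    rcases h ⟨χ, hχ.2⟩ hχ.1 with e | e
    · left; simp only [hd] at e; linear_combination -e
    · exact Or.inr e
  have hre : ∀ χ ∈ S, ∀ d : ℕ, χ 1 = d → 2 ≤ d → 0 ≤ (χ 1 * conj (χ u)).re := by
    intro χ hχ d hd hd2
    obtain ⟨d', hd', -, e⟩ := hterm χ hχ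
    obtain rfl : d' = d := by exact_mod_cast hd'.symm.trans hd
    rcases e with e | e
    · rw [e, hd', map_sub, Complex.conj_natCast, map_ofNat, ← Nat.cast_ofNat (R := ℂ) (n := 2), ← Nat.cast_sub hd2,
        ← Nat.cast_mul, Complex.natCast_re]
      positivity
    · simp [e]
  obtain ⟨μ, hμS, hμ1⟩ : ∃ μ ∈ S, μ 1 = 1 := by
    by_contra! hall
    have hsum := congrArg Complex.re (col_sum (G := G) hu)
    rw [Complex.re_sum] at hsum
    have hpos : 0 ≤ ∑ χ ∈ S, (χ 1 * conj (χ u)).re := Finset.sum_nonneg fun χ hχ => by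
      obtain ⟨d, hd, hd1, -⟩ := hterm χ hχ
      refine hre χ hχ d hd ?_
      by_contra hlt
      exact hall χ hχ (by rw [hd, show d = 1 by omega]; norm_num)
    simp only [Complex.neg_re, Complex.one_re] at hsum
    linarith
  have huniq : ∀ χ ∈ S, χ 1 = 1 → χ = μ ∧ χ u = -1 := by
    have key : ∀ χ ∈ S, χ 1 = 1 → ∃ lam : G →* ℂˣ, lam ≠ 1 ∧ χ = fun g => (lam g : ℂ) := by
      intro χ hχ h1
      rw [hS, Finset.mem_erase, mem_irrFinset] at hχ
      obtain ⟨lam, hlam⟩ := IsCharacter.exists_hom (IsIrrCharacter.isCharacter hχ.2) h1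
      exact ⟨lam, fun e => hχ.1 (by rw [hlam, e]; rfl), hlam⟩
    intro χ hχ h1
    obtain ⟨a, ha, rfl⟩ := key χ hχ h1
    obtain ⟨b, hb, rfl⟩ := key μ hμS hμ1
    refine ⟨?_, hlin ha⟩
    have hzero : ∀ f g : G →* ℂˣ, f ≠ 1 → g ≠ 1 → f * g = 1 := fun f g hf hg => by
      by_contra hne
      have := hlin hne
      rw [MonoidHom.mul_apply, Units.val_mul, hlin hf, hlin hg] at this
      norm_num at this
    have hab : a = b := mul_right_cancel ((hzero a b ha hb).trans (hzero b b hb hb).symm)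
    rw [hab]
  have hμu : μ u = -1 := (huniq μ hμS hμ1).2
  have hrest : ∀ χ ∈ S.erase μ, χ u = 0 := by
    have hsum := congrArg Complex.re (col_sum (G := G) hu)
    rw [← Finset.add_sum_erase _ _ hμS, hμ1, hμu, Complex.add_re, Complex.re_sum] at hsum
    simp only [one_mul, map_neg, map_one, Complex.neg_re, Complex.one_re, add_eq_left] at hsum
    have hnn : ∀ χ ∈ S.erase μ, 0 ≤ (χ 1 * conj (χ u)).re := fun χ hχ => by
      obtain ⟨d, hd, hd1, -⟩ := hterm χ (Finset.mem_of_mem_erase hχ)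
      refine hre χ (Finset.mem_of_mem_erase hχ) d hd ?_
      by_contra hlt
      exact (Finset.ne_of_mem_erase hχ) (huniq χ (Finset.mem_of_mem_erase hχ)
        (by rw [hd, show d = 1 by omega]; norm_num)).1
    intro χ hχ
    obtain ⟨d, hd, hd1, e⟩ := hterm χ (Finset.mem_of_mem_erase hχ)
    rcases e with e | e
    · have h0 := (Finset.sum_eq_zero_iff_of_nonneg hnn).1 hsum χ hχ
      have hd2 : 2 ≤ d := by
        by_contra hlt
        exact (Finset.ne_of_mem_erase hχ) (huniq χ (Finset.mem_of_mem_erase hχ)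
          (by rw [hd, show d = 1 by omega]; norm_num)).1
      rw [e, hd, map_sub, Complex.conj_natCast, map_ofNat, ← Nat.cast_ofNat (R := ℂ) (n := 2), ← Nat.cast_sub hd2,
        ← Nat.cast_mul, Complex.natCast_re, Nat.cast_eq_zero, mul_eq_zero] at h0
      rw [e, show d = 2 by omega]; norm_num
    · exact e
  have hC : Nat.card (Subgroup.centralizer ({u} : Set G)) = 2 := by
    have h2 := sum_irr_mul_conj u u
    rw [if_pos (IsConj.refl u), ← Finset.add_sum_erase _ _ (mem_irrFinset.2 (isIrrCharacter_one (G := G))),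
      ← hS, ← Finset.add_sum_erase _ _ hμS, Finset.sum_eq_zero fun χ hχ => by rw [hrest χ hχ, zero_mul],
      hμu] at h2
    simp only [map_neg, map_one] at h2
    norm_num at h2
    exact_mod_cast h2.symm
  have hle : Subgroup.zpowers u ≤ Subgroup.centralizer ({u} : Set G) :=
    Subgroup.zpowers_le.2 (Subgroup.mem_centralizer_singleton_iff.2 rfl)
  have hord : orderOf u = 2 := by
    have h1 : orderOf u ∣ 2 := hC ▸ Subgroup.orderOf_dvd_natCard _ (hle (Subgroup.mem_zpowers u))
    exact (Nat.prime_two.eq_one_or_self_of_dvd _ h1).resolve_left fun h => hu (orderOf_eq_one_iff.1 h)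
  have hCeq : Subgroup.centralizer ({u} : Set G) = Subgroup.zpowers u :=
    (Subgroup.eq_of_le_of_card_ge hle (by rw [hC, Nat.card_zpowers, hord])).symm
  refine ⟨hord, ?_, hCeq⟩
  -- the Sylow subgroup is generated by the element
  haveI : Fact (Nat.Prime 2) := ⟨Nat.prime_two⟩
  have hup : IsPGroup 2 (Subgroup.zpowers u) := IsPGroup.of_card (n := 1) (by rw [Nat.card_zpowers, hord, pow_one])
  obtain ⟨P, hP⟩ := hup.exists_le_sylow
  have hPu : (P : Subgroup G) = Subgroup.zpowers u := by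
    refine le_antisymm ?_ hP
    haveI : Nontrivial (P : Subgroup G) :=
      ⟨⟨u, hP (Subgroup.mem_zpowers u)⟩, 1, fun e => hu (congrArg Subtype.val e)⟩
    haveI := P.2.center_nontrivial
    obtain ⟨z, hz⟩ := exists_ne (1 : Subgroup.center (P : Subgroup G))
    have hzC : ((z : (P : Subgroup G)) : G) ∈ Subgroup.zpowers u := by
      rw [← hCeq, Subgroup.mem_centralizer_singleton_iff]
      exact congrArg Subtype.val (Subgroup.mem_center_iff.1 z.2 ⟨u, hP (Subgroup.mem_zpowers u)⟩).symm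
    have hzz : Subgroup.zpowers ((z : (P : Subgroup G)) : G) = Subgroup.zpowers u := by
      refine Subgroup.eq_of_le_of_card_ge (Subgroup.zpowers_le.2 hzC) ?_
      rw [Nat.card_zpowers, Nat.card_zpowers, hord]
      have : orderOf ((z : (P : Subgroup G)) : G) ≠ 1 := fun h1 =>
        hz (Subtype.ext (Subtype.ext (orderOf_eq_one_iff.1 h1)))
      have := orderOf_pos ((z : (P : Subgroup G)) : G)
      omega
    intro y hy
    rw [← hCeq, Subgroup.mem_centralizer_singleton_iff]
    have hyz : Commute y ((z : (P : Subgroup G)) : G) :=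
      congrArg Subtype.val (Subgroup.mem_center_iff.1 z.2 ⟨y, hy⟩)
    obtain ⟨i, hi⟩ := Subgroup.mem_zpowers_iff.1 (hzz ▸ Subgroup.mem_zpowers u)
    rw [← hi]
    exact hyz.zpow_right i
  have hcyc : IsCyclic (P : Subgroup G) := by rw [hPu]; infer_instance
  have hmin : (Nat.card G).minFac = 2 :=
    (Nat.minFac_eq_two_iff _).2 (hord ▸ orderOf_dvd_natCard u)
  have hcpl := IsCyclic.isComplement' hmin hcyc
  set K := (MonoidHom.transferSylow P (hcyc.normalizer_le_centralizer hmin)).ker with hK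
  have hKO : K ≤ Cfsg.oddCore G := CfsgLib.Solvable.le_pPrimeCore 2 inferInstance (by
    have := P.not_dvd_index
    rw [hcpl.index_eq_card] at this
    exact ((Nat.prime_two.coprime_iff_not_dvd).2 this).symm)
  rw [eq_top_iff]
  refine le_trans ?_ (sup_le_sup_left hKO _)
  rw [← hPu, sup_comm, hcpl.sup_eq_top]

theorem not_perfect (hu2 : orderOf u = 2) (htop : Subgroup.zpowers u ⊔ Cfsg.oddCore G = ⊤) :
    commutator G ≠ ⊤ := by
  intro hperf
  haveI : Fact (Nat.Prime 2) := ⟨Nat.prime_two⟩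
  have hne : Cfsg.oddCore G ≠ ⊤ := fun h => by
    have h1 := CfsgLib.Solvable.coprime_card_pPrimeCore (G := G) 2
    have h1' : (Nat.card (Cfsg.oddCore G)).Coprime 2 := h1
    rw [h, Subgroup.card_top] at h1'
    exact (Nat.prime_two.coprime_iff_not_dvd.1 h1'.symm) (hu2 ▸ orderOf_dvd_natCard u)
  have hle : commutator G ≤ Cfsg.oddCore G := by
    have hn : (Cfsg.oddCore G).Normal := inferInstanceAs (Cfsg.pPrimeCore 2 G).Normal
    rw [commutator_def, Subgroup.commutator_le]
    intro a _ b _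
    obtain ⟨x, hx, k, hk, rfl⟩ := Subgroup.mem_sup_of_normal_right.1 (htop ▸ Subgroup.mem_top a)
    obtain ⟨y, hy, l, hl, rfl⟩ := Subgroup.mem_sup_of_normal_right.1 (htop ▸ Subgroup.mem_top b)
    rw [← QuotientGroup.eq_one_iff, ← QuotientGroup.mk'_apply, map_commutatorElement, map_mul, map_mul]
    simp only [QuotientGroup.mk'_apply, (QuotientGroup.eq_one_iff k).2 hk, (QuotientGroup.eq_one_iff l).2 hl, mul_one]
    obtain ⟨i, rfl⟩ := Subgroup.mem_zpowers_iff.1 hx
    obtain ⟨j, rfl⟩ := Subgroup.mem_zpowers_iff.1 hy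
    rw [commutatorElement_eq_one_iff_mul_comm, QuotientGroup.mk_zpow, QuotientGroup.mk_zpow, ← zpow_add, ← zpow_add, add_comm]
  exact hne (top_le_iff.1 (hperf ▸ hle))

end CfsgLib.ConstantDrop
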