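import Cfsg.Agent.Char.Induction
import Cfsg.Agent.Char.Constituents
import Cfsg.Agent.Char.Central
import Cfsg.Agent.Char.Kernel
import Cfsg.Agent.Char.Linear
import Mathlib.RepresentationTheory.Invariants
import Mathlib.GroupTheory.Subgroup.Simple
import Mathlib.LinearAlgebra.Lagrange

/-!
# Assorted consequences of orthogonality
-/

namespace CfsgLib.Char

open scoped ComplexConjugate

universe u v

variable {G : Type u} [Group G]

/-- Burnside-Brauer: powers of a faithful character contain every irreducible character. -/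
theorem exists_pow_constituent [Fintype G] {χ : G → ℂ} (hfaith : ∀ g, χ g = χ 1 → g = 1)
    {ψ : G → ℂ} (hψ : Cfsg.IsIrrCharacter G ψ) :
    ∃ i : ℕ, i < Nat.card (Set.range χ) ∧ Cfsg.classInner (fun g => χ g ^ i) ψ ≠ 0 := by
  classical
  by_contra! hall
  set V := Finset.univ.image χ
  have hm : Nat.card (Set.range χ) = V.card := by
    rw [Nat.card_coe_set_eq, ← Set.ncard_coe_finset]; simp [V]
  let P : Polynomial ℂ := ∏ v ∈ V.erase (χ 1), (Polynomial.X - Polynomial.C v)
  have hdeg : P.natDegree < V.card := by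
    rw [Polynomial.natDegree_prod _ _ fun v _ => Polynomial.X_sub_C_ne_zero v]
    simp only [Polynomial.natDegree_X_sub_C, Finset.sum_const, smul_eq_mul, mul_one]
    exact Finset.card_erase_lt_of_mem (Finset.mem_image_of_mem χ (Finset.mem_univ 1))
  have h1 : ∑ g : G, P.eval (χ g) * conj (ψ g) = 0 := by
    simp only [Polynomial.eval_eq_sum_range, Finset.sum_mul]
    rw [Finset.sum_comm]
    refine Finset.sum_eq_zero fun i hi => ?_
    simp only [mul_assoc, ← Finset.mul_sum]
    rw [show ∑ g : G, χ g ^ i * conj (ψ g) = 0 by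
      rw [sum_eq_card_mul_classInner (fun g => χ g ^ i) ψ,
        hall i (by rw [hm]; have := Finset.mem_range.1 hi; omega), mul_zero], mul_zero]
  rw [Finset.sum_eq_single 1] at h1
  · rcases mul_eq_zero.1 h1 with h | h
    · simp [P, Polynomial.eval_prod, Finset.prod_eq_zero_iff, sub_eq_zero] at h
    · exact IsIrrCharacter.apply_one_ne_zero hψ (by simpa using h)
  · intro g _ hg
    have hmem : χ g ∈ V.erase (χ 1) :=
      Finset.mem_erase.2 ⟨fun h => hg (hfaith g h), Finset.mem_image_of_mem χ (Finset.mem_univ g)⟩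
    rw [Polynomial.eval_prod, Finset.prod_eq_zero hmem (by simp), zero_mul]
  · simp

/-- The degree is at most the index of an abelian subgroup. -/
theorem IsIrrCharacter.degree_le_index [Finite G] {χ : G → ℂ} (hχ : Cfsg.IsIrrCharacter G χ)
    {d : ℕ} (hd : χ 1 = d) (A : Subgroup G) (hA : ∀ a ∈ A, ∀ b ∈ A, a * b = b * a) :
    d ≤ A.index := by
  classical
  have := Fintype.ofFinite G
  have hres := IsCharacter.restrict (IsIrrCharacter.isCharacter hχ) A
  obtain ⟨θ, hθ, hc⟩ := IsCharacter.exists_constituent hres fun h =>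
    IsIrrCharacter.apply_one_ne_zero hχ (congrFun h 1)
  have h1 := IsIrrCharacter.apply_one_eq_one hθ fun a b => Subtype.ext (hA a a.2 b b.2)
  have hc' : Cfsg.classInner (Cfsg.indFun A θ) χ ≠ 0 := by
    rw [classInner_indFun θ (IsIrrCharacter.isClassFunction hχ), ← classInner_conj]
    simpa using hc
  have := IsCharacter.re_constituent_le (IsCharacter.indFun (G := G) (IsIrrCharacter.isCharacter hθ))
    hχ hc'
  rw [hd, indFun_one, h1, mul_one, Complex.natCast_re, Complex.natCast_re] at this
  exact_mod_cast this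

/-- Characters of degree below all prime divisors of the order are trivial on commutators. -/
theorem IsCharacter.apply_commutator_of_small [Finite G] {χ : G → ℂ} (hχ : Cfsg.IsCharacter G χ)
    (hdeg : ∀ p : ℕ, p.Prime → p ∣ Nat.card G → (χ 1).re < p) (a b : G) :
    χ (a * b * a⁻¹ * b⁻¹) = χ 1 := by
  have key : (χ 1).re ≥ 0 ∧ ((∀ p : ℕ, p.Prime → p ∣ Nat.card G → (χ 1).re < p) →
      χ (a * b * a⁻¹ * b⁻¹) = χ 1) := by
    refine IsCharacter.induction_irr (P := fun φ : G → ℂ => (φ 1).re ≥ 0 ∧
      ((∀ p : ℕ, p.Prime → p ∣ Nat.card G → (φ 1).re < p) → φ (a * b * a⁻¹ * b⁻¹) = φ 1)) ?_ ?_ ?_ hχ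
    · exact ⟨by simp, fun _ => rfl⟩
    · rintro φ ψ ⟨h1, h2⟩ ⟨h3, h4⟩
      refine ⟨by simp only [Pi.add_apply, Complex.add_re]; linarith, fun h => ?_⟩
      simp only [Pi.add_apply, Complex.add_re] at h ⊢
      rw [h2 fun p hp hd => by linarith [h p hp hd], h4 fun p hp hd => by linarith [h p hp hd]]
    · intro φ hφ
      obtain ⟨d, hd0, hd⟩ := IsIrrCharacter.exists_degree hφ
      refine ⟨by simp [hd], fun h => ?_⟩
      have hd1 : d = 1 := by
        by_contra hne
        obtain ⟨p, hp, hpd⟩ := Nat.exists_prime_and_dvd hne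
        have h1 := h p hp (hpd.trans (IsIrrCharacter.degree_dvd_card hφ hd))
        rw [hd, Complex.natCast_re, Nat.cast_lt] at h1
        exact absurd (Nat.le_of_dvd hd0 hpd) (by omega)
      obtain ⟨lam, rfl⟩ := IsCharacter.exists_hom (IsIrrCharacter.isCharacter hφ)
        (by rw [hd, hd1, Nat.cast_one])
      simp only [map_mul, map_inv, map_one]
      rw [mul_comm (lam a) (lam b), mul_inv_cancel_right, mul_inv_cancel]
  exact key.2 hdeg

/-- A faithful representation of small degree has abelian image. -/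
theorem abelian_of_small_degree [Finite G] {V : Type v} [AddCommGroup V] [Module ℂ V]
    [FiniteDimensional ℂ V] (ρ : Representation ℂ G V) (hinj : Function.Injective ρ)
    (hdeg : ∀ p : ℕ, p.Prime → p ∣ Nat.card G → Module.finrank ℂ V < p) (a b : G) :
    a * b = b * a := by
  have h := IsCharacter.apply_commutator_of_small (isCharacter_character ρ)
    (fun p hp hd => by rw [ρ.char_one, Complex.natCast_re]; exact_mod_cast hdeg p hp hd) a b
  rw [ρ.char_one, character_eq_iff, ← map_one ρ] at h
  calc a * b = a * b * a⁻¹ * b⁻¹ * (b * a) := by group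
    _ = b * a := by rw [hinj h, one_mul]

/-- A character vanishing on the nonidentity elements of a subgroup has degree divisible by its
order. -/
theorem IsCharacter.exists_degree_eq_card_mul [Finite G] {χ : G → ℂ} (hχ : Cfsg.IsCharacter G χ)
    (P : Subgroup G) (hvan : ∀ g ∈ P, g ≠ 1 → χ g = 0) :
    ∃ k : ℕ, χ 1 = (Nat.card P : ℂ) * k := by
  classical
  have := Fintype.ofFinite P
  obtain ⟨k, hk⟩ := IsCharacter.exists_classInner_eq_natCast (IsCharacter.restrict hχ P)
    isIrrCharacter_one
  refine ⟨k, ?_⟩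
  rw [classInner_def, Finset.sum_eq_single 1 (fun g _ hg => by
    rw [hvan g g.2 fun h => hg (Subtype.ext h), zero_mul]) (by simp), map_one, mul_one,
    OneMemClass.coe_one, inv_mul_eq_iff_eq_mul₀ (by simp)] at hk
  exact hk

theorem classInner_one_eq_finrank [Fintype G] {n : ℕ} (ρ : Representation ℂ G (Fin n → ℂ))
    (H : Subgroup G) [Fintype H] :
    Cfsg.classInner (fun x : H => ρ.character x) (fun _ => 1) =
      (Module.finrank ℂ (Representation.invariants (ρ.comp H.subtype)) : ℂ) := by
  have : Invertible (Nat.card H : ℂ) := invertibleOfNonzero (by simp)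
  have : Invertible (Fintype.card H : ℂ) := invertibleOfNonzero (by simp)
  rw [← (Representation.isProj_averageMap (ρ.comp H.subtype)).trace]
  simp [classInner_def, GroupAlgebra.average, Representation.character, map_sum,
    Nat.card_eq_fintype_card]

/-- Brauer's generation criterion. -/
theorem sup_ne_top_of_multiplicity [Fintype G] [IsSimpleGroup G] (H₁ H₂ : Subgroup G) [Fintype H₁]
    [Fintype H₂] [Fintype ↥(H₁ ⊓ H₂)] {χ : G → ℂ} (hχ : Cfsg.IsIrrCharacter G χ)
    (hχ1 : χ ≠ fun _ => 1)
    (hlt : (Cfsg.classInner (fun x : ↥(H₁ ⊓ H₂) => χ x) (fun _ => 1)).re <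
      (Cfsg.classInner (fun x : H₁ => χ x) (fun _ => 1)).re +
        (Cfsg.classInner (fun x : H₂ => χ x) (fun _ => 1)).re) : H₁ ⊔ H₂ ≠ ⊤ := by
  intro htop
  obtain ⟨n, ρ, hρ, rfl⟩ := hχ
  simp only [classInner_one_eq_finrank, Complex.natCast_re] at hlt
  set U₁ := Representation.invariants (ρ.comp H₁.subtype)
  set U₂ := Representation.invariants (ρ.comp H₂.subtype)
  set U := Representation.invariants (ρ.comp (H₁ ⊓ H₂).subtype)
  have hbot : U₁ ⊓ U₂ = ⊥ := by
    rw [eq_bot_iff]
    intro v hv
    rw [Submodule.mem_bot]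
    by_contra hv0
    have hfix : ∀ g : G, ρ g v = v := by
      intro g
      have hg : g ∈ H₁ ⊔ H₂ := htop ▸ Subgroup.mem_top g
      rw [← Subgroup.closure_eq H₁, ← Subgroup.closure_eq H₂, ← Subgroup.closure_union] at hg
      induction hg using Subgroup.closure_induction with
      | mem x hx =>
        rcases hx with hx | hx
        exacts [hv.1 ⟨x, hx⟩, hv.2 ⟨x, hx⟩]
      | one => simp
      | mul x y _ _ h1 h2 => rw [map_mul, Module.End.mul_apply, h2, h1]
      | inv x _ h1 => conv_lhs => rw [← h1, ← Module.End.mul_apply, ← map_mul, inv_mul_cancel]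
                      simp
    let S : Subrepresentation ρ := ⟨ℂ ∙ v, fun g w hw => by
      obtain ⟨c, rfl⟩ := Submodule.mem_span_singleton.1 hw
      rw [map_smul, hfix g]; exact Submodule.smul_mem _ c (Submodule.mem_span_singleton_self v)⟩
    rcases IsSimpleOrder.eq_bot_or_eq_top S with h | h
    · exact hv0 ((Submodule.span_singleton_eq_bot).1 (congrArg Subrepresentation.toSubmodule h))
    · have h1 : (ℂ ∙ v : Submodule ℂ (Fin n → ℂ)) = ⊤ := congrArg Subrepresentation.toSubmodule h
      refine hχ1 (funext fun g => ?_)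
      have hid : ρ g = 1 := LinearMap.ext fun w => by
        obtain ⟨c, rfl⟩ := Submodule.mem_span_singleton.1 (h1.symm ▸ Submodule.mem_top : w ∈ ℂ ∙ v)
        rw [map_smul, hfix g]; rfl
      have hn : Module.finrank ℂ (Fin n → ℂ) = 1 := by
        rw [← finrank_top ℂ (Fin n → ℂ), ← h1]; exact finrank_span_singleton hv0
      rw [Representation.character, hid, LinearMap.trace_one, hn, Nat.cast_one]
  have hle₁ : U₁ ≤ U := fun v hv x => hv ⟨x, x.2.1⟩
  have hle₂ : U₂ ≤ U := fun v hv x => hv ⟨x, x.2.2⟩
  have hfr := Submodule.finrank_sup_add_finrank_inf_eq U₁ U₂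
  rw [hbot, finrank_bot, add_zero] at hfr
  have := Submodule.finrank_mono (sup_le hle₁ hle₂)
  rw [hfr] at this
  exact absurd hlt (not_lt.2 (by exact_mod_cast this))

end CfsgLib.Char
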