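import Cfsg.Agent.Char.Constituents
import Cfsg.Agent.Char.Misc
import Cfsg.Agent.Char.LinearTwist
import Cfsg.Agent.Char.Values

/-!
# Two coprime nonlinear degrees cannot all belong to faithful characters

If the irreducible degrees are among `1, a, b` with `1 < a < b` coprime, both occurring, then some
nonlinear irreducible character is not faithful.  The proof compares the products of characters.
-/

set_option autoImplicit false
set_option linter.style.haveILetI false
set_option linter.unusedSectionVars false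

namespace CfsgLib.Char.CoprimeDeg

open scoped ComplexConjugate

universe u

variable {G : Type u} [Group G] [Fintype G]

/-- The number of constituents of degree `d`, with multiplicity. -/
noncomputable def num (d : ℕ) (φ : G → ℂ) : ℝ :=
  ∑ β ∈ (irrFinset G).filter (fun β => β 1 = (d : ℂ)), (Cfsg.classInner φ β).re

theorem num_eq_natCast (d : ℕ) {φ : G → ℂ} (hφ : Cfsg.IsCharacter G φ) :
    ∃ n : ℕ, num d φ = n := by
  classical
  choose! c hc using fun (β : G → ℂ) (hβ : β ∈ (irrFinset G).filter (fun β => β 1 = (d : ℂ))) =>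
    IsCharacter.exists_classInner_eq_natCast hφ (mem_irrFinset.1 (Finset.mem_filter.1 hβ).1)
  refine ⟨∑ β ∈ (irrFinset G).filter (fun β => β 1 = (d : ℂ)), c β, ?_⟩
  rw [num, Nat.cast_sum]
  exact Finset.sum_congr rfl fun β hβ => by rw [hc β hβ, Complex.natCast_re]

theorem num_nonneg (d : ℕ) {φ : G → ℂ} (hφ : Cfsg.IsCharacter G φ) : 0 ≤ num d φ := by
  obtain ⟨n, hn⟩ := num_eq_natCast d hφ
  rw [hn]; exact Nat.cast_nonneg n

theorem classInner_eq_zero_of_num {d : ℕ} {φ β : G → ℂ} (hφ : Cfsg.IsCharacter G φ)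
    (hβ : Cfsg.IsIrrCharacter G β) (hd : β 1 = d) (h : num d φ = 0) :
    Cfsg.classInner φ β = 0 := by
  classical
  have hmem : β ∈ (irrFinset G).filter (fun β => β 1 = (d : ℂ)) :=
    Finset.mem_filter.2 ⟨mem_irrFinset.2 hβ, hd⟩
  have h0 := (Finset.sum_eq_zero_iff_of_nonneg fun γ hγ => ?_).1 h β hmem
  · obtain ⟨n, hn⟩ := IsCharacter.exists_classInner_eq_natCast hφ hβ
    rw [hn, Complex.natCast_re, Nat.cast_eq_zero] at h0
    rw [hn, h0, Nat.cast_zero]
  · obtain ⟨n, hn⟩ := IsCharacter.exists_classInner_eq_natCast hφ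
      (mem_irrFinset.1 (Finset.mem_filter.1 hγ).1)
    rw [hn, Complex.natCast_re]; exact Nat.cast_nonneg n

theorem num_pos {d : ℕ} {φ β : G → ℂ} (hφ : Cfsg.IsCharacter G φ)
    (hβ : Cfsg.IsIrrCharacter G β) (hd : β 1 = d) (h : Cfsg.classInner φ β ≠ 0) : 0 < num d φ :=
  lt_of_le_of_ne (num_nonneg d hφ) fun h0 => h (classInner_eq_zero_of_num hφ hβ hd h0.symm)

theorem num_irr {d e : ℕ} {β : G → ℂ} (hβ : Cfsg.IsIrrCharacter G β) (he : β 1 = e) (hde : e ≠ d) :
    num d β = 0 := by
  refine Finset.sum_eq_zero fun γ hγ => ?_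
  obtain ⟨hγ, hγd⟩ := Finset.mem_filter.1 hγ
  rw [IsIrrCharacter.classInner_of_ne hβ (mem_irrFinset.1 hγ) (fun h => hde (by
    rw [← h, he] at hγd; exact_mod_cast hγd)), Complex.zero_re]

/-- Expanding a product along the constituents of one factor. -/
theorem num_mul (d : ℕ) {φ : G → ℂ} (hφ : Cfsg.IsCharacter G φ) (x : G → ℂ) :
    num d (φ * x) = ∑ β ∈ irrFinset G, (Cfsg.classInner φ β).re * num d (β * x) := by
  classical
  have he := eq_sum_irr (IsCharacter.isClassFunction hφ)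
  have h1 : φ * x = ∑ β ∈ irrFinset G, Cfsg.classInner φ β • (β * x) := by
    conv_lhs => rw [he]
    rw [Finset.sum_mul]
    exact Finset.sum_congr rfl fun β _ => smul_mul_assoc _ _ _
  simp only [num, Finset.mul_sum]
  rw [Finset.sum_comm]
  refine Finset.sum_congr rfl fun γ _ => ?_
  rw [h1, classInner_sum_left, Complex.re_sum]
  refine Finset.sum_congr rfl fun β hβ => ?_
  obtain ⟨n, hn⟩ := IsCharacter.exists_classInner_eq_natCast hφ (mem_irrFinset.1 hβ)
  rw [classInner_smul_left, hn, Complex.natCast_re, Complex.mul_re, Complex.natCast_re,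
    Complex.natCast_im, zero_mul, sub_zero]

theorem classInner_mul_hom_mul_hom (φ β : G → ℂ) (lam : G →* ℂˣ) :
    Cfsg.classInner (φ * fun g => (lam g : ℂ)) (β * fun g => (lam g : ℂ)) = Cfsg.classInner φ β := by
  rw [classInner_def, classInner_def]
  congr 1
  refine Finset.sum_congr rfl fun g _ => ?_
  have h : (lam g : ℂ) * conj (lam g : ℂ) = 1 := by
    rw [Complex.mul_conj', norm_hom_eq_one]; norm_num
  rw [Pi.mul_apply, Pi.mul_apply, map_mul]
  calc φ g * (lam g : ℂ) * (conj (β g) * conj (lam g : ℂ))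
      = φ g * conj (β g) * ((lam g : ℂ) * conj (lam g : ℂ)) := by ring
    _ = _ := by rw [h, mul_one]

/-- Linear twists do not change the numbers of constituents. -/
theorem num_twist (d : ℕ) (φ : G → ℂ) (lam : G →* ℂˣ) :
    num d (φ * fun g => (lam g : ℂ)) = num d φ := by
  classical
  have hmem : ∀ (l : G →* ℂˣ) (β : G → ℂ), β ∈ (irrFinset G).filter (fun β => β 1 = (d : ℂ)) →
      (β * fun g => (l g : ℂ)) ∈ (irrFinset G).filter (fun β => β 1 = (d : ℂ)) := fun l β hβ => by
    obtain ⟨hβ, hβd⟩ := Finset.mem_filter.1 hβ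
    refine Finset.mem_filter.2 ⟨mem_irrFinset.2 (IsIrrCharacter.mul_hom (mem_irrFinset.1 hβ) l), ?_⟩
    simp [hβd]
  symm
  refine Finset.sum_bij' (fun β _ => β * fun g => (lam g : ℂ)) (fun β _ => β * fun g => (lam⁻¹ g : ℂ))
    (hmem lam) (hmem lam⁻¹) (fun β _ => ?_) (fun β _ => ?_) (fun β _ => ?_)
  · funext g; simp [mul_assoc]
  · funext g; simp [mul_assoc]
  · rw [classInner_mul_hom_mul_hom]

theorem classInner_mul_left (f g h : G → ℂ) :
    Cfsg.classInner (f * g) h = Cfsg.classInner g (h * fun x => conj (f x)) := by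
  rw [classInner_def, classInner_def]
  congr 1
  refine Finset.sum_congr rfl fun x _ => ?_
  simp only [Pi.mul_apply, map_mul, Complex.conj_conj]
  ring

variable {a b : ℕ}

/-- The degree in terms of the numbers of constituents. -/
theorem degree_eq (hcd : ∀ f : G → ℂ, Cfsg.IsIrrCharacter G f → f 1 = 1 ∨ f 1 = a ∨ f 1 = b)
    (ha : 1 < a) (hb : 1 < b) (hab : a ≠ b) {φ : G → ℂ} (hφ : Cfsg.IsCharacter G φ) {m : ℕ}
    (hm : φ 1 = m) :
    ∃ L A B : ℕ, num 1 φ = L ∧ num a φ = A ∧ num b φ = B ∧ m = L + a * A + b * B := by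
  classical
  obtain ⟨L, hL⟩ := num_eq_natCast 1 hφ
  obtain ⟨A, hA⟩ := num_eq_natCast a hφ
  obtain ⟨B, hB⟩ := num_eq_natCast b hφ
  refine ⟨L, A, B, hL, hA, hB, ?_⟩
  suffices h : (m : ℝ) = num 1 φ + a * num a φ + b * num b φ by
    rw [hL, hA, hB] at h
    exact_mod_cast h
  have h1 : φ 1 = ∑ β ∈ irrFinset G, Cfsg.classInner φ β * β 1 := by
    conv_lhs => rw [eq_sum_irr (IsCharacter.isClassFunction hφ)]
    rw [Finset.sum_apply]
    rfl
  have h2 := congrArg Complex.re h1
  rw [hm, Complex.natCast_re, Complex.re_sum] at h2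
  rw [h2]
  simp only [num, Finset.sum_filter, Finset.mul_sum, ← Finset.sum_add_distrib]
  refine Finset.sum_congr rfl fun β hβ => ?_
  have e1 : ((a : ℕ) : ℂ) ≠ 1 := by exact_mod_cast ha.ne'
  have e2 : ((b : ℕ) : ℂ) ≠ 1 := by exact_mod_cast hb.ne'
  have e3 : ((a : ℕ) : ℂ) ≠ (b : ℂ) := by exact_mod_cast hab
  rcases hcd β (mem_irrFinset.1 hβ) with h | h | h
  · simp [h, e1.symm, e2.symm]
  · simp [h, e1, e3, mul_comm]
  · simp [h, e2, e3.symm, mul_comm]

/-- The main lemma. -/
theorem false_of_faithful (ha : 1 < a) (hab : a < b) (hcop : a.Coprime b)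
    (hcd : ∀ f : G → ℂ, Cfsg.IsIrrCharacter G f → f 1 = 1 ∨ f 1 = a ∨ f 1 = b)
    (hfaith : ∀ f : G → ℂ, Cfsg.IsIrrCharacter G f → f 1 ≠ 1 → ∀ g, f g = f 1 → g = 1)
    (hA : ∃ f : G → ℂ, Cfsg.IsIrrCharacter G f ∧ f 1 = a)
    (hB : ∃ f : G → ℂ, Cfsg.IsIrrCharacter G f ∧ f 1 = b) : False := by
  classical
  have hb : 1 < b := ha.trans hab
  have hane : ((a : ℕ) : ℂ) ≠ 1 := by exact_mod_cast ha.ne'
  have hbne : ((b : ℕ) : ℂ) ≠ 1 := by exact_mod_cast hb.ne'
  have char : ∀ {f : G → ℂ}, Cfsg.IsIrrCharacter G f → Cfsg.IsCharacter G f :=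
    fun h => IsIrrCharacter.isCharacter h
  -- linear constituents of a product
  have hlin : ∀ η β : G → ℂ, Cfsg.IsIrrCharacter G η → Cfsg.IsIrrCharacter G β →
      num 1 (η * β) ≠ 0 → ∃ lam : G →* ℂˣ, β = (fun g => conj (η g)) * fun g => (lam g : ℂ) := by
    intro η β hη hβ h
    obtain ⟨γ, hγ, hne⟩ : ∃ γ ∈ (irrFinset G).filter (fun γ => γ 1 = ((1 : ℕ) : ℂ)),
        Cfsg.classInner (η * β) γ ≠ 0 := by
      by_contra hno
      push Not at hno
      exact h (Finset.sum_eq_zero fun γ hγ => by rw [hno γ hγ, Complex.zero_re])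
    obtain ⟨hγ, hγ1⟩ := Finset.mem_filter.1 hγ
    rw [Nat.cast_one] at hγ1
    obtain ⟨lam, hlam⟩ := IsCharacter.exists_hom (char (mem_irrFinset.1 hγ)) hγ1
    refine ⟨lam, ?_⟩
    subst hlam
    rw [classInner_mul_left] at hne
    by_contra hneq
    refine hne (IsIrrCharacter.classInner_of_ne hβ ?_ ?_)
    · rw [mul_comm]; exact IsIrrCharacter.mul_hom (IsIrrCharacter.conj hη) lam
    · rw [mul_comm]; exact hneq
  -- two characters of degree `a`
  have hMM : ∀ η β : G → ℂ, Cfsg.IsIrrCharacter G η → η 1 = a → Cfsg.IsIrrCharacter G β →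
      β 1 = a → num 1 (η * β) = 0 → num b (η * β) = 0 := by
    intro η β hη hη1 hβ hβ1 h
    obtain ⟨L, A, B, hL, -, hB', hm⟩ := degree_eq hcd ha hb hab.ne
      (IsCharacter.mul (char hη) (char hβ)) (m := a * a)
      (by rw [Pi.mul_apply, hη1, hβ1, Nat.cast_mul])
    have hL0 : L = 0 := by rw [h] at hL; exact_mod_cast hL.symm
    rw [hL0, zero_add] at hm
    suffices B = 0 by rw [hB', this, Nat.cast_zero]
    by_contra hne
    have hdvd : a ∣ B := hcop.dvd_of_dvd_mul_left
      ((Nat.dvd_add_right (dvd_mul_right a A)).1 (hm ▸ dvd_mul_right a a))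
    have h1 := Nat.le_of_dvd (Nat.pos_of_ne_zero hne) hdvd
    have h2 : b * a ≤ b * B := Nat.mul_le_mul_left b h1
    have h3 : a * a < b * a := Nat.mul_lt_mul_of_pos_right hab (by omega)
    omega
  -- a character of degree `a` and one of degree `b`
  have hMN1 : ∀ η ψ : G → ℂ, Cfsg.IsIrrCharacter G η → η 1 = a → Cfsg.IsIrrCharacter G ψ →
      ψ 1 = b → num 1 (η * ψ) = 0 := by
    intro η ψ hη hη1 hψ hψ1
    by_contra h
    obtain ⟨lam, rfl⟩ := hlin η ψ hη hψ h
    simp [hη1, hab.ne] at hψ1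
  have hMN : ∀ η ψ : G → ℂ, Cfsg.IsIrrCharacter G η → η 1 = a → Cfsg.IsIrrCharacter G ψ →
      ψ 1 = b → num a (η * ψ) = 0 ∨ num b (η * ψ) = 0 := by
    intro η ψ hη hη1 hψ hψ1
    obtain ⟨L, A, B, hL, hA', hB', hm⟩ := degree_eq hcd ha hb hab.ne
      (IsCharacter.mul (char hη) (char hψ)) (m := a * b)
      (by rw [Pi.mul_apply, hη1, hψ1, Nat.cast_mul])
    have hL0 : L = 0 := by
      rw [hMN1 η ψ hη hη1 hψ hψ1] at hL; exact_mod_cast hL.symm
    rw [hL0, zero_add] at hm
    by_contra hne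
    push Not at hne
    rw [hA', hB', Nat.cast_ne_zero, Nat.cast_ne_zero] at hne
    have h1 : b ∣ A := hcop.symm.dvd_of_dvd_mul_left
      ((Nat.dvd_add_left (dvd_mul_right b B)).1 (hm ▸ dvd_mul_left b a))
    have h2 : a ∣ B := hcop.dvd_of_dvd_mul_left
      ((Nat.dvd_add_right (dvd_mul_right a A)).1 (hm ▸ dvd_mul_right a b))
    have h3 := Nat.mul_le_mul_left a (Nat.le_of_dvd (Nat.pos_of_ne_zero hne.1) h1)
    have h4 := Nat.mul_le_mul_left b (Nat.le_of_dvd (Nat.pos_of_ne_zero hne.2) h2)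
    have h5 : 0 < a * b := Nat.mul_pos (by omega) (by omega)
    rw [mul_comm b a] at h4
    omega
  -- the ratio
  let sq : (G → ℂ) → G → ℂ := fun η => η * fun g => conj (η g)
  let R : (G → ℂ) → ℝ := fun η => num b (sq η) / num 1 (sq η)
  have hsqc : ∀ η : G → ℂ, Cfsg.IsIrrCharacter G η → Cfsg.IsCharacter G (sq η) := fun η hη =>
    IsCharacter.mul (char hη) (char (IsIrrCharacter.conj hη))
  have hsq1 : ∀ η : G → ℂ, Cfsg.IsIrrCharacter G η → 0 < num 1 (sq η) := fun η hη => by
    refine num_pos (hsqc η hη) isIrrCharacter_one (by simp) ?_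
    have h : Cfsg.classInner (sq η) (fun _ => (1 : ℂ)) = Cfsg.classInner η η := by
      rw [classInner_def, classInner_def]
      simp [sq]
    rw [h, IsIrrCharacter.classInner_self hη]
    exact one_ne_zero
  have hratio : ∀ η β : G → ℂ, Cfsg.IsIrrCharacter G η → η 1 = a → Cfsg.IsIrrCharacter G β →
      β 1 = a → num b (η * β) = R η * num 1 (η * β) := by
    intro η β hη hη1 hβ hβ1
    by_cases h : num 1 (η * β) = 0
    · rw [hMM η β hη hη1 hβ hβ1 h, h, mul_zero]
    · obtain ⟨lam, rfl⟩ := hlin η β hη hβ h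
      rw [← mul_assoc, num_twist, num_twist]
      exact (div_mul_cancel₀ _ (hsq1 η hη).ne').symm
  have hRconj : ∀ η : G → ℂ, R (fun g => conj (η g)) = R η := fun η => by
    have h : sq (fun g => conj (η g)) = sq η := by
      funext g; simp [sq, mul_comm]
    show num b (sq _) / num 1 (sq _) = _
    rw [h]
  -- every square has a constituent of degree `b`
  have hpos : ∀ η : G → ℂ, Cfsg.IsIrrCharacter G η → η 1 = a → 0 < num b (sq η) := by
    intro η hη hη1
    refine lt_of_le_of_ne (num_nonneg b (hsqc η hη)) fun h0 => ?_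
    have hR0 : R η = 0 := by show _ / _ = _; rw [← h0, zero_div]
    have hpow : ∀ i : ℕ, Cfsg.IsCharacter G (fun g => η g ^ i) ∧ num b (fun g => η g ^ i) = 0 := by
      intro i
      induction i with
      | zero =>
        simp only [pow_zero]
        exact ⟨isCharacter_one, num_irr (e := 1) isIrrCharacter_one (by simp) hb.ne⟩
      | succ i ih =>
        have he : (fun g => η g ^ (i + 1)) = (fun g => η g ^ i) * η := by
          funext g; simp [pow_succ]
        rw [he]
        refine ⟨IsCharacter.mul ih.1 (char hη), ?_⟩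
        rw [num_mul b ih.1]
        refine Finset.sum_eq_zero fun β hβ => ?_
        have hβ' := mem_irrFinset.1 hβ
        rcases hcd β hβ' with h | h | h
        · obtain ⟨lam, rfl⟩ := IsCharacter.exists_hom (char hβ') h
          rw [mul_comm (fun g => (lam g : ℂ)) η, num_twist, num_irr hη hη1 hab.ne, mul_zero]
        · rw [mul_comm β η, hratio η β hη hη1 hβ' h, hR0, zero_mul, mul_zero]
        · rw [classInner_eq_zero_of_num ih.1 hβ' h ih.2, Complex.zero_re, zero_mul]
    obtain ⟨ψ, hψ, hψ1⟩ := hB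
    obtain ⟨i, -, hi⟩ := exists_pow_constituent (hfaith η hη (hη1 ▸ hane)) hψ
    exact hi (classInner_eq_zero_of_num (hpow i).1 hψ hψ1 (hpow i).2)
  -- every character of degree `b` has a partner
  have hpartner : ∀ ψ : G → ℂ, Cfsg.IsIrrCharacter G ψ → ψ 1 = b →
      ∃ χ : G → ℂ, Cfsg.IsIrrCharacter G χ ∧ χ 1 = a ∧ num b (χ * ψ) ≠ 0 := by
    intro ψ hψ hψ1
    by_contra hno
    push Not at hno
    set ψc : G → ℂ := fun g => conj (ψ g) with hψc
    have hc := IsIrrCharacter.conj hψ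
    have hc1 : ψc 1 = b := by simp [hψc, hψ1]
    have hpow : ∀ i : ℕ, Cfsg.IsCharacter G (fun g => ψc g ^ i) ∧ num a (fun g => ψc g ^ i) = 0 := by
      intro i
      induction i with
      | zero =>
        simp only [pow_zero]
        exact ⟨isCharacter_one, num_irr (e := 1) isIrrCharacter_one (by simp) ha.ne⟩
      | succ i ih =>
        have he : (fun g => ψc g ^ (i + 1)) = (fun g => ψc g ^ i) * ψc := by
          funext g; simp [pow_succ]
        rw [he]
        refine ⟨IsCharacter.mul ih.1 (char hc), ?_⟩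
        rw [num_mul a ih.1]
        refine Finset.sum_eq_zero fun β hβ => ?_
        have hβ' := mem_irrFinset.1 hβ
        rcases hcd β hβ' with h | h | h
        · obtain ⟨lam, rfl⟩ := IsCharacter.exists_hom (char hβ') h
          rw [mul_comm (fun g => (lam g : ℂ)) ψc, num_twist, num_irr hc hc1 hab.ne', mul_zero]
        · rw [classInner_eq_zero_of_num ih.1 hβ' h ih.2, Complex.zero_re, zero_mul]
        · refine mul_eq_zero_of_right _ (Finset.sum_eq_zero fun γ hγ => ?_)
          obtain ⟨hγ, hγ1⟩ := Finset.mem_filter.1 hγ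
          have hγ' := mem_irrFinset.1 hγ
          have h0 := classInner_eq_zero_of_num (IsCharacter.mul (char hγ') (char hψ)) hβ' h
            (hno γ hγ' hγ1)
          have e : Cfsg.classInner (β * ψc) γ = conj (Cfsg.classInner (γ * ψ) β) := by
            rw [classInner_conj, classInner_def, classInner_def]
            congr 1
            refine Finset.sum_congr rfl fun x _ => ?_
            simp only [Pi.mul_apply, hψc, map_mul]
            ring
          rw [e, h0, map_zero, Complex.zero_re]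
    obtain ⟨φ, hφ, hφ1⟩ := hA
    obtain ⟨i, -, hi⟩ := exists_pow_constituent (hfaith ψc hc (hc1 ▸ hbne)) hφ
    exact hi (classInner_eq_zero_of_num (hpow i).1 hφ hφ1 (hpow i).2)
  -- take the least ratio
  obtain ⟨η, hηm, hmin⟩ := Finset.exists_min_image
    ((irrFinset G).filter (fun f => f 1 = (a : ℂ))) R
    (by obtain ⟨φ, hφ, hφ1⟩ := hA; exact ⟨φ, Finset.mem_filter.2 ⟨mem_irrFinset.2 hφ, hφ1⟩⟩)
  obtain ⟨hη', hη1⟩ := Finset.mem_filter.1 hηm
  have hη := mem_irrFinset.1 hη'
  have hηc := IsIrrCharacter.conj hη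
  have hηc1 : (fun g => conj (η g)) 1 = (a : ℂ) := by simp [hη1]
  obtain ⟨ψ, hψm, hψne⟩ : ∃ ψ ∈ (irrFinset G).filter (fun γ => γ 1 = (b : ℂ)),
      Cfsg.classInner (sq η) ψ ≠ 0 := by
    by_contra hno
    push Not at hno
    exact (hpos η hη hη1).ne' (Finset.sum_eq_zero fun γ hγ => by rw [hno γ hγ, Complex.zero_re])
  obtain ⟨hψ', hψ1⟩ := Finset.mem_filter.1 hψm
  have hψ := mem_irrFinset.1 hψ'
  obtain ⟨χ, hχ, hχ1, hχψ⟩ := hpartner ψ hψ hψ1
  have hχη : num 1 (χ * η) = 0 := by
    by_contra h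
    rw [mul_comm] at h
    obtain ⟨lam, rfl⟩ := hlin η χ hη hχ h
    rw [mul_assoc, mul_comm (fun g => (lam g : ℂ)) ψ, ← mul_assoc, num_twist] at hχψ
    refine hχψ ((hMN _ ψ hηc hηc1 hψ hψ1).resolve_left ?_)
    refine (num_pos (IsCharacter.mul (char hηc) (char hψ)) hηc hηc1 ?_).ne'
    rw [classInner_mul_left]
    have e : ((fun g => conj (η g)) * fun x => conj (conj (η x))) = sq η := by
      funext g; simp [sq, mul_comm]
    rw [e, ← classInner_conj]
    simpa using hψne
  -- evaluate in two ways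
  have hX : num b (χ * η * fun g => conj (η g)) = R η * num 1 (χ * η * fun g => conj (η g)) := by
    rw [num_mul b (IsCharacter.mul (char hχ) (char hη)), num_mul 1 (IsCharacter.mul (char hχ) (char hη)),
      Finset.mul_sum]
    refine Finset.sum_congr rfl fun β hβ => ?_
    have hβ' := mem_irrFinset.1 hβ
    rcases hcd β hβ' with h | h | h
    · rw [classInner_eq_zero_of_num (IsCharacter.mul (char hχ) (char hη)) hβ' (by simpa using h) hχη]
      simp
    · rw [mul_comm β, hratio _ β hηc hηc1 hβ' h, hRconj]; ring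
    · rw [classInner_eq_zero_of_num (IsCharacter.mul (char hχ) (char hη)) hβ' h
        (hMM χ η hχ hχ1 hη hη1 hχη)]
      simp
  have hY : R χ * num 1 (χ * η * fun g => conj (η g)) < num b (χ * η * fun g => conj (η g)) := by
    rw [show χ * η * (fun g => conj (η g)) = sq η * χ by rw [mul_comm (sq η), mul_assoc],
      num_mul b (hsqc η hη), num_mul 1 (hsqc η hη), Finset.mul_sum]
    have hnn : ∀ β ∈ irrFinset G, 0 ≤ (Cfsg.classInner (sq η) β).re := fun β hβ => by
      obtain ⟨n, hn⟩ := IsCharacter.exists_classInner_eq_natCast (hsqc η hη) (mem_irrFinset.1 hβ)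
      rw [hn, Complex.natCast_re]; exact Nat.cast_nonneg n
    refine Finset.sum_lt_sum (fun β hβ => ?_) ⟨ψ, hψ', ?_⟩
    · have hβ' := mem_irrFinset.1 hβ
      have hn := hnn β hβ
      rcases hcd β hβ' with h | h | h
      · obtain ⟨lam, rfl⟩ := IsCharacter.exists_hom (char hβ') h
        rw [mul_comm (fun g => (lam g : ℂ)) χ, num_twist, num_twist, num_irr hχ hχ1 hab.ne,
          num_irr hχ hχ1 ha.ne']
        simp
      · rw [mul_comm β χ, hratio χ β hχ hχ1 hβ' h]; exact le_of_eq (by ring)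
      · rw [mul_comm β χ, hMN1 χ β hχ hχ1 hβ' h, mul_zero, mul_zero]
        exact mul_nonneg hn (num_nonneg b (IsCharacter.mul (char hχ) (char hβ')))
    · rw [mul_comm ψ χ, hMN1 χ ψ hχ hχ1 hψ hψ1, mul_zero, mul_zero]
      refine mul_pos (lt_of_le_of_ne (hnn ψ hψ') fun h0 => hψne ?_)
        (lt_of_le_of_ne (num_nonneg b (IsCharacter.mul (char hχ) (char hψ))) (Ne.symm hχψ))
      obtain ⟨n, hn⟩ := IsCharacter.exists_classInner_eq_natCast (hsqc η hη) hψ
      rw [hn, Complex.natCast_re] at h0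
      rw [hn, show n = 0 by exact_mod_cast h0.symm, Nat.cast_zero]
  have hnn := num_nonneg 1 (IsCharacter.mul (IsCharacter.mul (char hχ) (char hη)) (char hηc))
  have hle := hmin χ (Finset.mem_filter.2 ⟨mem_irrFinset.2 hχ, hχ1⟩)
  rw [hX] at hY
  exact absurd (mul_le_mul_of_nonneg_right hle hnn) hY.not_ge

end CfsgLib.Char.CoprimeDeg
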