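import Cfsg.Agent.Char.CyclicW
import Cfsg.Agent.Char.NormTwo
import Cfsg.Prelude.Def_OddOrderChar

/-!
# The family of characters attached to a cyclic TI subgroup: first properties
-/

namespace CfsgLib.Char

open scoped ComplexConjugate

universe u

variable {G : Type u} [Group G] {W₁ W₂ : Subgroup G}

/-- A linear character as a function. -/
def homFun {H : Type u} [Group H] (ω : H →* ℂˣ) : H → ℂ := fun w => (ω w : ℂ)

theorem classInner_homFun {H : Type u} [Group H] [Fintype H] (ω η : H →* ℂˣ) [Decidable (ω = η)] :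
    Cfsg.classInner (homFun ω) (homFun η) = if ω = η then 1 else 0 := by
  split_ifs with h
  · subst h; exact IsIrrCharacter.classInner_self (isIrrCharacter_ofHom ω)
  · exact IsIrrCharacter.classInner_of_ne (isIrrCharacter_ofHom ω) (isIrrCharacter_ofHom η)
      fun e => h (MonoidHom.ext fun w => Units.ext (congrFun e w))

theorem homFun_one {H : Type u} [Group H] : homFun (1 : H →* ℂˣ) = fun _ => (1 : ℂ) :=
  funext fun _ => rfl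

theorem homFun_isClassFunction {H : Type u} [Group H] (ω : H →* ℂˣ) :
    Cfsg.IsClassFunction H (homFun ω) :=
  IsCharacter.isClassFunction (isCharacter_ofHom ω)

theorem betaFun_eq' (φ ψ : ↥(W₁ ⊔ W₂) →* ℂˣ) :
    betaFun φ ψ = homFun 1 - homFun φ - homFun ψ + homFun (φ * ψ) := by
  rw [betaFun_eq]; rfl

theorem betaFun_isClassFunction (φ ψ : ↥(W₁ ⊔ W₂) →* ℂˣ) :
    Cfsg.IsClassFunction ↥(W₁ ⊔ W₂) (betaFun φ ψ) := fun g h => by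
  simp [betaFun, map_mul, mul_comm]

theorem isGeneralized_betaFun (φ ψ : ↥(W₁ ⊔ W₂) →* ℂˣ) :
    Cfsg.IsGeneralizedCharacter ↥(W₁ ⊔ W₂) (betaFun φ ψ) := by
  rw [betaFun_eq']
  exact IsGeneralized.add (IsGeneralized.sub (IsGeneralized.sub
    (IsCharacter.isGeneralized (isCharacter_ofHom 1)) (IsCharacter.isGeneralized (isCharacter_ofHom φ)))
    (IsCharacter.isGeneralized (isCharacter_ofHom ψ)))
    (IsCharacter.isGeneralized (isCharacter_ofHom (φ * ψ)))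

theorem betaFun_one_left (ψ : ↥(W₁ ⊔ W₂) →* ℂˣ) : betaFun 1 ψ = 0 := by
  funext w; simp [betaFun]

theorem betaFun_one_right (φ : ↥(W₁ ⊔ W₂) →* ℂˣ) : betaFun φ 1 = 0 := by
  funext w; simp [betaFun]

theorem hom_one_mul' {H : Type u} [Group H] (a : H →* ℂˣ) : 1 * a = a :=
  MonoidHom.ext fun w => one_mul (a w)

theorem hom_mul_one' {H : Type u} [Group H] (a : H →* ℂˣ) : a * 1 = a :=
  MonoidHom.ext fun w => mul_one (a w)

/-- `φ` is trivial on `W₂`. -/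
def TrivR (φ : ↥(W₁ ⊔ W₂) →* ℂˣ) : Prop := ∀ w : ↥(W₁ ⊔ W₂), (w : G) ∈ W₂ → φ w = 1

/-- `ψ` is trivial on `W₁`. -/
def TrivL (ψ : ↥(W₁ ⊔ W₂) →* ℂˣ) : Prop := ∀ w : ↥(W₁ ⊔ W₂), (w : G) ∈ W₁ → ψ w = 1

theorem trivR_one : TrivR (1 : ↥(W₁ ⊔ W₂) →* ℂˣ) := fun _ _ => rfl

theorem trivL_one : TrivL (1 : ↥(W₁ ⊔ W₂) →* ℂˣ) := fun _ _ => rfl

theorem classInner_betaFun_homFun [Fintype ↥(W₁ ⊔ W₂)] [DecidableEq (↥(W₁ ⊔ W₂) →* ℂˣ)]
    (φ ψ η : ↥(W₁ ⊔ W₂) →* ℂˣ) :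
    Cfsg.classInner (betaFun φ ψ) (homFun η) = (if 1 = η then 1 else 0) - (if φ = η then 1 else 0) -
      (if ψ = η then 1 else 0) + (if φ * ψ = η then 1 else 0) := by
  rw [betaFun_eq', classInner_add_left, classInner_sub_left, classInner_sub_left,
    classInner_homFun, classInner_homFun, classInner_homFun, classInner_homFun]

/-- The inner product of two of the functions `(1 - φ)(1 - ψ)`. -/
theorem classInner_betaFun_betaFun [Fintype ↥(W₁ ⊔ W₂)] {φ φ' ψ ψ' : ↥(W₁ ⊔ W₂) →* ℂˣ}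
    [Decidable (φ = φ')] [Decidable (ψ = ψ')] (hφ : TrivR φ) (hφ' : TrivR φ') (hψ : TrivL ψ)
    (hψ' : TrivL ψ') (h1 : φ ≠ 1) (h1' : φ' ≠ 1) (h2 : ψ ≠ 1) (h2' : ψ' ≠ 1) :
    Cfsg.classInner (betaFun φ ψ) (betaFun φ' ψ') = 1 + (if φ = φ' then 1 else 0) +
      (if ψ = ψ' then 1 else 0) + (if φ = φ' then 1 else 0) * (if ψ = ψ' then 1 else 0) := by
  classical
  have hom_one_mul : ∀ a : ↥(W₁ ⊔ W₂) →* ℂˣ, 1 * a = a := hom_one_mul'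
  have e : ∀ {a a' b b' : ↥(W₁ ⊔ W₂) →* ℂˣ}, TrivR a → TrivR a' → TrivL b → TrivL b' →
      (a * b = a' * b' ↔ a = a' ∧ b = b') := fun ha ha' hb hb' =>
    ⟨fun h => hom_pair_ext ha hb ha' hb' h, fun h => by rw [h.1, h.2]⟩
  have eAB : ∀ {a b : ↥(W₁ ⊔ W₂) →* ℂˣ}, TrivR a → TrivL b → a = b → a = 1 := fun {a b} ha hb h =>
    (hom_pair_ext ha trivL_one trivR_one hb (by rw [hom_mul_one', hom_one_mul', h])).1
  have n1 : φ * ψ ≠ 1 := fun h => h1 ((e hφ trivR_one hψ trivL_one).1 (h.trans (hom_one_mul' 1).symm)).1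
  have n1' : φ' * ψ' ≠ 1 := fun h =>
    h1' ((e hφ' trivR_one hψ' trivL_one).1 (h.trans (hom_one_mul' 1).symm)).1
  have n2 : φ * ψ ≠ φ' := fun h => h2 ((e hφ hφ' hψ trivL_one).1 (h.trans (hom_mul_one' φ').symm)).2
  have n2' : φ' * ψ' ≠ φ := fun h => h2' ((e hφ' hφ hψ' trivL_one).1 (h.trans (hom_mul_one' φ).symm)).2
  have n3 : φ * ψ ≠ ψ' := fun h => h1 ((e hφ trivR_one hψ hψ').1 (h.trans (hom_one_mul ψ').symm)).1
  have n3' : φ' * ψ' ≠ ψ := fun h => h1' ((e hφ' trivR_one hψ' hψ).1 (h.trans (hom_one_mul ψ).symm)).1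
  have n4 : φ ≠ ψ' := fun h => h1 (eAB hφ hψ' h)
  have n4' : φ' ≠ ψ := fun h => h1' (eAB hφ' hψ h)
  rw [show betaFun φ' ψ' = homFun 1 - homFun φ' - homFun ψ' + homFun (φ' * ψ') from betaFun_eq' _ _,
    classInner_add_right, classInner_sub_right, classInner_sub_right]
  simp only [classInner_betaFun_homFun, Ne.symm h1', Ne.symm h2', Ne.symm n1', n4, Ne.symm n4',
    n1, n2, Ne.symm n2', n3, Ne.symm n3', h1, h2, e hφ hφ' hψ hψ', if_true, if_false, ite_and]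
  split_ifs <;> ring

variable [Fintype G]

theorem classInner_indFun_betaFun (hW : Cfsg.IsSelfNormalizingCyclic W₁ W₂)
    [Fintype ↥(W₁ ⊔ W₂)] {φ φ' ψ ψ' : ↥(W₁ ⊔ W₂) →* ℂˣ}
    [Decidable (φ = φ')] [Decidable (ψ = ψ')] (hφ : TrivR φ) (hφ' : TrivR φ') (hψ : TrivL ψ)
    (hψ' : TrivL ψ') (h1 : φ ≠ 1) (h1' : φ' ≠ 1) (h2 : ψ ≠ 1) (h2' : ψ' ≠ 1) :
    Cfsg.classInner (Cfsg.indFun _ (betaFun φ ψ)) (Cfsg.indFun _ (betaFun φ' ψ')) =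
      1 + (if φ = φ' then 1 else 0) +
      (if ψ = ψ' then 1 else 0) + (if φ = φ' then 1 else 0) * (if ψ = ψ' then 1 else 0) := by
  have hvan : ∀ {a b : ↥(W₁ ⊔ W₂) →* ℂˣ}, TrivR a → TrivL b → ∀ x : ↥(W₁ ⊔ W₂),
      (x : G) ∉ (↑(W₁ ⊔ W₂) : Set G) \ (↑W₁ ∪ ↑W₂) → betaFun a b x = 0 := fun ha hb x hx =>
    betaFun_eq_zero ha hb x (by
      by_contra h
      exact hx ⟨x.2, fun h' => h h'⟩)
  rw [classInner_indFun_TI (selfNormalizing_TI hW) (betaFun_isClassFunction φ' ψ') (hvan hφ hψ)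
    (hvan hφ' hψ') (betaFun_eq_zero hφ hψ 1 (Or.inl W₁.one_mem))]
  exact classInner_betaFun_betaFun hφ hφ' hψ hψ' h1 h1' h2 h2'

theorem classInner_indFun_betaFun_one [Fintype ↥(W₁ ⊔ W₂)] {φ ψ : ↥(W₁ ⊔ W₂) →* ℂˣ}
    (hφ : TrivR φ) (hψ : TrivL ψ) (h1 : φ ≠ 1) (h2 : ψ ≠ 1) :
    Cfsg.classInner (Cfsg.indFun _ (betaFun φ ψ)) (fun _ : G => (1 : ℂ)) = 1 := by
  classical
  rw [classInner_indFun _ (IsCharacter.isClassFunction isCharacter_one), ← homFun_one,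
    classInner_betaFun_homFun, if_pos rfl, if_neg h1, if_neg h2,
    if_neg fun h => h1 (hom_pair_ext hφ hψ trivR_one trivL_one (h.trans (hom_one_mul' 1).symm)).1]
  ring

/-- Orthogonality of a class function to the induced functions gives vanishing outside
`W₁ ∪ W₂`. -/
theorem eq_zero_of_orth_indFun (hW : Cfsg.IsSelfNormalizingCyclic W₁ W₂) [Fintype ↥(W₁ ⊔ W₂)]
    {θ : G → ℂ} (hθ : Cfsg.IsClassFunction G θ)
    (h : ∀ φ ψ : ↥(W₁ ⊔ W₂) →* ℂˣ, TrivR φ → TrivL ψ → φ ≠ 1 → ψ ≠ 1 →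
      Cfsg.classInner (Cfsg.indFun _ (betaFun φ ψ)) θ = 0)
    {w : ↥(W₁ ⊔ W₂)} (hw₁ : (w : G) ∉ W₁) (hw₂ : (w : G) ∉ W₂) : θ w = 0 := by
  obtain ⟨-, -, hdisj, hcomm, hcyc, -⟩ := hW
  let _ : CommGroup ↥(W₁ ⊔ W₂) := IsCyclic.commGroup
  obtain ⟨p₁, p₂, hp⟩ := exists_split hdisj hcomm
  refine eq_zero_of_orth_betaFun mul_comm hp (f := fun x => θ x) (fun φ ψ hφ hψ => ?_) hw₁ hw₂
  by_cases h1 : φ = 1
  · rw [h1, betaFun_one_left, classInner_zero_left]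
  by_cases h2 : ψ = 1
  · rw [h2, betaFun_one_right, classInner_zero_left]
  rw [← classInner_indFun _ hθ]
  exact h φ ψ hφ hψ h1 h2

theorem IsSignedIrr.isGeneralized {θ : G → ℂ} (h : IsSignedIrr θ) :
    Cfsg.IsGeneralizedCharacter G θ := by
  rcases h with h | h
  · exact IsIrrCharacter.isGeneralized h
  · simpa using IsGeneralized.neg (IsIrrCharacter.isGeneralized h)

section Family

variable [Fintype ↥(W₁ ⊔ W₂)] {χ : (↥(W₁ ⊔ W₂) →* ℂˣ) → G → ℂ}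

theorem classInner_induced_family (h1 : χ 1 = fun _ => (1 : ℂ)) {φ ψ : ↥(W₁ ⊔ W₂) →* ℂˣ}
    (hind : Cfsg.indFun (W₁ ⊔ W₂) (betaFun φ ψ) = fun g => 1 - χ φ g - χ ψ g + χ (φ * ψ) g)
    (θ : G → ℂ) :
    Cfsg.classInner (Cfsg.indFun (W₁ ⊔ W₂) (betaFun φ ψ)) θ =
      Cfsg.classInner (χ 1) θ - Cfsg.classInner (χ φ) θ - Cfsg.classInner (χ ψ) θ +
        Cfsg.classInner (χ (φ * ψ)) θ := by
  rw [hind, show (fun g => 1 - χ φ g - χ ψ g + χ (φ * ψ) g) = χ 1 - χ φ - χ ψ + χ (φ * ψ) by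
    rw [h1]; rfl, classInner_add_left, classInner_sub_left, classInner_sub_left]

/-- Agreement with `ω` outside `W₁ ∪ W₂` follows from the induction identity. -/
theorem eq_on_of_induced (hW : Cfsg.IsSelfNormalizingCyclic W₁ W₂) [DecidableEq (↥(W₁ ⊔ W₂) →* ℂˣ)]
    (hirr : ∀ ω, IsSignedIrr (χ ω))
    (horth : ∀ ω ω', Cfsg.classInner (χ ω) (χ ω') = if ω = ω' then 1 else 0)
    (h1 : χ 1 = fun _ => (1 : ℂ))
    (hind : ∀ φ ψ : ↥(W₁ ⊔ W₂) →* ℂˣ, TrivR φ → TrivL ψ → φ ≠ 1 → ψ ≠ 1 →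
      Cfsg.indFun (W₁ ⊔ W₂) (betaFun φ ψ) = fun g => 1 - χ φ g - χ ψ g + χ (φ * ψ) g)
    (ω : ↥(W₁ ⊔ W₂) →* ℂˣ) {w : ↥(W₁ ⊔ W₂)} (hw₁ : (w : G) ∉ W₁) (hw₂ : (w : G) ∉ W₂) :
    χ ω w = (ω w : ℂ) := by
  obtain ⟨-, -, hdisj, hcomm, hcyc, -⟩ := hW
  let _ : CommGroup ↥(W₁ ⊔ W₂) := IsCyclic.commGroup
  obtain ⟨p₁, p₂, hp⟩ := exists_split hdisj hcomm
  refine sub_eq_zero.1 (eq_zero_of_orth_betaFun mul_comm hp
    (f := (fun x : ↥(W₁ ⊔ W₂) => χ ω x) - homFun ω) (fun φ ψ hφ hψ => ?_) hw₁ hw₂)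
  by_cases hn1 : φ = 1
  · rw [hn1, betaFun_one_left, classInner_zero_left]
  by_cases hn2 : ψ = 1
  · rw [hn2, betaFun_one_right, classInner_zero_left]
  rw [classInner_sub_right, ← classInner_indFun _
      (IsGeneralized.isClassFunction (IsSignedIrr.isGeneralized (hirr ω))),
    classInner_induced_family h1 (hind φ ψ hφ hψ hn1 hn2), classInner_betaFun_homFun]
  simp only [horth]
  exact sub_self _

variable (hW : Cfsg.IsSelfNormalizingCyclic W₁ W₂) (hχ : Cfsg.IsCyclicTIFamily W₁ W₂ χ)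
include hχ

theorem cyclicTI_induced {φ ψ : ↥(W₁ ⊔ W₂) →* ℂˣ} (hφ : TrivR φ) (hψ : TrivL ψ) (h1 : φ ≠ 1)
    (h2 : ψ ≠ 1) :
    Cfsg.indFun (W₁ ⊔ W₂) (betaFun φ ψ) = fun g => 1 - χ φ g - χ ψ g + χ (φ * ψ) g :=
  hχ.induced_eq φ ψ h1 h2 hφ hψ

theorem cyclicTI_coeff {θ : G → ℂ} (hθ : Cfsg.IsClassFunction G θ)
    {φ ψ : ↥(W₁ ⊔ W₂) →* ℂˣ} (hφ : TrivR φ) (hψ : TrivL ψ) (h1 : φ ≠ 1) (h2 : ψ ≠ 1) :
    Cfsg.classInner (χ 1) θ - Cfsg.classInner (χ φ) θ - Cfsg.classInner (χ ψ) θ +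
      Cfsg.classInner (χ (φ * ψ)) θ = Cfsg.classInner (betaFun φ ψ) (fun x => θ x) := by
  rw [← classInner_induced_family hχ.map_one (cyclicTI_induced hχ hφ hψ h1 h2),
    classInner_indFun _ hθ]

include hW in
theorem cyclicTI_vanish_of_orth {θ : G → ℂ} (hθ : Cfsg.IsClassFunction G θ)
    (horth : ∀ ω, Cfsg.classInner θ (χ ω) = 0) {w : ↥(W₁ ⊔ W₂)} (hw₁ : (w : G) ∉ W₁)
    (hw₂ : (w : G) ∉ W₂) : θ w = 0 := by
  have h0 : ∀ η, Cfsg.classInner (χ η) θ = 0 := fun η => by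
    rw [← classInner_conj, horth η, map_zero]
  refine eq_zero_of_orth_indFun hW hθ (fun φ ψ hφ hψ h1 h2 => ?_) hw₁ hw₂
  rw [classInner_induced_family hχ.map_one (cyclicTI_induced hχ hφ hψ h1 h2), h0, h0, h0, h0]
  ring

/-- The coefficients of a class function vanishing outside `W₁ ∪ W₂` are additive. -/
theorem cyclicTI_additive {θ : G → ℂ} (hθ : Cfsg.IsClassFunction G θ)
    (hθV : ∀ w : ↥(W₁ ⊔ W₂), (w : G) ∉ W₁ → (w : G) ∉ W₂ → θ w = 0)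
    {φ ψ : ↥(W₁ ⊔ W₂) →* ℂˣ} (hφ : TrivR φ) (hψ : TrivL ψ) :
    Cfsg.classInner θ (χ (φ * ψ)) =
      Cfsg.classInner θ (χ φ) + Cfsg.classInner θ (χ ψ) - Cfsg.classInner θ (χ 1) := by
  by_cases h1 : φ = 1
  · subst h1; rw [hom_one_mul']; ring
  by_cases h2 : ψ = 1
  · subst h2; rw [hom_mul_one']; ring
  have h := cyclicTI_coeff hχ hθ hφ hψ h1 h2
  have hz : Cfsg.classInner (betaFun φ ψ) (fun x : ↥(W₁ ⊔ W₂) => θ x) = 0 := by
    rw [classInner_def, Finset.sum_eq_zero, mul_zero]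
    intro x _
    by_cases hx : (x : G) ∈ W₁ ∨ (x : G) ∈ W₂
    · rw [betaFun_eq_zero hφ hψ x hx, zero_mul]
    · rw [hθV x (fun h' => hx (Or.inl h')) (fun h' => hx (Or.inr h')), map_zero, mul_zero]
  rw [hz] at h
  have hc := congrArg (starRingEnd ℂ) h
  simp only [map_add, map_sub, classInner_conj, map_zero] at hc
  linear_combination hc

theorem cyclicTI_four {θ : G → ℂ} (hθ : Cfsg.IsClassFunction G θ)
    (hθV : ∀ w : ↥(W₁ ⊔ W₂), (w : G) ∉ W₁ → (w : G) ∉ W₂ → θ w = 0)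
    {φ φ' ψ ψ' : ↥(W₁ ⊔ W₂) →* ℂˣ} (hφ : TrivR φ) (hφ' : TrivR φ') (hψ : TrivL ψ)
    (hψ' : TrivL ψ') :
    Cfsg.classInner θ (χ (φ * ψ)) + Cfsg.classInner θ (χ (φ' * ψ')) =
      Cfsg.classInner θ (χ (φ * ψ')) + Cfsg.classInner θ (χ (φ' * ψ)) := by
  rw [cyclicTI_additive hχ hθ hθV hφ hψ, cyclicTI_additive hχ hθ hθV hφ' hψ',
    cyclicTI_additive hχ hθ hθV hφ hψ', cyclicTI_additive hχ hθ hθV hφ' hψ]
  ring

end Family

end CfsgLib.Char
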