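import Cfsg.Agent.Char.FrobeniusChars
import Mathlib.GroupTheory.Complement
import Mathlib.GroupTheory.CommutingProbability

/-!
# Classes fixed by coprime automorphisms; classes of Frobenius groups
-/

namespace CfsgLib.Char

universe u

variable {G : Type u} [Group G]

/-- An element of order coprime to `|K|` fixing a class of `K` centralises a member of it. -/
theorem exists_conj_commute_of_fixed [Finite G] {K : Subgroup G} [hK : K.Normal] {x : G}
    (hcop : Nat.Coprime (orderOf x) (Nat.card K)) {n : K}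
    (h : IsConj n (MulAut.conjNormal x n)) :
    ∃ n' : K, IsConj n n' ∧ x * (n' : G) = n' * x := by
  obtain ⟨m, hm⟩ := isConj_iff.1 h
  have hm' : (m : G) * n * (m : G)⁻¹ = x * n * x⁻¹ := by
    simpa using congrArg Subtype.val hm
  have hz : Commute ((m : G)⁻¹ * x) (n : G) := by
    change (m : G)⁻¹ * x * n = n * ((m : G)⁻¹ * x)
    calc (m : G)⁻¹ * x * n = (m : G)⁻¹ * (x * n * x⁻¹) * x := by group
      _ = n * ((m : G)⁻¹ * x) := by rw [← hm']; group
  obtain ⟨y, hy, c, hc, hcx, hyc⟩ :=
    exists_conj_mem_centralizer_mul K x (fun k hk => hK.conj_mem k hk x) hcop _ (K.inv_mem m.2)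
  refine ⟨⟨y * n * y⁻¹, K.mul_mem (K.mul_mem hy n.2) (K.inv_mem hy)⟩,
    isConj_iff.2 ⟨⟨y, hy⟩, Subtype.ext rfl⟩, ?_⟩
  have hcomm : Commute (c * x) (y * n * y⁻¹) := by
    rw [← hyc]
    change y * ((m : G)⁻¹ * x) * y⁻¹ * (y * n * y⁻¹) = y * n * y⁻¹ * (y * ((m : G)⁻¹ * x) * y⁻¹)
    calc _ = y * ((m : G)⁻¹ * x * n) * y⁻¹ := by group
      _ = _ := by rw [hz.eq]; group
  obtain ⟨k, hk1, hk2⟩ := exists_pow_eq_self_and_one hcop
  have hpow : (c * x) ^ k = x := by rw [(show Commute c x from hcx).mul_pow, hk2 c hc, hk1, one_mul]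
  exact hpow ▸ (hcomm.pow_left k).eq

/-- The number of classes fixed by a coprime element all whose nontrivial powers have the same
centralizer `W` is at most `|W|`. -/
theorem card_fixed_class_le [Finite G] {K W : Subgroup G} [hK : K.Normal] {x : G}
    (hx : Nat.Coprime (orderOf x) (Nat.card K))
    (hW : K ⊓ Subgroup.centralizer ({x} : Set G) ≤ W) :
    Nat.card {C : ConjClasses K //
      ConjClasses.map (MulEquiv.toMonoidHom ((MulAut.conjNormal x : MulAut K))) C = C} ≤
        Nat.card W := by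
  classical
  have : ∀ C : {C : ConjClasses K //
      ConjClasses.map (MulEquiv.toMonoidHom ((MulAut.conjNormal x : MulAut K))) C = C},
      ∃ w : W, ∃ hw : (w : G) ∈ K, ConjClasses.mk (⟨w, hw⟩ : K) = C.1 := by
    rintro ⟨C, hC⟩
    obtain ⟨n, rfl⟩ := ConjClasses.mk_surjective C
    obtain ⟨n', hn', hc⟩ := exists_conj_commute_of_fixed hx
      (ConjClasses.mk_eq_mk_iff_isConj.1 hC).symm
    refine ⟨⟨n', hW ⟨n'.2, Subgroup.mem_centralizer_singleton_iff.2 hc.symm⟩⟩, n'.2, ?_⟩
    exact ConjClasses.mk_eq_mk_iff_isConj.2 hn'.symm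
  choose w hw hwC using this
  refine Nat.card_le_card_of_injective w fun C D h => Subtype.ext ?_
  rw [← hwC C, ← hwC D]
  congr 1
  exact Subtype.ext (congrArg (fun z : W => (z : G)) h)

/-- `x` fixes a nonprincipal character of a normal Hall subgroup iff it centralises a nonidentity
element of it. -/
theorem exists_fixed_irr_iff_hall [Finite G] {H : Subgroup G} [hH : H.Normal]
    (hHall : Nat.Coprime (Nat.card H) H.index) (x : G) :
    (∃ θ : H → ℂ, Cfsg.IsIrrCharacter H θ ∧ θ ≠ (fun _ => 1) ∧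
      (fun h : H => θ ⟨x * h * x⁻¹, hH.conj_mem h h.2 x⟩) = θ) ↔
      ∃ h ∈ H, h ≠ 1 ∧ x * h = h * x := by
  constructor
  · intro hfix
    by_cases hi : x ^ H.index = 1
    · obtain ⟨n, hn, hc⟩ := (exists_fixed_irr_iff x).1 hfix
      have hcop : Nat.Coprime (orderOf x) (Nat.card H) :=
        (hHall.coprime_dvd_right (orderOf_dvd_of_pow_eq_one hi)).symm
      obtain ⟨n', hn', hcx⟩ := exists_conj_commute_of_fixed hcop hc
      refine ⟨n', n'.2, fun h => hn ?_, hcx⟩
      rw [show n' = 1 from Subtype.ext h] at hn'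
      exact isConj_one_left.1 hn'
    · exact ⟨x ^ H.index, by simpa using H.pow_index_mem x, hi, (Commute.self_pow x _).eq⟩
  · rintro ⟨h, hh, h1, hc⟩
    refine (exists_fixed_irr_iff x).2 ⟨⟨h, hh⟩, fun e => h1 (congrArg Subtype.val e), ?_⟩
    rw [show (MulAut.conjNormal x) ⟨h, hh⟩ = (⟨h, hh⟩ : H) from Subtype.ext (by
      rw [MulAut.conjNormal_apply]; simp [hc])]

/-- `|H| k(G) + 1 = |H| k(H) + k(K)` for a Frobenius group `G = KH`. -/
theorem card_conjClasses_frobenius [Finite G] {K H : Subgroup G} [hK : K.Normal]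
    (hKH : K ⊓ H = ⊥) (hKH' : K ⊔ H = ⊤)
    (hfpf : ∀ h ∈ H, h ≠ 1 → ∀ k ∈ K, h * k = k * h → k = 1) :
    Nat.card H * Nat.card (ConjClasses G) + 1 =
      Nat.card H * Nat.card (ConjClasses H) + Nat.card (ConjClasses K) := by
  classical
  have := Fintype.ofFinite G
  have hcompl : Subgroup.IsComplement' K H :=
    Subgroup.isComplement'_of_disjoint_and_mul_eq_univ (disjoint_iff.2 hKH)
      (by rw [← Subgroup.normal_mul, hKH']; rfl)
  have hcard : Nat.card G = Nat.card K * Nat.card H := hcompl.card_mul_card.symm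
  have hCK := centralizer_le_of_fpf hKH' hfpf
  let f : G → ℕ := fun g => Nat.card (Subgroup.centralizer ({g} : Set G))
  have hsum : ∀ (L : Type u) [Group L] [Fintype L],
      ∑ g : L, Nat.card (Subgroup.centralizer ({g} : Set L)) =
        Nat.card (ConjClasses L) * Nat.card L := by
    intro L _ _
    rw [← card_comm_eq_card_conjClasses_mul_card,
      Nat.card_congr (Equiv.subtypeProdEquivSigmaSubtype fun a b : L => Commute a b), Nat.card_sigma]
    refine Finset.sum_congr rfl fun g _ => Nat.card_congr (Equiv.subtypeEquivRight fun y => ?_)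
    rw [Subgroup.mem_centralizer_singleton_iff]
    exact eq_comm
  have hG := hsum G
  rw [← Finset.sum_filter_add_sum_filter_not Finset.univ (· ∈ K)] at hG
  -- inside the kernel
  have hin : ∑ g ∈ Finset.univ.filter (· ∈ K), f g + Nat.card K =
      Nat.card G + Nat.card (ConjClasses K) * Nat.card K := by
    rw [← hsum K, Finset.sum_subtype (Finset.univ.filter (· ∈ K)) (p := (· ∈ K)) (by simp) f,
      ← Finset.sum_erase_add _ _ (Finset.mem_univ (1 : K)),
      ← Finset.sum_erase_add (f := fun g : K => Nat.card (Subgroup.centralizer ({g} : Set K))) _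
        (Finset.mem_univ (1 : K))]
    have e1 : f ((1 : K) : G) = Nat.card G := by
      simp only [f, OneMemClass.coe_one]
      rw [show Subgroup.centralizer ({(1 : G)} : Set G) = ⊤ from eq_top_iff.2 fun y _ => by
        simp [Subgroup.mem_centralizer_singleton_iff], Subgroup.card_top]
    have e2 : Nat.card (Subgroup.centralizer ({(1 : K)} : Set K)) = Nat.card K := by
      rw [show Subgroup.centralizer ({(1 : K)} : Set K) = ⊤ from eq_top_iff.2 fun y _ => by
        simp [Subgroup.mem_centralizer_singleton_iff], Subgroup.card_top]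
    have e3 : ∀ k ∈ (Finset.univ : Finset K).erase 1,
        f (k : G) = Nat.card (Subgroup.centralizer ({k} : Set K)) := fun k hk => by
      have hle := hCK k k.2 fun h => Finset.ne_of_mem_erase hk (Subtype.ext h)
      refine Nat.card_congr ⟨fun g => ⟨⟨g, hle g.2⟩, ?_⟩, fun g => ⟨g, ?_⟩, fun g => rfl, fun g => rfl⟩
      · rw [Subgroup.mem_centralizer_singleton_iff]
        exact Subtype.ext (Subgroup.mem_centralizer_singleton_iff.1 g.2)
      · rw [Subgroup.mem_centralizer_singleton_iff]
        exact congrArg Subtype.val (Subgroup.mem_centralizer_singleton_iff.1 g.2)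
    rw [Finset.sum_congr rfl e3, e1, e2]; ring
  -- outside the kernel
  have hCH : ∀ h : H, h ≠ 1 →
      f (h : G) = Nat.card (Subgroup.centralizer ({h} : Set H)) := by
    intro h h1
    have h1' : (h : G) ≠ 1 := fun e => h1 (Subtype.ext e)
    have hmem : ∀ g ∈ Subgroup.centralizer ({(h : G)} : Set G), g ∈ H := by
      intro g hg
      obtain ⟨⟨k, b⟩, hkb⟩ := hcompl.2 g
      have hkb' : (k : G) * b = g := hkb
      rw [Subgroup.mem_centralizer_singleton_iff, ← hkb'] at hg
      have key : (k : G) * ((b : G) * h) = ((h : G) * k * (h : G)⁻¹) * ((h : G) * b) := by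
        rw [← mul_assoc, hg]; group
      have e := hcompl.1 (a₁ := ⟨k, b * h⟩)
        (a₂ := ⟨⟨(h : G) * k * (h : G)⁻¹, hK.conj_mem k k.2 h⟩, h * b⟩) (by simpa using key)
      have e1 : (k : G) = (h : G) * k * (h : G)⁻¹ :=
        congrArg (fun p : ↥K × ↥H => (p.1 : G)) e
      have : (k : G) = 1 := hfpf h h.2 h1' k k.2 ((mul_inv_eq_iff_eq_mul.1 e1.symm))
      rw [← hkb', this, one_mul]; exact b.2
    refine Nat.card_congr ⟨fun g => ⟨⟨g, hmem g g.2⟩, ?_⟩, fun g => ⟨g, ?_⟩, fun g => rfl, fun g => rfl⟩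
    · rw [Subgroup.mem_centralizer_singleton_iff]
      exact Subtype.ext (Subgroup.mem_centralizer_singleton_iff.1 g.2)
    · rw [Subgroup.mem_centralizer_singleton_iff]
      exact congrArg Subtype.val (Subgroup.mem_centralizer_singleton_iff.1 g.2)
  let S := (Finset.univ : Finset H).erase 1
  have hinj : Set.InjOn (fun p : K × H => (p.1 : G) * p.2 * (p.1 : G)⁻¹)
      ↑((Finset.univ : Finset K) ×ˢ S) := by
    rintro ⟨u, a⟩ hua ⟨v, b⟩ - he
    have he' : (u : G) * a * (u : G)⁻¹ = (v : G) * b * (v : G)⁻¹ := he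
    have key : ((v : G)⁻¹ * u) * a = ((b : G) * ((v : G)⁻¹ * u) * (b : G)⁻¹) * b := by
      calc ((v : G)⁻¹ * u) * a = (v : G)⁻¹ * ((u : G) * a * (u : G)⁻¹) * u := by group
        _ = _ := by rw [he']; group
    have e := hcompl.1 (a₁ := ⟨v⁻¹ * u, a⟩)
      (a₂ := ⟨⟨(b : G) * ((v : G)⁻¹ * u) * (b : G)⁻¹, hK.conj_mem _ (v⁻¹ * u).2 b⟩, b⟩)
      (by simpa using key)
    have e2 : a = b := congrArg Prod.snd e
    subst e2
    have e1 : (v : G)⁻¹ * u = (a : G) * ((v : G)⁻¹ * u) * (a : G)⁻¹ :=
      congrArg (fun p : ↥K × ↥H => (p.1 : G)) e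
    have ha1 : (a : G) ≠ 1 := by
      simp only [S, Finset.coe_product, Set.mem_prod, Finset.mem_coe, Finset.mem_erase] at hua
      exact fun h => hua.2.1 (Subtype.ext h)
    have := hfpf a a.2 ha1 _ (v⁻¹ * u).2 (mul_inv_eq_iff_eq_mul.1 e1.symm)
    have hvu : v = u := Subtype.ext (inv_mul_eq_one.1 this)
    rw [hvu]
  have hScard : S.card + 1 = Nat.card H := by
    rw [Nat.card_eq_fintype_card, ← Finset.card_univ]
    exact Finset.card_erase_add_one (Finset.mem_univ (1 : H))
  have hout_set : ((Finset.univ : Finset K) ×ˢ S).image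
      (fun p : K × H => (p.1 : G) * p.2 * (p.1 : G)⁻¹) = Finset.univ.filter (fun g => ¬ g ∈ K) := by
    refine Finset.eq_of_subset_of_card_le (fun g hg => ?_) ?_
    · obtain ⟨⟨u, a⟩, hua, rfl⟩ := Finset.mem_image.1 hg
      simp only [S, Finset.mem_product, Finset.mem_erase] at hua
      simp only [Finset.mem_filter, Finset.mem_univ, true_and]
      intro hm
      have hm2 : (a : G) ∈ K := by
        have := K.mul_mem (K.mul_mem (K.inv_mem u.2) hm) u.2
        simpa [mul_assoc] using this
      exact hua.2.1 (Subtype.ext (Subgroup.mem_bot.1 (hKH ▸ ⟨hm2, a.2⟩)))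
    · rw [Finset.card_image_of_injOn hinj, Finset.card_product, Finset.filter_not,
        Finset.card_sdiff_of_subset (Finset.filter_subset _ _), Finset.card_univ, Finset.card_univ,
        ← Nat.card_eq_fintype_card, ← Nat.card_eq_fintype_card, hcard,
        show (Finset.univ.filter (· ∈ K)).card = Nat.card K by
          rw [Nat.card_eq_fintype_card, Fintype.card_subtype], ← hScard, Nat.mul_succ]
      omega
  have hout : ∑ g ∈ Finset.univ.filter (fun g => ¬ g ∈ K), f g + Nat.card K * Nat.card H =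
      Nat.card K * (Nat.card (ConjClasses H) * Nat.card H) := by
    rw [← hout_set, Finset.sum_image hinj, Finset.sum_product]
    have e : ∀ u : K, ∀ a ∈ S, f ((u : G) * a * (u : G)⁻¹) =
        Nat.card (Subgroup.centralizer ({a} : Set H)) := fun u a ha => by
      rw [← hCH a (Finset.ne_of_mem_erase ha)]
      have h1 := card_conj_class_mul_card_centralizer ((u : G) * a * (u : G)⁻¹)
      have h2 := card_conj_class_mul_card_centralizer (a : G)
      have h3 : Nat.card {x : G // IsConj ((u : G) * a * (u : G)⁻¹) x} =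
          Nat.card {x : G // IsConj (a : G) x} := by
        have hc : IsConj (a : G) ((u : G) * a * (u : G)⁻¹) := isConj_iff.2 ⟨u, rfl⟩
        exact Nat.card_congr (Equiv.subtypeEquivRight fun x =>
          ⟨fun h => hc.trans h, fun h => hc.symm.trans h⟩)
      rw [h3, ← h2] at h1
      have : Nonempty {x : G // IsConj (a : G) x} := ⟨⟨a, IsConj.refl _⟩⟩
      exact Nat.eq_of_mul_eq_mul_left Nat.card_pos h1
    rw [Finset.sum_congr rfl fun u _ => Finset.sum_congr rfl (e u), Finset.sum_const,
      Finset.card_univ, ← Nat.card_eq_fintype_card, smul_eq_mul, ← hsum H,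
      ← Finset.sum_erase_add (f := fun a : H => Nat.card (Subgroup.centralizer ({a} : Set H))) _
        (Finset.mem_univ (1 : H)),
      show Nat.card (Subgroup.centralizer ({(1 : H)} : Set H)) = Nat.card H by
        rw [show Subgroup.centralizer ({(1 : H)} : Set H) = ⊤ from eq_top_iff.2 fun y _ => by
          simp [Subgroup.mem_centralizer_singleton_iff], Subgroup.card_top]]
    ring
  have hpos : 0 < Nat.card K := Nat.card_pos
  refine Nat.eq_of_mul_eq_mul_left hpos ?_
  rw [hcard] at hG hin
  nlinarith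

end CfsgLib.Char
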