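import Cfsg.Agent.Char.CyclicUnique
import Cfsg.Agent.Char.Coherence
import Cfsg.Agent.Char.Clifford
import Cfsg.Agent.Char.FixedClass
import Cfsg.Agent.Char.Central
import Mathlib.GroupTheory.Complement

/-!
# A semidirect product `L = K W₁` with constant centraliser `W₂`
-/

namespace CfsgLib.Char

open scoped ComplexConjugate

universe u

variable {L : Type u} [Group L]

/-- `L = K W₁` with `W₁` a cyclic Hall subgroup all of whose nontrivial elements have centraliser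
`W₂` in `K`. -/
structure IsPrimeAction (K W₁ W₂ : Subgroup L) : Prop where
  inf_eq : K ⊓ W₁ = ⊥
  sup_eq : K ⊔ W₁ = ⊤
  ne_bot₁ : W₁ ≠ ⊥
  cyclic₁ : IsCyclic W₁
  hall : Nat.Coprime (Nat.card W₁) W₁.index
  ne_bot₂ : W₂ ≠ ⊥
  cyclic₂ : IsCyclic W₂
  le : W₂ ≤ K
  centralizer_eq : ∀ x ∈ W₁, x ≠ 1 → K ⊓ Subgroup.centralizer ({x} : Set L) = W₂
  odd : Odd (Nat.card ↥(W₁ ⊔ W₂))

namespace IsPrimeAction

variable {K W₁ W₂ : Subgroup L} [hK : K.Normal] (h : IsPrimeAction K W₁ W₂)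
include h

omit hK in
theorem commute {a b : L} (ha : a ∈ W₁) (hb : b ∈ W₂) : a * b = b * a := by
  by_cases h1 : a = 1
  · simp [h1]
  rw [← h.centralizer_eq a ha h1, Subgroup.mem_inf, Subgroup.mem_centralizer_singleton_iff] at hb
  exact hb.2.symm

omit hK in
theorem disjoint₁₂ : W₁ ⊓ W₂ = ⊥ :=
  eq_bot_iff.2 fun x hx => by
    rw [← h.inf_eq]; exact Subgroup.mem_inf.2 ⟨h.le hx.2, hx.1⟩

theorem exists_factor (g : L) : ∃ k ∈ K, ∃ c ∈ W₁, g = k * c := by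
  have : g ∈ K ⊔ W₁ := h.sup_eq ▸ Subgroup.mem_top g
  obtain ⟨k, hk, c, hc, rfl⟩ := Subgroup.mem_sup_of_normal_left.1 this
  exact ⟨k, hk, c, hc, rfl⟩

theorem isComplement : K.IsComplement' W₁ :=
  Subgroup.isComplement'_of_disjoint_and_mul_eq_univ (disjoint_iff.2 h.inf_eq)
    (by rw [← Subgroup.normal_mul, h.sup_eq, Subgroup.coe_top])

theorem coprime [Finite L] : Nat.Coprime (Nat.card W₁) (Nat.card K) := by
  rw [← h.isComplement.index_eq_card]; exact h.hall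

theorem selfNormalizing [Finite L] : Cfsg.IsSelfNormalizingCyclic W₁ W₂ ∧
    (∀ g : L, ∀ x ∈ W₁ ⊔ W₂, x ∉ W₂ → g * x * g⁻¹ ∈ W₁ ⊔ W₂ → g ∈ W₁ ⊔ W₂) := by
  have hdisj := h.disjoint₁₂
  have hcomm : ∀ a ∈ W₁, ∀ b ∈ W₂, a * b = b * a := fun a ha b hb => h.commute ha hb
  have hcop : Nat.Coprime (Nat.card W₁) (Nat.card W₂) :=
    h.coprime.coprime_dvd_right (Subgroup.card_dvd_of_le h.le)
  obtain ⟨e, he⟩ := exists_prod_equiv hdisj hcomm
  have hcyc : IsCyclic ↥(W₁ ⊔ W₂) := by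
    rw [← e.isCyclic, Group.isCyclic_prod_iff]
    exact ⟨h.cyclic₁, h.cyclic₂, hcop⟩
  let _ : CommGroup ↥(W₁ ⊔ W₂) := IsCyclic.commGroup
  have hcy : ∀ a ∈ W₁ ⊔ W₂, ∀ b ∈ W₁ ⊔ W₂, a * b = b * a := fun a ha b hb =>
    congrArg Subtype.val (mul_comm (⟨a, ha⟩ : ↥(W₁ ⊔ W₂)) ⟨b, hb⟩)
  obtain ⟨n, hn1, hn0⟩ := Nat.chineseRemainder h.coprime 1 0
  have hn0' : Nat.card K ∣ n := Nat.modEq_zero_iff_dvd.1 hn0
  have hpow : ∀ a ∈ W₁, ∀ b ∈ W₂, (a * b) ^ n = a := fun a ha b hb => by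
    have ha' : a ^ n = a := by
      have : a ^ Nat.card W₁ = 1 := congrArg Subtype.val (pow_card_eq_one' (x := (⟨a, ha⟩ : W₁)))
      rw [pow_eq_pow_mod n this, hn1, ← pow_eq_pow_mod 1 this, pow_one]
    have hb' : b ^ n = 1 := by
      obtain ⟨m, hm⟩ := hn0'
      have : b ^ Nat.card K = 1 :=
        congrArg Subtype.val (pow_card_eq_one' (x := (⟨b, h.le hb⟩ : K)))
      rw [hm, pow_mul, this, one_pow]
    rw [(show Commute a b from hcomm a ha b hb).mul_pow, ha', hb', mul_one]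
  have key : ∀ g : L, ∀ x ∈ W₁ ⊔ W₂, x ∉ W₂ → g * x * g⁻¹ ∈ W₁ ⊔ W₂ → g ∈ W₁ ⊔ W₂ := by
    intro g x hx hx2 hy
    obtain ⟨k, hk, c, hc, rfl⟩ := h.exists_factor g
    obtain ⟨⟨a, b⟩, hab⟩ := e.surjective ⟨x, hx⟩
    have hxab : (a : L) * b = x := (he (a, b)).symm.trans (congrArg Subtype.val hab)
    have ha1 : (a : L) ≠ 1 := fun e1 => hx2 (by rw [← hxab, e1, one_mul]; exact b.2)
    have hcx : c * x * c⁻¹ = x := by rw [hcy c (le_sup_left (b := W₂) hc) x hx]; group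
    have hy' : k * x * k⁻¹ ∈ W₁ ⊔ W₂ := by
      have e1 : k * c * x * (k * c)⁻¹ = k * (c * x * c⁻¹) * k⁻¹ := by group
      rwa [e1, hcx] at hy
    obtain ⟨⟨a', b'⟩, hab'⟩ := e.surjective ⟨_, hy'⟩
    have hyab : (a' : L) * b' = k * x * k⁻¹ := (he (a', b')).symm.trans (congrArg Subtype.val hab')
    have hcom : k * (a : L) * k⁻¹ = a' := by
      have := congrArg (· ^ n) hyab
      simp only [conj_pow, ← hxab, hpow a a.2 b b.2, hpow a' a'.2 b' b'.2] at this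
      exact this.symm
    have haa : (a' : L) * (a : L)⁻¹ ∈ K ⊓ W₁ := by
      refine Subgroup.mem_inf.2 ⟨?_, W₁.mul_mem a'.2 (W₁.inv_mem a.2)⟩
      rw [← hcom, show k * (a : L) * k⁻¹ * (a : L)⁻¹ = k * ((a : L) * k⁻¹ * (a : L)⁻¹) by group]
      exact K.mul_mem hk (hK.conj_mem _ (K.inv_mem hk) _)
    rw [h.inf_eq, Subgroup.mem_bot, mul_inv_eq_one] at haa
    rw [haa, mul_inv_eq_iff_eq_mul] at hcom
    have hkW : k ∈ W₂ := by
      rw [← h.centralizer_eq a a.2 ha1, Subgroup.mem_inf, Subgroup.mem_centralizer_singleton_iff]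
      exact ⟨hk, hcom⟩
    exact Subgroup.mul_mem _ (le_sup_right (a := W₁) hkW) (le_sup_left (b := W₂) hc)
  refine ⟨⟨h.ne_bot₁, h.ne_bot₂, hdisj, hcomm, hcyc, fun X hX hne => ?_⟩, key⟩
  refine le_antisymm (fun g hg => ?_) fun g hg => ?_
  · obtain ⟨x, hx⟩ := hne
    have hgx := ((Subgroup.mem_set_normalizer_iff.1 hg x).1 hx)
    exact key g x (hX hx).1 (fun h2 => (hX hx).2 (Or.inr h2)) (hX hgx).1
  · refine Subgroup.mem_set_normalizer_iff.2 fun y => ⟨fun hy => ?_, fun hy => ?_⟩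
    · rw [hcy g hg y (hX hy).1, mul_assoc, mul_inv_cancel, mul_one]; exact hy
    · have : y = g⁻¹ * (g * y * g⁻¹) * g := by group
      rw [this, hcy g⁻¹ (inv_mem hg) _ (hX hy).1, mul_assoc (g * y * g⁻¹), inv_mul_cancel, mul_one]
      exact hy

theorem ti_sdiff [Finite L] : ∀ g : L, g ∉ W₁ ⊔ W₂ →
    ∀ t ∈ (↑(W₁ ⊔ W₂) : Set L) \ ↑W₂, g * t * g⁻¹ ∈ (↑(W₁ ⊔ W₂) : Set L) \ ↑W₂ → t = 1 :=
  fun g hg t ht hgt => absurd (h.selfNormalizing.2 g t ht.1 ht.2 hgt.1) hg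

variable [Fintype L] {χ : (↥(W₁ ⊔ W₂) →* ℂˣ) → L → ℂ}

/-- The induced difference of two linear characters agreeing on `W₂`. -/
theorem indFun_sub_eq (hχ : Cfsg.IsCyclicTIFamily W₁ W₂ χ) {ω ω' : ↥(W₁ ⊔ W₂) →* ℂˣ}
    (hω : ∀ w : ↥(W₁ ⊔ W₂), (w : L) ∈ W₂ → ω w = ω' w) :
    Cfsg.indFun (W₁ ⊔ W₂) (fun w => (ω w : ℂ) - (ω' w : ℂ)) = χ ω - χ ω' := by
  classical
  obtain ⟨hW, -⟩ := h.selfNormalizing
  obtain ⟨-, hn2, hdisj, hcomm, -, -⟩ := id hW
  have := Fintype.ofFinite ↥(W₁ ⊔ W₂)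
  obtain ⟨p₁, p₂, hp⟩ := exists_split hdisj hcomm
  have hψ : ω.comp p₂ = ω'.comp p₂ := MonoidHom.ext fun w => hω _ (hp.mem₂ w)
  by_cases hne : ω = ω'
  · subst hne
    simp only [sub_self]
    exact indFun_zero
  set φ := ω.comp p₁ with hφd
  set φ' := ω'.comp p₁ with hφ'd
  have hφ : TrivR φ := hp.comp₁_trivial ω
  have hφ' : TrivR φ' := hp.comp₁_trivial ω'
  have hφne : φ ≠ φ' := fun e => hne (by rw [← hp.hom_mul ω, ← hp.hom_mul ω', ← hφd, ← hφ'd, e, hψ])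
  have hindall : ∀ ψ, TrivL ψ → ∀ a, TrivR a → Cfsg.indFun (W₁ ⊔ W₂) (betaFun a ψ) =
      χ 1 - χ a - χ ψ + χ (a * ψ) := fun ψ hψ a ha => by
    by_cases h1 : a = 1
    · subst h1; rw [betaFun_one_left, indFun_zero, hom_one_mul']; abel
    by_cases h2 : ψ = 1
    · subst h2; rw [betaFun_one_right, indFun_zero, hom_mul_one']; abel
    rw [cyclicTI_induced hχ ha hψ h1 h2, hχ.map_one]; rfl
  set D := Cfsg.indFun (W₁ ⊔ W₂) (homFun φ - homFun φ') - (χ φ - χ φ') with hD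
  have hsplit : ∀ ψ, TrivL ψ →
      Cfsg.indFun (W₁ ⊔ W₂) (homFun (φ * ψ) - homFun (φ' * ψ)) = D + (χ (φ * ψ) - χ (φ' * ψ)) := by
    intro ψ hψ
    have e1 : homFun (φ * ψ) - homFun (φ' * ψ) =
        betaFun φ ψ - betaFun φ' ψ + (homFun φ - homFun φ') := by
      rw [betaFun_eq', betaFun_eq']; abel
    rw [e1, indFun_add, indFun_sub (betaFun φ ψ), hindall ψ hψ φ hφ, hindall ψ hψ φ' hφ', hD]
    abel
  have hDgen : Cfsg.IsGeneralizedCharacter L D := IsGeneralized.sub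
    (IsGeneralized.indFun (IsGeneralized.sub (IsCharacter.isGeneralized (isCharacter_ofHom φ))
      (IsCharacter.isGeneralized (isCharacter_ofHom φ'))))
    (IsGeneralized.sub (IsSignedIrr.isGeneralized (hχ.irr_or_neg φ))
      (IsSignedIrr.isGeneralized (hχ.irr_or_neg φ')))
  choose x hx using fun η =>
    IsGeneralized.exists_classInner_eq_int hDgen (IsSignedIrr.isGeneralized (hχ.irr_or_neg η))
  obtain ⟨N, hN⟩ := IsGeneralized.exists_classInner_eq_int hDgen hDgen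
  have := Fintype.ofFinite (↥(W₁ ⊔ W₂) →* ℂˣ)
  let B := {ψ : ↥(W₁ ⊔ W₂) →* ℂˣ // TrivL ψ}
  have hinj : ∀ {a b a' b' : ↥(W₁ ⊔ W₂) →* ℂˣ}, TrivR a → TrivR a' → TrivL b → TrivL b' →
      a * b = a' * b' → a = a' ∧ b = b' := fun ha ha' hb hb' he => hom_pair_ext ha hb ha' hb' he
  have hrel : ∀ ψ : B, 2 * (x (φ * ψ.1) - x (φ' * ψ.1)) = -N := by
    intro ψ
    have hne' : φ * ψ.1 ≠ φ' * ψ.1 := fun e => hφne (hinj hφ hφ' ψ.2 ψ.2 e).1
    have hvan : ∀ w : ↥(W₁ ⊔ W₂), (w : L) ∉ (↑(W₁ ⊔ W₂) : Set L) \ ↑W₂ →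
        (homFun (φ * ψ.1) - homFun (φ' * ψ.1)) w = 0 := fun w hw => by
      have hw2 : (w : L) ∈ W₂ := by
        by_contra hh; exact hw ⟨w.2, hh⟩
      simp [homFun, hφ w hw2, hφ' w hw2]
    have hnorm : Cfsg.classInner (Cfsg.indFun (W₁ ⊔ W₂) (homFun (φ * ψ.1) - homFun (φ' * ψ.1)))
        (Cfsg.indFun (W₁ ⊔ W₂) (homFun (φ * ψ.1) - homFun (φ' * ψ.1))) = 2 := by
      rw [classInner_indFun_TI h.ti_sdiff (fun g k => by
          rw [Pi.sub_apply, Pi.sub_apply, homFun_isClassFunction _ g k, homFun_isClassFunction _ g k])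
        hvan hvan (by simp [homFun]), classInner_sub_left, classInner_sub_right, classInner_sub_right,
        classInner_homFun, classInner_homFun, classInner_homFun, classInner_homFun, if_pos rfl,
        if_pos rfl, if_neg hne', if_neg (Ne.symm hne')]
      norm_num
    rw [hsplit ψ.1 ψ.2] at hnorm
    simp only [classInner_add_left, classInner_add_right, classInner_sub_left, classInner_sub_right,
      hN] at hnorm
    rw [← classInner_conj D (χ (φ * ψ.1)), ← classInner_conj D (χ (φ' * ψ.1))] at hnorm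
    simp only [hx, hχ.orthonormal, hne', Ne.symm hne', if_true, if_false,
      map_intCast] at hnorm
    have : ((2 * (x (φ * ψ.1) - x (φ' * ψ.1)) : ℤ) : ℂ) = ((-N : ℤ) : ℂ) := by
      push_cast; linear_combination hnorm
    exact_mod_cast this
  have hB : Fintype.card B = Nat.card W₂ := by
    rw [← Nat.card_eq_fintype_card]; exact (card_trivL hW).1
  let ψ₀ : B := ⟨1, trivL_one⟩
  set c := x (φ * ψ₀.1) - x (φ' * ψ₀.1) with hcdef
  have hcall : ∀ ψ : B, x (φ * ψ.1) - x (φ' * ψ.1) = c := fun ψ => by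
    have := hrel ψ; have := hrel ψ₀; omega
  have hcN : 2 * c = -N := hrel ψ₀
  have hbes : (∑ ψ : B, (x (φ * ψ.1) * x (φ * ψ.1) + x (φ' * ψ.1) * x (φ' * ψ.1)) : ℤ) ≤ N := by
    let S : Finset (↥(W₁ ⊔ W₂) →* ℂˣ) := (Finset.univ.image fun ψ : B => φ * ψ.1) ∪
      (Finset.univ.image fun ψ : B => φ' * ψ.1)
    have hS := bessel (S.image χ) (fun α hα β hβ => by
      obtain ⟨a, -, rfl⟩ := Finset.mem_image.1 hα
      obtain ⟨b, -, rfl⟩ := Finset.mem_image.1 hβ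
      rw [hχ.orthonormal]
      by_cases hab : a = b
      · subst hab; simp
      · rw [if_neg hab, if_neg]
        intro e
        have h1 := hχ.orthonormal a b
        rw [e, hχ.orthonormal, if_pos rfl, if_neg hab] at h1
        exact one_ne_zero h1) D
    have hinjχ : Set.InjOn χ ↑S := fun a _ b _ e => by
      by_contra hab
      have h1 := hχ.orthonormal a b
      rw [e, hχ.orthonormal, if_pos rfl, if_neg hab] at h1
      exact one_ne_zero h1
    rw [Finset.sum_image hinjχ, Finset.sum_congr rfl (fun η _ => norm_classInner_int (hx η)),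
      hN, Complex.intCast_re, ← Int.cast_sum, Int.cast_le] at hS
    refine le_trans (le_of_eq ?_) hS
    rw [Finset.sum_union, Finset.sum_image, Finset.sum_image, ← Finset.sum_add_distrib]
    · exact fun a _ b _ e => Subtype.ext (hinj hφ' hφ' a.2 b.2 e).2
    · exact fun a _ b _ e => Subtype.ext (hinj hφ hφ a.2 b.2 e).2
    · refine Finset.disjoint_left.2 fun η h1 h2 => ?_
      obtain ⟨a, -, rfl⟩ := Finset.mem_image.1 h1
      obtain ⟨b, -, he⟩ := Finset.mem_image.1 h2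
      exact hφne (hinj hφ' hφ b.2 a.2 he).1.symm
  have hW2 : 3 ≤ Nat.card W₂ := by
    have hodd := h.odd
    rw [card_sup_eq hdisj hcomm, Nat.odd_mul] at hodd
    exact three_le_card_of_odd hn2 hodd.2
  have hc0 : c = 0 := by
    have hle : ∀ ψ : B, c * c ≤ 2 * (x (φ * ψ.1) * x (φ * ψ.1) + x (φ' * ψ.1) * x (φ' * ψ.1)) :=
      fun ψ => by rw [← hcall ψ]; nlinarith [sq_nonneg (x (φ * ψ.1) + x (φ' * ψ.1))]
    have hsum := Finset.sum_le_sum fun ψ (_ : ψ ∈ (Finset.univ : Finset B)) => hle ψ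
    rw [Finset.sum_const, Finset.card_univ, hB, ← Finset.mul_sum, nsmul_eq_mul] at hsum
    have h3 : (3 : ℤ) * (c * c) ≤ (Nat.card W₂ : ℤ) * (c * c) :=
      mul_le_mul_of_nonneg_right (by exact_mod_cast hW2) (mul_self_nonneg c)
    have h4 : 3 * (c * c) ≤ -4 * c := by linarith
    have h5 : -2 < c := by nlinarith
    have h6 : c ≤ 0 := by nlinarith
    rcases (show c = -1 ∨ c = 0 by omega) with hc | hc
    · exfalso
      have hpos : ∀ ψ : B, 1 ≤ x (φ * ψ.1) * x (φ * ψ.1) + x (φ' * ψ.1) * x (φ' * ψ.1) := fun ψ => by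
        have := hle ψ; rw [hc] at this; omega
      have hs := Finset.sum_le_sum fun ψ (_ : ψ ∈ (Finset.univ : Finset B)) => hpos ψ
      rw [Finset.sum_const, Finset.card_univ, hB, nsmul_eq_mul, mul_one] at hs
      omega
    · exact hc
  have hN0 : N = 0 := by omega
  have hD0 : D = 0 := classInner_self_eq_zero (by rw [hN, hN0, Int.cast_zero])
  have := hsplit (ω.comp p₂) (hp.comp₂_trivial ω)
  rw [hD0, zero_add, hp.hom_mul] at this
  rw [hψ, hp.hom_mul] at this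
  exact this

theorem apply_eq (hχ : Cfsg.IsCyclicTIFamily W₁ W₂ χ) (ω : ↥(W₁ ⊔ W₂) →* ℂˣ)
    {w : ↥(W₁ ⊔ W₂)} (hw : (w : L) ∉ W₂) : χ ω w = (ω w : ℂ) := by
  classical
  obtain ⟨⟨-, -, hdisj, hcomm, hcyc, -⟩, -⟩ := h.selfNormalizing
  have := Fintype.ofFinite ↥(W₁ ⊔ W₂)
  let _ : CommGroup ↥(W₁ ⊔ W₂) := IsCyclic.commGroup
  obtain ⟨p₁, p₂, hp⟩ := exists_split hdisj hcomm
  refine sub_eq_zero.1 (eq_zero_of_orth_diff mul_comm hp
    (f := (fun x : ↥(W₁ ⊔ W₂) => χ ω x) - homFun ω) (fun η η' hη => ?_) hw)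
  rw [classInner_sub_right, ← classInner_indFun _
      (IsGeneralized.isClassFunction (IsSignedIrr.isGeneralized (hχ.irr_or_neg ω))),
    h.indFun_sub_eq hχ hη,
    show (fun w : ↥(W₁ ⊔ W₂) => (η w : ℂ) - (η' w : ℂ)) = homFun η - homFun η' from rfl,
    classInner_sub_left, classInner_sub_left, hχ.orthonormal, hχ.orthonormal, classInner_homFun,
    classInner_homFun]
  split_ifs <;> simp

theorem apply_eq_zero (hχ : Cfsg.IsCyclicTIFamily W₁ W₂ χ) {θ : L → ℂ}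
    (hθ : Cfsg.IsClassFunction L θ) (horth : ∀ ω, Cfsg.classInner (χ ω) θ = 0)
    {w : ↥(W₁ ⊔ W₂)} (hw : (w : L) ∉ W₂) : θ w = 0 := by
  obtain ⟨⟨-, -, hdisj, hcomm, hcyc, -⟩, -⟩ := h.selfNormalizing
  have := Fintype.ofFinite ↥(W₁ ⊔ W₂)
  let _ : CommGroup ↥(W₁ ⊔ W₂) := IsCyclic.commGroup
  obtain ⟨p₁, p₂, hp⟩ := exists_split hdisj hcomm
  refine eq_zero_of_orth_diff mul_comm hp (f := fun x : ↥(W₁ ⊔ W₂) => θ x) (fun η η' hη => ?_) hw
  rw [← classInner_indFun _ hθ, h.indFun_sub_eq hχ hη, classInner_sub_left, horth, horth, sub_zero]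

/-- An integral multiple: restriction to `W₁` of a generalized character constant off `1`. -/
theorem card_dvd_of_const {f : W₁ → ℂ} (hf : Cfsg.IsGeneralizedCharacter W₁ f)
    (hvan : ∀ w : W₁, w ≠ 1 → f w = 0) : ∃ n : ℤ, f 1 = n * (Nat.card W₁ : ℂ) := by
  classical
  have := Fintype.ofFinite W₁
  obtain ⟨n, hn⟩ := IsGeneralized.exists_classInner_eq_int hf isGeneralized_one
  refine ⟨n, ?_⟩
  rw [classInner_def, Finset.sum_eq_single 1 (fun w _ hw => by rw [hvan w hw, zero_mul])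
    (fun hh => absurd (Finset.mem_univ _) hh)] at hn
  simp only [map_one, mul_one] at hn
  rw [← hn, mul_comm (Nat.card W₁ : ℂ)⁻¹, mul_assoc,
    inv_mul_cancel₀ (by exact_mod_cast (Nat.card_pos (α := W₁)).ne'), mul_one]

/-- The irreducible characters `μ_ω` with their signs. -/
theorem exists_mu :
    ∃ (μ : (↥(W₁ ⊔ W₂) →* ℂˣ) → (L → ℂ)) (δ : (↥(W₁ ⊔ W₂) →* ℂˣ) → ℂ),
      Function.Injective μ ∧ (∀ ω, Cfsg.IsIrrCharacter L (μ ω)) ∧ (∀ ω, δ ω = 1 ∨ δ ω = -1) ∧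
      (∀ ω ω' : ↥(W₁ ⊔ W₂) →* ℂˣ, (∀ w : ↥(W₁ ⊔ W₂), (w : L) ∈ W₂ → ω w = ω' w) →
        δ ω = δ ω' ∧ Cfsg.indFun (W₁ ⊔ W₂) (fun w => (ω w : ℂ) - (ω' w : ℂ)) =
          δ ω • (μ ω - μ ω')) ∧
      (∀ ω, ∀ w : ↥(W₁ ⊔ W₂), (w : L) ∉ W₂ → μ ω w = δ ω * (ω w : ℂ)) ∧
      (∀ θ : L → ℂ, Cfsg.IsIrrCharacter L θ → (∀ ω, θ ≠ μ ω) →
        ∀ w : ↥(W₁ ⊔ W₂), (w : L) ∉ W₂ → θ w = 0) ∧
      (∀ ω, ∃ n : ℤ, μ ω 1 - δ ω = n * (Nat.card W₁ : ℂ)) := by
  classical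
  obtain ⟨hW, -⟩ := h.selfNormalizing
  obtain ⟨χ, hχ⟩ := exists_cyclicTIFamily hW h.odd
  let δ : (↥(W₁ ⊔ W₂) →* ℂˣ) → ℂ := fun ω => if Cfsg.IsIrrCharacter L (χ ω) then 1 else -1
  have hδ : ∀ ω, δ ω = 1 ∨ δ ω = -1 := fun ω => by
    simp only [δ]; split_ifs <;> simp
  have hδ2 : ∀ ω, δ ω * δ ω = 1 := fun ω => by rcases hδ ω with e | e <;> rw [e] <;> ring
  have hμ : ∀ ω, Cfsg.IsIrrCharacter L (δ ω • χ ω) := fun ω => by
    simp only [δ]
    split_ifs with hh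
    · rwa [one_smul]
    · rw [neg_one_smul]; exact (hχ.irr_or_neg ω).resolve_left hh
  refine ⟨fun ω => δ ω • χ ω, δ, fun ω ω' he => ?_, hμ, hδ, fun ω ω' hω => ?_, fun ω w hw => ?_,
    fun θ hθ hne w hw => ?_, fun ω => ?_⟩
  · by_contra hne
    simp only at he
    have h1 := IsIrrCharacter.classInner_self (hμ ω)
    conv_lhs at h1 => arg 2; rw [he]
    rw [classInner_smul_left, classInner_smul_right, hχ.orthonormal, if_neg hne] at h1
    simp at h1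
  · have hind := h.indFun_sub_eq hχ hω
    have h1 : χ ω 1 = χ ω' 1 := by
      have := congrFun hind 1
      rw [indFun_one, Pi.sub_apply] at this
      simp only [map_one, sub_self, mul_zero] at this
      exact sub_eq_zero.1 this.symm
    have hsame : δ ω = δ ω' := by
      obtain ⟨a, ha0, ha⟩ := IsIrrCharacter.exists_degree (hμ ω)
      obtain ⟨b, hb0, hb⟩ := IsIrrCharacter.exists_degree (hμ ω')
      rw [Pi.smul_apply, smul_eq_mul] at ha hb
      rcases hδ ω with e | e <;> rcases hδ ω' with e' | e' <;> rw [e, e'] <;> exfalso <;>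
        rw [e] at ha <;> rw [e'] at hb
      · have : ((a + b : ℕ) : ℂ) = 0 := by push_cast; linear_combination h1 - ha - hb
        rw [Nat.cast_eq_zero] at this; omega
      · have : ((a + b : ℕ) : ℂ) = 0 := by push_cast; linear_combination -h1 - ha - hb
        rw [Nat.cast_eq_zero] at this; omega
    refine ⟨hsame, ?_⟩
    beta_reduce
    rw [hind, ← hsame, ← smul_sub, smul_smul, hδ2, one_smul]
  · simp only [Pi.smul_apply, smul_eq_mul]
    rw [h.apply_eq hχ ω hw]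
  · refine h.apply_eq_zero hχ (IsIrrCharacter.isClassFunction hθ) (fun ω => ?_) hw
    have hz := IsIrrCharacter.classInner_of_ne (hμ ω) hθ (Ne.symm (hne ω))
    rw [classInner_smul_left] at hz
    exact (mul_eq_zero.1 hz).resolve_left (by rcases hδ ω with e | e <;> rw [e] <;> norm_num)
  · let f : W₁ → ℂ := (fun w : W₁ => χ ω w) -
      fun w : W₁ => (ω (Subgroup.inclusion le_sup_left w) : ℂ)
    have hf : Cfsg.IsGeneralizedCharacter W₁ f := IsGeneralized.sub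
      (IsGeneralized.restrict (IsSignedIrr.isGeneralized (hχ.irr_or_neg ω)) W₁)
      (IsCharacter.isGeneralized (isCharacter_ofHom (ω.comp (Subgroup.inclusion le_sup_left))))
    obtain ⟨n, hn⟩ := h.card_dvd_of_const hf fun w hw => by
      have hw2 : (w : L) ∉ W₂ := fun hh => hw (Subtype.ext (by
        have hm : (w : L) ∈ W₁ ⊓ W₂ := Subgroup.mem_inf.2 ⟨w.2, hh⟩
        rwa [h.disjoint₁₂, Subgroup.mem_bot] at hm))
      exact sub_eq_zero.2 (h.apply_eq hχ ω (w := ⟨w, le_sup_left (b := W₂) w.2⟩) hw2)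
    have hn' : χ ω 1 - 1 = n * (Nat.card W₁ : ℂ) := by
      rw [← hn]; simp [f]
    rcases hδ ω with e | e
    · exact ⟨n, by simp only [Pi.smul_apply, e, one_smul]; exact hn'⟩
    · exact ⟨-n, by simp only [Pi.smul_apply, e, Int.cast_neg, smul_eq_mul]; linear_combination -hn'⟩

end IsPrimeAction

end CfsgLib.Char
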