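import Cfsg.Agent.Char.CyclicSemi
import Cfsg.Agent.Char.BrauerPerm

/-!
# The invariant irreducible characters of `K` in a prime action `L = K W₁`
-/

namespace CfsgLib.Char

open scoped ComplexConjugate

universe u

variable {L : Type u} [Group L] [Fintype L] {K W₁ W₂ : Subgroup L} [hK : K.Normal]

namespace IsPrimeAction

variable (h : IsPrimeAction K W₁ W₂)
include h

theorem card_fixed_irr_le {y : L} (hy : y ∈ W₁) (hy1 : y ≠ 1) :
    Nat.card {θ : Cfsg.IrrCharacter K // conjOn y (θ : K → ℂ) = θ} ≤ Nat.card W₂ := by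
  have hcop : Nat.Coprime (orderOf y) (Nat.card K) := by
    refine h.coprime.coprime_dvd_left ?_
    rw [show y = ((⟨y, hy⟩ : W₁) : L) from rfl, Subgroup.orderOf_coe]
    exact orderOf_dvd_natCard _
  refine le_trans (le_of_eq ?_)
    (card_fixed_class_le hcop (h.centralizer_eq y hy hy1).le)
  rw [card_fixed_irr_aut (MulAut.conjNormal y : K ≃* K)]
  exact Nat.card_congr (Equiv.subtypeEquivRight fun θ => by rw [conjOn_eq_comp]; rfl)

theorem fixed_class_iff {y z : L} (hy : y ∈ W₁) (hy1 : y ≠ 1) (hz : z ∈ W₁)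
    (C : ConjClasses K)
    (hC : ConjClasses.map (MulEquiv.toMonoidHom ((MulAut.conjNormal y : MulAut K))) C = C) :
    ConjClasses.map (MulEquiv.toMonoidHom ((MulAut.conjNormal z : MulAut K))) C = C := by
  obtain ⟨n, rfl⟩ := ConjClasses.mk_surjective C
  have hcop : Nat.Coprime (orderOf y) (Nat.card K) := by
    refine h.coprime.coprime_dvd_left ?_
    rw [show y = ((⟨y, hy⟩ : W₁) : L) from rfl, Subgroup.orderOf_coe]
    exact orderOf_dvd_natCard _
  obtain ⟨n', hn', hc⟩ := exists_conj_commute_of_fixed hcop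
    (ConjClasses.mk_eq_mk_iff_isConj.1 hC).symm
  have hn2 : (n' : L) ∈ W₂ := by
    rw [← h.centralizer_eq y hy hy1]
    exact Subgroup.mem_inf.2 ⟨n'.2, Subgroup.mem_centralizer_singleton_iff.2 hc.symm⟩
  rw [ConjClasses.mk_eq_mk_iff_isConj.2 hn']
  change ConjClasses.mk ((MulAut.conjNormal z : MulAut K) n') = _
  congr 1
  apply Subtype.ext
  rw [MulAut.conjNormal_apply, h.commute hz hn2]
  group

/-- A character fixed by a nontrivial element of `W₁` is fixed by all of them. -/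
theorem fixed_all {θ : K → ℂ} (hθ : Cfsg.IsIrrCharacter K θ) {c : L} (hc : c ∈ W₁) (hc1 : c ≠ 1)
    (hfix : conjOn c θ = θ) {x : L} (hx : x ∈ W₁) : conjOn x θ = θ := by
  classical
  have hKfin : Finite (Cfsg.IrrCharacter K) := Set.finite_coe_iff.2
    (Set.finite_coe_iff.1 (finite_irrCharacter K))
  obtain ⟨⟨a, ha⟩, hgen⟩ := h.cyclic₁.exists_generator
  have ha1 : a ≠ 1 := fun e => h.ne_bot₁ (eq_bot_iff.2 fun y hy => by
    obtain ⟨k, hk⟩ := Subgroup.mem_zpowers_iff.1 (hgen ⟨y, hy⟩)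
    have := congrArg Subtype.val hk
    simp [e] at this
    simp [← this])
  have hsub : ∀ {y : L}, y ∈ W₁ → ∀ {η : K → ℂ}, conjOn a η = η → conjOn y η = η := by
    intro y hy η hη
    obtain ⟨k, hk⟩ := Subgroup.mem_zpowers_iff.1 (hgen ⟨y, hy⟩)
    have := congrArg Subtype.val hk
    change a ^ k = y at this
    rw [← mem_inertia, ← this]
    exact (inertia η).zpow_mem hη k
  have hcard : ∀ y : L, Nat.card {η : Cfsg.IrrCharacter K // conjOn y (η : K → ℂ) = η} =
      Nat.card {C : ConjClasses K //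
        ConjClasses.map (MulEquiv.toMonoidHom ((MulAut.conjNormal y : MulAut K))) C = C} :=
    fun y => by
      rw [card_fixed_irr_aut (MulAut.conjNormal y : K ≃* K)]
      exact Nat.card_congr (Equiv.subtypeEquivRight fun θ => by rw [conjOn_eq_comp]; rfl)
  let F : {η : Cfsg.IrrCharacter K // conjOn a (η : K → ℂ) = η} →
      {η : Cfsg.IrrCharacter K // conjOn c (η : K → ℂ) = η} := fun η => ⟨η.1, hsub hc η.2⟩
  have hF : Function.Bijective F := by
    refine (Nat.bijective_iff_injective_and_card F).2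
      ⟨fun η η' e => Subtype.ext (Subtype.mk.inj e), ?_⟩
    rw [hcard, hcard]
    exact Nat.card_congr (Equiv.subtypeEquivRight fun C =>
      ⟨h.fixed_class_iff ha ha1 hc C, h.fixed_class_iff hc hc1 ha C⟩)
  obtain ⟨η, hη⟩ := hF.2 ⟨⟨θ, hθ⟩, hfix⟩
  have e : (η.1 : K → ℂ) = θ := congrArg Subtype.val (congrArg Subtype.val hη)
  exact hsub hx (e ▸ η.2)

/-- The inertia group of a moved character is `K`. -/
theorem inertia_le_of_moved {θ : K → ℂ} (hθ : Cfsg.IsIrrCharacter K θ)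
    (hex : ∃ x ∈ W₁, conjOn x θ ≠ θ) : inertia θ ≤ K := by
  intro g hg
  obtain ⟨k, hk, c, hc, rfl⟩ := h.exists_factor g
  have hc' : c ∈ inertia θ := by
    simpa using (inertia θ).mul_mem
      ((inertia θ).inv_mem (le_inertia (IsIrrCharacter.isClassFunction hθ) hk)) hg
  by_cases hc1 : c = 1
  · rw [hc1, mul_one]; exact hk
  obtain ⟨x, hx, hne⟩ := hex
  exact absurd (h.fixed_all hθ hc hc1 hc' hx) hne

/-- The invariant characters: their number and the decomposition of what they induce. -/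
theorem invariant_chars :
    (∀ θ : K → ℂ, Cfsg.IsIrrCharacter K θ → (∃ x ∈ W₁, conjOn x θ ≠ θ) →
      Cfsg.IsIrrCharacter L (Cfsg.indFun K θ)) ∧
    Nat.card {θ : Cfsg.IrrCharacter K // ∀ x ∈ W₁, conjOn x (θ : K → ℂ) = θ} = Nat.card W₂ ∧
    (∀ θ : K → ℂ, Cfsg.IsIrrCharacter K θ → (∀ x ∈ W₁, conjOn x θ = θ) →
      ∃ C : Finset (L → ℂ), C.card = Nat.card W₁ ∧ (∀ μ ∈ C, Cfsg.IsIrrCharacter L μ) ∧
        Cfsg.indFun K θ = ∑ μ ∈ C, μ) := by
  classical
  have := Fintype.ofFinite K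
  have := Fintype.ofFinite (↥(W₁ ⊔ W₂) →* ℂˣ)
  have hKfin : Finite (Cfsg.IrrCharacter K) := Set.finite_coe_iff.2
    (Set.finite_coe_iff.1 (finite_irrCharacter K))
  let Fix := {θ : Cfsg.IrrCharacter K // ∀ x ∈ W₁, conjOn x (θ : K → ℂ) = θ}
  have := Fintype.ofFinite Fix
  obtain ⟨⟨-, -, hdisj, hcomm, hcyc, -⟩, -⟩ := h.selfNormalizing
  let _ : CommGroup ↥(W₁ ⊔ W₂) := IsCyclic.commGroup
  obtain ⟨μ, δ, hμinj, hμirr, hδ, -, hμval, -, -⟩ := h.exists_mu
  obtain ⟨a, ha, ha1⟩ := (Subgroup.bot_or_exists_ne_one W₁).resolve_left h.ne_bot₁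
  have hnW₁ : Nat.card L = Nat.card K * Nat.card W₁ := h.isComplement.card_mul_card.symm
  have hnorm : ∀ θ : Fix, Cfsg.classInner (Cfsg.indFun K (θ.1 : K → ℂ))
      (Cfsg.indFun K (θ.1 : K → ℂ)) = (Nat.card W₁ : ℂ) := fun θ => by
    rw [classInner_indFun_self θ.1.2, show inertia (θ.1 : K → ℂ) = ⊤ by
      rw [eq_top_iff, ← h.sup_eq]
      exact sup_le (le_inertia (IsIrrCharacter.isClassFunction θ.1.2)) fun x hx => θ.2 x hx,
      Subgroup.card_top, hnW₁, Nat.cast_mul,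
      mul_div_cancel_left₀ _ (by exact_mod_cast (Nat.card_pos (α := K)).ne')]
  let C : Fix → Finset (L → ℂ) := fun θ => (irrFinset L).filter fun ξ =>
    Cfsg.classInner (Cfsg.indFun K (θ.1 : K → ℂ)) ξ ≠ 0
  choose e he using fun (θ : Fix) (ξ : {ξ // ξ ∈ irrFinset L}) =>
    IsCharacter.exists_classInner_eq_natCast (IsCharacter.indFun (G := L)
      (IsIrrCharacter.isCharacter θ.1.2)) (mem_irrFinset.1 ξ.2)
  let E : Fix → (L → ℂ) → ℕ := fun θ ξ => if hx : ξ ∈ irrFinset L then e θ ⟨ξ, hx⟩ else 0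
  have hE : ∀ θ : Fix, ∀ ξ ∈ irrFinset L,
      Cfsg.classInner (Cfsg.indFun K (θ.1 : K → ℂ)) ξ = (E θ ξ : ℂ) := fun θ ξ hξ => by
    simp only [E, dif_pos hξ]; exact he θ ⟨ξ, hξ⟩
  have hsq : ∀ θ : Fix, ∑ ξ ∈ C θ, E θ ξ * E θ ξ = Nat.card W₁ := fun θ => by
    have h1 := classInner_eq_sum_irr
      (IsCharacter.isClassFunction (IsCharacter.indFun (G := L) (IsIrrCharacter.isCharacter θ.1.2)))
      (Cfsg.indFun K (θ.1 : K → ℂ))
    rw [hnorm θ] at h1
    have h2 : ((∑ ξ ∈ C θ, E θ ξ * E θ ξ : ℕ) : ℂ) = (Nat.card W₁ : ℂ) := by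
      rw [h1, Nat.cast_sum]
      refine Finset.sum_subset_zero_on_sdiff (Finset.filter_subset _ _) (fun ξ hξ => ?_) fun ξ hξ => ?_
      · obtain ⟨hξ1, hξ2⟩ := Finset.mem_sdiff.1 hξ
        have : Cfsg.classInner (Cfsg.indFun K (θ.1 : K → ℂ)) ξ = 0 := by
          by_contra hne; exact hξ2 (Finset.mem_filter.2 ⟨hξ1, hne⟩)
        rw [this, zero_mul]
      · rw [Nat.cast_mul, hE θ ξ (Finset.mem_filter.1 hξ).1, Complex.conj_natCast]
    exact_mod_cast h2
  have hpos : ∀ θ : Fix, ∀ ξ ∈ C θ, 1 ≤ E θ ξ * E θ ξ := fun θ ξ hξ => by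
    obtain ⟨h1, h2⟩ := Finset.mem_filter.1 hξ
    rw [hE θ ξ h1, Nat.cast_ne_zero] at h2
    exact Nat.one_le_iff_ne_zero.2 (mul_ne_zero h2 h2)
  have hCle : ∀ θ : Fix, (C θ).card ≤ Nat.card W₁ := fun θ => by
    rw [← hsq θ, Finset.card_eq_sum_ones]
    exact Finset.sum_le_sum (hpos θ)
  have hFixle : Fintype.card Fix ≤ Nat.card W₂ := by
    rw [← Nat.card_eq_fintype_card]
    let F : Fix → {η : Cfsg.IrrCharacter K // conjOn a (η : K → ℂ) = η} := fun η =>
      ⟨η.1, η.2 a ha⟩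
    exact (Nat.card_le_card_of_injective F fun η η' e =>
      Subtype.ext (Subtype.mk.inj e)).trans (h.card_fixed_irr_le ha ha1)
  have hover : ∀ ω, ∃ θ : Fix, μ ω ∈ C θ := fun ω => by
    obtain ⟨θ, hθ, hne⟩ := exists_constituent_restrict (N := K) (hμirr ω)
    have hne' : Cfsg.classInner (Cfsg.indFun K θ) (μ ω) ≠ 0 := by
      rw [classInner_indFun θ (IsIrrCharacter.isClassFunction (hμirr ω)), ← classInner_conj,
        map_ne_zero]
      exact hne
    by_cases hfix : ∀ x ∈ W₁, conjOn x θ = θ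
    · exact ⟨⟨⟨θ, hθ⟩, hfix⟩, Finset.mem_filter.2 ⟨mem_irrFinset.2 (hμirr ω), hne'⟩⟩
    · exfalso
      push Not at hfix
      have hind := isIrrCharacter_indFun_of_inertia_le hθ (h.inertia_le_of_moved hθ hfix)
      have heq : Cfsg.indFun K θ = μ ω := by
        by_contra hh
        exact hne' (IsIrrCharacter.classInner_of_ne hind (hμirr ω) hh)
      have haK : a ∉ K := fun hm => ha1 (by
        have hmem : a ∈ K ⊓ W₁ := Subgroup.mem_inf.2 ⟨hm, ha⟩
        rwa [h.inf_eq, Subgroup.mem_bot] at hmem)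
      have h0 := hμval ω ⟨a, le_sup_left (b := W₂) ha⟩ fun hm => haK (h.le hm)
      rw [← heq, indFun_eq_zero_of_normal θ haK] at h0
      rcases hδ ω with e1 | e1 <;> rw [e1] at h0
      · rw [one_mul] at h0; exact Units.ne_zero _ h0.symm
      · rw [neg_one_mul, zero_eq_neg] at h0; exact Units.ne_zero _ h0
  choose t ht using hover
  have hcardHom : Fintype.card (↥(W₁ ⊔ W₂) →* ℂˣ) = Nat.card W₁ * Nat.card W₂ := by
    have hbot : commutator ↥(W₁ ⊔ W₂) = ⊥ := by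
      rw [commutator_def, Subgroup.commutator_eq_bot_iff_le_centralizer]
      intro x _
      rw [Subgroup.mem_centralizer_iff]
      exact fun y _ => mul_comm y x
    rw [← Nat.card_eq_fintype_card, card_hom_eq_index_commutator, hbot, Subgroup.index_bot,
      card_sup_eq hdisj hcomm]
  have hbig : Nat.card W₁ * Nat.card W₂ ≤ ∑ θ : Fix, (C θ).card := by
    rw [← hcardHom, ← Finset.card_univ, ← Finset.card_sigma]
    refine Finset.card_le_card_of_injOn (fun ω => ⟨t ω, μ ω⟩)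
      (fun ω _ => Finset.mem_sigma.2 ⟨Finset.mem_univ _, ht ω⟩) fun ω _ ω' _ he' => hμinj ?_
    exact congrArg (fun z : (_ : Fix) × (L → ℂ) => z.2) he'
  have hsum_le : ∑ θ : Fix, (C θ).card ≤ Fintype.card Fix * Nat.card W₁ :=
    (Finset.sum_le_sum fun θ _ => hCle θ).trans (by simp)
  have hFix : Fintype.card Fix = Nat.card W₂ := by
    refine le_antisymm hFixle (Nat.le_of_mul_le_mul_right ?_ (Nat.card_pos (α := W₁)))
    rw [mul_comm]; exact hbig.trans hsum_le
  have hCeq : ∀ θ : Fix, (C θ).card = Nat.card W₁ := by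
    have hs : ∑ θ : Fix, (C θ).card = ∑ _θ : Fix, Nat.card W₁ := by
      refine le_antisymm (Finset.sum_le_sum fun θ _ => hCle θ) ?_
      rw [Finset.sum_const, Finset.card_univ, smul_eq_mul, hFix, mul_comm]
      exact hbig
    exact fun θ => (Finset.sum_eq_sum_iff_of_le fun θ _ => hCle θ).1 hs θ (Finset.mem_univ θ)
  refine ⟨fun θ hθ hex => isIrrCharacter_indFun_of_inertia_le hθ (h.inertia_le_of_moved hθ hex),
    by rw [← hFix, ← Nat.card_eq_fintype_card], fun θ hθ hfix => ?_⟩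
  let θ' : Fix := ⟨⟨θ, hθ⟩, hfix⟩
  refine ⟨C θ', hCeq θ', fun ξ hξ => mem_irrFinset.1 (Finset.mem_filter.1 hξ).1, ?_⟩
  have hone : ∀ ξ ∈ C θ', E θ' ξ * E θ' ξ = 1 := by
    have hs : ∑ ξ ∈ C θ', 1 = ∑ ξ ∈ C θ', E θ' ξ * E θ' ξ := by
      rw [hsq θ', ← Finset.card_eq_sum_ones, hCeq θ']
    exact fun ξ hξ => ((Finset.sum_eq_sum_iff_of_le (hpos θ')).1 hs ξ hξ).symm
  conv_lhs =>
    rw [eq_sum_irr (IsCharacter.isClassFunction (IsCharacter.indFun (G := L)
      (IsIrrCharacter.isCharacter hθ)))]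
  rw [← Finset.sum_subset (Finset.filter_subset _ _ : C θ' ⊆ irrFinset L) fun ξ hξ hn => by
    have : Cfsg.classInner (Cfsg.indFun K θ) ξ = 0 := by
      by_contra hne; exact hn (Finset.mem_filter.2 ⟨hξ, hne⟩)
    rw [this, zero_smul]]
  refine Finset.sum_congr rfl fun ξ hξ => ?_
  rw [show Cfsg.classInner (Cfsg.indFun K θ) ξ = (E θ' ξ : ℂ) from
    hE θ' ξ (Finset.mem_filter.1 hξ).1, Nat.eq_one_of_mul_eq_one_left (hone ξ hξ), Nat.cast_one,
    one_smul]

end IsPrimeAction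

end CfsgLib.Char
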