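import Cfsg.Agent.Char.Signed
import Cfsg.Agent.Char.Induction
import Cfsg.Prelude.Def_OddOrderLocal

/-!
# The functions `(1 - φ)(1 - ψ)` on a direct product `W = W₁ W₂`
-/

namespace CfsgLib.Char

open scoped ComplexConjugate

universe u

variable {G : Type u} [Group G] {W₁ W₂ : Subgroup G}

/-- The function `(1 - φ)(1 - ψ)`. -/
noncomputable def betaFun (φ ψ : ↥(W₁ ⊔ W₂) →* ℂˣ) : ↥(W₁ ⊔ W₂) → ℂ :=
  fun w => 1 - (φ w : ℂ) - (ψ w : ℂ) + (φ w : ℂ) * (ψ w : ℂ)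

theorem betaFun_eq (φ ψ : ↥(W₁ ⊔ W₂) →* ℂˣ) : betaFun φ ψ =
    (fun _ => (1 : ℂ)) - (fun w => (φ w : ℂ)) - (fun w => (ψ w : ℂ)) +
      fun w => ((φ * ψ) w : ℂ) := by
  funext w
  simp [betaFun]

theorem betaFun_eq_zero {φ ψ : ↥(W₁ ⊔ W₂) →* ℂˣ}
    (hφ : ∀ w : ↥(W₁ ⊔ W₂), (w : G) ∈ W₂ → φ w = 1)
    (hψ : ∀ w : ↥(W₁ ⊔ W₂), (w : G) ∈ W₁ → ψ w = 1) (w : ↥(W₁ ⊔ W₂))
    (hw : (w : G) ∈ W₁ ∨ (w : G) ∈ W₂) : betaFun φ ψ w = 0 := by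
  rcases hw with hw | hw
  · simp [betaFun, hψ w hw]
  · simp [betaFun, hφ w hw]

theorem hom_ext_sup {φ φ' : ↥(W₁ ⊔ W₂) →* ℂˣ}
    (h1 : ∀ w : ↥(W₁ ⊔ W₂), (w : G) ∈ W₁ → φ w = φ' w)
    (h2 : ∀ w : ↥(W₁ ⊔ W₂), (w : G) ∈ W₂ → φ w = φ' w) : φ = φ' := by
  ext ⟨x, hx⟩
  congr 1
  have hx' : x ∈ Subgroup.closure ((W₁ : Set G) ∪ W₂) := by
    rw [Subgroup.closure_union, Subgroup.closure_eq, Subgroup.closure_eq]; exact hx
  induction hx' using Subgroup.closure_induction with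
  | mem y hy => rcases hy with hy | hy; exacts [h1 _ hy, h2 _ hy]
  | one => exact (map_one φ).trans (map_one φ').symm
  | mul a b ha hb iha ihb =>
    rw [Subgroup.closure_union, Subgroup.closure_eq, Subgroup.closure_eq] at ha hb
    rw [show (⟨a * b, hx⟩ : ↥(W₁ ⊔ W₂)) = ⟨a, ha⟩ * ⟨b, hb⟩ from rfl, map_mul, map_mul, iha ha,
      ihb hb]
  | inv a ha iha =>
    rw [Subgroup.closure_union, Subgroup.closure_eq, Subgroup.closure_eq] at ha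
    rw [show (⟨a⁻¹, hx⟩ : ↥(W₁ ⊔ W₂)) = ⟨a, ha⟩⁻¹ from rfl, map_inv, map_inv, iha ha]

theorem hom_pair_ext {φ φ' ψ ψ' : ↥(W₁ ⊔ W₂) →* ℂˣ}
    (hφ : ∀ w : ↥(W₁ ⊔ W₂), (w : G) ∈ W₂ → φ w = 1)
    (hψ : ∀ w : ↥(W₁ ⊔ W₂), (w : G) ∈ W₁ → ψ w = 1)
    (hφ' : ∀ w : ↥(W₁ ⊔ W₂), (w : G) ∈ W₂ → φ' w = 1)
    (hψ' : ∀ w : ↥(W₁ ⊔ W₂), (w : G) ∈ W₁ → ψ' w = 1) (h : φ * ψ = φ' * ψ') :
    φ = φ' ∧ ψ = ψ' := by
  have hw : ∀ w, φ w * ψ w = φ' w * ψ' w := fun w => DFunLike.congr_fun h w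
  constructor
  · refine hom_ext_sup (fun w hw' => ?_) fun w hw' => by rw [hφ w hw', hφ' w hw']
    simpa [hψ w hw', hψ' w hw'] using hw w
  · refine hom_ext_sup (fun w hw' => by rw [hψ w hw', hψ' w hw']) fun w hw' => ?_
    simpa [hφ w hw', hφ' w hw'] using hw w

theorem linearIndependent_betaFun [Finite G] :
    LinearIndependent ℂ (fun p : {p : (↥(W₁ ⊔ W₂) →* ℂˣ) × (↥(W₁ ⊔ W₂) →* ℂˣ) //
      p.1 ≠ 1 ∧ p.2 ≠ 1 ∧ (∀ w : ↥(W₁ ⊔ W₂), (w : G) ∈ W₂ → p.1 w = 1) ∧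
      (∀ w : ↥(W₁ ⊔ W₂), (w : G) ∈ W₁ → p.2 w = 1)} => betaFun p.1.1 p.1.2) := by
  classical
  have := Fintype.ofFinite ↥(W₁ ⊔ W₂)
  rw [linearIndependent_iff']
  intro s c hc q hq
  have hone : ∀ v : ↥(W₁ ⊔ W₂), (v : G) ∈ W₂ → (1 : ↥(W₁ ⊔ W₂) →* ℂˣ) v = 1 := fun v _ => rfl
  have hone' : ∀ v : ↥(W₁ ⊔ W₂), (v : G) ∈ W₁ → (1 : ↥(W₁ ⊔ W₂) →* ℂˣ) v = 1 := fun v _ => rfl
  have hom_one_mul : ∀ a : ↥(W₁ ⊔ W₂) →* ℂˣ, 1 * a = a := fun a => MonoidHom.ext fun w =>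
    one_mul (a w)
  have hom_mul_one : ∀ a : ↥(W₁ ⊔ W₂) →* ℂˣ, a * 1 = a := fun a => MonoidHom.ext fun w =>
    mul_one (a w)
  have key : ∀ a : ↥(W₁ ⊔ W₂) →* ℂˣ, a ≠ q.1.1 * q.1.2 →
      Cfsg.classInner (fun w => (a w : ℂ)) (fun w => ((q.1.1 * q.1.2) w : ℂ)) = 0 := fun a ha =>
    IsIrrCharacter.classInner_of_ne (isIrrCharacter_ofHom a) (isIrrCharacter_ofHom _)
      fun h => ha (MonoidHom.ext fun w => Units.ext (congrFun h w))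
  have h1 := congrArg (fun f => Cfsg.classInner f (fun w => ((q.1.1 * q.1.2) w : ℂ))) hc
  simp only [classInner_sum_left, classInner_zero_left, classInner_smul_left] at h1
  rw [Finset.sum_eq_single q] at h1
  · have hq2 := q.2
    rw [betaFun_eq, classInner_add_left, classInner_sub_left, classInner_sub_left,
      key q.1.1 (fun h => hq2.2.1 ?_), key q.1.2 (fun h => hq2.1 ?_),
      IsIrrCharacter.classInner_self (isIrrCharacter_ofHom _)] at h1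
    · have h0 := key 1 fun h => hq2.1 (hom_pair_ext hq2.2.2.1 hq2.2.2.2 hone hone'
        (h.symm.trans (hom_one_mul 1).symm)).1
      simp only [MonoidHom.one_apply, Units.val_one] at h0
      rw [h0] at h1
      simpa using h1
    · exact (hom_pair_ext hone hq2.2.2.2 hq2.2.2.1 hq2.2.2.2 ((hom_one_mul _).trans h)).1.symm
    · exact (hom_pair_ext hq2.2.2.1 hone' hq2.2.2.1 hq2.2.2.2 ((hom_mul_one _).trans h)).2.symm
  · intro p _ hp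
    rw [betaFun_eq, classInner_add_left, classInner_sub_left, classInner_sub_left,
      key p.1.1 (fun h => q.2.2.1 ?_), key p.1.2 (fun h => q.2.1 ?_),
      key (p.1.1 * p.1.2) (fun h => hp (Subtype.ext (Prod.ext
        (hom_pair_ext p.2.2.2.1 p.2.2.2.2 q.2.2.2.1 q.2.2.2.2 h).1
        (hom_pair_ext p.2.2.2.1 p.2.2.2.2 q.2.2.2.1 q.2.2.2.2 h).2)))]
    · have h0 := key 1 fun h => q.2.1 (hom_pair_ext q.2.2.2.1 q.2.2.2.2 hone hone'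
        (h.symm.trans (hom_one_mul 1).symm)).1
      simp only [MonoidHom.one_apply, Units.val_one] at h0
      rw [h0]; simp
    · exact (hom_pair_ext q.2.2.2.1 q.2.2.2.2 hone p.2.2.2.2 (h.symm.trans (hom_one_mul _).symm)).1
    · exact (hom_pair_ext q.2.2.2.1 q.2.2.2.2 p.2.2.2.1 hone' (h.symm.trans (hom_mul_one _).symm)).2
  · exact fun h => absurd hq h

end CfsgLib.Char
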