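import Cfsg.Agent.Char.DadeMap
import Mathlib.Data.Set.Card

/-!
# The Dade map sends generalized characters to generalized characters

Inclusion–exclusion over the nonempty subsets `B` of `A`: the Dade image of `α` is the alternating sum over
the `L`-classes of such `B` of functions induced from `M(B) = H(B) ⋊ N_L(B)`.
-/

namespace CfsgLib.Char

open scoped ComplexConjugate

universe u

variable {G : Type u} [Group G] [Finite G] {A : Set G} {L : Subgroup G} {H : G → Subgroup G}

/-- `y g y⁻¹ a⁻¹ ∈ K`, counted with weight `1 / |K|`. -/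
noncomputable def cosetCount (K : Subgroup G) (a g : G) : ℂ :=
  (Nat.card {y : G // y * g * y⁻¹ * a⁻¹ ∈ K} : ℂ) / Nat.card K

theorem cosetCount_centralizer (K : Subgroup G) (a g : G) (ha : ∀ h ∈ K, a * h * a⁻¹ ∈ K)
    (hcop : Nat.Coprime (orderOf a) (Nat.card K)) :
    cosetCount K a g = cosetCount (K ⊓ Subgroup.centralizer ({a} : Set G)) a g := by
  classical
  set C := K ⊓ Subgroup.centralizer ({a} : Set G) with hC
  have hdec : ∀ y : {y : G // y * g * y⁻¹ * a⁻¹ ∈ K},
      ∃ k : G, k ∈ K ∧ k⁻¹ * y.1 * g * (k⁻¹ * y.1)⁻¹ * a⁻¹ ∈ C := by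
    rintro ⟨y, hy⟩
    obtain ⟨x, hx, c, hc, hca, hxc⟩ := exists_conj_mem_centralizer_mul K a ha hcop _ hy
    refine ⟨x⁻¹, K.inv_mem hx, ?_⟩
    rw [inv_mul_cancel_right] at hxc
    rw [inv_inv, show x * y * g * (x * y)⁻¹ = x * (y * g * y⁻¹) * x⁻¹ by group, hxc,
      mul_inv_cancel_right]
    exact ⟨hc, Subgroup.mem_centralizer_singleton_iff.2 hca⟩
  choose k hk hkC using hdec
  have huniq : ∀ (h : G), h ∈ K → ∀ z : G, z * g * z⁻¹ * a⁻¹ ∈ C →
      h * z * g * (h * z)⁻¹ * a⁻¹ ∈ C → h ∈ C := by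
    intro h hh z hz hhz
    obtain ⟨e, he, he'⟩ := exists_pow_eq_self_and_one hcop
    have hp : ∀ w : G, w * a⁻¹ ∈ C → w ^ e = a := fun w hw => by
      have hc : Commute (w * a⁻¹) a := Subgroup.mem_centralizer_singleton_iff.1 hw.2
      have h1 := hc.mul_pow e
      rw [inv_mul_cancel_right, he, he' _ hw.1, one_mul] at h1
      exact h1
    refine ⟨hh, Subgroup.mem_centralizer_singleton_iff.2 ?_⟩
    have h1 := hp _ hz
    have h2 := hp _ hhz
    rw [show h * z * g * (h * z)⁻¹ = h * (z * g * z⁻¹) * h⁻¹ by group, conj_pow, h1] at h2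
    calc h * a = h * a * h⁻¹ * h := by group
      _ = a * h := by rw [h2]
  have hCK : C ≤ K := inf_le_left
  let e : K × {z : G // z * g * z⁻¹ * a⁻¹ ∈ C} ≃ C × {y : G // y * g * y⁻¹ * a⁻¹ ∈ K} :=
    { toFun := fun p => by
        have hy : (p.1 : G) * p.2.1 * g * ((p.1 : G) * p.2.1)⁻¹ * a⁻¹ ∈ K := by
          have h1 := K.mul_mem p.1.2 (K.mul_mem (hCK p.2.2) (ha _ (K.inv_mem p.1.2)))
          simpa [mul_assoc] using h1
        exact (⟨(k ⟨_, hy⟩)⁻¹ * p.1, huniq _ (K.mul_mem (K.inv_mem (hk ⟨_, hy⟩)) p.1.2) p.2.1 p.2.2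
          (by simpa [mul_assoc] using hkC ⟨_, hy⟩)⟩, ⟨_, hy⟩)
      invFun := fun q => (⟨k q.2 * q.1, K.mul_mem (hk q.2) (hCK q.1.2)⟩,
        ⟨(q.1 : G)⁻¹ * ((k q.2)⁻¹ * q.2.1), by
          have hc := q.1.2
          have hz := hkC q.2
          have hca : (q.1 : G) * a = a * q.1 := Subgroup.mem_centralizer_singleton_iff.1 hc.2
          have e1 : (q.1 : G)⁻¹ * ((k q.2)⁻¹ * q.2.1) * g *
              ((q.1 : G)⁻¹ * ((k q.2)⁻¹ * q.2.1))⁻¹ * a⁻¹ =
              (q.1 : G)⁻¹ * ((k q.2)⁻¹ * q.2.1 * g * ((k q.2)⁻¹ * q.2.1)⁻¹ * a⁻¹) *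
                (a * q.1 * a⁻¹) := by group
          rw [e1, ← hca, mul_inv_cancel_right]
          exact C.mul_mem (C.mul_mem (C.inv_mem hc) hz) hc⟩)
      left_inv := fun p => by
        refine Prod.ext (Subtype.ext ?_) (Subtype.ext ?_) <;> simp [mul_assoc]
      right_inv := fun q => by
        have key : (⟨k q.2 * q.1 * ((q.1 : G)⁻¹ * ((k q.2)⁻¹ * q.2.1)), by
            simpa [mul_assoc] using q.2.2⟩ : {y : G // y * g * y⁻¹ * a⁻¹ ∈ K}) = q.2 :=
          Subtype.ext (by group)
        refine Prod.ext (Subtype.ext ?_) (Subtype.ext (by simp [mul_assoc]))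
        simp only [key]
        group }
  have h := Nat.card_congr e
  rw [Nat.card_prod, Nat.card_prod] at h
  rw [cosetCount, cosetCount, div_eq_div_iff (by exact_mod_cast Nat.card_pos.ne')
    (by exact_mod_cast Nat.card_pos.ne')]
  have h' : (Nat.card {y : G // y * g * y⁻¹ * a⁻¹ ∈ K} * Nat.card C : ℂ) =
      (Nat.card {y : G // y * g * y⁻¹ * a⁻¹ ∈ C} * Nat.card K : ℂ) := by
    have := congrArg (fun n : ℕ => (n : ℂ)) h
    push_cast at this
    linear_combination -this
  exact h'

/-- The intersection of the `H b`, `b ∈ B`. -/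
def interH (H : G → Subgroup G) (B : Set G) : Subgroup G := ⨅ b ∈ B, H b

omit [Finite G] in
theorem mem_interH {B : Set G} {u : G} : u ∈ interH H B ↔ ∀ b ∈ B, u ∈ H b := by
  simp [interH, Subgroup.mem_iInf]

/-- `N_L(B)`, inside `L`. -/
def normIn (L : Subgroup G) (B : Set G) : Subgroup L := (Subgroup.normalizer B).subgroupOf L

omit [Finite G] in
theorem mem_normIn {B : Set G} {x : L} :
    x ∈ normIn L B ↔ ∀ b, b ∈ B ↔ (x : G) * b * (x : G)⁻¹ ∈ B :=
  Subgroup.mem_set_normalizer_iff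

/-- The translate of `B` by `x`. -/
def conjSet (x : G) (B : Set G) : Set G := (fun b => x * b * x⁻¹) '' B

omit [Finite G] in
theorem mem_conjSet {x b : G} {B : Set G} : b ∈ conjSet x B ↔ x⁻¹ * b * x ∈ B := by
  refine ⟨?_, fun h => ⟨_, h, by group⟩⟩
  rintro ⟨c, hc, rfl⟩
  rwa [show x⁻¹ * (x * c * x⁻¹) * x = c by group]

section

variable (hD : Cfsg.DadeHypothesis A L H)
include hD

theorem interH_conj {B : Set G} (hB : B ⊆ A) {x : G} (hx : x ∈ L) (u : G) :
    u ∈ interH H (conjSet x B) ↔ x⁻¹ * u * x ∈ interH H B := by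
  rw [mem_interH, mem_interH]
  constructor
  · intro h b hb
    have := h (x * b * x⁻¹) ⟨b, hb, rfl⟩
    rw [← dade_H_mem_conj hD (hB hb) hx]
    rwa [show x * (x⁻¹ * u * x) * x⁻¹ = u by group]
  · rintro h _ ⟨b, hb, rfl⟩
    have := (dade_H_mem_conj hD (hB hb) hx).2 (h b hb)
    rwa [show x * (x⁻¹ * u * x) * x⁻¹ = u by group] at this

theorem normIn_conj_interH {B : Set G} (hB : B ⊆ A) {x : L} (hx : x ∈ normIn L B) {u : G}
    (hu : u ∈ interH H B) : (x : G) * u * (x : G)⁻¹ ∈ interH H B := by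
  have he : conjSet (x : G) B = B := by
    ext b
    rw [mem_conjSet]
    have := mem_normIn.1 hx ((x : G)⁻¹ * b * x)
    rwa [show (x : G) * ((x : G)⁻¹ * b * x) * (x : G)⁻¹ = b by group] at this
  conv => rw [← he]
  rw [interH_conj hD hB x.2]
  rwa [show (x : G)⁻¹ * ((x : G) * u * (x : G)⁻¹) * x = u by group]

theorem interH_inf {B : Set G} (hB : B ⊆ A) (hne : B.Nonempty) {u : G} (hu : u ∈ interH H B)
    {x : L} (hxu : (x : G) = u) : u = 1 := by
  obtain ⟨b, hb⟩ := hne
  have hub := mem_interH.1 hu b hb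
  have : u ∈ H b ⊓ (L ⊓ Subgroup.centralizer ({b} : Set G)) :=
    ⟨hub, hxu ▸ x.2, hD.le_centralizer b (hB hb) hub⟩
  rwa [hD.inf_eq_bot b (hB hb), Subgroup.mem_bot] at this

theorem interH_insert {B : Set G} (hB : B ⊆ A) (hne : B.Nonempty) {a : G} (ha : a ∈ A) :
    interH H B ⊓ Subgroup.centralizer ({a} : Set G) = interH H (insert a B) := by
  obtain ⟨b, hb⟩ := hne
  ext u
  rw [Subgroup.mem_inf, mem_interH, mem_interH]
  constructor
  · rintro ⟨hu, hc⟩ c (rfl | hc')
    · refine mem_of_coprime_orderOf (hD.sup_eq c ha) (hD.conj_mem_H c ha) hc ?_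
      exact (hD.coprime b (hB hb) c ha).coprime_dvd_left ((H b).orderOf_dvd_natCard (hu b hb))
    · exact hu c hc'
  · exact fun h => ⟨fun c hc => h c (Set.mem_insert_of_mem _ hc),
      hD.le_centralizer a ha (h a (Set.mem_insert _ _))⟩

theorem cosetCount_insert {B : Set G} (hB : B ⊆ A) (hne : B.Nonempty) {a : L}
    (ha : (a : G) ∈ A) (han : a ∈ normIn L B) (g : G) :
    cosetCount (interH H B) a g = cosetCount (interH H (insert (a : G) B)) a g := by
  rw [← interH_insert hD hB hne ha]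
  refine cosetCount_centralizer _ _ g (fun h hh => normIn_conj_interH hD hB han hh) ?_
  obtain ⟨b, hb⟩ := hne
  refine Nat.Coprime.coprime_dvd_left (Subgroup.orderOf_dvd_natCard _ (dade_self_mem hD ha)) ?_
  exact ((hD.coprime b (hB hb) a ha).coprime_dvd_left
    (Subgroup.card_dvd_of_le fun u hu => mem_interH.1 hu b hb)).symm

/-- The alternating sum over the subsets normalised by `a` collapses to `{a}`. -/
theorem sum_cosetCount [Fintype (Set G)] {a : L} (ha : (a : G) ∈ A) (g : G)
    [DecidablePred fun B : Set G => B ⊆ A ∧ B.Nonempty ∧ a ∈ normIn L B] :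
    ∑ B ∈ Finset.univ.filter (fun B : Set G => B ⊆ A ∧ B.Nonempty ∧ a ∈ normIn L B),
      (-1 : ℂ) ^ (B.ncard + 1) * cosetCount (interH H B) a g = cosetCount (H a) a g := by
  classical
  set S := Finset.univ.filter (fun B : Set G => B ⊆ A ∧ B.Nonempty ∧ a ∈ normIn L B) with hS
  have hmemS : ∀ B, B ∈ S ↔ B ⊆ A ∧ B.Nonempty ∧ a ∈ normIn L B := fun B => by simp [hS]
  have hnorm1 : a ∈ normIn L ({(a : G)} : Set G) := mem_normIn.2 fun b => by
    simp only [Set.mem_singleton_iff]
    refine ⟨fun h => by rw [h, mul_inv_cancel_right], fun h => ?_⟩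
    exact mul_left_cancel (mul_inv_eq_iff_eq_mul.1 h)
  have h1 : ({(a : G)} : Set G) ∈ S :=
    (hmemS _).2 ⟨Set.singleton_subset_iff.2 ha, Set.singleton_nonempty _, hnorm1⟩
  rw [← Finset.add_sum_erase _ _ h1]
  have h0 : interH H ({(a : G)} : Set G) = H a := by ext u; simp [mem_interH]
  rw [Set.ncard_singleton, h0]
  have hz : ∑ B ∈ S.erase {(a : G)},
      (-1 : ℂ) ^ (B.ncard + 1) * cosetCount (interH H B) a g = 0 := by
    have hne : ∀ B ∈ S.erase {(a : G)}, (a : G) ∈ B → (B \ {(a : G)}).Nonempty := by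
      intro B hB haB
      rw [Finset.mem_erase] at hB
      by_contra h
      rw [Set.not_nonempty_iff_eq_empty, Set.sdiff_eq_empty] at h
      exact hB.1 (Set.Subset.antisymm h (Set.singleton_subset_iff.2 haB))
    have hfix : ∀ b : G, (a : G) * b * (a : G)⁻¹ = a ↔ b = a := fun b =>
      ⟨fun h => mul_left_cancel (mul_inv_eq_iff_eq_mul.1 h), fun h => by rw [h, mul_inv_cancel_right]⟩
    refine Finset.sum_involution
      (fun B _ => if (a : G) ∈ B then B \ {(a : G)} else insert (a : G) B) ?_ ?_ ?_ ?_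
    · intro B hB
      obtain ⟨hBA, hBne, haN⟩ := (hmemS B).1 (Finset.mem_of_mem_erase hB)
      split_ifs with haB
      · have hne' := hne B hB haB
        have haN' : a ∈ normIn L (B \ {(a : G)}) := mem_normIn.2 fun b => by
          simp only [Set.mem_sdiff, Set.mem_singleton_iff, hfix, ← mem_normIn.1 haN b]
        have e := cosetCount_insert hD (Set.sdiff_subset.trans hBA) hne' ha haN' g
        rw [Set.insert_sdiff_singleton, Set.insert_eq_of_mem haB] at e
        rw [e, ← Set.ncard_sdiff_singleton_add_one haB (Set.toFinite B)]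
        ring
      · rw [cosetCount_insert hD hBA hBne ha haN g, Set.ncard_insert_of_notMem haB (Set.toFinite B)]
        ring
    · intro B hB _
      split_ifs with haB
      · intro h; exact (h.symm ▸ haB : (a : G) ∈ B \ {(a : G)}).2 rfl
      · intro h; exact haB (h ▸ Set.mem_insert _ _)
    · intro B hB
      obtain ⟨hBA, hBne, haN⟩ := (hmemS B).1 (Finset.mem_of_mem_erase hB)
      rw [Finset.mem_erase, hmemS]
      split_ifs with haB
      · refine ⟨fun h => (h.symm ▸ Set.mem_singleton (a : G) : (a : G) ∈ B \ {(a : G)}).2 rfl,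
          Set.sdiff_subset.trans hBA, hne B hB haB, mem_normIn.2 fun b => ?_⟩
        simp only [Set.mem_sdiff, Set.mem_singleton_iff, hfix, ← mem_normIn.1 haN b]
      · refine ⟨fun h => ?_, Set.insert_subset ha hBA, Set.insert_nonempty _ _,
          mem_normIn.2 fun b => ?_⟩
        · obtain ⟨b, hb⟩ := hBne
          have := h ▸ Set.mem_insert_of_mem (a : G) hb
          exact haB (Set.mem_singleton_iff.1 this ▸ hb)
        · simp only [Set.mem_insert_iff, hfix, ← mem_normIn.1 haN b]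
    · intro B hB
      by_cases haB : (a : G) ∈ B
      · rw [if_pos haB, if_neg fun h : (a : G) ∈ B \ {(a : G)} => h.2 rfl,
          Set.insert_sdiff_singleton, Set.insert_eq_of_mem haB]
      · rw [if_neg haB, if_pos (Set.mem_insert _ _), Set.insert_sdiff_self_of_notMem haB]
  rw [hz]
  ring

/-- The unweighted term of `B` at `g`. -/
noncomputable def subsetTerm (L : Subgroup G) (H : G → Subgroup G) (α : L → ℂ) (B : Set G)
    (g : G) : ℂ :=
  ∑ᶠ l ∈ (normIn L B : Set L), α l * cosetCount (interH H B) l g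

variable [Fintype G] {α : L → ℂ}

/-- The term of `B` is a multiple of an induced generalized character. -/
theorem exists_subsetTerm_eq {B : Set G} (hB : B ⊆ A) (hne : B.Nonempty)
    (hα : Cfsg.IsGeneralizedCharacter L α) :
    ∃ θ : G → ℂ, Cfsg.IsGeneralizedCharacter G θ ∧
      ∀ g, subsetTerm L H α B g = (Nat.card (normIn L B) : ℂ) * θ g := by
  classical
  set K := interH H B with hK
  set N := (normIn L B).map L.subtype with hN
  have hNK : N ≤ Subgroup.normalizer (K : Set G) := by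
    refine Subgroup.le_set_normalizer_iff.2 fun x hx u hu => ?_
    obtain ⟨l, hl, rfl⟩ := hx
    exact normIn_conj_interH hD hB hl hu
  have hNn : ∀ x ∈ N, ∀ u ∈ K, x * u * x⁻¹ ∈ K := fun x hx u hu =>
    (Subgroup.mem_set_normalizer_iff.1 (hNK hx) u).1 hu
  set M := K ⊔ N with hM
  have hdec : ∀ m : M, ∃ l : L, l ∈ normIn L B ∧ (m : G) * (l : G)⁻¹ ∈ K := by
    rintro ⟨m, hm⟩
    rw [hM, ← SetLike.mem_coe, Subgroup.coe_mul_of_right_le_normalizer_left K N hNK] at hm
    obtain ⟨u, hu, _, ⟨l, hl, rfl⟩, rfl⟩ := Set.mem_mul.1 hm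
    exact ⟨l, hl, by simpa using hu⟩
  choose π hπN hπ using hdec
  have huniq : ∀ (m : G) (l l' : L), m * (l : G)⁻¹ ∈ K → m * (l' : G)⁻¹ ∈ K → l = l' := by
    intro m l l' h h'
    have h1 := K.mul_mem (K.inv_mem h) h'
    rw [show (m * (l : G)⁻¹)⁻¹ * (m * (l' : G)⁻¹) = l * (l' : G)⁻¹ by group] at h1
    have := interH_inf hD hB hne h1 (x := l * l'⁻¹) rfl
    exact Subtype.ext (mul_inv_eq_one.1 this)
  let f : M →* L := MonoidHom.mk' π fun a b => huniq _ _ _ (hπ (a * b)) (by
    have hm : (π a : G) ∈ N := ⟨π a, hπN a, rfl⟩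
    have h1 := K.mul_mem (hπ a) (hNn _ hm _ (hπ b))
    simpa [mul_assoc] using h1)
  have hf : Cfsg.IsGeneralizedCharacter M (fun m => α (π m)) := IsGeneralized.comp hα f
  refine ⟨Cfsg.indFun M (fun m => α (π m)), IsGeneralized.indFun hf, fun g => ?_⟩
  have hext : ∀ z : G, Cfsg.extendByZero M (fun m => α (π m)) z =
      ∑ l ∈ Finset.univ.filter (fun l : L => l ∈ normIn L B),
        if z * (l : G)⁻¹ ∈ K then α l else 0 := by
    intro z
    by_cases hz : z ∈ M
    · rw [extendByZero_of_mem _ hz, Finset.sum_eq_single (π ⟨z, hz⟩)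
        (fun l _ hne' => if_neg fun h => hne' (huniq z _ _ h (hπ ⟨z, hz⟩)))
        (fun h => absurd (Finset.mem_filter.2 ⟨Finset.mem_univ _, hπN _⟩) h),
        if_pos (hπ ⟨z, hz⟩)]
    · rw [extendByZero_of_not_mem _ hz, Finset.sum_eq_zero fun l hl => if_neg fun h => hz ?_]
      have h1 := M.mul_mem (le_sup_left (b := N) h)
        (le_sup_right (a := K) (⟨l, (Finset.mem_filter.1 hl).2, rfl⟩ : (l : G) ∈ N))
      simpa using h1
  have hcard : Nat.card M = Nat.card K * Nat.card (normIn L B) := by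
    rw [hM, sup_comm, CfsgLib.Solvable.card_sup_of_disjoint hNK, mul_comm, hN,
      Subgroup.card_map_of_injective L.subtype_injective]
    rw [eq_bot_iff]
    rintro u ⟨⟨l, hl, rfl⟩, hu⟩
    exact Subgroup.mem_bot.2 (interH_inf hD hB hne hu (x := l) rfl)
  rw [indFun_def, hcard, subsetTerm, finsum_mem_eq_finite_toFinset_sum _ (Set.toFinite _)]
  rw [← Equiv.sum_comp (Equiv.inv G) fun x => Cfsg.extendByZero M (fun m => α (π m)) (x⁻¹ * g * x)]
  simp only [Equiv.inv_apply, inv_inv, hext]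
  rw [Finset.sum_comm, Finset.mul_sum, Finset.mul_sum]
  refine Finset.sum_congr (by ext; simp) fun l _ => ?_
  rw [Finset.sum_ite, Finset.sum_const_zero, add_zero, Finset.sum_const, nsmul_eq_mul, cosetCount,
    ← Fintype.card_subtype, ← Nat.card_eq_fintype_card]
  push_cast
  have h1 : (Nat.card K : ℂ) ≠ 0 := by exact_mod_cast Nat.card_pos.ne'
  have h2 : (Nat.card (normIn L B) : ℂ) ≠ 0 := by exact_mod_cast Nat.card_pos.ne'
  rw [← hK]
  field_simp

theorem subsetTerm_conj {B : Set G} (hB : B ⊆ A) (hα : Cfsg.IsClassFunction L α) (x : L) (g : G) :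
    subsetTerm L H α (conjSet x B) g = subsetTerm L H α B g := by
  classical
  rw [subsetTerm, subsetTerm]
  refine (finsum_mem_eq_of_bijOn (fun l => x * l * x⁻¹) ⟨?_, ?_, ?_⟩ ?_).symm
  · intro l hl
    refine mem_normIn.2 fun b => ?_
    rw [mem_conjSet, mem_conjSet, mem_normIn.1 hl ((x : G)⁻¹ * b * x)]
    refine iff_of_eq (congrArg (· ∈ B) ?_)
    simp only [Subgroup.coe_mul, Subgroup.coe_inv]
    group
  · exact fun l _ l' _ h => mul_left_cancel (mul_right_cancel h)
  · intro l hl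
    refine ⟨x⁻¹ * l * x, mem_normIn.2 fun b => ?_, by group⟩
    have := mem_normIn.1 hl ((x : G) * b * (x : G)⁻¹)
    rw [mem_conjSet, mem_conjSet,
      show (x : G)⁻¹ * ((x : G) * b * (x : G)⁻¹) * x = b by group] at this
    rw [this]
    refine iff_of_eq (congrArg (· ∈ B) ?_)
    simp only [Subgroup.coe_mul, Subgroup.coe_inv]
    group
  · intro l _
    rw [hα l x, cosetCount, cosetCount]
    congr 2
    · refine congrArg Nat.cast (Nat.card_congr ((Equiv.mulLeft (x : G)).subtypeEquiv fun y => ?_))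
      rw [interH_conj hD hB x.2, Equiv.coe_mulLeft]
      refine iff_of_eq (congrArg (· ∈ interH H B) ?_)
      simp only [Subgroup.coe_mul, Subgroup.coe_inv]
      group
    · refine congrArg Nat.cast (Nat.card_congr ((MulAut.conj (x : G)).toEquiv.subtypeEquiv
        fun u => ?_))
      change u ∈ interH H B ↔ (x : G) * u * (x : G)⁻¹ ∈ interH H (conjSet x B)
      rw [interH_conj hD hB x.2]
      refine iff_of_eq (congrArg (· ∈ interH H B) ?_)
      group

/-- The Dade image of a generalized character supported in `A` is a generalized character. -/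
theorem isGeneralized_dadeIsometry [Fintype L] (hα : Cfsg.IsGeneralizedCharacter L α)
    (hαA : ∀ x : L, (x : G) ∉ A → α x = 0) :
    Cfsg.IsGeneralizedCharacter G (Cfsg.dadeIsometry A L H α) := by
  classical
  have : Fintype (Set G) := Fintype.ofFinite _
  have hcl := IsGeneralized.isClassFunction hα
  set S := Finset.univ.filter (fun B : Set G => B ⊆ A ∧ B.Nonempty) with hS
  have hmemS : ∀ B, B ∈ S ↔ B ⊆ A ∧ B.Nonempty := fun B => by simp [hS]
  let D : Set G → G → ℂ := fun B g =>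
    (-1 : ℂ) ^ (B.ncard + 1) * subsetTerm L H α B g / Nat.card L
  have hsum : Cfsg.dadeIsometry A L H α = ∑ B ∈ S, D B := by
    funext g
    have h1 : ∀ B ∈ S, D B g = ∑ l : L, if (l : G) ∈ A ∧ l ∈ normIn L B then
        α l / (Nat.card L : ℂ) * ((-1 : ℂ) ^ (B.ncard + 1) * cosetCount (interH H B) l g)
        else 0 := by
      intro B _
      simp only [D, subsetTerm]
      rw [finsum_mem_eq_finite_toFinset_sum _ (Set.toFinite _), Finset.mul_sum, Finset.sum_div,
        ← Finset.sum_filter]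
      rw [← Finset.sum_filter_add_sum_filter_not _ (fun l : L => (l : G) ∈ A)
        (fun i : L => (-1 : ℂ) ^ (B.ncard + 1) * (α i * cosetCount (interH H B) i g) / Nat.card L),
        Finset.sum_eq_zero (s := Finset.filter (fun l : L => ¬ (l : G) ∈ A) _) fun l hl => by
          rw [hαA l (Finset.mem_filter.1 hl).2]; simp, add_zero]
      refine Finset.sum_congr (by ext; simp [and_comm]) fun l _ => by ring
    rw [Finset.sum_apply, Finset.sum_congr rfl h1, Finset.sum_comm]
    have h2 : ∀ l : L, (∑ B ∈ S, if (l : G) ∈ A ∧ l ∈ normIn L B then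
        α l / (Nat.card L : ℂ) * ((-1 : ℂ) ^ (B.ncard + 1) * cosetCount (interH H B) l g) else 0) =
        if (l : G) ∈ A then α l / (Nat.card L : ℂ) * cosetCount (H l) l g else 0 := by
      intro l
      split_ifs with hl
      · rw [← sum_cosetCount hD hl g, Finset.mul_sum, ← Finset.sum_filter]
        refine Finset.sum_congr ?_ fun B _ => rfl
        ext B; simp [hS, hl, and_assoc]
      · exact Finset.sum_eq_zero fun B _ => if_neg fun h => hl h.1
    rw [Finset.sum_congr rfl fun l _ => h2 l]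
    by_cases hg : ∃ a ∈ A, ∃ u ∈ H a, ∃ x : G, x * g * x⁻¹ = a * u
    · obtain ⟨a₀, ha₀, u₀, hu₀, x₀, hx₀⟩ := hg
      rw [dadeIsometry_apply hD hcl (a := ⟨a₀, hD.subset ha₀⟩) ha₀ hu₀ hx₀]
      have h₀ : x₀ * g * x₀⁻¹ * a₀⁻¹ ∈ H a₀ := by
        rw [hx₀, (dade_commute hD ha₀ hu₀).eq, mul_inv_cancel_right]
        exact hu₀
      have hc := dade_card_pairs hD ha₀ h₀
      have hterm : ∀ l : L, (if (l : G) ∈ A then
          α l / (Nat.card L : ℂ) * cosetCount (H l) l g else 0) =
          α ⟨a₀, hD.subset ha₀⟩ / ((Nat.card L : ℂ) * Nat.card (H a₀)) *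
            (Nat.card {y : G // (l : G) ∈ A ∧ y * g * y⁻¹ * (l : G)⁻¹ ∈ H l} : ℂ) := by
        intro l
        split_ifs with hl
        · simp only [hl, true_and, cosetCount]
          rcases isEmpty_or_nonempty {y : G // y * g * y⁻¹ * (l : G)⁻¹ ∈ H l} with he | ⟨⟨y, hy⟩⟩
          · simp [Nat.card_of_isEmpty]
          · have hv : (l : G)⁻¹ * (y * g * y⁻¹) ∈ H (l : G) := by
              have := hD.conj_mem_H _ hl (l : G)⁻¹
                (Subgroup.inv_mem _ (dade_self_mem hD hl).2) _ hy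
              simpa [mul_assoc] using this
            have hconj : y * x₀⁻¹ * (a₀ * u₀) * (y * x₀⁻¹)⁻¹ =
                (l : G) * ((l : G)⁻¹ * (y * g * y⁻¹)) := by rw [← hx₀]; group
            obtain ⟨k, hk, hka⟩ := dade_conj_in_L hD ha₀ hl hu₀ hv hconj
            have el : l = ⟨k, hk⟩ * ⟨a₀, hD.subset ha₀⟩ * (⟨k, hk⟩ : L)⁻¹ := Subtype.ext hka.symm
            have e1 : α l = α ⟨a₀, hD.subset ha₀⟩ := by rw [el]; exact hcl _ _
            have e2 : Nat.card (H (l : G)) = Nat.card (H a₀) := by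
              rw [← hka]; exact dade_card_H_conj hD ha₀ hk
            rw [e1, e2]
            field_simp
        · have : IsEmpty {y : G // (l : G) ∈ A ∧ y * g * y⁻¹ * (l : G)⁻¹ ∈ H l} :=
            ⟨fun y => hl y.2.1⟩
          simp [Nat.card_of_isEmpty]
      rw [Finset.sum_congr rfl fun l _ => hterm l, ← Finset.mul_sum, ← Nat.cast_sum,
        ← Nat.card_sigma,
        Nat.card_congr ((Equiv.subtypeProdEquivSigmaSubtype fun (l : L) (y : G) =>
          (l : G) ∈ A ∧ y * g * y⁻¹ * (l : G)⁻¹ ∈ H l).symm), hc, Nat.cast_mul,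
        div_mul_cancel₀]
      exact mul_ne_zero (by exact_mod_cast Nat.card_pos.ne') (by exact_mod_cast Nat.card_pos.ne')
    · rw [dadeIsometry_eq_zero hD hg]
      refine (Finset.sum_eq_zero fun l _ => ?_).symm
      split_ifs with hl
      · have : IsEmpty {y : G // y * g * y⁻¹ * (l : G)⁻¹ ∈ H l} := ⟨fun y => hg
          ⟨l, hl, (l : G)⁻¹ * (y.1 * g * y.1⁻¹), by
            have := hD.conj_mem_H _ hl (l : G)⁻¹
              (Subgroup.inv_mem _ (dade_self_mem hD hl).2) _ y.2
            simpa [mul_assoc] using this, y.1, by group⟩⟩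
        simp [cosetCount, Nat.card_of_isEmpty]
      · rfl
  rw [hsum]
  let orb : Set G → Finset (Set G) := fun B => Finset.univ.image fun x : L => conjSet (x : G) B
  rw [← Finset.sum_fiberwise_of_maps_to (t := S.image orb) (g := orb)
    (fun B hB => Finset.mem_image_of_mem orb hB) D]
  refine isGeneralized_sum _ fun O hO => ?_
  obtain ⟨B, hB, rfl⟩ := Finset.mem_image.1 hO
  obtain ⟨hBA, hBne⟩ := (hmemS B).1 hB
  have hconj : ∀ (x : L) (C : Set G), C ⊆ A → conjSet (x : G) C ⊆ A := by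
    rintro x C hC _ ⟨b, hb, rfl⟩
    exact hD.conj_mem x x.2 b (hC hb)
  have hcomp : ∀ (x y : L) (C : Set G),
      conjSet (x : G) (conjSet (y : G) C) = conjSet ((x * y : L) : G) C := by
    intro x y C
    ext b
    rw [mem_conjSet, mem_conjSet, mem_conjSet]
    refine iff_of_eq (congrArg (· ∈ C) ?_)
    simp only [Subgroup.coe_mul]
    group
  have hself : ∀ C : Set G, conjSet ((1 : L) : G) C = C := fun C => by
    ext b; rw [mem_conjSet]; simp
  have hfib : S.filter (fun C => orb C = orb B) = orb B := by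
    ext C
    rw [Finset.mem_filter, hmemS]
    constructor
    · rintro ⟨-, he⟩
      rw [← he]
      exact Finset.mem_image.2 ⟨1, Finset.mem_univ _, hself C⟩
    · intro hC
      obtain ⟨x, -, rfl⟩ := Finset.mem_image.1 hC
      refine ⟨⟨hconj x B hBA, hBne.image _⟩, ?_⟩
      ext C
      simp only [orb, Finset.mem_image, Finset.mem_univ, true_and]
      constructor
      · rintro ⟨y, rfl⟩; exact ⟨y * x, (hcomp y x B).symm⟩
      · rintro ⟨y, rfl⟩
        exact ⟨y * x⁻¹, by rw [hcomp, inv_mul_cancel_right]⟩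
  rw [hfib]
  have hconst : ∀ C ∈ orb B, D C = D B := by
    intro C hC
    obtain ⟨x, -, rfl⟩ := Finset.mem_image.1 hC
    funext g
    simp only [D, subsetTerm_conj hD hBA hcl x g]
    rw [conjSet, Set.ncard_image_of_injective _ fun a b h => mul_left_cancel (mul_right_cancel h)]
  rw [Finset.sum_congr rfl hconst, Finset.sum_const]
  have horb : (orb B).card * Nat.card (normIn L B) = Nat.card L := by
    have h := Finset.card_eq_sum_card_image (fun x : L => conjSet (x : G) B) Finset.univ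
    rw [Finset.card_univ, ← Nat.card_eq_fintype_card] at h
    rw [h, Finset.sum_congr rfl (g := fun _ => Nat.card (normIn L B)) fun C hC => ?_,
      Finset.sum_const, smul_eq_mul]
    obtain ⟨x, -, rfl⟩ := Finset.mem_image.1 hC
    rw [← Fintype.card_subtype, ← Nat.card_eq_fintype_card]
    refine Nat.card_congr ((Equiv.mulLeft x⁻¹).subtypeEquiv fun y => ?_)
    rw [Equiv.coe_mulLeft, mem_normIn, Set.ext_iff]
    constructor
    · intro h b
      have hb := h ((y : G) * b * (y : G)⁻¹)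
      rw [mem_conjSet, mem_conjSet] at hb
      simpa [mul_assoc] using hb
    · intro h b
      rw [mem_conjSet, mem_conjSet]
      have hb := h ((y : G)⁻¹ * b * y)
      simpa [mul_assoc] using hb
  obtain ⟨θ, hθ, hθe⟩ := exists_subsetTerm_eq hD hBA hBne hα
  convert IsGeneralized.intCast_smul hθ ((-1 : ℤ) ^ (B.ncard + 1)) using 1
  funext g
  simp only [Pi.smul_apply, nsmul_eq_mul, D, hθe g, smul_eq_mul]
  have hL : (Nat.card L : ℂ) = ((orb B).card : ℂ) * Nat.card (normIn L B) := by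
    exact_mod_cast horb.symm
  have h1 : ((orb B).card : ℂ) ≠ 0 := fun h0 => by
    rw [h0, zero_mul] at hL
    exact Nat.card_pos.ne' (Nat.cast_eq_zero.1 hL)
  have h2 : (Nat.card (normIn L B) : ℂ) ≠ 0 := by exact_mod_cast Nat.card_pos.ne'
  rw [hL]
  push_cast
  field_simp

end

end CfsgLib.Char
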