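import Cfsg.Agent.Char.Dade
import Cfsg.Agent.Char.Generalized
import Cfsg.Agent.Solvable.Basics
import Mathlib.Algebra.BigOperators.Field
import Mathlib.Algebra.Order.Chebyshev

/-!
# The Dade map: values, adjoint, isometry and integrality
-/

namespace CfsgLib.Char

open scoped ComplexConjugate

universe u

variable {G : Type u} [Group G] [Finite G] {A : Set G} {L : Subgroup G} {H : G → Subgroup G}

section Elements

variable (hD : Cfsg.DadeHypothesis A L H)
include hD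

theorem dade_self_mem {a : G} (ha : a ∈ A) :
    a ∈ L ⊓ Subgroup.centralizer ({a} : Set G) :=
  ⟨hD.subset ha, Subgroup.mem_centralizer_singleton_iff.2 rfl⟩

theorem dade_commute {a u : G} (ha : a ∈ A) (hu : u ∈ H a) : Commute a u :=
  (Subgroup.mem_centralizer_singleton_iff.1 (hD.le_centralizer a ha hu)).symm

theorem dade_exists_exp {a b : G} (ha : a ∈ A) (hb : b ∈ A) :
    ∃ k : ℕ, (∀ u ∈ H a, (a * u) ^ k = a) ∧ (∀ v ∈ H b, (b * v) ^ k = b) ∧
      a ^ k = a ∧ b ^ k = b := by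
  have hcop : Nat.Coprime
      (Nat.card ↥(L ⊓ Subgroup.centralizer ({a} : Set G)) *
        Nat.card ↥(L ⊓ Subgroup.centralizer ({b} : Set G)))
      (Nat.card (H a) * Nat.card (H b)) := by
    have h := hD.coprime
    exact Nat.Coprime.mul_left ((h a ha a ha).symm.mul_right (h b hb a ha).symm)
      ((h a ha b hb).symm.mul_right (h b hb b hb).symm)
  obtain ⟨k, hk1, hk0⟩ := Nat.chineseRemainder hcop 1 0
  have hone : ∀ c ∈ A, Nat.card ↥(L ⊓ Subgroup.centralizer ({c} : Set G)) ∣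
      Nat.card ↥(L ⊓ Subgroup.centralizer ({a} : Set G)) *
        Nat.card ↥(L ⊓ Subgroup.centralizer ({b} : Set G)) →
      Nat.card (H c) ∣ Nat.card (H a) * Nat.card (H b) →
      c ^ k = c ∧ ∀ u ∈ H c, (c * u) ^ k = c := by
    intro c hc h1 h2
    have e1 : c ^ k = c := by
      have := pow_eq_pow_iff_modEq.2 (hk1.of_dvd
        ((Subgroup.orderOf_dvd_natCard _ (dade_self_mem hD hc)).trans h1))
      rwa [pow_one] at this
    refine ⟨e1, fun u hu => ?_⟩
    rw [(dade_commute hD hc hu).mul_pow, e1]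
    have := pow_eq_pow_iff_modEq.2 (hk0.of_dvd ((Subgroup.orderOf_dvd_natCard _ hu).trans h2))
    rw [this, pow_zero, mul_one]
  obtain ⟨ea, ha'⟩ := hone a ha (Dvd.intro _ rfl) (Dvd.intro _ rfl)
  obtain ⟨eb, hb'⟩ := hone b hb (Dvd.intro_left _ rfl) (Dvd.intro_left _ rfl)
  exact ⟨k, ha', hb', ea, eb⟩

theorem dade_conj_eq {a b : G} (ha : a ∈ A) (hb : b ∈ A) {u v g : G} (hu : u ∈ H a)
    (hv : v ∈ H b) (h : g * (a * u) * g⁻¹ = b * v) : g * a * g⁻¹ = b := by
  obtain ⟨k, hka, hkb, -, -⟩ := dade_exists_exp hD ha hb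
  have := congrArg (· ^ k) h
  simpa [conj_pow, hka u hu, hkb v hv] using this

theorem dade_conj_in_L {a b : G} (ha : a ∈ A) (hb : b ∈ A) {u v g : G} (hu : u ∈ H a)
    (hv : v ∈ H b) (h : g * (a * u) * g⁻¹ = b * v) : ∃ x ∈ L, x * a * x⁻¹ = b := by
  have he := dade_conj_eq hD ha hb hu hv h
  obtain ⟨x, hx, hxa⟩ := hD.fusion a ha g (he ▸ hb)
  exact ⟨x, hx, hxa.trans he⟩

theorem dade_normalizer_coset {a : G} (ha : a ∈ A) :
    Subgroup.normalizer ((fun u : G => a * u) '' (H a : Set G)) =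
      Subgroup.centralizer ({a} : Set G) := by
  apply le_antisymm
  · intro g hg
    obtain ⟨u, hu, hgu⟩ := (Subgroup.mem_set_normalizer_iff.1 hg a).1
      ⟨1, (H a).one_mem, mul_one a⟩
    have := dade_conj_eq hD ha ha (H a).one_mem hu (g := g) (by rw [mul_one]; exact hgu.symm)
    rw [Subgroup.mem_centralizer_singleton_iff]
    calc g * a = g * a * g⁻¹ * g := by group
      _ = a * g := by rw [this]
  · refine Subgroup.le_set_normalizer_iff.2 fun c hc z hz => ?_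
    obtain ⟨u, hu, rfl⟩ := hz
    refine ⟨c * u * c⁻¹, hD.conj_mem_H a ha c hc u hu, ?_⟩
    have hca := Subgroup.mem_centralizer_singleton_iff.1 hc
    calc a * (c * u * c⁻¹) = a * c * u * c⁻¹ := by group
      _ = c * (a * u) * c⁻¹ := by rw [← hca]; group

theorem dade_H_mem_conj {a x u : G} (ha : a ∈ A) (hx : x ∈ L) :
    x * u * x⁻¹ ∈ H (x * a * x⁻¹) ↔ u ∈ H a := by
  rw [dade_H_conj hD ha hx, Subgroup.mem_map]
  refine ⟨fun ⟨v, hv, he⟩ => ?_, fun h => ⟨u, h, by simp⟩⟩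
  simp only [MulEquiv.coe_toMonoidHom, MulAut.conj_apply] at he
  rwa [← mul_left_cancel (mul_right_cancel he)]

theorem dade_card_H_conj {a x : G} (ha : a ∈ A) (hx : x ∈ L) :
    Nat.card (H (x * a * x⁻¹)) = Nat.card (H a) := by
  rw [dade_H_conj hD ha hx,
    Subgroup.card_map_of_injective (f := (MulAut.conj x).toMonoidHom) (MulAut.conj x).injective]

/-- The number of pairs `(a, x)` with `x g x⁻¹` in the coset of `a`. -/
theorem dade_card_pairs {g a₀ x₀ : G} (ha₀ : a₀ ∈ A)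
    (h₀ : x₀ * g * x₀⁻¹ * a₀⁻¹ ∈ H a₀) :
    Nat.card {p : L × G // (p.1 : G) ∈ A ∧ p.2 * g * p.2⁻¹ * (p.1 : G)⁻¹ ∈ H p.1} =
      Nat.card L * Nat.card (H a₀) := by
  rw [← Nat.card_prod]
  have hu₀ : a₀⁻¹ * (x₀ * g * x₀⁻¹) ∈ H a₀ := by
    have := hD.conj_mem_H a₀ ha₀ a₀⁻¹
      (Subgroup.inv_mem _ (dade_self_mem hD ha₀).2) _ h₀
    simpa [mul_assoc] using this
  let f : L × H a₀ → {p : L × G // (p.1 : G) ∈ A ∧ p.2 * g * p.2⁻¹ * (p.1 : G)⁻¹ ∈ H p.1} :=
    fun q => ⟨(q.1 * ⟨a₀, hD.subset ha₀⟩ * q.1⁻¹, (q.1 : G) * q.2 * x₀),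
      hD.conj_mem _ q.1.2 _ ha₀, by
        have hha : (q.2 : G) * (x₀ * g * x₀⁻¹) * (q.2 : G)⁻¹ * a₀⁻¹ ∈ H a₀ := by
          have hc := (dade_commute hD ha₀ q.2.2).inv_left
          rw [mul_assoc, ← ((hc.inv_right).eq), ← mul_assoc, mul_assoc _ _ a₀⁻¹]
          exact (H a₀).mul_mem ((H a₀).mul_mem q.2.2 h₀) ((H a₀).inv_mem q.2.2)
        change (q.1 : G) * q.2 * x₀ * g * ((q.1 : G) * q.2 * x₀)⁻¹ *
            ((q.1 : G) * a₀ * (q.1 : G)⁻¹)⁻¹ ∈ H ((q.1 : G) * a₀ * (q.1 : G)⁻¹)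
        have := (dade_H_mem_conj hD ha₀ q.1.2).2 hha
        simpa [mul_assoc] using this⟩
  refine (Nat.card_congr (Equiv.ofBijective f ⟨?_, ?_⟩)).symm
  · rintro ⟨l, h⟩ ⟨l', h'⟩ he
    have e1 : (l : G) * a₀ * (l : G)⁻¹ = (l' : G) * a₀ * (l' : G)⁻¹ :=
      congrArg (fun p => ((p.1.1 : L) : G)) he
    have e2 : (l : G) * h = (l' : G) * h' :=
      mul_right_cancel (congrArg (fun p => p.1.2) he)
    have hmem : (l' : G)⁻¹ * l ∈ H a₀ ⊓ (L ⊓ Subgroup.centralizer ({a₀} : Set G)) := by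
      refine ⟨?_, L.mul_mem (L.inv_mem l'.2) l.2, Subgroup.mem_centralizer_singleton_iff.2 ?_⟩
      · rw [show (l' : G)⁻¹ * l = (h' : G) * (h : G)⁻¹ by
          rw [eq_mul_inv_iff_mul_eq, mul_assoc, e2, inv_mul_cancel_left]]
        exact (H a₀).mul_mem h'.2 ((H a₀).inv_mem h.2)
      · calc (l' : G)⁻¹ * l * a₀ = (l' : G)⁻¹ * ((l : G) * a₀ * (l : G)⁻¹) * l := by group
          _ = a₀ * ((l' : G)⁻¹ * l) := by rw [e1]; group
    rw [hD.inf_eq_bot a₀ ha₀, Subgroup.mem_bot, inv_mul_eq_one] at hmem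
    have hl : l = l' := Subtype.ext hmem.symm
    subst hl
    exact Prod.ext rfl (Subtype.ext (mul_left_cancel e2))
  · rintro ⟨⟨a, x⟩, ha, hx⟩
    set v := (a : G)⁻¹ * (x * g * x⁻¹) with hv
    have hvH : v ∈ H (a : G) := by
      have := hD.conj_mem_H a ha (a : G)⁻¹
        (Subgroup.inv_mem _ (dade_self_mem hD ha).2) _ hx
      simpa [hv, mul_assoc] using this
    have hconj : x * x₀⁻¹ * (a₀ * (a₀⁻¹ * (x₀ * g * x₀⁻¹))) * (x * x₀⁻¹)⁻¹ = (a : G) * v := by
      rw [hv]; group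
    obtain ⟨l, hl, hla⟩ := dade_conj_in_L hD ha₀ ha hu₀ hvH hconj
    have he := dade_conj_eq hD ha₀ ha hu₀ hvH hconj
    have hy : l⁻¹ * (x * x₀⁻¹) ∈ Subgroup.centralizer ({a₀} : Set G) := by
      rw [Subgroup.mem_centralizer_singleton_iff]
      calc l⁻¹ * (x * x₀⁻¹) * a₀
          = l⁻¹ * (x * x₀⁻¹ * a₀ * (x * x₀⁻¹)⁻¹) * (x * x₀⁻¹) := by group
        _ = a₀ * (l⁻¹ * (x * x₀⁻¹)) := by rw [he, ← hla]; group
    rw [← hD.sup_eq a₀ ha₀, sup_comm, ← SetLike.mem_coe,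
      Subgroup.coe_mul_of_left_le_normalizer_right _ _ (Subgroup.le_set_normalizer_iff.2
        fun c (hc : c ∈ L ⊓ Subgroup.centralizer ({a₀} : Set G)) u hu =>
          hD.conj_mem_H a₀ ha₀ c hc.2 u hu)] at hy
    obtain ⟨c, hc, h, hh, hch⟩ := Set.mem_mul.1 hy
    refine ⟨(⟨l * c, L.mul_mem hl hc.1⟩, ⟨h, hh⟩), Subtype.ext (Prod.ext (Subtype.ext ?_) ?_)⟩
    · change l * c * a₀ * (l * c)⁻¹ = (a : G)
      have hca := Subgroup.mem_centralizer_singleton_iff.1 hc.2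
      rw [← hla, mul_inv_rev, mul_assoc l c a₀, hca]
      group
    · change l * c * h * x₀ = x
      rw [mul_assoc l c h, hch]
      group

/-- Summing a function supported on the Dade support. -/
theorem dade_sum [Fintype G] [Fintype L] [DecidablePred fun a : L => (a : G) ∈ A]
    {R : Type*} [Field R] [CharZero R] {F : G → R}
    (hF : ∀ g x : G, F (x * g * x⁻¹) = F g)
    (hsupp : ∀ g : G, (¬ ∃ a ∈ A, ∃ u ∈ H a, ∃ x : G, x * g * x⁻¹ = a * u) → F g = 0) :
    ∑ g : G, F g = (Nat.card G : R) / Nat.card L *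
      ∑ a ∈ Finset.univ.filter (fun a : L => (a : G) ∈ A),
        (Nat.card (H (a : G)) : R)⁻¹ * ∑ᶠ u ∈ (H (a : G) : Set G), F ((a : G) * u) := by
  classical
  let w : G → L → G → R := fun g a x =>
    if (a : G) ∈ A ∧ x * g * x⁻¹ * (a : G)⁻¹ ∈ H a then
      ((Nat.card L : R) * Nat.card (H (a : G)))⁻¹ * F g else 0
  have h1 : ∀ g : G, F g = ∑ p : L × G, w g p.1 p.2 := by
    intro g
    by_cases hg : ∃ a ∈ A, ∃ u ∈ H a, ∃ x : G, x * g * x⁻¹ = a * u
    · obtain ⟨a₀, ha₀, u₀, hu₀, x₀, hx₀⟩ := hg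
      have h₀ : x₀ * g * x₀⁻¹ * a₀⁻¹ ∈ H a₀ := by
        rw [hx₀, (dade_commute hD ha₀ hu₀).eq, mul_inv_cancel_right]
        exact hu₀
      have hc := dade_card_pairs hD ha₀ h₀
      rw [Finset.sum_ite, Finset.sum_const_zero, add_zero]
      rw [Finset.sum_congr rfl (g := fun _ => ((Nat.card L : R) * Nat.card (H a₀))⁻¹ * F g) ?_]
      · rw [Finset.sum_const, ← Fintype.card_subtype, ← Nat.card_eq_fintype_card, hc,
          nsmul_eq_mul, Nat.cast_mul, mul_inv_cancel_left₀]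
        exact mul_ne_zero (by exact_mod_cast Nat.card_pos.ne') (by exact_mod_cast Nat.card_pos.ne')
      · rintro ⟨a, x⟩ hp
        obtain ⟨ha, hx⟩ := (Finset.mem_filter.1 hp).2
        have hu : x * g * x⁻¹ * (a : G)⁻¹ ∈ H (a : G) := hx
        have hconj : x * x₀⁻¹ * (a₀ * u₀) * (x * x₀⁻¹)⁻¹ =
            (a : G) * ((a : G)⁻¹ * (x * g * x⁻¹)) := by rw [← hx₀]; group
        have hv : (a : G)⁻¹ * (x * g * x⁻¹) ∈ H (a : G) := by
          have := hD.conj_mem_H a ha (a : G)⁻¹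
            (Subgroup.inv_mem _ (dade_self_mem hD ha).2) _ hu
          simpa [mul_assoc] using this
        obtain ⟨l, hl, hla⟩ := dade_conj_in_L hD ha₀ ha hu₀ hv hconj
        rw [← dade_card_H_conj hD ha₀ hl, hla]
    · rw [hsupp g hg]
      simp [w, hsupp g hg]
  have h2 : ∀ (a : L) (x : G), ∑ g : G, w g a x =
      if (a : G) ∈ A then ((Nat.card L : R) * Nat.card (H (a : G)))⁻¹ *
        ∑ᶠ u ∈ (H (a : G) : Set G), F ((a : G) * u) else 0 := by
    intro a x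
    split_ifs with ha
    · simp only [w, ha, true_and]
      rw [finsum_mem_eq_finite_toFinset_sum _ (Set.toFinite _), Finset.mul_sum, Finset.sum_ite,
        Finset.sum_const_zero, add_zero]
      refine Finset.sum_bij (fun g _ => (a : G)⁻¹ * (x * g * x⁻¹)) ?_ ?_ ?_ ?_
      · intro g hg
        rw [Set.Finite.mem_toFinset, SetLike.mem_coe]
        have := hD.conj_mem_H a ha (a : G)⁻¹
          (Subgroup.inv_mem _ (dade_self_mem hD ha).2) _ (Finset.mem_filter.1 hg).2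
        simpa [mul_assoc] using this
      · intro g _ g' _ he
        exact mul_left_cancel (mul_right_cancel (mul_left_cancel he))
      · intro u hu
        rw [Set.Finite.mem_toFinset, SetLike.mem_coe] at hu
        refine ⟨x⁻¹ * ((a : G) * u) * x, Finset.mem_filter.2 ⟨Finset.mem_univ _, ?_⟩, by group⟩
        rw [show x * (x⁻¹ * ((a : G) * u) * x) * x⁻¹ = (a : G) * u by group,
          (dade_commute hD ha hu).eq, mul_inv_cancel_right]
        exact hu
      · intro g _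
        congr 1
        rw [show (a : G) * ((a : G)⁻¹ * (x * g * x⁻¹)) = x * g * x⁻¹ by group, hF]
    · simp [w, ha]
  rw [Finset.sum_congr rfl fun g _ => h1 g, Finset.sum_comm, Fintype.sum_prod_type,
    Finset.sum_congr rfl fun a _ => Finset.sum_congr rfl fun x _ => h2 a x]
  simp only [Finset.sum_const, Finset.card_univ, ← Nat.card_eq_fintype_card, nsmul_eq_mul]
  rw [← Finset.mul_sum, ← Finset.sum_filter, Finset.mul_sum, Finset.mul_sum]
  refine Finset.sum_congr rfl fun a _ => ?_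
  rw [mul_inv, div_eq_mul_inv]
  ring

variable {α : L → ℂ} (hα : Cfsg.IsClassFunction L α)
include hα

theorem dadeIsometry_apply {g : G} {a : L} (ha : (a : G) ∈ A) {x u : G} (hu : u ∈ H (a : G))
    (hx : x * g * x⁻¹ = (a : G) * u) : Cfsg.dadeIsometry A L H α g = α a := by
  have hex : ∃ b : L, (b : G) ∈ A ∧ ∃ x : G, ∃ v ∈ H (b : G), x * g * x⁻¹ = (b : G) * v :=
    ⟨a, ha, x, u, hu, hx⟩
  rw [Cfsg.dadeIsometry, dif_pos hex]
  obtain ⟨hb, y, v, hv, hy⟩ := Classical.choose_spec hex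
  obtain ⟨l, hl, hla⟩ := dade_conj_in_L hD ha hb hu hv (g := y * x⁻¹)
    (by rw [← hx, ← hy]; group)
  rw [show Classical.choose hex = ⟨l, hl⟩ * a * (⟨l, hl⟩ : L)⁻¹ from Subtype.ext hla.symm]
  exact hα a ⟨l, hl⟩

theorem isClassFunction_dadeIsometry : Cfsg.IsClassFunction G (Cfsg.dadeIsometry A L H α) := by
  intro g h
  by_cases hg : ∃ a : L, (a : G) ∈ A ∧ ∃ x : G, ∃ u ∈ H (a : G), x * g * x⁻¹ = (a : G) * u
  · obtain ⟨a, ha, x, u, hu, hx⟩ := hg
    rw [dadeIsometry_apply hD hα ha hu hx,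
      dadeIsometry_apply hD hα ha hu (g := h * g * h⁻¹) (x := x * h⁻¹) (by rw [← hx]; group)]
  · simp only [Cfsg.dadeIsometry]
    rw [dif_neg hg, dif_neg]
    rintro ⟨a, ha, x, u, hu, hx⟩
    exact hg ⟨a, ha, x * h, u, hu, by rw [← hx]; group⟩

omit hα in
theorem dadeIsometry_eq_zero {g : G}
    (hg : ¬ ∃ a ∈ A, ∃ u ∈ H a, ∃ x : G, x * g * x⁻¹ = a * u) :
    Cfsg.dadeIsometry A L H α g = 0 := by
  rw [Cfsg.dadeIsometry, dif_neg]
  rintro ⟨a, ha, x, u, hu, hx⟩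
  exact hg ⟨a, ha, u, hu, x, hx⟩

omit hα in
theorem dadeIsometry_apply_one : Cfsg.dadeIsometry A L H α 1 = 0 := by
  refine dadeIsometry_eq_zero hD ?_
  rintro ⟨a, ha, u, hu, x, hx⟩
  rw [mul_one, mul_inv_cancel, eq_comm, mul_eq_one_iff_eq_inv] at hx
  have hmem : a ∈ H a ⊓ (L ⊓ Subgroup.centralizer ({a} : Set G)) :=
    ⟨hx ▸ (H a).inv_mem hu, dade_self_mem hD ha⟩
  rw [hD.inf_eq_bot a ha, Subgroup.mem_bot] at hmem
  exact hD.one_not_mem (hmem ▸ ha)

/-- The adjoint of the Dade map. -/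
theorem classInner_dadeIsometry [Fintype G] [Fintype L] (hαA : ∀ x : L, (x : G) ∉ A → α x = 0)
    {χ : G → ℂ} {ψ : L → ℂ} (hχ : Cfsg.IsClassFunction G χ)
    (hψ : ∀ a : L, (a : G) ∈ A → ψ a =
      (Nat.card (H (a : G)) : ℂ)⁻¹ * ∑ᶠ u ∈ (H (a : G) : Set G), χ ((a : G) * u)) :
    Cfsg.classInner (Cfsg.dadeIsometry A L H α) χ = Cfsg.classInner α ψ := by
  classical
  have hs := dade_sum hD (F := fun g => Cfsg.dadeIsometry A L H α g * conj (χ g))
    (fun g x => by rw [isClassFunction_dadeIsometry hD hα g x, hχ g x])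
    (fun g hg => by rw [dadeIsometry_eq_zero hD hg, zero_mul])
  rw [classInner_def, classInner_def, hs, ← mul_assoc, Finset.sum_filter, Finset.mul_sum,
    Finset.mul_sum]
  refine Finset.sum_congr rfl fun a _ => ?_
  split_ifs with ha
  · have hG0 : (Nat.card G : ℂ) ≠ 0 := by exact_mod_cast Nat.card_pos.ne'
    rw [← mul_div_assoc, inv_mul_cancel₀ hG0, one_div, hψ a ha, map_mul, map_inv₀, map_natCast,
      finsum_mem_eq_finite_toFinset_sum _ (Set.toFinite _),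
      finsum_mem_eq_finite_toFinset_sum _ (Set.toFinite _), map_sum, Finset.mul_sum,
      Finset.mul_sum, Finset.mul_sum]
    rw [Finset.mul_sum, Finset.mul_sum]
    refine Finset.sum_congr rfl fun u hu => ?_
    rw [Set.Finite.mem_toFinset] at hu
    rw [dadeIsometry_apply hD hα ha hu (x := 1) (by group)]
    ring
  · simp [hαA a ha]

theorem classInner_dadeIsometry_dadeIsometry [Fintype G] [Fintype L]
    (hαA : ∀ x : L, (x : G) ∉ A → α x = 0) {β : L → ℂ} (hβ : Cfsg.IsClassFunction L β) :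
    Cfsg.classInner (Cfsg.dadeIsometry A L H α) (Cfsg.dadeIsometry A L H β) =
      Cfsg.classInner α β := by
  refine classInner_dadeIsometry hD hα hαA (isClassFunction_dadeIsometry hD hβ) fun a ha => ?_
  rw [finsum_mem_eq_finite_toFinset_sum _ (Set.toFinite _),
    Finset.sum_congr rfl fun u hu => dadeIsometry_apply hD hβ ha
      ((Set.Finite.mem_toFinset _).1 hu) (x := 1) (by group),
    Finset.sum_const, nsmul_eq_mul, ← Set.ncard_eq_toFinset_card]
  rw [← Nat.card_coe_set_eq]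
  exact (inv_mul_cancel_left₀ (by exact_mod_cast Nat.card_pos.ne') _).symm

end Elements

end CfsgLib.Char
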