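import Cfsg.Agent.Char.Projective
import Mathlib.LinearAlgebra.Matrix.Basis

/-!
# Multiples of an irreducible representation in coordinates

Maps between powers `ι → U` of the space of an irreducible representation which commute with the
diagonal action are given by scalar matrices.
-/

set_option autoImplicit false
set_option linter.style.haveILetI false
set_option linter.unusedSectionVars false

namespace CfsgLib.Char

open Module Representation

universe u v

variable {ι κ μ : Type} [Fintype ι] [Fintype κ] [Fintype μ]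
variable {U : Type v} [AddCommGroup U] [Module ℂ U]

/-- The map between powers of `U` given by a scalar matrix. -/
def rmat (b : Matrix κ ι ℂ) : (ι → U) →ₗ[ℂ] (κ → U) where
  toFun v k := ∑ i, b k i • v i
  map_add' v w := by funext k; simp [smul_add, Finset.sum_add_distrib]
  map_smul' c v := by funext k; simp [Finset.smul_sum, smul_comm c]

theorem rmat_apply (b : Matrix κ ι ℂ) (v : ι → U) (k : κ) : rmat b v k = ∑ i, b k i • v i := rfl

theorem rmat_mul (b : Matrix κ ι ℂ) (c : Matrix ι μ ℂ) :
    rmat (U := U) (b * c) = (rmat b).comp (rmat c) := by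
  refine LinearMap.ext fun v => funext fun k => ?_
  simp only [rmat_apply, LinearMap.comp_apply, Finset.smul_sum, Matrix.mul_apply, Finset.sum_smul,
    smul_smul]
  exact Finset.sum_comm

theorem rmat_one [DecidableEq ι] : rmat (U := U) (1 : Matrix ι ι ℂ) = LinearMap.id := by
  refine LinearMap.ext fun v => funext fun k => ?_
  rw [rmat_apply, LinearMap.id_apply, Finset.sum_eq_single k (fun i _ hi => ?_) (by simp)]
  · simp
  · simp [Matrix.one_apply_ne (Ne.symm hi)]

theorem rmat_smul (c : ℂ) (b : Matrix κ ι ℂ) : rmat (U := U) (c • b) = c • rmat b := by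
  refine LinearMap.ext fun v => funext fun k => ?_
  simp [rmat_apply, Finset.smul_sum, smul_smul]

theorem rmat_add (b b' : Matrix κ ι ℂ) : rmat (U := U) (b + b') = rmat b + rmat b' := by
  refine LinearMap.ext fun v => funext fun k => ?_
  simp [rmat_apply, add_smul, Finset.sum_add_distrib]

/-- The matrix coefficients of a map, read off at a vector and a functional. -/
def coef [DecidableEq ι] (u₀ : U) (ξ : U →ₗ[ℂ] ℂ) : ((ι → U) →ₗ[ℂ] (κ → U)) →ₗ[ℂ] Matrix κ ι ℂ where
  toFun f := Matrix.of fun k i => ξ (f (Pi.single i u₀) k)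
  map_add' f g := by ext k i; simp
  map_smul' c f := by ext k i; simp

theorem coef_rmat [DecidableEq ι] {u₀ : U} {ξ : U →ₗ[ℂ] ℂ} (hξ : ξ u₀ = 1) (b : Matrix κ ι ℂ) :
    coef u₀ ξ (rmat b) = b := by
  ext k i
  change ξ (rmat b (Pi.single i u₀) k) = b k i
  rw [rmat_apply, Finset.sum_eq_single i (fun j _ hj => ?_) (by simp)]
  · simp [hξ]
  · simp [Pi.single_eq_of_ne hj]

/-- An operator of `U` acting on every coordinate. -/
def diagEnd (ι : Type) (X : Module.End ℂ U) : Module.End ℂ (ι → U) :=
  LinearMap.pi fun i => X.comp (LinearMap.proj i)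

theorem diagEnd_apply (X : Module.End ℂ U) (v : ι → U) (i : ι) : diagEnd ι X v i = X (v i) := rfl

theorem diagEnd_comp_rmat (X : Module.End ℂ U) (b : Matrix κ ι ℂ) :
    (diagEnd κ X).comp (rmat b) = (rmat b).comp (diagEnd ι X) := by
  refine LinearMap.ext fun v => funext fun k => ?_
  simp [rmat_apply, diagEnd_apply, map_sum, map_smul]

/-- The diagonal operators, as a monoid homomorphism. -/
def diagHom (ι : Type) : Module.End ℂ U →* Module.End ℂ (ι → U) where
  toFun := diagEnd ι
  map_one' := rfl
  map_mul' _ _ := rfl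

theorem diagEnd_eq_rmat_imp [DecidableEq ι] {u₀ : U} {ξ : U →ₗ[ℂ] ℂ} (hξ : ξ u₀ = 1)
    {X : Module.End ℂ U} {b : Matrix ι ι ℂ} (h : rmat b = diagEnd ι X) :
    b = ξ (X u₀) • (1 : Matrix ι ι ℂ) := by
  rw [← coef_rmat hξ b, h]
  ext k i
  change ξ (X ((Pi.single i u₀ : ι → U) k)) = _
  by_cases hki : k = i
  · subst hki; simp
  · simp [Pi.single_eq_of_ne hki, hki]

theorem trace_diagEnd [DecidableEq ι] [FiniteDimensional ℂ U] (X : Module.End ℂ U) :
    LinearMap.trace ℂ (ι → U) (diagEnd ι X) = Fintype.card ι * LinearMap.trace ℂ U X := by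
  have h : diagEnd ι X = ∑ i, (LinearMap.single ℂ (fun _ : ι => U) i).comp (X.comp (LinearMap.proj i)) := by
    refine LinearMap.ext fun v => funext fun j => ?_
    rw [LinearMap.sum_apply, Finset.sum_apply, Finset.sum_eq_single j (fun i _ hi => ?_) (by simp)]
    · simp [diagEnd_apply]
    · simp [Pi.single_eq_of_ne (Ne.symm hi)]
  rw [h, map_sum, Finset.sum_congr rfl (g := fun _ => LinearMap.trace ℂ U X) fun i _ => ?_,
    Finset.sum_const, Finset.card_univ, nsmul_eq_mul]
  rw [LinearMap.trace_comp_comm', LinearMap.comp_assoc, LinearMap.proj_comp_single_same,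
    LinearMap.comp_id]

section Rep

variable {N : Type u} [Group N]

/-- The direct power of a representation. -/
def diagRep (σ : Representation ℂ N U) (ι : Type) : Representation ℂ N (ι → U) :=
  (diagHom ι).comp σ

theorem diagRep_apply (σ : Representation ℂ N U) (n : N) : diagRep σ ι n = diagEnd ι (σ n) := rfl

theorem character_diagRep [DecidableEq ι] [FiniteDimensional ℂ U] (σ : Representation ℂ N U) :
    (diagRep σ ι).character = fun n => (Fintype.card ι : ℂ) * σ.character n :=
  funext fun n => trace_diagEnd (σ n)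

/-- Maps commuting with the diagonal action are given by scalar matrices. -/
theorem eq_rmat_of_commute [DecidableEq ι] [DecidableEq κ] [FiniteDimensional ℂ U]
    (σ : Representation ℂ N U) [σ.IsIrreducible] {u₀ : U} {ξ : U →ₗ[ℂ] ℂ} (hξ : ξ u₀ = 1)
    (f : (ι → U) →ₗ[ℂ] (κ → U))
    (hf : ∀ n, f.comp (diagEnd ι (σ n)) = (diagEnd κ (σ n)).comp f) :
    rmat (coef u₀ ξ f) = f := by
  refine LinearMap.pi_ext' fun i => LinearMap.ext fun u => funext fun k => ?_
  set F : Module.End ℂ U := (LinearMap.proj k).comp (f.comp (LinearMap.single ℂ (fun _ : ι => U) i))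
  obtain ⟨c, hc⟩ : ∃ c : ℂ, F = c • (1 : Module.End ℂ U) := by
    refine ⟨_, eq_smul_one_of_commute σ F fun n => LinearMap.ext fun x => ?_⟩
    have h1 := congrFun (LinearMap.congr_fun (hf n) (Pi.single i x)) k
    have h2 : diagEnd ι (σ n) (Pi.single i x) = Pi.single i (σ n x) := by
      funext j
      rw [diagEnd_apply]
      by_cases hj : j = i
      · subst hj; simp
      · simp [Pi.single_eq_of_ne hj]
    simp only [LinearMap.comp_apply, h2, diagEnd_apply] at h1
    simpa [F] using h1.symm
  have hb : coef u₀ ξ f k i = c := by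
    change ξ (F u₀) = c
    rw [hc]
    simp [hξ]
  simp only [LinearMap.comp_apply, LinearMap.coe_single]
  rw [rmat_apply, Finset.sum_eq_single i (fun j _ hj => ?_) (by simp)]
  · rw [Pi.single_eq_same, hb]
    change c • u = F u
    rw [hc]
    simp
  · simp [Pi.single_eq_of_ne hj]

end Rep

/-- Every nonzero space has a vector and a functional taking the value one on it. -/
theorem exists_dual_pair [Nontrivial U] : ∃ (u₀ : U) (ξ : U →ₗ[ℂ] ℂ), ξ u₀ = 1 := by
  obtain ⟨u₀, hu⟩ := exists_ne (0 : U)
  obtain ⟨ξ, hξ⟩ : ∃ ξ : U →ₗ[ℂ] ℂ, ξ u₀ ≠ 0 := by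
    by_contra h
    push Not at h
    exact hu ((Module.forall_dual_apply_eq_zero_iff ℂ u₀).1 h)
  exact ⟨u₀, (ξ u₀)⁻¹ • ξ, by simp [hξ]⟩

end CfsgLib.Char
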