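import Cfsg.Agent.Char.ExtendGlue

/-!
# Exponents from linear constituents on an intersection (Dade)
-/

set_option autoImplicit false
set_option linter.style.haveILetI false
set_option linter.unusedSectionVars false

namespace CfsgLib.Char

open Module Representation
open scoped ComplexConjugate

universe u v

variable {G : Type u} [Group G] [Finite G] {N : Subgroup G} [hN : N.Normal]
  {W : Type v} [AddCommGroup W] [Module ℂ W] [FiniteDimensional ℂ W]
  (σ : Representation ℂ N W) [hirr : σ.IsIrreducible]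

/-- The multiplicity in `σ` of the restriction to `E ⊓ N` of a linear character of a supplement `E`
is an exponent of the scalar part. -/
theorem multiplicity_mem_extExponents (hinv : ∀ g : G, conjOn g σ.character = σ.character)
    (E : Subgroup G) (htop : E ⊔ N = ⊤) [Fintype ↥(E ⊓ N)] (μ : E →* ℂˣ) (m : ℕ)
    (hm : (Nat.card ↥(E ⊓ N) : ℂ)⁻¹ * ∑ x : ↥(E ⊓ N),
      σ.character ⟨(x : G), x.2.2⟩ * conj ((μ ⟨(x : G), x.2.1⟩ : ℂˣ) : ℂ) = m) :
    (m : ℤ) ∈ extExponents (scalarBase σ) := by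
  classical
  let φ : ↥(E ⊓ N) →* ℂˣ := μ.comp (Subgroup.inclusion inf_le_left)
  let s : ↥(E ⊓ N) →* Module.End ℂ W := σ.comp (Subgroup.inclusion inf_le_right)
  let X : Module.End ℂ W := ∑ x : ↥(E ⊓ N), ((φ x)⁻¹ : ℂˣ).val • s x
  let e : Module.End ℂ W := (Nat.card ↥(E ⊓ N) : ℂ)⁻¹ • X
  have hsX : ∀ y, s y * X = (φ y : ℂ) • X := by
    intro y
    simp only [X, Finset.mul_sum, Finset.smul_sum]
    refine Fintype.sum_equiv (Equiv.mulLeft y) _ _ fun x => ?_
    rw [mul_smul_comm, Equiv.coe_mulLeft, map_mul φ, mul_inv, map_mul s, smul_smul, Units.val_mul,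
      ← mul_assoc, ← Units.val_mul, mul_inv_cancel, Units.val_one, one_mul]
  have hse : ∀ y, s y * e = (φ y : ℂ) • e := fun y => by
    simp only [e, mul_smul_comm, hsX, smul_comm (φ y : ℂ)]
  have hcard : (Nat.card ↥(E ⊓ N) : ℂ) ≠ 0 := Nat.cast_ne_zero.2 Nat.card_pos.ne'
  have hee : e * e = e := by
    conv_lhs => arg 1; simp only [e, X]
    rw [smul_mul_assoc, Finset.sum_mul]
    have : ∀ x, ((φ x)⁻¹ : ℂˣ).val • s x * e = e := fun x => by
      rw [smul_mul_assoc, hse, smul_smul, ← Units.val_mul, inv_mul_cancel, Units.val_one, one_smul]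
    rw [Finset.sum_congr rfl fun x _ => this x, Finset.sum_const, Finset.card_univ,
      ← Nat.cast_smul_eq_nsmul ℂ, smul_smul, Fintype.card_eq_nat_card, inv_mul_cancel₀ hcard,
      one_smul]
  obtain ⟨htr, hdet⟩ := det_smul_idempotent hee
  have hrank : finrank ℂ (LinearMap.range e) = m := by
    have h1 : LinearMap.trace ℂ W e = (m : ℂ) := by
      rw [← hm]
      simp only [e, X, map_smul, map_sum, smul_eq_mul]
      congr 1
      refine Finset.sum_congr rfl fun x _ => ?_
      rw [conj_eq_inv_hom μ, mul_comm]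
      simp only [Representation.character, φ, s, MonoidHom.comp_apply, MonoidHom.coe_comp,
        Function.comp_apply, Subgroup.coe_inclusion, map_inv]
      rfl
    rw [h1] at htr
    exact_mod_cast htr.symm
  set ΓE := E.comap (intertwinersProj σ)
  have hTe : ∀ γ : ΓE, ((γ : intertwiners σ).1.2 : Module.End ℂ W) * e =
      e * ((γ : intertwiners σ).1.2 : Module.End ℂ W) := by
    intro γ
    obtain ⟨⟨⟨g, T⟩, hT⟩, hg⟩ := γ
    replace hg : g ∈ E := hg
    change (T : Module.End ℂ W) * e = e * T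
    simp only [e, X, mul_smul_comm, smul_mul_assoc, Finset.mul_sum, Finset.sum_mul]
    congr 1
    let cj : ↥(E ⊓ N) ≃ ↥(E ⊓ N) :=
      { toFun := fun x => ⟨g * x * g⁻¹, E.mul_mem (E.mul_mem hg x.2.1) (E.inv_mem hg),
          hN.conj_mem _ x.2.2 g⟩
        invFun := fun x => ⟨g⁻¹ * x * g, E.mul_mem (E.mul_mem (E.inv_mem hg) x.2.1) hg,
          by simpa using hN.conj_mem _ x.2.2 g⁻¹⟩
        left_inv := fun x => Subtype.ext (by simp [mul_assoc])
        right_inv := fun x => Subtype.ext (by simp [mul_assoc]) }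
    refine Fintype.sum_equiv cj _ _ fun x => ?_
    have h1 : φ (cj x) = φ x := by
      change μ (⟨g, hg⟩ * ⟨x, x.2.1⟩ * (⟨g, hg⟩ : E)⁻¹) = μ ⟨x, x.2.1⟩
      rw [map_mul, map_mul, map_inv, mul_inv_cancel_comm]
    rw [h1]
    congr 1
    exact hT ⟨x, x.2.2⟩
  let D0 : ΓE →* Module.End ℂ W :=
    { toFun := fun γ => ((γ : intertwiners σ).1.2 : Module.End ℂ W) * e + (1 - e)
      map_one' := by simp
      map_mul' := fun γ δ => by
        have h := hTe δ
        simp only [Subgroup.coe_mul, Prod.snd_mul, Units.val_mul, add_mul, mul_add, mul_sub,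
          sub_mul, one_mul, mul_one, hee]
        rw [mul_assoc _ e, ← mul_assoc e, ← h]
        simp only [mul_assoc, hee, ← h]
        abel }
  let D : ΓE →* ℂˣ := (Units.map (LinearMap.det : Module.End ℂ W →* ℂ)).comp D0.toHomUnits
  let ν : ΓE →* ℂˣ := D * ((μ.comp ((intertwinersProj σ).subgroupComap E)) ^ m)⁻¹
  have hB : (N.comap (intertwinersProj σ)) ⊔ ΓE = ⊤ := by
    refine eq_top_iff.2 fun γ _ => ?_
    obtain ⟨n, hn, a, ha, hna⟩ := Subgroup.mem_sup_of_normal_left.1
      (show intertwinersProj σ γ ∈ N ⊔ E by rw [sup_comm, htop]; exact Subgroup.mem_top _)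
    obtain ⟨δ, rfl⟩ := intertwinersProj_surjective σ hinv a
    refine Subgroup.mem_sup_of_normal_left.2 ⟨γ * δ⁻¹, ?_, δ, ha, inv_mul_cancel_right γ δ⟩
    rw [Subgroup.mem_comap, map_mul, map_inv, ← hna, mul_inv_cancel_right]
    exact hn
  suffices h : (∀ (γ : intertwiners σ) (h1 : γ ∈ N.comap (intertwinersProj σ)) (h2 : γ ∈ ΓE),
      (scalarBase σ ^ m) ⟨γ, h1⟩ = ν ⟨γ, h2⟩) by
    obtain ⟨F, hF, -⟩ := exists_hom_glue (N.comap (intertwinersProj σ)) ΓE hB
      (scalarBase σ ^ m) ν h fun k x => by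
        rw [MonoidHom.pow_apply, MonoidHom.pow_apply]
        exact congrArg (· ^ m) (scalarBase_conj σ (k : intertwiners σ) x)
    exact ⟨F, fun c => (hF c).trans (zpow_natCast _ m).symm⟩
  intro γ h1 h2
  rw [MonoidHom.pow_apply, MonoidHom.mul_apply, MonoidHom.inv_apply, eq_mul_inv_iff_mul_eq,
    MonoidHom.pow_apply, ← mul_pow]
  refine Units.ext ?_
  change _ = LinearMap.det ((γ.1.2 : Module.End ℂ W) * e + (1 - e))
  let x : ↥(E ⊓ N) := ⟨γ.1.1, h2, h1⟩
  have hc : (γ.1.2 : Module.End ℂ W) = ((scalarBase σ ⟨γ, h1⟩ : ℂˣ) : ℂ) • s x :=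
    scalarBase_spec σ ⟨γ, h1⟩
  rw [hc, smul_mul_assoc, hse, smul_smul, hdet, hrank, Units.val_pow_eq_pow_val, Units.val_mul]
  rfl

end CfsgLib.Char
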