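import Mathlib.GroupTheory.Transfer
import Mathlib.GroupTheory.Archimedean
import Mathlib.Algebra.Group.Subgroup.ZPowers.Basic
import Mathlib.Data.Int.GCD
import Mathlib.RingTheory.Coprime.Basic
import Mathlib.RingTheory.PrincipalIdealDomain

/-!
# Extending a homomorphism to an abelian group from a normal subgroup by transfer
-/

set_option autoImplicit false

namespace CfsgLib.Char

universe u v

variable {Γ : Type u} [Group Γ] {A : Type v} [CommGroup A]

/-- The transfer on a normal subgroup on which the homomorphism is invariant. -/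
theorem transfer_apply_of_invariant {H C : Subgroup Γ} [H.FiniteIndex] [hC : C.Normal]
    (hCH : C ≤ H) (ν : H →* A)
    (hinv : ∀ (γ : Γ) (c : C), ν ⟨γ * c * γ⁻¹, hCH (hC.conj_mem c c.2 γ)⟩ = ν ⟨c, hCH c.2⟩)
    (c : C) : MonoidHom.transfer ν (c : Γ) = ν ⟨c, hCH c.2⟩ ^ H.index := by
  rw [MonoidHom.transfer_def ν (default : H.LeftTransversal) (c : Γ)]
  unfold Subgroup.leftTransversals.diff
  dsimp only
  letI := H.fintypeQuotientOfFiniteIndex
  have hfix : ∀ q : Γ ⧸ H, (c : Γ)⁻¹ • q = q := fun q => by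
    induction q using QuotientGroup.induction_on with | _ x =>
    change ((((c : Γ)⁻¹ * x : Γ)) : Γ ⧸ H) = x
    rw [QuotientGroup.eq]
    have := hCH (hC.conj_mem _ c.2 x⁻¹)
    simpa [mul_assoc] using this
  rw [Finset.prod_congr rfl fun q _ => ?_, Finset.prod_const]
  · congr 1
    rw [Finset.card_univ, ← Nat.card_eq_fintype_card]
    rfl
  · have h1 := Subgroup.smul_apply_eq_smul_apply_inv_smul (c : Γ)
      (default : H.LeftTransversal) q
    rw [hfix] at h1
    refine Eq.trans (congrArg ν (Subtype.ext ?_))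
      (hinv ((((default : H.LeftTransversal).2.leftQuotientEquiv q : _) : Γ))⁻¹ c)
    simp only [inv_inv, h1, smul_eq_mul, mul_assoc]

theorem transfer_pow_eq_one {H : Subgroup Γ} [H.FiniteIndex] (ν : H →* A) {o : ℕ}
    (h : ∀ x, ν x ^ o = 1) (g : Γ) : MonoidHom.transfer ν g ^ o = 1 := by
  rw [MonoidHom.transfer_def ν (default : H.LeftTransversal) g]
  unfold Subgroup.leftTransversals.diff
  dsimp only
  rw [← Finset.prod_pow]
  exact Finset.prod_eq_one fun q _ => h _

/-- The exponents `k` for which the `k`-th power of a homomorphism on a subgroup extends. -/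
def extExponents {C : Subgroup Γ} (f : C →* A) : AddSubgroup ℤ where
  carrier := {k | ∃ F : Γ →* A, ∀ c : C, F c = f c ^ k}
  zero_mem' := ⟨1, fun c => by simp⟩
  add_mem' := by
    rintro a b ⟨F, hF⟩ ⟨F', hF'⟩
    exact ⟨F * F', fun c => by rw [MonoidHom.mul_apply, hF, hF', zpow_add]⟩
  neg_mem' := by
    rintro a ⟨F, hF⟩
    exact ⟨F⁻¹, fun c => by rw [MonoidHom.inv_apply, hF, zpow_neg]⟩

theorem exists_extend_of_exponents {C : Subgroup Γ} (f : C →* A)
    (h : ∀ p : ℕ, p.Prime → ∃ k : ℕ, ¬ p ∣ k ∧ (k : ℤ) ∈ extExponents f) :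
    ∃ F : Γ →* A, ∀ c : C, F c = f c := by
  obtain ⟨d, hd⟩ := Int.subgroup_cyclic (extExponents f)
  have h1 : (1 : ℤ) ∈ extExponents f := by
    have hd1 : d.natAbs = 1 := by
      by_contra hne
      obtain ⟨p, hp, hpd⟩ := Nat.exists_prime_and_dvd hne
      obtain ⟨k, hk, hmem⟩ := h p hp
      rw [hd, AddSubgroup.mem_closure_singleton] at hmem
      obtain ⟨n, hn⟩ := hmem
      apply hk
      have : d.natAbs ∣ k := ⟨n.natAbs, by
        have := congrArg Int.natAbs hn
        simp [Int.natAbs_mul] at this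
        rw [← this, mul_comm]⟩
      exact hpd.trans this
    rw [hd, AddSubgroup.mem_closure_singleton]
    rcases Int.natAbs_eq d with h' | h' <;> rw [h', hd1]
    · exact ⟨1, by simp⟩
    · exact ⟨-1, by simp⟩
  obtain ⟨F, hF⟩ := h1
  exact ⟨F, fun c => by rw [hF, zpow_one]⟩

theorem index_mem_extExponents {H C : Subgroup Γ} [H.FiniteIndex] [hC : C.Normal] (hCH : C ≤ H)
    (f : C →* A) (ν : H →* A) (hν : ∀ c : C, ν ⟨c, hCH c.2⟩ = f c)
    (hinv : ∀ (γ : Γ) (c : C), f ⟨γ * c * γ⁻¹, hC.conj_mem c c.2 γ⟩ = f c) :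
    (H.index : ℤ) ∈ extExponents f :=
  ⟨MonoidHom.transfer ν, fun c => by
    rw [transfer_apply_of_invariant hCH ν (fun γ c => by
      rw [hν c, ← hinv γ c, ← hν]) c, hν, zpow_natCast]⟩

end CfsgLib.Char
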