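import Cfsg.Agent.Char.FeitThompsonTI
import Cfsg.Agent.Char.Kernel
import Cfsg.Agent.Char.Linear

/-!
# Feit–Thompson: an abelian subgroup in general position is smaller than `(1 + χ(1))²`
-/

set_option autoImplicit false
set_option linter.style.haveILetI false

namespace CfsgLib.Char

open scoped ComplexConjugate

universe u

variable {G : Type u} [Group G] [Fintype G]

/-- If moreover `H` lies in no proper normal subgroup, `|H| < (1 + χ(1))²`. -/
theorem card_lt_one_add_degree_sq (H : Subgroup G) [Fintype H]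
    (hab : ∀ a ∈ H, ∀ b ∈ H, a * b = b * a) (hZ : H ⊓ Subgroup.center G = ⊥)
    (hone : ∀ g : G, g ∉ Subgroup.center G → ∀ a b : G,
      Subgroup.centralizer ({g} : Set G) ⊓ H.map (MulAut.conj a).toMonoidHom ≠ ⊥ →
      Subgroup.centralizer ({g} : Set G) ⊓ H.map (MulAut.conj b).toMonoidHom ≠ ⊥ →
      H.map (MulAut.conj a).toMonoidHom = H.map (MulAut.conj b).toMonoidHom)
    (hgen : ∀ M : Subgroup G, M.Normal → H ≤ M → M = ⊤)
    {χ : G → ℂ} (hχ : Cfsg.IsIrrCharacter G χ) {d : ℕ} (hd : χ 1 = d) (hd1 : d ≠ 1) :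
    (Nat.card H : ℝ) < (1 + (d : ℝ)) ^ 2 := by
  classical
  have hχC := IsIrrCharacter.isCharacter hχ
  have hd2 : 2 ≤ d := by
    have : (d : ℂ) ≠ 0 := hd ▸ IsIrrCharacter.apply_one_ne_zero hχ
    have : d ≠ 0 := by exact_mod_cast this
    omega
  set Γ : G → ℂ := χ * fun g => conj (χ g)
  have hΓ : Cfsg.IsCharacter G Γ := IsCharacter.mul hχC (IsCharacter.conj hχC)
  choose! a ha using fun θ (hθ : θ ∈ irrFinset G) =>
    IsCharacter.exists_classInner_eq_natCast hΓ (mem_irrFinset.1 hθ)
  choose! d' hd' using fun θ (hθ : θ ∈ irrFinset G) =>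
    IsCharacter.exists_degree (IsIrrCharacter.isCharacter (mem_irrFinset.1 hθ))
  choose! c hc using fun θ (hθ : θ ∈ irrFinset G) =>
    IsCharacter.exists_classInner_eq_natCast'
      (IsCharacter.restrict (IsIrrCharacter.isCharacter (mem_irrFinset.1 hθ)) H)
      (isCharacter_one (G := H))
  have hdec : ∀ x, Γ x = ∑ θ ∈ irrFinset G, (a θ : ℂ) * θ x := fun x => by
    conv_lhs => rw [eq_sum_irr (IsCharacter.isClassFunction hΓ)]
    rw [Finset.sum_apply]
    exact Finset.sum_congr rfl fun θ hθ => by rw [Pi.smul_apply, smul_eq_mul, ha θ hθ]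
  have h1mem : (fun _ : G => (1 : ℂ)) ∈ irrFinset G := mem_irrFinset.2 isIrrCharacter_one
  have ha1 : a (fun _ => 1) = 1 := by
    have h1 : Cfsg.classInner Γ (fun _ => 1) = 1 := by
      refine Eq.trans ?_ (IsIrrCharacter.classInner_self hχ)
      rw [classInner_def, classInner_def]
      congr 1
      exact Finset.sum_congr rfl fun g _ => by simp only [Γ, Pi.mul_apply, map_one, mul_one]
    rw [ha _ h1mem] at h1
    exact_mod_cast h1
  have hd'1 : d' (fun _ => 1) = 1 := by
    have h1 := hd' _ h1mem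
    exact_mod_cast h1.symm
  have hc1 : c (fun _ => 1) = 1 := by
    have h1 := hc _ h1mem
    rw [classInner_one_one] at h1
    exact_mod_cast h1.symm
  -- the degree
  have hdeg : d ^ 2 = 1 + ∑ θ ∈ (irrFinset G).erase (fun _ => 1), a θ * d' θ := by
    have h1 := hdec 1
    simp only [Γ, Pi.mul_apply, hd, Complex.conj_natCast] at h1
    rw [Finset.sum_congr rfl fun θ hθ => by rw [hd' θ hθ]] at h1
    have h2 : d * d = ∑ θ ∈ irrFinset G, a θ * d' θ := by exact_mod_cast h1
    rw [pow_two, h2, ← Finset.add_sum_erase _ _ h1mem, ha1, hd'1, mul_one]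
  -- the fixed points
  have hfix : d ≤ 1 + ∑ θ ∈ (irrFinset G).erase (fun _ => 1), a θ * c θ := by
    have hres := IsCharacter.restrict hχC H
    choose! m hm using fun l (hl : l ∈ irrFinset H) =>
      IsCharacter.exists_classInner_eq_natCast hres (mem_irrFinset.1 hl)
    have hlin : ∀ l ∈ irrFinset H, l 1 = 1 := fun l hl =>
      IsIrrCharacter.apply_one_eq_one (mem_irrFinset.1 hl) fun x y => Subtype.ext (hab x x.2 y y.2)
    have hres_dec : (fun u : H => χ u) = ∑ l ∈ irrFinset H, (m l : ℂ) • l := by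
      conv_lhs => rw [eq_sum_irr (IsCharacter.isClassFunction hres)]
      exact Finset.sum_congr rfl fun l hl => by rw [hm l hl]
    have h1 : d = ∑ l ∈ irrFinset H, m l := by
      have := congrFun hres_dec 1
      simp only [OneMemClass.coe_one, hd, Finset.sum_apply, Pi.smul_apply, smul_eq_mul] at this
      rw [Finset.sum_congr rfl fun l hl => by rw [hlin l hl, mul_one]] at this
      exact_mod_cast this
    have h2 : Cfsg.classInner (fun u : H => χ u) (fun u : H => χ u) =
        ((∑ l ∈ irrFinset H, m l * m l : ℕ) : ℂ) := by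
      conv_lhs => arg 2; rw [hres_dec]
      rw [classInner_sum_right, Nat.cast_sum]
      refine Finset.sum_congr rfl fun l hl => ?_
      rw [classInner_smul_right, hm l hl, Complex.conj_natCast, Nat.cast_mul]
    have h3 : Cfsg.classInner (fun u : H => χ u) (fun u : H => χ u) =
        ((∑ θ ∈ irrFinset G, a θ * c θ : ℕ) : ℂ) := by
      have e1 : Cfsg.classInner (fun u : H => χ u) (fun u : H => χ u) =
          Cfsg.classInner (fun u : H => Γ u) (fun _ => 1) := by
        rw [classInner_def, classInner_def]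
        congr 1
        exact Finset.sum_congr rfl fun g _ => by simp only [Γ, Pi.mul_apply, map_one, mul_one]
      rw [e1, show (fun u : H => Γ u) = ∑ θ ∈ irrFinset G, (a θ : ℂ) • fun u : H => θ u by
          funext u; simp [hdec, Finset.sum_apply],
        classInner_sum_left, Nat.cast_sum]
      refine Finset.sum_congr rfl fun θ hθ => ?_
      rw [classInner_smul_left, hc θ hθ, Nat.cast_mul]
    rw [h2, Nat.cast_inj] at h3
    have h5 : ∑ l ∈ irrFinset H, m l ≤ ∑ l ∈ irrFinset H, m l * m l :=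
      Finset.sum_le_sum fun l _ => Nat.le_mul_self _
    rw [← h1, h3, ← Finset.add_sum_erase _ _ h1mem, ha1, hc1, mul_one] at h5
    exact h5
  -- the bound for each constituent
  set s := Real.sqrt (Nat.card H : ℝ)
  have hs : s ^ 2 = (Nat.card H : ℝ) := Real.sq_sqrt (Nat.cast_nonneg _)
  have hs0 : 0 ≤ s := Real.sqrt_nonneg _
  have hbound : ∀ θ ∈ (irrFinset G).erase (fun _ => 1), s * c θ < d' θ := by
    intro θ hθ
    obtain ⟨hne, hθm⟩ := Finset.mem_erase.1 hθ
    have hθi := mem_irrFinset.1 hθm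
    have hker : ∃ h ∈ H, θ h ≠ θ 1 := by
      by_contra! hall
      apply hne
      have hc' := IsIrrCharacter.isCharacter hθi
      have htop := hgen (kerSubgroup hc') (kerSubgroup_normal hc') fun h hh => hall h hh
      have hconst : ∀ x, θ x = θ 1 := fun x =>
        show x ∈ kerSubgroup hc' from htop ▸ Subgroup.mem_top x
      have h1 : θ 1 = 1 := by
        obtain ⟨n, ρ, hρ, rfl⟩ := id hθi
        have hone : ∀ x, ρ x = 1 := fun x =>
          (character_eq_iff ρ x).1 ((hconst x).trans ρ.char_one)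
        obtain ⟨e, he0, he⟩ := IsIrrCharacter.exists_degree hθi
        have hn := IsIrrCharacter.classInner_self hθi
        simp only [classInner_def, hconst, he, Complex.conj_natCast, Finset.sum_const,
          Finset.card_univ, nsmul_eq_mul, Fintype.card_eq_nat_card] at hn
        rw [← mul_assoc, inv_mul_cancel₀ (Nat.cast_ne_zero.2 Nat.card_pos.ne'), one_mul] at hn
        have : e * e = 1 := by exact_mod_cast hn
        rw [he, Nat.eq_one_of_mul_eq_one_right this, Nat.cast_one]
      funext x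
      rw [hconst, h1]
    obtain ⟨d1, c1, hd1', hc1', hlt⟩ := card_mul_sq_lt_degree_sq H hab hZ hone hθi hker
    rw [hd' θ hθm, Nat.cast_inj] at hd1'
    rw [hc θ hθm, Nat.cast_inj] at hc1'
    subst hd1' hc1'
    refine lt_of_pow_lt_pow_left₀ 2 (Nat.cast_nonneg _) ?_
    rw [mul_pow, hs]
    exact hlt
  obtain ⟨θ0, hθ0, hθ0a⟩ : ∃ θ ∈ (irrFinset G).erase (fun _ => 1), a θ ≠ 0 := by
    by_contra! hall
    rw [Finset.sum_eq_zero fun θ hθ => by rw [hall θ hθ, zero_mul]] at hdeg
    have : 2 ^ 2 ≤ d ^ 2 := Nat.pow_le_pow_left hd2 2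
    omega
  have hlt : s * ((∑ θ ∈ (irrFinset G).erase (fun _ => 1), a θ * c θ : ℕ) : ℝ) <
      ((∑ θ ∈ (irrFinset G).erase (fun _ => 1), a θ * d' θ : ℕ) : ℝ) := by
    push_cast
    rw [Finset.mul_sum]
    refine Finset.sum_lt_sum (fun θ hθ => ?_) ⟨θ0, hθ0, ?_⟩
    · rw [mul_left_comm]
      exact mul_le_mul_of_nonneg_left (hbound θ hθ).le (Nat.cast_nonneg _)
    · rw [mul_left_comm]
      exact mul_lt_mul_of_pos_left (hbound θ0 hθ0) (by exact_mod_cast Nat.pos_of_ne_zero hθ0a)
  have e1 : (d : ℝ) ≤ 1 + ((∑ θ ∈ (irrFinset G).erase (fun _ => 1), a θ * c θ : ℕ) : ℝ) := by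
    exact_mod_cast hfix
  have e2 : (d : ℝ) ^ 2 = 1 + ((∑ θ ∈ (irrFinset G).erase (fun _ => 1), a θ * d' θ : ℕ) : ℝ) := by
    exact_mod_cast hdeg
  have hd2' : (2 : ℝ) ≤ d := by exact_mod_cast hd2
  have h1 : s * ((d : ℝ) - 1) < ((d : ℝ) + 1) * ((d : ℝ) - 1) := by
    have := mul_le_mul_of_nonneg_left (sub_le_iff_le_add'.2 e1) hs0
    nlinarith
  have h2 : s < (d : ℝ) + 1 := lt_of_mul_lt_mul_right h1 (by linarith)
  rw [← hs, add_comm (1 : ℝ)]
  exact pow_lt_pow_left₀ h2 hs0 two_ne_zero

end CfsgLib.Char
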