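import Cfsg.Agent.Char.CenterValues
import Cfsg.Agent.Char.Galois

/-!
# Feit–Thompson: degrees and abelian subgroups with disjoint centraliser sets
-/

set_option autoImplicit false
set_option linter.style.haveILetI false

namespace CfsgLib.Char

open scoped ComplexConjugate

universe u

/-- The part of a character that is not trivial on a normal subgroup. -/
theorem coset_average_split {N : Type u} [Group N] [Fintype N] (H : Subgroup N) [H.Normal]
    [Fintype H] {β : N → ℂ} (hβ : Cfsg.IsCharacter N β) (hne : ∃ u : H, β u ≠ β 1) :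
    ∑ g, ‖(Nat.card H : ℂ)⁻¹ * ∑ u : H, β (g * u)‖ ^ 2 + (Nat.card N : ℝ) ≤
      ∑ g, ‖β g‖ ^ 2 := by
  classical
  have hdich : ∀ θ : N → ℂ, Cfsg.IsIrrCharacter N θ →
      (∀ g : N, (Nat.card H : ℂ)⁻¹ * ∑ u : H, θ (g * u) = 0) ∨
        ∀ (g : N) (u : H), θ (g * u) = θ g := by
    intro θ hθ
    obtain ⟨n, ρ, hρ, rfl⟩ := id hθ
    haveI := hρ
    set S : Module.End ℂ (Fin n → ℂ) := ∑ u : H, ρ (u : N) with hS
    have hcomm : ∀ x, ρ x * S = S * ρ x := by
      intro x
      simp only [hS, Finset.mul_sum, Finset.sum_mul, ← map_mul]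
      refine Fintype.sum_equiv
        { toFun := fun u : H => ⟨x * u * x⁻¹, Subgroup.Normal.conj_mem inferInstance _ u.2 x⟩
          invFun := fun u : H => ⟨x⁻¹ * u * x, by
            simpa using Subgroup.Normal.conj_mem inferInstance _ u.2 x⁻¹⟩
          left_inv := fun u => Subtype.ext (by simp [mul_assoc])
          right_inv := fun u => Subtype.ext (by simp [mul_assoc]) } _ _ fun u => ?_
      congr 1
      simp [mul_assoc]
    have hScal := eq_smul_one_of_commute ρ S hcomm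
    set t := LinearMap.trace ℂ _ S / (Module.finrank ℂ (Fin n → ℂ) : ℂ)
    by_cases ht : t = 0
    · refine Or.inl fun g => ?_
      have h1 : ∑ u : H, ρ.character (g * u) = LinearMap.trace ℂ _ (ρ g * S) := by
        simp only [hS, Finset.mul_sum, map_sum, Representation.character, map_mul]
      rw [h1, hScal, ht, zero_smul, mul_zero, map_zero, mul_zero]
    · refine Or.inr fun g u => ?_
      have h2 : ρ (u : N) * S = S := by
        simp only [hS, Finset.mul_sum, ← map_mul]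
        exact Fintype.sum_equiv (Equiv.mulLeft u) _ _ fun w => rfl
      rw [hScal, mul_smul_comm, mul_one] at h2
      have h3 : ρ (u : N) = 1 := smul_right_injective _ ht h2
      simp [Representation.character, map_mul, h3]
  have hdec : ∀ x, β x = ∑ θ ∈ irrFinset N, Cfsg.classInner β θ * θ x := fun x => by
    conv_lhs => rw [eq_sum_irr (IsCharacter.isClassFunction hβ)]
    simp
  set K := (irrFinset N).filter fun θ : N → ℂ => ∀ (g : N) (u : H), θ (g * u) = θ g with hK
  set β0 : N → ℂ := ∑ θ ∈ K, Cfsg.classInner β θ • θ with hβ0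
  set β1 : N → ℂ := ∑ θ ∈ (irrFinset N).filter (fun θ : N → ℂ =>
    ¬ ∀ (g : N) (u : H), θ (g * u) = θ g), Cfsg.classInner β θ • θ with hβ1
  have hsum : β = β0 + β1 := by
    rw [hβ0, hβ1, Finset.sum_filter_add_sum_filter_not]
    exact eq_sum_irr (IsCharacter.isClassFunction hβ)
  have havg : ∀ g, (Nat.card H : ℂ)⁻¹ * ∑ u : H, β (g * u) = β0 g := by
    intro g
    simp only [hdec]
    rw [Finset.sum_comm, Finset.mul_sum, hβ0, Finset.sum_apply, hK, Finset.sum_filter]
    refine Finset.sum_congr rfl fun θ hθ => ?_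
    rw [← Finset.mul_sum, ← mul_left_comm]
    split_ifs with h
    · simp only [h, Finset.sum_const, Finset.card_univ, nsmul_eq_mul, Fintype.card_eq_nat_card,
        Pi.smul_apply, smul_eq_mul]
      rw [← mul_assoc (Nat.card H : ℂ)⁻¹, inv_mul_cancel₀ (Nat.cast_ne_zero.2 Nat.card_pos.ne'),
        one_mul]
    · rw [(hdich θ (mem_irrFinset.1 hθ)).resolve_right h, mul_zero]
  have horth : Cfsg.classInner β0 β1 = 0 ∧ Cfsg.classInner β1 β0 = 0 := by
    have h : Cfsg.classInner β0 β1 = 0 := by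
      rw [hβ0, hβ1, classInner_sum_left]
      refine Finset.sum_eq_zero fun a ha => ?_
      rw [classInner_sum_right]
      refine Finset.sum_eq_zero fun b hb => ?_
      simp only [hK, Finset.mem_filter] at ha hb
      rw [classInner_smul_left, classInner_smul_right,
        IsIrrCharacter.classInner_of_ne (mem_irrFinset.1 ha.1) (mem_irrFinset.1 hb.1)
          (fun e => hb.2 (e ▸ ha.2)), mul_zero, mul_zero]
    exact ⟨h, by rw [← classInner_conj, h, map_zero]⟩
  have hβ1c : Cfsg.IsCharacter N β1 := by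
    refine isCharacter_sum _ fun θ hθ => ?_
    have hθ' := mem_irrFinset.1 (Finset.mem_filter.1 hθ).1
    obtain ⟨m, hm⟩ := IsCharacter.exists_classInner_eq_natCast hβ hθ'
    rw [hm]
    exact IsCharacter.natCast_smul (IsIrrCharacter.isCharacter hθ') m
  obtain ⟨m, hm⟩ := IsCharacter.exists_classInner_eq_natCast' hβ1c hβ1c
  have hm1 : 1 ≤ m := by
    refine Nat.one_le_iff_ne_zero.2 fun h0 => ?_
    obtain ⟨u, hu⟩ := hne
    apply hu
    have hz : β1 = 0 := classInner_self_eq_zero (by rw [hm, h0, Nat.cast_zero])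
    have hkk : ∀ θ ∈ K, θ u = θ 1 := fun θ hθ => by
      have := (Finset.mem_filter.1 hθ).2 1 u
      rwa [one_mul] at this
    rw [hsum, hz, add_zero, hβ0, Finset.sum_apply, Finset.sum_apply]
    exact Finset.sum_congr rfl fun θ hθ => by simp only [Pi.smul_apply, hkk θ hθ]
  have hnorm : ∀ F : N → ℂ,
      ((∑ x, ‖F x‖ ^ 2 : ℝ) : ℂ) = (Nat.card N : ℂ) * Cfsg.classInner F F := fun F => by
    rw [classInner_def, ← mul_assoc, mul_inv_cancel₀ (Nat.cast_ne_zero.2 Nat.card_pos.ne'),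
      one_mul, Complex.ofReal_sum]
    exact Finset.sum_congr rfl fun x _ => by rw [Complex.mul_conj']; push_cast; rfl
  have hfin : (∑ g, ‖β g‖ ^ 2 : ℝ) = ∑ g, ‖β0 g‖ ^ 2 + (Nat.card N : ℝ) * m := by
    have : ((∑ g, ‖β g‖ ^ 2 : ℝ) : ℂ) =
        (((∑ g, ‖β0 g‖ ^ 2 + (Nat.card N : ℝ) * m : ℝ)) : ℂ) := by
      rw [Complex.ofReal_add, hnorm, hnorm, hsum, classInner_add_left, classInner_add_right,
        classInner_add_right, horth.1, horth.2, hm]
      push_cast; ring
    exact_mod_cast this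
  simp only [havg]
  rw [hfin]
  have : (1 : ℝ) ≤ m := by exact_mod_cast hm1
  have hN : (0 : ℝ) ≤ Nat.card N := Nat.cast_nonneg _
  nlinarith

variable {G : Type u} [Group G] [Fintype G]

/-- Feit–Thompson: the multiplicity of the principal character on `H` is small. -/
theorem card_mul_sq_lt_degree_sq (H : Subgroup G) [Fintype H]
    (hab : ∀ a ∈ H, ∀ b ∈ H, a * b = b * a) (hZ : H ⊓ Subgroup.center G = ⊥)
    (hone : ∀ g : G, g ∉ Subgroup.center G → ∀ a b : G,
      Subgroup.centralizer ({g} : Set G) ⊓ H.map (MulAut.conj a).toMonoidHom ≠ ⊥ →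
      Subgroup.centralizer ({g} : Set G) ⊓ H.map (MulAut.conj b).toMonoidHom ≠ ⊥ →
      H.map (MulAut.conj a).toMonoidHom = H.map (MulAut.conj b).toMonoidHom)
    {χ : G → ℂ} (hχ : Cfsg.IsIrrCharacter G χ) (hker : ∃ h ∈ H, χ h ≠ χ 1) :
    ∃ d c : ℕ, χ 1 = d ∧ Cfsg.classInner (fun h : H => χ h) (fun _ => 1) = c ∧
      (Nat.card H : ℝ) * (c : ℝ) ^ 2 < (d : ℝ) ^ 2 := by
  classical
  have hχc := IsIrrCharacter.isClassFunction hχ
  have hχC := IsIrrCharacter.isCharacter hχ
  obtain ⟨d, hd0, hd⟩ := IsIrrCharacter.exists_degree hχ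
  obtain ⟨c, hc⟩ := IsCharacter.exists_classInner_eq_natCast' (IsCharacter.restrict hχC H)
    (isCharacter_one (G := H))
  refine ⟨d, c, hd, hc, ?_⟩
  set N := Subgroup.normalizer (H : Set G) with hN
  have hHN : H ≤ N := Subgroup.le_normalizer
  haveI := Fintype.ofFinite N
  haveI : (H.subgroupOf N).Normal := Subgroup.normal_in_normalizer
  haveI := Fintype.ofFinite (H.subgroupOf N)
  obtain ⟨u0, hu0, hu0ne⟩ := hker
  have hsplit := coset_average_split (H.subgroupOf N) (IsCharacter.restrict hχC N)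
    ⟨⟨⟨u0, hHN hu0⟩, hu0⟩, hu0ne⟩
  let T : G → Prop := fun g => g ∈ Subgroup.center G ∨ ∃ u ∈ H, u ≠ 1 ∧ u * g = g * u
  let A : G → Prop := fun g => g ∉ Subgroup.center G ∧ g ∈ N ∧ ∃ u ∈ H, u ≠ 1 ∧ u * g = g * u
  let β0 : N → ℂ := fun g =>
    (Nat.card (H.subgroupOf N) : ℂ)⁻¹ * ∑ u : H.subgroupOf N, χ ((g : G) * ((u : N) : G))
  have hcard : Nat.card (H.subgroupOf N) = Nat.card H :=
    Nat.card_congr (Subgroup.subgroupOfEquivOfLe hHN).toEquiv
  -- off `T` the character is constant on the cosets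
  have hR : ∀ g : N, ¬ T g → χ g = β0 g := by
    intro g hg
    simp only [T, not_or, not_exists, not_and] at hg
    have hconj : ∀ u : H.subgroupOf N, (g : G)⁻¹ * ((u : N) : G) * g * ((u : N) : G)⁻¹ ∈ H :=
      fun u => H.mul_mem ((Subgroup.mem_normalizer_iff''.1 g.2 _).1 u.2) (H.inv_mem u.2)
    let φ : H.subgroupOf N → H.subgroupOf N := fun u =>
      ⟨⟨(g : G)⁻¹ * ((u : N) : G) * g * ((u : N) : G)⁻¹, hHN (hconj u)⟩, hconj u⟩
    have hbij : Function.Bijective φ := by
      refine (Finite.injective_iff_bijective).1 fun u v huv => ?_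
      have h1 : (g : G)⁻¹ * ((u : N) : G) * g * ((u : N) : G)⁻¹ =
          (g : G)⁻¹ * ((v : N) : G) * g * ((v : N) : G)⁻¹ :=
        congrArg (fun w : H.subgroupOf N => ((w : N) : G)) huv
      set a := ((u : N) : G) with ha
      set b := ((v : N) : G) with hb
      have haH : a ∈ H := u.2
      have hbH : b ∈ H := v.2
      have hab' : a⁻¹ * b = b * a⁻¹ := hab _ (H.inv_mem haH) _ hbH
      have h2 : b⁻¹ * a * (g : G) = (g : G) * (b⁻¹ * a) := by
        rw [mul_assoc ((g : G)⁻¹) a, mul_assoc ((g : G)⁻¹) b, mul_assoc ((g : G)⁻¹),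
          mul_assoc ((g : G)⁻¹)] at h1
        have h3 : a * (g : G) * a⁻¹ = b * g * b⁻¹ := mul_left_cancel h1
        calc b⁻¹ * a * (g : G) = b⁻¹ * (a * g * a⁻¹) * a := by group
          _ = (g : G) * (b⁻¹ * a) := by rw [h3]; group
      have h4 : b⁻¹ * a = 1 := by
        by_contra hne1
        exact (hg.2 _ (H.mul_mem (H.inv_mem hbH) haH) hne1) h2
      exact Subtype.ext (Subtype.ext (inv_mul_eq_one.1 h4).symm)
    have hval : ∀ u : H.subgroupOf N, χ ((g : G) * ((φ u : N) : G)) = χ g := fun u => by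
      show χ ((g : G) * ((g : G)⁻¹ * ((u : N) : G) * g * ((u : N) : G)⁻¹)) = χ g
      rw [← mul_assoc, ← mul_assoc, mul_inv_cancel_left, hχc]
    show χ g = (Nat.card (H.subgroupOf N) : ℂ)⁻¹ * _
    rw [← Fintype.sum_equiv (Equiv.ofBijective φ hbij) (fun u => χ ((g : G) * ((φ u : N) : G))) _
      fun u => rfl, Finset.sum_congr rfl fun u _ => hval u, Finset.sum_const, Finset.card_univ,
      nsmul_eq_mul, Fintype.card_eq_nat_card, ← mul_assoc,
      inv_mul_cancel₀ (Nat.cast_ne_zero.2 Nat.card_pos.ne'), one_mul]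
  have hdnz : (d : ℂ) ≠ 0 := hd ▸ IsIrrCharacter.apply_one_ne_zero hχ
  have hzn : ∀ z ∈ Subgroup.center G, ‖χ z‖ = (d : ℝ) := by
    intro z hz
    have h1 := IsIrrCharacter.apply_center_mul hχ hz z⁻¹
    rw [mul_inv_cancel, IsCharacter.apply_inv hχC, hd] at h1
    have h2 : χ z * conj (χ z) = (d : ℂ) ^ 2 := by field_simp at h1; linear_combination -h1
    rw [Complex.mul_conj'] at h2
    have h3 : ‖χ z‖ ^ 2 = (d : ℝ) ^ 2 := by exact_mod_cast h2
    exact (pow_left_inj₀ (norm_nonneg _) (Nat.cast_nonneg _) two_ne_zero).1 h3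
  set Z := Subgroup.center G
  haveI := Fintype.ofFinite Z
  have hZN : Z ≤ N := fun z hz => Subgroup.mem_normalizer_iff.2 fun y => by
    rw [← (Subgroup.mem_center_iff.1 hz y), mul_inv_cancel_right]
  -- the average on the translates of `H` by central elements
  have hlow : (Nat.card Z : ℝ) * (Nat.card H) * (c : ℝ) ^ 2 ≤
      ∑ g ∈ Finset.univ.filter (fun g : N => T g), ‖β0 g‖ ^ 2 := by
    let e : Z × H → N := fun q => ⟨(q.1 : G) * q.2, N.mul_mem (hZN q.1.2) (hHN q.2.2)⟩
    have hinj : Function.Injective e := by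
      rintro ⟨z, u⟩ ⟨z', u'⟩ h
      have h' : (z : G) * u = z' * u' := congrArg Subtype.val h
      have h'' : (z' : G)⁻¹ * z = u' * (u : G)⁻¹ := by
        rw [eq_mul_inv_iff_mul_eq, mul_assoc, h', inv_mul_cancel_left]
      have : (z' : G)⁻¹ * z = 1 := by
        rw [← Subgroup.mem_bot, ← hZ]
        exact ⟨h'' ▸ H.mul_mem u'.2 (H.inv_mem u.2), Z.mul_mem (Z.inv_mem z'.2) z.2⟩
      have hzz : z = z' := Subtype.ext (inv_mul_eq_one.1 this).symm
      subst hzz
      exact Prod.ext rfl (Subtype.ext (mul_left_cancel h'))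
    have hmem : ∀ q, T (e q : G) := by
      rintro ⟨z, u⟩
      by_cases hu : (u : G) = 1
      · left
        show (z : G) * u ∈ Z
        rw [hu, mul_one]; exact z.2
      · refine Or.inr ⟨u, u.2, hu, ?_⟩
        show (u : G) * (z * u) = z * u * u
        rw [← mul_assoc, Subgroup.mem_center_iff.1 z.2 u]
    have hval : ∀ q, ‖β0 (e q)‖ = (c : ℝ) := by
      rintro ⟨z, u⟩
      have h1 : β0 (e (z, u)) = χ z / χ 1 * (c : ℂ) := by
        rw [← hc, classInner_def]
        simp only [map_one, mul_one]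
        show (Nat.card (H.subgroupOf N) : ℂ)⁻¹ * _ = _
        rw [hcard, mul_left_comm]
        congr 1
        rw [Finset.mul_sum]
        refine Fintype.sum_equiv ((Subgroup.subgroupOfEquivOfLe hHN).toEquiv.trans (Equiv.mulLeft u))
          _ _ fun w => ?_
        show χ ((z : G) * u * ((w : N) : G)) = χ z / χ 1 * χ ((u : G) * ((w : N) : G))
        rw [mul_assoc, IsIrrCharacter.apply_center_mul hχ z.2]
      rw [h1, norm_mul, norm_div, hzn _ z.2, hd, Complex.norm_natCast, Complex.norm_natCast,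
        div_self (by exact_mod_cast hdnz), one_mul]
    calc (Nat.card Z : ℝ) * (Nat.card H) * (c : ℝ) ^ 2 = ∑ q : Z × H, ‖β0 (e q)‖ ^ 2 := by
          simp only [hval, Finset.sum_const, Finset.card_univ, nsmul_eq_mul,
            Fintype.card_eq_nat_card, Nat.card_prod, Nat.cast_mul]
      _ = ∑ g ∈ Finset.univ.image e, ‖β0 g‖ ^ 2 := by
          rw [Finset.sum_image fun a _ b _ h => hinj h]
      _ ≤ _ := by
          refine Finset.sum_le_sum_of_subset_of_nonneg (fun g hg => ?_) fun _ _ _ => sq_nonneg _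
          obtain ⟨q, -, rfl⟩ := Finset.mem_image.1 hg
          exact Finset.mem_filter.2 ⟨Finset.mem_univ _, hmem q⟩
  -- the sets `A` of distinct conjugates are disjoint
  have hdisj : ∀ y x x' : G, A (x⁻¹ * y * x) → A (x'⁻¹ * y * x') → x⁻¹ * x' ∈ N := by
    intro y x x' hA hA'
    obtain ⟨hyZ, -, u, hu, hu1, huy⟩ := hA
    obtain ⟨-, -, v, hv, hv1, hvy⟩ := hA'
    have hy : y ∉ Subgroup.center G := fun h => hyZ (by
      rwa [mul_assoc, ← Subgroup.mem_center_iff.1 h x, inv_mul_cancel_left])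
    have hmeet : ∀ (x u : G), u ∈ H → u ≠ 1 → u * (x⁻¹ * y * x) = x⁻¹ * y * x * u →
        Subgroup.centralizer ({y} : Set G) ⊓ H.map (MulAut.conj x).toMonoidHom ≠ ⊥ := by
      intro x u hu hu1 huy hbot
      apply hu1
      have : x * u * x⁻¹ = 1 := by
        rw [← Subgroup.mem_bot, ← hbot]
        refine ⟨Subgroup.mem_centralizer_singleton_iff.2 ?_, u, hu, rfl⟩
        calc x * u * x⁻¹ * y = x * (u * (x⁻¹ * y * x)) * x⁻¹ := by group
          _ = y * (x * u * x⁻¹) := by rw [huy]; group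
      exact conj_eq_one_iff.1 this
    have heq := hone y hy x x' (hmeet x u hu hu1 huy) (hmeet x' v hv hv1 hvy)
    refine Subgroup.mem_normalizer_iff.2 fun w => ⟨fun hw => ?_, fun hw => ?_⟩
    · have h1 : x' * w * x'⁻¹ ∈ H.map (MulAut.conj x).toMonoidHom := by
        rw [heq]; exact ⟨w, hw, rfl⟩
      obtain ⟨w', hw', hww⟩ := h1
      have hww' : x * w' * x⁻¹ = x' * w * x'⁻¹ := hww
      have : x⁻¹ * x' * w * (x⁻¹ * x')⁻¹ = w' := by
        calc x⁻¹ * x' * w * (x⁻¹ * x')⁻¹ = x⁻¹ * (x' * w * x'⁻¹) * x := by group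
          _ = w' := by rw [← hww']; group
      exact this ▸ hw'
    · have h1 : x * (x⁻¹ * x' * w * (x⁻¹ * x')⁻¹) * x⁻¹ ∈ H.map (MulAut.conj x').toMonoidHom := by
        rw [← heq]; exact ⟨_, hw, rfl⟩
      obtain ⟨w', hw', hww⟩ := h1
      have hww' : x' * w' * x'⁻¹ = x * (x⁻¹ * x' * w * (x⁻¹ * x')⁻¹) * x⁻¹ := hww
      have : w = w' := by
        calc w = x'⁻¹ * (x * (x⁻¹ * x' * w * (x⁻¹ * x')⁻¹) * x⁻¹) * x' := by group
          _ = w' := by rw [← hww']; group
      exact this ▸ hw'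
  have hzsum : ∑ y ∈ Finset.univ.filter (fun y : G => y ∈ Z), ‖χ y‖ ^ 2 =
      (Nat.card Z : ℝ) * (d : ℝ) ^ 2 := by
    rw [Finset.sum_congr rfl (g := fun _ => (d : ℝ) ^ 2)
      fun y hy => by rw [hzn y (Finset.mem_filter.1 hy).2], Finset.sum_const, nsmul_eq_mul,
      show (Finset.univ.filter fun y : G => y ∈ Z).card = Nat.card Z by
        rw [← Fintype.card_subtype, ← Nat.card_eq_fintype_card]]
  set SA := ∑ g ∈ Finset.univ.filter A, ‖χ g‖ ^ 2
  have hsumG : ∑ g : G, ‖χ g‖ ^ 2 = (Nat.card G : ℝ) := by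
    have h1 := IsIrrCharacter.classInner_self hχ
    rw [classInner_self, Complex.ofReal_eq_one,
      inv_mul_eq_one₀ (by exact_mod_cast Nat.card_pos.ne')] at h1
    exact h1.symm
  have hcount : (Nat.card G : ℝ) * SA ≤
      (Nat.card N : ℝ) * ((Nat.card G : ℝ) - (Nat.card Z : ℝ) * (d : ℝ) ^ 2) := by
    have h1 : ∑ y : G, ∑ x : G, (if A (x⁻¹ * y * x) then ‖χ y‖ ^ 2 else 0) =
        (Nat.card G : ℝ) * SA := by
      rw [Finset.sum_comm, ← Fintype.card_eq_nat_card, ← Finset.card_univ, ← nsmul_eq_mul,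
        ← Finset.sum_const]
      refine Finset.sum_congr rfl fun x _ => ?_
      show _ = ∑ g ∈ Finset.univ.filter A, ‖χ g‖ ^ 2
      rw [Finset.sum_filter]
      refine Fintype.sum_equiv (MulAut.conj x⁻¹).toEquiv _ _ fun y => ?_
      simp only [MulEquiv.toEquiv_eq_coe, MulEquiv.coe_toEquiv, MulAut.conj_apply, inv_inv]
      split_ifs with h
      · congr 2
        have := hχc y x⁻¹
        rwa [inv_inv, eq_comm] at this
      · rfl
    rw [← h1]
    have h2 : ∑ y : G, (if y ∈ Z then 0 else (Nat.card N : ℝ) * ‖χ y‖ ^ 2) =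
        (Nat.card N : ℝ) * ((Nat.card G : ℝ) - (Nat.card Z : ℝ) * (d : ℝ) ^ 2) := by
      rw [← hsumG, ← Finset.sum_filter_add_sum_filter_not Finset.univ (fun y => y ∈ Z)
        (fun y => ‖χ y‖ ^ 2), Finset.sum_ite, Finset.sum_const_zero, zero_add]
      rw [show ∑ y ∈ Finset.univ.filter (fun y : G => y ∈ Z), ‖χ y‖ ^ 2 =
          (Nat.card Z : ℝ) * (d : ℝ) ^ 2 from hzsum, add_sub_cancel_left, Finset.mul_sum]
    rw [← h2]
    refine Finset.sum_le_sum fun y _ => ?_
    rw [← Finset.sum_filter, Finset.sum_const, nsmul_eq_mul]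
    rcases (Finset.univ.filter fun x => A (x⁻¹ * y * x)).eq_empty_or_nonempty with he | ⟨x0, hx0⟩
    · rw [he, Finset.card_empty, Nat.cast_zero, zero_mul]
      split_ifs <;> positivity
    · have hA0 := (Finset.mem_filter.1 hx0).2
      rw [if_neg fun hy => hA0.1 (by
        rwa [mul_assoc, ← Subgroup.mem_center_iff.1 hy x0, inv_mul_cancel_left])]
      refine mul_le_mul_of_nonneg_right ?_ (sq_nonneg _)
      rw [← Nat.card_eq_finsetCard]
      exact_mod_cast Nat.card_le_card_of_injective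
        (fun x : {x // x ∈ Finset.univ.filter fun x => A (x⁻¹ * y * x)} =>
          (⟨x0⁻¹ * x.1, hdisj y x0 x.1 hA0 (Finset.mem_filter.1 x.2).2⟩ : N))
        fun a b h => Subtype.ext (mul_left_cancel (congrArg Subtype.val h))
  -- assemble
  have hTsum : ∑ g ∈ Finset.univ.filter (fun g : N => T g), ‖χ g‖ ^ 2 ≤
      SA + (Nat.card Z : ℝ) * (d : ℝ) ^ 2 := by
    calc ∑ g ∈ Finset.univ.filter (fun g : N => T g), ‖χ g‖ ^ 2
        = ∑ g ∈ (Finset.univ.filter (fun g : N => T g)).image (fun g : N => (g : G)), ‖χ g‖ ^ 2 := by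
          rw [Finset.sum_image fun a _ b _ h => Subtype.ext h]
      _ ≤ ∑ g ∈ Finset.univ.filter A ∪ Finset.univ.filter (fun y => y ∈ Z), ‖χ g‖ ^ 2 := by
          refine Finset.sum_le_sum_of_subset_of_nonneg (fun g hg => ?_) fun _ _ _ => sq_nonneg _
          obtain ⟨a, ha, rfl⟩ := Finset.mem_image.1 hg
          simp only [Finset.mem_union, Finset.mem_filter, Finset.mem_univ, true_and]
          by_cases haz : (a : G) ∈ Z
          · exact Or.inr haz
          · exact Or.inl ⟨haz, a.2, ((Finset.mem_filter.1 ha).2).resolve_left haz⟩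
      _ = SA + (Nat.card Z : ℝ) * (d : ℝ) ^ 2 := by
          rw [Finset.sum_union (Finset.disjoint_left.2 fun g h1 h2 =>
            (Finset.mem_filter.1 h1).2.1 (Finset.mem_filter.1 h2).2)]
          rw [hzsum]
  have hmain : (Nat.card Z : ℝ) * (Nat.card H) * (c : ℝ) ^ 2 + (Nat.card N : ℝ) ≤
      SA + (Nat.card Z : ℝ) * (d : ℝ) ^ 2 := by
    have hs1 := Finset.sum_filter_add_sum_filter_not Finset.univ (fun g : N => T g)
      (fun g : N => ‖β0 g‖ ^ 2)
    have hs2 := Finset.sum_filter_add_sum_filter_not Finset.univ (fun g : N => T g)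
      (fun g : N => ‖χ g‖ ^ 2)
    have heq : ∑ g ∈ Finset.univ.filter (fun g : N => ¬ T g), ‖β0 g‖ ^ 2 =
        ∑ g ∈ Finset.univ.filter (fun g : N => ¬ T g), ‖χ g‖ ^ 2 :=
      Finset.sum_congr rfl fun g hg => by rw [hR g (Finset.mem_filter.1 hg).2]
    have hsp : ∑ g : N, ‖β0 g‖ ^ 2 + (Nat.card N : ℝ) ≤ ∑ g : N, ‖χ g‖ ^ 2 := hsplit
    linarith
  have hG0 : (0 : ℝ) < Nat.card G := Nat.cast_pos.2 Nat.card_pos
  have hN0 : (0 : ℝ) < Nat.card N := Nat.cast_pos.2 Nat.card_pos
  have hZ0 : (0 : ℝ) < Nat.card Z := Nat.cast_pos.2 Nat.card_pos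
  have hd2 : (0 : ℝ) < (d : ℝ) ^ 2 := by
    have : (d : ℝ) ≠ 0 := by exact_mod_cast hdnz
    positivity
  have hSA : SA < (Nat.card N : ℝ) := by
    refine lt_of_mul_lt_mul_left (lt_of_le_of_lt hcount ?_) hG0.le
    nlinarith [mul_pos hN0 (mul_pos hZ0 hd2)]
  by_contra hcon
  rw [not_lt] at hcon
  nlinarith [mul_le_mul_of_nonneg_left hcon hZ0.le]

end CfsgLib.Char
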