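import Cfsg.Agent.Char.BrauerInduction
import Cfsg.Agent.Char.NormalSub
import Mathlib.GroupTheory.PGroup
import Mathlib.Data.ZMod.Basic

/-!
# Invariant constituents of multiplicity prime to `p` (Dade)
-/

namespace CfsgLib.Char

universe u v

open scoped ComplexConjugate

/-- Modulo `p`, an invariant sum over a set with a `p`-group action sees the fixed points only. -/
theorem sum_eq_sum_fixedPoints {Q : Type u} [Group Q] [Finite Q] {p : ℕ} [Fact p.Prime]
    (hQ : IsPGroup p Q) {X : Type v} [Fintype X] [MulAction Q X]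
    [DecidablePred fun x : X => ∀ q : Q, q • x = x] (f : X → ZMod p)
    (hf : ∀ (q : Q) (x : X), f (q • x) = f x) :
    ∑ x, f x = ∑ x ∈ Finset.univ.filter (fun x => ∀ q : Q, q • x = x), f x := by
  classical
  have expand : ∀ s : Finset X,
      ∑ x ∈ s, f x = ∑ c : ZMod p, ((s.filter fun x => f x = c).card : ZMod p) * c := by
    intro s
    rw [← Finset.sum_fiberwise s f f]
    refine Finset.sum_congr rfl fun c _ => ?_
    rw [Finset.sum_congr rfl (fun x hx => (Finset.mem_filter.1 hx).2), Finset.sum_const,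
      nsmul_eq_mul]
  rw [expand, expand]
  refine Finset.sum_congr rfl fun c _ => ?_
  congr 1
  let S : SubMulAction Q X :=
    { carrier := {x | f x = c}
      smul_mem' := fun q x (hx : f x = c) => show f (q • x) = c by rw [hf, hx] }
  have h := hQ.card_modEq_card_fixedPoints S
  rw [← ZMod.natCast_eq_natCast_iff] at h
  have h1 : (Finset.univ.filter fun x => f x = c).card = Nat.card S := by
    rw [← Nat.card_eq_finsetCard]
    exact Nat.card_congr (Equiv.subtypeEquivRight fun x => by
      simp only [Finset.mem_filter, Finset.mem_univ, true_and]; exact Iff.rfl)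
  have h2 : ((Finset.univ.filter fun x : X => ∀ q : Q, q • x = x).filter fun x => f x = c).card
      = Nat.card (MulAction.fixedPoints Q S) := by
    rw [← Nat.card_eq_finsetCard]
    refine Nat.card_congr
      { toFun := fun x => ⟨⟨x.1, (Finset.mem_filter.1 x.2).2⟩, fun q => Subtype.ext
          ((Finset.mem_filter.1 (Finset.mem_filter.1 x.2).1).2 q)⟩
        invFun := fun x => ⟨x.1.1, Finset.mem_filter.2 ⟨Finset.mem_filter.2
          ⟨Finset.mem_univ _, fun q => congrArg Subtype.val (x.2 q)⟩, x.1.2⟩⟩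
        left_inv := fun x => rfl
        right_inv := fun x => rfl }
  rw [h1, h2, h]

variable {E : Type u} [Group E] [Fintype E] {M : Subgroup E} [hM : M.Normal] [Fintype M]

/-- If no invariant irreducible character of the normal subgroup `M` has multiplicity prime to `p`
in the invariant character `Θ`, then `⟨η Θ, Θ⟩` is divisible by `p`. -/
theorem dvd_classInner_of_no_invariant {p : ℕ} [Fact p.Prime]
    (hpow : ∀ g : E, ∃ k : ℕ, g ^ p ^ k ∈ M) {Θ η : M → ℂ} (hΘ : Cfsg.IsCharacter M Θ)
    (hη : Cfsg.IsCharacter M η) (hΘi : ∀ g : E, conjOn g Θ = Θ)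
    (hηi : ∀ g : E, conjOn g η = η)
    (hno : ∀ a : M → ℂ, Cfsg.IsIrrCharacter M a → (∀ g : E, conjOn g a = a) →
      ∀ c : ℕ, Cfsg.classInner Θ a = c → p ∣ c) :
    ∃ z : ℤ, Cfsg.classInner (η * Θ) Θ = (p : ℂ) * z := by
  classical
  haveI : Fintype (Cfsg.IrrCharacter M) := Fintype.ofFinite _
  let π : E →* Equiv.Perm (Cfsg.IrrCharacter M) :=
    { toFun := fun g =>
        { toFun := fun a => ⟨conjOn g⁻¹ a.1, isIrrCharacter_conjOn a.2 g⁻¹⟩
          invFun := fun a => ⟨conjOn g a.1, isIrrCharacter_conjOn a.2 g⟩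
          left_inv := fun a => Subtype.ext (show conjOn g (conjOn g⁻¹ a.1) = a.1 by
            rw [conjOn_conjOn, inv_mul_cancel, conjOn_one])
          right_inv := fun a => Subtype.ext (show conjOn g⁻¹ (conjOn g a.1) = a.1 by
            rw [conjOn_conjOn, mul_inv_cancel, conjOn_one]) }
      map_one' := Equiv.ext fun a => Subtype.ext (show conjOn (1 : E)⁻¹ a.1 = a.1 by
        rw [inv_one, conjOn_one])
      map_mul' := fun g h => Equiv.ext fun a => Subtype.ext
        (show conjOn (g * h)⁻¹ a.1 = conjOn g⁻¹ (conjOn h⁻¹ a.1) by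
          rw [conjOn_conjOn, mul_inv_rev]) }
  have hQ : IsPGroup p π.range := by
    rintro ⟨_, g, rfl⟩
    obtain ⟨k, hk⟩ := hpow g
    refine ⟨k, Subtype.ext ?_⟩
    simp only [SubgroupClass.coe_pow, OneMemClass.coe_one, ← map_pow]
    refine Equiv.ext fun a => Subtype.ext ?_
    exact le_inertia (IsIrrCharacter.isClassFunction a.2) (M.inv_mem hk)
  choose c hc using fun a : Cfsg.IrrCharacter M =>
    IsCharacter.exists_classInner_eq_natCast' hΘ (IsIrrCharacter.isCharacter a.2)
  choose t ht using fun q : Cfsg.IrrCharacter M × Cfsg.IrrCharacter M =>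
    IsCharacter.exists_classInner_eq_natCast'
      (IsCharacter.mul hη (IsIrrCharacter.isCharacter q.1.2)) (IsIrrCharacter.isCharacter q.2.2)
  let F : Cfsg.IrrCharacter M × Cfsg.IrrCharacter M → ℕ := fun q => c q.1 * c q.2 * t q
  have hΘe : Θ = ∑ a : Cfsg.IrrCharacter M, (c a : ℂ) • (a.1 : M → ℂ) := by
    conv_lhs => rw [eq_sum_irr (IsCharacter.isClassFunction hΘ)]
    rw [← Finset.sum_subtype (irrFinset M) (fun _ => mem_irrFinset)
      (fun χ => Cfsg.classInner Θ χ • χ) |>.trans (Finset.sum_congr rfl fun a _ => by rw [hc a])]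
  have hexp : Cfsg.classInner (η * Θ) Θ = ((∑ q, F q : ℕ) : ℂ) := by
    conv_lhs => rw [hΘe, Finset.mul_sum, classInner_sum_left]
    rw [Nat.cast_sum, Fintype.sum_prod_type]
    refine Finset.sum_congr rfl fun a _ => ?_
    rw [classInner_sum_right]
    refine Finset.sum_congr rfl fun b _ => ?_
    rw [mul_smul_comm, classInner_smul_left, classInner_smul_right, ht (a, b), Complex.conj_natCast]
    simp only [F, Nat.cast_mul]
    ring
  have hcinv : ∀ (g : E) (a : Cfsg.IrrCharacter M), c (π g a) = c a := by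
    intro g a
    have h : (c (π g a) : ℂ) = c a := by
      rw [← hc, ← hc]
      show Cfsg.classInner Θ (conjOn g⁻¹ a.1) = Cfsg.classInner Θ a.1
      conv_lhs => rw [← hΘi g⁻¹]
      rw [classInner_conjOn]
    exact_mod_cast h
  have htinv : ∀ (g : E) (q : Cfsg.IrrCharacter M × Cfsg.IrrCharacter M),
      t (π g q.1, π g q.2) = t q := by
    intro g q
    have h : (t (π g q.1, π g q.2) : ℂ) = t q := by
      rw [← ht, ← ht]
      show Cfsg.classInner (η * conjOn g⁻¹ q.1.1) (conjOn g⁻¹ q.2.1)
        = Cfsg.classInner (η * q.1.1) q.2.1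
      conv_lhs => rw [← hηi g⁻¹]
      rw [show conjOn g⁻¹ η * conjOn g⁻¹ q.1.1 = conjOn g⁻¹ (η * q.1.1) from rfl,
        classInner_conjOn]
    exact_mod_cast h
  have hsum : ((∑ q, F q : ℕ) : ZMod p) = 0 := by
    rw [Nat.cast_sum, sum_eq_sum_fixedPoints hQ (fun q => (F q : ZMod p))]
    · refine Finset.sum_eq_zero fun q hq => ?_
      have hfix := (Finset.mem_filter.1 hq).2
      have hd : p ∣ c q.1 := by
        refine hno q.1.1 q.1.2 (fun g => ?_) _ (hc q.1)
        have h1 : π g⁻¹ q.1 = q.1 := congrArg Prod.fst (hfix ⟨π g⁻¹, g⁻¹, rfl⟩)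
        have h2 := congrArg Subtype.val h1
        simp only [π, MonoidHom.coe_mk, OneHom.coe_mk, Equiv.coe_fn_mk, inv_inv] at h2
        exact h2
      rw [ZMod.natCast_eq_zero_iff]
      exact Dvd.dvd.mul_right (Dvd.dvd.mul_right hd _) _
    · rintro ⟨_, g, rfl⟩ q
      show (F (π g q.1, π g q.2) : ZMod p) = F q
      simp only [F, hcinv, htinv]
  obtain ⟨z, hz⟩ := (ZMod.natCast_eq_zero_iff _ _).1 hsum
  exact ⟨(z : ℤ), by rw [hexp, hz]; push_cast; ring⟩

end CfsgLib.Char
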