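import Cfsg.Agent.Char.FourTransitive
import Mathlib.GroupTheory.Perm.Cycle.Type
import Mathlib.GroupTheory.Perm.Centralizer
import Mathlib.GroupTheory.SpecificGroups.Alternating

/-!
# Zeros of the small characters of alternating groups
-/

namespace CfsgLib.Char.FourTrans

open MulAction Equiv

theorem card_fixedBy_perm {n : ℕ} (σ : Perm (Fin n)) :
    Nat.card (fixedBy (Fin n) σ) = n - σ.cycleType.sum := by
  rw [Perm.sum_cycleType]
  have : (fixedBy (Fin n) σ) = ((σ.supportᶜ : Finset (Fin n)) : Set (Fin n)) := by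
    ext a
    simp [mem_fixedBy]
  rw [this, Nat.card_coe_set_eq, Set.ncard_coe_finset, Finset.card_compl, Fintype.card_fin]

theorem card_swapped_perm {n : ℕ} (σ : Perm (Fin n)) :
    Nat.card (Swapped (Fin n) σ) = 2 * σ.cycleType.count 2 := by
  classical
  let S : Finset (Perm (Fin n)) := σ.cycleFactorsFinset.filter fun c => c.support.card = 2
  have hS : σ.cycleType.count 2 = S.card := by
    rw [Perm.cycleType_def, Multiset.count_map]
    simp only [S, Finset.card_def, Finset.filter_val, Function.comp_apply]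
    exact congrArg Multiset.card (Multiset.filter_congr fun c _ => eq_comm)
  have hd : ∀ c ∈ S, ∀ c' ∈ S, c ≠ c' → Disjoint c.support c'.support := fun c hc c' hc' hne =>
    (Perm.cycleFactorsFinset_pairwise_disjoint σ (Finset.mem_filter.1 hc).1
      (Finset.mem_filter.1 hc').1 hne).disjoint_support
  have hU : (S.biUnion fun c => c.support).card = 2 * S.card := by
    rw [Finset.card_biUnion hd, Finset.sum_congr rfl fun c hc => (Finset.mem_filter.1 hc).2,
      Finset.sum_const, smul_eq_mul, mul_comm]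
  rw [hS, ← hU, ← Nat.card_eq_finsetCard]
  have key : ∀ a : Fin n, a ∈ (S.biUnion fun c => c.support) ↔ σ a ≠ a ∧ σ (σ a) = a := by
    intro a
    rw [Finset.mem_biUnion]
    constructor
    · rintro ⟨c, hc, ha⟩
      obtain ⟨hcf, hc2⟩ := Finset.mem_filter.1 hc
      obtain ⟨hcyc, heq⟩ := Perm.mem_cycleFactorsFinset_iff.1 hcf
      refine ⟨(heq a ha).symm ▸ Perm.mem_support.1 ha, ?_⟩
      rw [← heq a ha, ← heq (c a) (Perm.apply_mem_support.2 ha)]
      have : c ^ 2 = 1 := by
        rw [← hc2, ← hcyc.orderOf]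
        exact pow_orderOf_eq_one c
      rw [← Perm.mul_apply, ← pow_two, this, Perm.one_apply]
    · rintro ⟨h1, h2⟩
      have hmem : a ∈ σ.support := Perm.mem_support.2 h1
      refine ⟨σ.cycleOf a, Finset.mem_filter.2 ⟨Perm.cycleOf_mem_cycleFactorsFinset_iff.2 hmem, ?_⟩,
        Perm.mem_support_cycleOf_iff.2 ⟨Perm.SameCycle.refl σ a, hmem⟩⟩
      have hcyc : (σ.cycleOf a).IsCycle := Perm.isCycle_cycleOf σ h1
      have hsq : (σ.cycleOf a) ^ 2 = 1 := hcyc.pow_eq_one_iff.2
        ⟨a, by rwa [Perm.cycleOf_apply_self], by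
          rw [Perm.cycleOf_pow_apply_self, pow_two, Perm.mul_apply, h2]⟩
      have hle := Nat.le_of_dvd two_pos (orderOf_dvd_of_pow_eq_one hsq)
      rw [hcyc.orderOf] at hle
      exact le_antisymm hle hcyc.two_le_card_support
  exact Nat.card_congr
    { toFun := fun p => ⟨p.1.1, (key _).2 ⟨by
        have h := p.2.2.1
        rw [Perm.smul_def] at h
        rw [h]
        exact p.2.1.symm, by
        have h := p.2.2.1
        have h' := p.2.2.2
        rw [Perm.smul_def] at h h'
        rw [h, h']⟩⟩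
      invFun := fun a => ⟨(a.1, σ a.1), ((key _).1 a.2).1.symm, rfl, ((key _).1 a.2).2⟩
      left_inv := fun p => Subtype.ext (Prod.ext rfl (by simpa using p.2.2.1))
      right_inv := fun a => rfl }

/-- An even permutation with a prescribed cycle type. -/
theorem exists_even {n : ℕ} (m : Multiset ℕ) (hm : ∀ a ∈ m, 2 ≤ a) (hsum : m.sum ≤ n)
    (heven : Even (m.sum + m.card)) :
    ∃ σ : alternatingGroup (Fin n), (σ : Perm (Fin n)).cycleType = m := by
  obtain ⟨σ, hσ⟩ := (Perm.exists_with_cycleType_iff (Fin n)).2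
    ⟨by rwa [Fintype.card_fin], hm⟩
  exact ⟨⟨σ, Perm.mem_alternatingGroup.2 (by rw [Perm.sign_of_cycleType, hσ, heven.neg_one_pow])⟩, hσ⟩

theorem orderOf_eq_lcm {n : ℕ} (x : alternatingGroup (Fin n)) :
    orderOf x = (x : Perm (Fin n)).cycleType.lcm := by
  rw [Perm.lcm_cycleType, Subgroup.orderOf_coe]

variable {n : ℕ}

theorem alt_four (hn : 6 ≤ n) : IsMultiplyPretransitive (alternatingGroup (Fin n)) (Fin n) 4 := by
  haveI := alternatingGroup.isMultiplyPretransitive (Fin n)
  exact isMultiplyPretransitive_of_le (n := Nat.card (Fin n) - 2) (by simp; omega) (by simp)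

theorem exists_char_of_comb (hn : 6 ≤ n) (a b c d : ℤ)
    (hnorm : (2 * c) ^ 2 + 2 * (2 * b - d) * (2 * c) +
      2 * ((2 * b - d) ^ 2 + 2 * (2 * a + d) * (2 * c)) + 10 * (2 * a + d) * (2 * b - d) +
      15 * (2 * a + d) ^ 2 + 2 * (2 * b - d) * d + 4 * (2 * a + d) * d + 2 * (2 * c) * d +
      3 * d ^ 2 = 4)
    (hpos : 0 < 2 * a * ((n : ℤ) * n) + 2 * b * (n : ℤ) + 2 * c + d * ((n : ℤ) * ((n : ℤ) - 1)))
    (x : alternatingGroup (Fin n))
    (hzero : (2 * a + d) * ((n - (x : Perm (Fin n)).cycleType.sum : ℕ) : ℤ) ^ 2 +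
      (2 * b - d) * ((n - (x : Perm (Fin n)).cycleType.sum : ℕ) : ℤ) + 2 * c +
      d * (2 * (x : Perm (Fin n)).cycleType.count 2 : ℕ) = 0) :
    ∃ χ : Cfsg.IrrCharacter (alternatingGroup (Fin n)),
      (χ : alternatingGroup (Fin n) → ℂ) x = 0 ∧
      ∃ ψ : Cfsg.IrrCharacter (Perm (Fin n)), ∀ y : alternatingGroup (Fin n),
        (ψ : Perm (Fin n) → ℂ) y = (χ : alternatingGroup (Fin n) → ℂ) y := by
  classical
  haveI : Fintype (alternatingGroup (Fin n)) := Fintype.ofFinite _
  haveI : Nonempty (Fin 4 ↪ Fin n) := ⟨Fin.castLEEmb (by omega)⟩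
  haveI := alt_four hn
  haveI := Equiv.Perm.isMultiplyPretransitive (Fin n) 4
  have hp : 0 < 2 * a * ((Nat.card (Fin n) : ℤ) * Nat.card (Fin n)) + 2 * b * (Nat.card (Fin n) : ℤ) +
      2 * c + d * ((Nat.card (Fin n) : ℤ) * ((Nat.card (Fin n) : ℤ) - 1)) := by simpa using hpos
  refine ⟨⟨_, isIrr_comb (G := alternatingGroup (Fin n)) (Ω := Fin n) a b c d hnorm hp⟩, ?_,
    ⟨_, isIrr_comb (G := Perm (Fin n)) (Ω := Fin n) a b c d hnorm hp⟩, fun y => rfl⟩
  show comb (Fin n) a b c d x = 0
  rw [show comb (G := alternatingGroup (Fin n)) (Fin n) a b c d x =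
    comb (G := Perm (Fin n)) (Fin n) a b c d (x : Perm (Fin n)) from rfl]
  have ht := congrArg (Nat.cast : ℕ → ℂ) (two_mul_fixed_pairs (Ω := Fin n) (x : Perm (Fin n)))
  rw [card_fixedBy_perm, card_swapped_perm] at ht
  push_cast [Nat.cast_descFactorial_two] at ht
  have hz := congrArg (Int.cast : ℤ → ℂ) hzero
  push_cast at hz
  simp only [comb, card_fixedBy_perm]
  linear_combination (d : ℂ) / 2 * ht + hz / 2

theorem exists_two_element (hn : 7 ≤ n) :
    ∃ (χ : Cfsg.IrrCharacter (alternatingGroup (Fin n))) (x : alternatingGroup (Fin n)),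
      (∃ j : ℕ, orderOf x = 2 ^ j) ∧ (χ : alternatingGroup (Fin n) → ℂ) x = 0 ∧
      ∃ ψ : Cfsg.IrrCharacter (Perm (Fin n)), ∀ y : alternatingGroup (Fin n),
        (ψ : Perm (Fin n) → ℂ) y = (χ : alternatingGroup (Fin n) → ℂ) y := by
  have fin : ∀ (m : Multiset ℕ) (a b c d : ℤ), (∀ i ∈ m, i = 2 ∨ i = 4 ∨ i = 8) → m.sum ≤ n →
      Even (m.sum + m.card) →
      ((2 * c) ^ 2 + 2 * (2 * b - d) * (2 * c) +
        2 * ((2 * b - d) ^ 2 + 2 * (2 * a + d) * (2 * c)) + 10 * (2 * a + d) * (2 * b - d) +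
        15 * (2 * a + d) ^ 2 + 2 * (2 * b - d) * d + 4 * (2 * a + d) * d + 2 * (2 * c) * d +
        3 * d ^ 2 = 4) →
      (0 < 2 * a * ((n : ℤ) * n) + 2 * b * (n : ℤ) + 2 * c + d * ((n : ℤ) * ((n : ℤ) - 1))) →
      ((2 * a + d) * ((n - m.sum : ℕ) : ℤ) ^ 2 + (2 * b - d) * ((n - m.sum : ℕ) : ℤ) + 2 * c +
        d * (2 * m.count 2 : ℕ) = 0) →
      ∃ (χ : Cfsg.IrrCharacter (alternatingGroup (Fin n))) (x : alternatingGroup (Fin n)),
        (∃ j : ℕ, orderOf x = 2 ^ j) ∧ (χ : alternatingGroup (Fin n) → ℂ) x = 0 ∧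
        ∃ ψ : Cfsg.IrrCharacter (Perm (Fin n)), ∀ y : alternatingGroup (Fin n),
          (ψ : Perm (Fin n) → ℂ) y = (χ : alternatingGroup (Fin n) → ℂ) y := by
    intro m a b c d hm hs he hno hp hz
    obtain ⟨x, hx⟩ := exists_even (n := n) m (fun i hi => by rcases hm i hi with h | h | h <;> omega)
      hs he
    obtain ⟨χ, h0, hψ⟩ := exists_char_of_comb (by omega) a b c d hno hp x (by rw [hx]; exact hz)
    refine ⟨χ, x, ?_, h0, hψ⟩
    have hdvd : orderOf x ∣ 2 ^ 3 := by
      rw [orderOf_eq_lcm, hx]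
      exact Multiset.lcm_dvd.2 fun i hi => by rcases hm i hi with rfl | rfl | rfl <;> norm_num
    obtain ⟨j, -, hj⟩ := (Nat.dvd_prime_pow Nat.prime_two).1 hdvd
    exact ⟨j, hj⟩
  have hn' : (7 : ℤ) ≤ n := by exact_mod_cast hn
  rcases Nat.even_or_odd n with ⟨k, hk⟩ | ⟨k, hk⟩
  · rcases Nat.even_or_odd k with ⟨j, hj⟩ | ⟨j, hj⟩
    · rcases Nat.even_or_odd j with ⟨i, hi⟩ | ⟨i, hi⟩
      · refine fin (Multiset.replicate j 4) 0 (-1) 0 1 ?_ (by simp; omega) ?_ (by norm_num)
          (by nlinarith) ?_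
        · intro a ha; right; left; exact Multiset.eq_of_mem_replicate ha
        · rw [Nat.even_iff]; simp; omega
        · have : n - (Multiset.replicate j 4).sum = 0 := by simp; omega
          rw [this]
          simp [Multiset.count_replicate]
      · refine fin (8 ::ₘ Multiset.replicate (j - 2) 4) 0 (-1) 0 1 ?_ (by simp; omega) ?_
          (by norm_num) (by nlinarith) ?_
        · intro a ha
          rcases Multiset.mem_cons.1 ha with rfl | ha
          · omega
          · right; left; exact Multiset.eq_of_mem_replicate ha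
        · rw [Nat.even_iff]; simp; omega
        · have : n - (8 ::ₘ Multiset.replicate (j - 2) 4).sum = 0 := by simp; omega
          rw [this]
          simp [Multiset.count_cons, Multiset.count_replicate]
    · rcases Nat.even_or_odd j with ⟨i, hi⟩ | ⟨i, hi⟩
      · refine fin (2 ::ₘ 8 ::ₘ Multiset.replicate (j - 2) 4) 1 (-2) 1 (-1) ?_ (by simp; omega) ?_
          (by norm_num) (by nlinarith) ?_
        · intro a ha
          rcases Multiset.mem_cons.1 ha with rfl | ha
          · omega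
          · rcases Multiset.mem_cons.1 ha with rfl | ha
            · omega
            · right; left; exact Multiset.eq_of_mem_replicate ha
        · rw [Nat.even_iff]; simp; omega
        · have : n - (2 ::ₘ 8 ::ₘ Multiset.replicate (j - 2) 4).sum = 0 := by simp; omega
          rw [this]
          simp [Multiset.count_cons, Multiset.count_replicate]
      · refine fin (2 ::ₘ Multiset.replicate j 4) 1 (-2) 1 (-1) ?_ (by simp; omega) ?_
          (by norm_num) (by nlinarith) ?_
        · intro a ha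
          rcases Multiset.mem_cons.1 ha with rfl | ha
          · omega
          · right; left; exact Multiset.eq_of_mem_replicate ha
        · rw [Nat.even_iff]; simp; omega
        · have : n - (2 ::ₘ Multiset.replicate j 4).sum = 0 := by simp; omega
          rw [this]
          simp [Multiset.count_cons, Multiset.count_replicate]
  · rcases Nat.even_or_odd k with ⟨j, hj⟩ | ⟨j, hj⟩
    · refine fin (Multiset.replicate k 2) 0 1 (-1) 0 ?_ (by simp; omega) ?_ (by norm_num)
        (by nlinarith) ?_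
      · intro a ha; left; exact Multiset.eq_of_mem_replicate ha
      · rw [Nat.even_iff]; simp; omega
      · have : n - (Multiset.replicate k 2).sum = 1 := by simp; omega
        rw [this]
        norm_num
    · refine fin (4 ::ₘ Multiset.replicate (k - 2) 2) 0 1 (-1) 0 ?_ (by simp; omega) ?_ (by norm_num)
        (by nlinarith) ?_
      · intro a ha
        rcases Multiset.mem_cons.1 ha with rfl | ha
        · omega
        · left; exact Multiset.eq_of_mem_replicate ha
      · rw [Nat.even_iff]; simp; omega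
      · have : n - (4 ::ₘ Multiset.replicate (k - 2) 2).sum = 1 := by simp; omega
        rw [this]
        norm_num

theorem exists_three_element (hn : 7 ≤ n) :
    ∃ (χ : Cfsg.IrrCharacter (alternatingGroup (Fin n))) (x : alternatingGroup (Fin n)),
      orderOf x = 3 ∧ (χ : alternatingGroup (Fin n) → ℂ) x = 0 ∧
      ∃ ψ : Cfsg.IrrCharacter (Perm (Fin n)), ∀ y : alternatingGroup (Fin n),
        (ψ : Perm (Fin n) → ℂ) y = (χ : alternatingGroup (Fin n) → ℂ) y := by
  set k := n / 3 with hk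
  obtain ⟨x, hx⟩ := exists_even (n := n) (Multiset.replicate k 3)
    (fun i hi => by rw [Multiset.eq_of_mem_replicate hi]; omega) (by simp; omega)
    (by rw [Nat.even_iff]; simp; omega)
  have hord : orderOf x = 3 := by
    have hdvd : orderOf x ∣ 3 := by
      rw [orderOf_eq_lcm, hx]
      exact Multiset.lcm_dvd.2 fun i hi => by rw [Multiset.eq_of_mem_replicate hi]
    refine ((Nat.dvd_prime Nat.prime_three).1 hdvd).resolve_left fun h => ?_
    rw [orderOf_eq_one_iff] at h
    subst h
    simp only [OneMemClass.coe_one, Perm.cycleType_one] at hx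
    have := congrArg Multiset.card hx
    simp at this
    omega
  have hf : n - (x : Perm (Fin n)).cycleType.sum = n % 3 := by rw [hx]; simp; omega
  have hc : (x : Perm (Fin n)).cycleType.count 2 = 0 := by rw [hx]; simp [Multiset.count_replicate]
  have hn' : (7 : ℤ) ≤ n := by exact_mod_cast hn
  have key : ∀ a b c d : ℤ, ((2 * c) ^ 2 + 2 * (2 * b - d) * (2 * c) +
      2 * ((2 * b - d) ^ 2 + 2 * (2 * a + d) * (2 * c)) + 10 * (2 * a + d) * (2 * b - d) +
      15 * (2 * a + d) ^ 2 + 2 * (2 * b - d) * d + 4 * (2 * a + d) * d + 2 * (2 * c) * d +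
      3 * d ^ 2 = 4) →
      (0 < 2 * a * ((n : ℤ) * n) + 2 * b * (n : ℤ) + 2 * c + d * ((n : ℤ) * ((n : ℤ) - 1))) →
      ((2 * a + d) * ((n % 3 : ℕ) : ℤ) ^ 2 + (2 * b - d) * ((n % 3 : ℕ) : ℤ) + 2 * c = 0) →
      ∃ (χ : Cfsg.IrrCharacter (alternatingGroup (Fin n))) (x : alternatingGroup (Fin n)),
        orderOf x = 3 ∧ (χ : alternatingGroup (Fin n) → ℂ) x = 0 ∧
        ∃ ψ : Cfsg.IrrCharacter (Perm (Fin n)), ∀ y : alternatingGroup (Fin n),
          (ψ : Perm (Fin n) → ℂ) y = (χ : alternatingGroup (Fin n) → ℂ) y := by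
    intro a b c d hno hp hz
    obtain ⟨χ, h0, hψ⟩ := exists_char_of_comb (by omega) a b c d hno hp x
      (by rw [hf, hc]; simpa using hz)
    exact ⟨χ, x, hord, h0, hψ⟩
  have h3 : n % 3 = 0 ∨ n % 3 = 1 ∨ n % 3 = 2 := by omega
  rcases h3 with h | h | h
  · exact key 0 (-1) 0 1 (by norm_num) (by nlinarith) (by rw [h]; norm_num)
  · exact key 0 1 (-1) 0 (by norm_num) (by nlinarith) (by rw [h]; norm_num)
  · exact key 1 (-2) 1 (-1) (by norm_num) (by nlinarith) (by rw [h]; norm_num)

end CfsgLib.Char.FourTrans
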