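import Cfsg.Agent.Char.FeitCoherence
import Cfsg.Agent.Char.Monomial

/-!
# Means over a Frobenius kernel, and class counting
-/

set_option autoImplicit false
set_option linter.style.haveILetI false

namespace CfsgLib.Char

universe u

variable {N : Type u} [Group N] [Fintype N] {A : Subgroup N} [hA : A.Normal]

/-- The irreducible characters with the kernel `A` in their kernel. -/
noncomputable def trivialOn (A : Subgroup N) : Finset (N → ℂ) :=
  @Finset.filter _ (fun β => ∀ k ∈ A, β k = β 1) (Classical.decPred _) (irrFinset N)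

omit hA in
theorem mem_trivialOn {β : N → ℂ} :
    β ∈ trivialOn A ↔ Cfsg.IsIrrCharacter N β ∧ ∀ k ∈ A, β k = β 1 := by
  classical
  simp [trivialOn, mem_irrFinset]

/-- With an abelian quotient the characters trivial on `A` are linear. -/
theorem trivialOn_apply_one (hab : ∀ x y : N, x * y * x⁻¹ * y⁻¹ ∈ A) {β : N → ℂ}
    (hβ : β ∈ trivialOn A) : β 1 = 1 := by
  obtain ⟨h1, h2⟩ := mem_trivialOn.1 hβ
  exact IsIrrCharacter.apply_one_eq_one_of_commutators h1 fun x y => h2 _ (hab x y)

/-- The sum of a class function over a Frobenius kernel. -/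
theorem sum_kernel_eq [Fintype A]
    (hC : ∀ a ∈ A, a ≠ 1 → Subgroup.centralizer ({a} : Set N) ≤ A)
    (hab : ∀ x y : N, x * y * x⁻¹ * y⁻¹ ∈ A) {φ : N → ℂ} (hφ : Cfsg.IsClassFunction N φ) :
    ∑ k : A, φ k = (Nat.card A : ℂ) * ∑ β ∈ trivialOn A, Cfsg.classInner φ β := by
  classical
  have hzero : ∀ β ∈ irrFinset N, β ∉ trivialOn A → ∑ k : A, β k = 0 := by
    intro β hβ hn
    rw [mem_irrFinset] at hβ
    have hrel : ∃ k ∈ A, β k ≠ β 1 := by
      by_contra h
      push Not at h
      exact hn (mem_trivialOn.2 ⟨hβ, h⟩)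
    obtain ⟨θ, hθ, h1, rfl⟩ := exists_indFun_eq_of_centralizer_le hC hβ hrel
    have h := classInner_indFun (H := A) (fun _ => (1 : ℂ))
      (IsIrrCharacter.isClassFunction hβ)
    rw [classInner_indFun_indFun isIrrCharacter_one hθ, if_neg] at h
    · have h' := congrArg (starRingEnd ℂ) h
      rw [map_zero, classInner_conj, classInner_def] at h'
      simp only [map_one, mul_one] at h'
      exact (mul_eq_zero.1 h'.symm).resolve_left
        (inv_ne_zero (Nat.cast_ne_zero.2 (Nat.card_pos (α := A)).ne'))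
    · rw [mem_conjOrbit]
      rintro ⟨g, hg⟩
      refine h1 ?_
      rw [← conjOn_one (N := A) θ, ← mul_inv_cancel g, ← conjOn_conjOn, ← hg]
      rfl
  have hexp := eq_sum_irr hφ
  have hsub : trivialOn A ⊆ irrFinset N := fun β hβ => mem_irrFinset.2 (mem_trivialOn.1 hβ).1
  calc ∑ k : A, φ k = ∑ k : A, ∑ β ∈ irrFinset N, Cfsg.classInner φ β * β k := by
        refine Finset.sum_congr rfl fun k _ => ?_
        have h := congrFun hexp k
        simp only [Finset.sum_apply, Pi.smul_apply, smul_eq_mul] at h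
        exact h
    _ = ∑ β ∈ irrFinset N, Cfsg.classInner φ β * ∑ k : A, β k := by
        rw [Finset.sum_comm]
        exact Finset.sum_congr rfl fun β _ => (Finset.mul_sum _ _ _).symm
    _ = ∑ β ∈ trivialOn A, Cfsg.classInner φ β * ∑ k : A, β k := by
        rw [← Finset.sum_subset hsub fun β hβ hn => by rw [hzero β hβ hn, mul_zero]]
    _ = _ := by
        rw [Finset.mul_sum]
        refine Finset.sum_congr rfl fun β hβ => ?_
        rw [Finset.sum_congr rfl fun (k : A) _ => (mem_trivialOn.1 hβ).2 k k.2, Finset.sum_const,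
          trivialOn_apply_one hab hβ, Finset.card_univ, nsmul_eq_mul, mul_one,
          ← Nat.card_eq_fintype_card, mul_comm]

/-- There are at least `[N : A]` characters trivial on `A`. -/
theorem index_le_card_trivialOn (hab : ∀ x y : N, x * y * x⁻¹ * y⁻¹ ∈ A) :
    A.index ≤ (trivialOn A).card := by
  classical
  have hcomm : commutator (N ⧸ A) = ⊥ := by
    rw [commutator_def, Subgroup.commutator_eq_bot_iff_le_centralizer]
    intro p _
    rw [Subgroup.mem_centralizer_iff]
    rintro q -
    obtain ⟨x, rfl⟩ := QuotientGroup.mk'_surjective A p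
    obtain ⟨y, rfl⟩ := QuotientGroup.mk'_surjective A q
    have h1 : QuotientGroup.mk' A (y * x * y⁻¹ * x⁻¹) = 1 := (QuotientGroup.eq_one_iff _).2 (hab y x)
    simp only [map_mul, map_inv, mul_inv_eq_one, mul_inv_eq_iff_eq_mul, one_mul] at h1
    exact h1
  have hcard : Nat.card ((N ⧸ A) →* ℂˣ) = A.index := by
    rw [card_hom_eq_index_commutator, hcomm, Subgroup.index_bot, Subgroup.index_eq_card]
  haveI : Finite ((N ⧸ A) →* ℂˣ) := Nat.finite_of_card_ne_zero (by
    rw [hcard]; exact A.index_ne_zero_of_finite)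
  haveI := Fintype.ofFinite ((N ⧸ A) →* ℂˣ)
  rw [← hcard, Nat.card_eq_fintype_card, ← Finset.card_univ]
  refine Finset.card_le_card_of_injOn
    (fun lam => fun x : N => (((lam.comp (QuotientGroup.mk' A)) x : ℂˣ) : ℂ)) (fun lam _ => ?_)
    fun lam _ lam' _ h => ?_
  · refine mem_trivialOn.2 ⟨isIrrCharacter_ofHom _, fun k hk => ?_⟩
    simp [(QuotientGroup.eq_one_iff k).2 hk]
  · refine MonoidHom.ext fun q => ?_
    obtain ⟨x, rfl⟩ := QuotientGroup.mk'_surjective A q
    exact Units.ext (congrFun h x)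

/-- In a Frobenius group every coset outside the kernel lies in one class. -/
theorem isConj_of_coset (hC : ∀ a ∈ A, a ≠ 1 → Subgroup.centralizer ({a} : Set N) ≤ A) {x y : N}
    (hx : x ∉ A) (hy : x⁻¹ * y ∈ A) : IsConj x y := by
  let F : A → A := fun u => ⟨x⁻¹ * ((u : N) * x * (u : N)⁻¹), by
    rw [show x⁻¹ * ((u : N) * x * (u : N)⁻¹) = x⁻¹ * (u : N) * x * (u : N)⁻¹ by group]
    refine mul_mem ?_ (inv_mem u.2)
    simpa using hA.conj_mem _ u.2 x⁻¹⟩
  have hF : Function.Injective F := fun u v huv => by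
    have e : x⁻¹ * ((u : N) * x * (u : N)⁻¹) = x⁻¹ * ((v : N) * x * (v : N)⁻¹) :=
      congrArg Subtype.val huv
    by_contra hne
    have h1 : (v : N)⁻¹ * u ≠ 1 := fun h => hne (Subtype.ext (inv_mul_eq_one.1 h).symm)
    refine hx (hC _ (mul_mem (inv_mem v.2) u.2) h1 (Subgroup.mem_centralizer_singleton_iff.2 ?_))
    have e2 := mul_left_cancel e
    calc x * ((v : N)⁻¹ * u) = (v : N)⁻¹ * ((v : N) * x * (v : N)⁻¹) * u := by group
      _ = _ := by rw [← e2]; group
  obtain ⟨u, hu⟩ := Finite.injective_iff_surjective.1 hF ⟨_, hy⟩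
  exact isConj_iff.2 ⟨u, mul_left_cancel (congrArg Subtype.val hu)⟩

/-- All but fewer than `[N : A]` classes of a Frobenius group meet the kernel. -/
theorem card_conjClasses_le_kernel
    (hC : ∀ a ∈ A, a ≠ 1 → Subgroup.centralizer ({a} : Set N) ≤ A) :
    Nat.card (ConjClasses N) + 1 ≤
      Nat.card {C : ConjClasses N // ∃ k ∈ A, ConjClasses.mk k = C} + A.index := by
  classical
  haveI := Fintype.ofFinite (ConjClasses N)
  set P := (Finset.univ : Finset (ConjClasses N)).filter fun C => ∃ k ∈ A, ConjClasses.mk k = C with hP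
  set O := (Finset.univ : Finset (ConjClasses N)).filter fun C => ¬ ∃ k ∈ A, ConjClasses.mk k = C with hO
  have hsplit : P.card + O.card = Nat.card (ConjClasses N) := by
    rw [hP, hO, Finset.card_filter_add_card_filter_not, Finset.card_univ, Nat.card_eq_fintype_card]
  rw [Nat.card_eq_fintype_card (α := {C : ConjClasses N // _}), Fintype.card_subtype, ← hP, ← hsplit]
  haveI := Fintype.ofFinite (N ⧸ A)
  have hle : O.card ≤ ((Finset.univ : Finset (N ⧸ A)).erase 1).card := by
    refine Finset.card_le_card_of_injOn (fun C => QuotientGroup.mk' A (Quotient.out C)) ?_ ?_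
    · intro C hC'
      simp only [hO, Finset.mem_coe, Finset.mem_filter, Finset.mem_univ, true_and] at hC'
      simp only [Finset.mem_coe, Finset.mem_erase, Finset.mem_univ, and_true]
      exact fun h => hC' ⟨_, (QuotientGroup.eq_one_iff _).1 h, Quotient.out_eq C⟩
    · intro C hC' D _ h
      simp only [hO, Finset.mem_coe, Finset.mem_filter, Finset.mem_univ, true_and] at hC'
      have hx : Quotient.out C ∉ A := fun hm => hC' ⟨_, hm, Quotient.out_eq C⟩
      have h2 := (QuotientGroup.eq (s := A)).1 h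
      rw [← Quotient.out_eq C, ← Quotient.out_eq D]
      exact ConjClasses.mk_eq_mk_iff_isConj.2 (isConj_of_coset hC hx h2)
  rw [Finset.card_erase_of_mem (Finset.mem_univ _), Finset.card_univ, ← Nat.card_eq_fintype_card,
    ← Subgroup.index_eq_card] at hle
  have := Nat.pos_of_ne_zero A.index_ne_zero_of_finite
  omega

end CfsgLib.Char
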