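import Cfsg.Agent.Char.PPrimeKernel
import Cfsg.Agent.Char.CliffordCorrespondence
import Cfsg.Agent.Char.ExtendGlue
import Cfsg.Agent.Char.Inflation
import Cfsg.Agent.Char.LinearTwist
import Cfsg.Agent.Solvable.Socle
import Cfsg.Prelude.Def_Blocks

/-!
# Garrison: the nilpotent length is bounded by the number of character degrees

A character of greatest degree has nilpotent kernel (Broline), and, when the Frattini subgroup is
trivial, it cannot be trivial on the Fitting subgroup.
-/

set_option autoImplicit false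
set_option linter.style.haveILetI false
set_option linter.unusedSectionVars false

namespace CfsgLib.Char.Garrison

open Subgroup
open scoped ComplexConjugate

universe u v

variable {G : Type u} [Group G]

/-- The set of irreducible character degrees. -/
def degSet (G : Type u) [Group G] : Set ℕ :=
  {d | ∃ χ : Cfsg.IrrCharacter G, Cfsg.charDegree (χ : G → ℂ) = d}

/-! ### A regular orbit on the dual -/

/-- A group acting on an abelian group through a commutative group of order prime to the exponent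
of that group has an element with stabiliser as small as possible. -/
theorem exists_regular {A : Type u} [Group A] [Finite A] {W : Type v} [CommGroup W]
    (act : A → W →* W) (hmul : ∀ a b w, act (a * b) w = act a (act b w))
    (hone : ∀ w, act 1 w = w) (hcomm : ∀ a b w, act (a * b) w = act (b * a) w)
    {q r : ℕ} (hqr : q.Coprime r) (hq : ∀ a : A, ∃ j, ∀ w, act (a ^ q ^ j) w = w) :
    ∃ v : W, v ^ r = 1 ∧ ∀ a, act a v = v → ∀ w : W, w ^ r = 1 → act a w = w := by
  classical
  have hc : ∀ a b w, act a (act b w) = act b (act a w) := fun a b w => by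
    rw [← hmul, hcomm, hmul]
  have hex : ∃ n, ∃ v : W, v ^ r = 1 ∧ {a : A | act a v = v}.ncard = n :=
    ⟨_, 1, one_pow r, rfl⟩
  obtain ⟨v, hvr, hv⟩ := Nat.find_spec hex
  refine ⟨v, hvr, fun b hb u hu => ?_⟩
  by_contra hne
  set w := act b u * u⁻¹ with hwdef
  have hw : ∀ y, y ^ r = 1 → ∀ z, z = act b y * y⁻¹ → act b z = z → z = 1 := by
    intro y hy z hz hfix
    have hpow : ∀ i : ℕ, act (b ^ i) y = y * z ^ i := by
      intro i
      induction i with
      | zero => rw [pow_zero, hone, pow_zero, mul_one]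
      | succ i ih =>
        rw [pow_succ', hmul, ih, map_mul, map_pow, hfix, pow_succ' z, ← mul_assoc]
        congr 1
        rw [hz, mul_left_comm, mul_inv_cancel, mul_one]
    obtain ⟨j, hj⟩ := hq b
    have h1 : z ^ q ^ j = 1 := by simpa [hj y] using (hpow (q ^ j)).symm
    have h2 : z ^ r = 1 := by
      rw [hz, mul_pow, ← map_pow, inv_pow, hy, map_one, inv_one, mul_one]
    have h3 : z ^ Nat.gcd (q ^ j) r = 1 := pow_gcd_eq_one.2 ⟨h1, h2⟩
    rwa [(Nat.Coprime.pow_left j hqr), pow_one] at h3
  have hwr : w ^ r = 1 := by rw [hwdef, mul_pow, ← map_pow, inv_pow, hu, map_one, inv_one, mul_one]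
  have hvwr : (v * w) ^ r = 1 := by rw [mul_pow, hvr, hwr, mul_one]
  have hbw : act b w ≠ w := fun h => hne (mul_inv_eq_one.1 (hw u hu w rfl h))
  have hsub : {a : A | act a (v * w) = v * w} ⊆ {a : A | act a v = v} := by
    intro a ha
    change act a (v * w) = v * w at ha
    rw [map_mul] at ha
    have hx : act a v * v⁻¹ = w * (act a w)⁻¹ := by
      rw [mul_inv_eq_iff_eq_mul, mul_right_comm, eq_mul_inv_iff_mul_eq, ha, mul_comm]
    have hfix : act b (act a v * v⁻¹) = act a v * v⁻¹ := by
      rw [map_mul, map_inv, hc b a, hb]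
    have hrange : act a v * v⁻¹ = act b (u * (act a u)⁻¹) * (u * (act a u)⁻¹)⁻¹ := by
      rw [hx, hwdef, map_mul, map_inv, map_mul, map_inv, hc a b]
      simp [mul_comm, mul_left_comm, mul_assoc]
    have := hw _ (by rw [mul_pow, inv_pow, ← map_pow, hu, map_one, inv_one, mul_one]) _ hrange hfix
    exact mul_inv_eq_one.1 this
  refine Nat.find_min hex ?_ ⟨v * w, hvwr, rfl⟩
  rw [← hv]
  refine Set.ncard_lt_ncard (hsub.ssubset_of_mem_notMem (a := b) hb fun h => hbw ?_)
  change act b (v * w) = v * w at h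
  rwa [map_mul, hb, mul_right_inj] at h

/-! ### Broline: the kernel of a character of greatest degree -/

/-- A character of greatest degree has nilpotent kernel. -/
theorem isNilpotent_ker_of_max [Fintype G] {χ : G → ℂ} (hχ : Cfsg.IsIrrCharacter G χ)
    (hmax : ∀ ψ, Cfsg.IsIrrCharacter G ψ → (ψ 1).re ≤ (χ 1).re) :
    Group.IsNilpotent (kerSubgroup (IsIrrCharacter.isCharacter hχ)) := by
  classical
  set hc := IsIrrCharacter.isCharacter hχ
  set K := kerSubgroup hc with hKdef
  haveI hKn : K.Normal := kerSubgroup_normal hc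
  refine (Group.isNilpotent_of_finite_tfae (G := K)).out 3 0 |>.1 fun p hp P => ?_
  haveI := hp
  set P' := (P : Subgroup K).map K.subtype with hP'def
  have hP'K : P' ≤ K := map_subtype_le _
  suffices h : normalizer (P' : Set G) = ⊤ by
    have h2 : P'.Normal := normalizer_eq_top_iff.1 h
    have h3 := h2.comap K.subtype
    rwa [hP'def, comap_map_eq_self_of_injective K.subtype_injective] at h3
  by_contra hN
  obtain ⟨H, hH, hle⟩ := (eq_top_or_exists_le_coatom (normalizer (P' : Set G))).resolve_left hN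
  have htop : K ⊔ H = ⊤ := top_unique ((Sylow.normalizer_sup_eq_top P).ge.trans
    (sup_le (hle.trans le_sup_right) le_sup_left))
  -- the restriction to `H` is irreducible
  obtain ⟨σ, hσ, hχσ⟩ := TwoClass.exists_deflate (N := K) hχ fun y hy => hy
  have hsurj : Function.Surjective ((QuotientGroup.mk' K).comp H.subtype) := by
    intro z
    induction z using QuotientGroup.induction_on with | H z =>
    obtain ⟨k, hk, h, hh, rfl⟩ := mem_sup_of_normal_left.1 (htop.ge (mem_top z))
    refine ⟨⟨h, hh⟩, QuotientGroup.eq.2 ?_⟩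
    have := hKn.conj_mem k hk h⁻¹
    simpa [mul_assoc] using this
  have hres : Cfsg.IsIrrCharacter H (fun h : H => χ h) := by
    rw [hχσ]
    exact IsIrrCharacter.comp_surjective hσ _ hsurj
  set I := Cfsg.indFun H (fun h : H => χ h) with hI
  have hIc : Cfsg.IsCharacter G I := IsCharacter.indFun (IsIrrCharacter.isCharacter hres)
  obtain ⟨b, hbpos, hb⟩ := IsIrrCharacter.exists_degree hχ
  -- `K ⊓ H` is in the kernel of every constituent
  have hker : ∀ x ∈ K ⊓ H, I x = I 1 := by
    intro x hx
    have hcl := eq_sum_irr (IsCharacter.isClassFunction hIc)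
    rw [hcl]
    simp only [Finset.sum_apply, Pi.smul_apply, smul_eq_mul]
    refine Finset.sum_congr rfl fun ψ hψ => ?_
    rw [mem_irrFinset] at hψ
    rcases eq_or_ne (Cfsg.classInner I ψ) 0 with h0 | h0
    · rw [h0, zero_mul, zero_mul]
    congr 1
    rw [hI, classInner_indFun _ (IsIrrCharacter.isClassFunction hψ)] at h0
    have hψH := IsCharacter.restrict (IsIrrCharacter.isCharacter hψ) H
    have h1 : Cfsg.classInner (fun h : H => ψ h) (fun h : H => χ h) ≠ 0 := fun e => h0 (by
      rw [← classInner_conj, e, map_zero])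
    have hge := IsCharacter.re_constituent_le hψH hres h1
    obtain ⟨d, -, hd⟩ := IsIrrCharacter.exists_degree hψ
    have heq : ψ 1 = χ 1 := by
      have h2 := hmax ψ hψ
      simp only [OneMemClass.coe_one] at hge
      rw [hd, hb] at hge h2 ⊢
      simp only [Complex.natCast_re, Nat.cast_le] at hge h2
      rw [le_antisymm h2 hge]
    have hfun := IsCharacter.eq_of_constituent hψH hres h1 (by simpa using heq)
    have hv := congrFun hfun ⟨x, hx.2⟩
    simp only at hv
    rw [hv, hx.1, heq]
  have hconj : ∀ x ∈ K ⊓ H, ∀ g : G, g⁻¹ * x * g ∈ H := by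
    intro x hx g
    by_contra hg
    have hb0 : (b : ℂ) ≠ 0 := by exact_mod_cast hbpos.ne'
    have hH0 : (Nat.card H : ℂ) ≠ 0 := by exact_mod_cast Nat.card_pos.ne'
    have h1 := hker x hx
    simp only [hI, Cfsg.indFun, mul_one, inv_mul_cancel] at h1
    have h2 := mul_left_cancel₀ (inv_ne_zero hH0) h1
    have hval : ∀ y : G, Cfsg.extendByZero H (fun h : H => χ h) (y⁻¹ * x * y) =
        if y⁻¹ * x * y ∈ H then (b : ℂ) else 0 := fun y => by
      split_ifs with hy
      · rw [extendByZero_of_mem _ hy]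
        have h3 : χ (y⁻¹ * x * y) = χ x := by
          have h4 := IsCharacter.isClassFunction hc x y⁻¹
          rwa [inv_inv] at h4
        exact h3.trans (hx.1.trans hb)
      · rw [extendByZero_of_not_mem _ hy]
    rw [extendByZero_of_mem _ (one_mem H), Finset.sum_congr rfl fun y _ => hval y,
      Finset.sum_ite, Finset.sum_const_zero, add_zero, Finset.sum_const, Finset.sum_const,
      nsmul_eq_mul, nsmul_eq_mul] at h2
    simp only at h2
    rw [hb, mul_left_inj' hb0, Nat.cast_inj, Finset.card_univ] at h2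
    have := (Finset.card_eq_iff_eq_univ _).1 h2
    have hm : g ∈ (Finset.univ.filter fun y : G => y⁻¹ * x * y ∈ H) :=
      this.symm.subset (Finset.mem_univ g)
    exact hg (Finset.mem_filter.1 hm).2
  haveI hLn : (K ⊓ H).Normal := ⟨fun x hx g => mem_inf.2
    ⟨hKn.conj_mem x hx.1 g, by simpa using hconj x hx g⁻¹⟩⟩
  have hPL : P' ≤ K ⊓ H := le_inf hP'K (le_normalizer.trans hle)
  let S : Sylow p ↥(K ⊓ H : Subgroup G) :=
    { toSubgroup := P'.subgroupOf (K ⊓ H)
      isPGroup' := ((P.2.map K.subtype).of_equiv (subgroupOfEquivOfLe hPL).symm)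
      is_maximal' := fun {Q} hQ hPQ => by
        have hQK : (Q.map (K ⊓ H).subtype) ≤ K := (map_subtype_le _).trans inf_le_left
        have h1 : ((Q.map (K ⊓ H).subtype).subgroupOf K) = (P : Subgroup K) := by
          refine P.3 ((hQ.map _).of_equiv (subgroupOfEquivOfLe hQK).symm) fun y hy => ?_
          rw [mem_subgroupOf]
          have hy' : (y : G) ∈ P' := ⟨y, hy, rfl⟩
          exact ⟨⟨y, hPL hy'⟩, hPQ (mem_subgroupOf.2 hy'), rfl⟩
        refine le_antisymm (fun y hy => mem_subgroupOf.2 ?_) hPQ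
        have h2 : (⟨(y : G), y.2.1⟩ : K) ∈ (P : Subgroup K) :=
          h1.le (mem_subgroupOf.2 ⟨y, hy, rfl⟩)
        exact ⟨_, h2, rfl⟩ }
  have hS := Sylow.normalizer_sup_eq_top S
  change normalizer ((P'.subgroupOf (K ⊓ H)).map (K ⊓ H).subtype : Set G) ⊔ (K ⊓ H) = ⊤ at hS
  rw [subgroupOf_map_subtype, inf_of_le_left hPL] at hS
  exact hH.1 (top_unique (hS.ge.trans (sup_le hle inf_le_right)))

/-! ### The Fitting subgroup when the Frattini subgroup is trivial -/

theorem fitting_isMulCommutative [Finite G] (hΦ : frattini G = ⊥) :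
    IsMulCommutative (Cfsg.fittingSubgroup G) := by
  set F := Cfsg.fittingSubgroup G with hFdef
  haveI hFn : F.Normal := by
    rw [show F = _ from CfsgLib.Solvable.fittingSubgroup_eq_iSup_pCore]; infer_instance
  have hnil : Group.IsNilpotent F := CfsgLib.Solvable.isNilpotent_fittingSubgroup
  refine le_centralizer_iff_isMulCommutative.1 ?_
  rw [le_centralizer_iff]
  have h := CfsgLib.Socle.fitting_eq_socle hΦ
  conv_lhs => rw [hFdef, h]
  refine sSup_le fun N hN => ?_
  haveI := hN.1
  refine le_centralizer_iff.1 (CfsgLib.Socle.centralizes_of_nilpotent hnil hN.2.1 hN.2.2.2 ?_)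
  rw [hFdef, h]
  exact le_sSup hN

theorem exists_complement_of_frattini_eq_bot [Finite G] (hΦ : frattini G = ⊥) (N : Subgroup G)
    [N.Normal] (hN : IsMulCommutative N) : ∃ H : Subgroup G, N ⊔ H = ⊤ ∧ N ⊓ H = ⊥ := by
  obtain ⟨H, -, hH, hmin⟩ := exists_minimal_le_of_wellFoundedLT
    (fun C : Subgroup G => N ⊔ C = ⊤) ⊤ (sup_top_eq N)
  haveI : (N ⊓ H).Normal := CfsgLib.Socle.normal_of_sup (B := N) (U := H)
    (CfsgLib.Socle.le_normalizer_inf (le_top.trans (normalizer_eq_top N).ge) le_normalizer)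
    (CfsgLib.Socle.le_normalizer_of_le_centralizer
      ((le_centralizer_iff_isMulCommutative.2 hN).trans (centralizer_le fun x hx => hx.1))) hH
  refine ⟨H, hH, le_bot_iff.1 (hΦ ▸ CfsgLib.Socle.le_frattini_of_le_frattini
    (inf_le_right : N ⊓ H ≤ H) fun M hM hle => hM.not_ge (hmin ?_ hM.le))⟩
  exact top_unique (hH.ge.trans (sup_le le_sup_left
    (hle.trans (sup_le (inf_le_left.trans le_sup_left) le_sup_right))))

theorem frattini_quotient_eq_bot : frattini (G ⧸ frattini G) = ⊥ := by
  set π := QuotientGroup.mk' (frattini G)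
  have hπ := QuotientGroup.mk'_surjective (frattini G)
  refine eq_bot_iff.2 fun x hx => ?_
  obtain ⟨g, rfl⟩ := hπ x
  refine (QuotientGroup.eq_one_iff g).2 ?_
  simp only [frattini, Order.radical, mem_iInf, Set.mem_setOf_eq]
  intro M hM
  have hle : frattini G ≤ M := iInf₂_le M hM
  have hco : IsCoatom (M.map π) := by
    refine ⟨fun h => hM.1 ?_, fun X hX => ?_⟩
    · rw [← sup_eq_left.2 hle, ← QuotientGroup.ker_mk' (frattini G), ← comap_map_eq, h, comap_top]
    · have h1 : M < X.comap π := by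
        refine lt_of_le_of_ne (map_le_iff_le_comap.1 hX.le) fun e => hX.ne ?_
        rw [e, map_comap_eq_self_of_surjective hπ]
      rw [← map_comap_eq_self_of_surjective hπ X, hM.2 _ h1, map_top_of_surjective _ hπ]
  have h2 : frattini (G ⧸ frattini G) ≤ M.map π := iInf₂_le _ hco
  obtain ⟨m, hm, e⟩ := h2 hx
  have := mul_mem hm (hle (QuotientGroup.eq.1 e))
  rwa [mul_inv_cancel_left] at this

/-! ### The main lemma -/

/-- When the Frattini subgroup is trivial, no character of greatest degree is trivial on a proper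
Fitting subgroup. -/
theorem not_trivial_on_fitting [Fintype G] [Group.IsSolvable G] (hΦ : frattini G = ⊥)
    (hF : Cfsg.fittingSubgroup G ≠ ⊤) {χ : G → ℂ} (hχ : Cfsg.IsIrrCharacter G χ)
    (hmax : ∀ ψ, Cfsg.IsIrrCharacter G ψ → (ψ 1).re ≤ (χ 1).re)
    (htriv : ∀ f ∈ Cfsg.fittingSubgroup G, χ f = χ 1) : False := by
  classical
  haveI hab : IsMulCommutative (Cfsg.fittingSubgroup G) := fitting_isMulCommutative hΦ
  haveI hFn : (Cfsg.fittingSubgroup G).Normal := by
    rw [CfsgLib.Solvable.fittingSubgroup_eq_iSup_pCore]; infer_instance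
  set F := Cfsg.fittingSubgroup G with hFdef
  set hc := IsIrrCharacter.isCharacter hχ
  haveI hKn : (kerSubgroup hc).Normal := kerSubgroup_normal hc
  have hker : ∀ g, χ g = χ 1 → g ∈ F := fun g hg =>
    CfsgLib.Solvable.le_fittingSubgroup hKn (isNilpotent_ker_of_max hχ hmax) hg
  -- a chief factor over `F`
  haveI : Nontrivial (G ⧸ F) := by
    rw [← Finite.one_lt_card_iff_nontrivial, ← index_eq_card]
    exact one_lt_index_of_ne_top hF
  obtain ⟨A0, hA0n, hA0, -, hA0c, hA0min, q, hq, -, hA0q⟩ :=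
    CfsgLib.Solvable.exists_normal_elementary_le (G := G ⧸ F) (N := ⊤) top_ne_bot inferInstance
  haveI := Fact.mk hq
  set π := QuotientGroup.mk' F with hπ
  set A := A0.comap π with hAdef
  haveI hAn : A.Normal := hA0n.comap π
  have hFA : F ≤ A := fun x hx => by
    rw [hAdef, mem_comap, hπ, QuotientGroup.mk'_apply, (QuotientGroup.eq_one_iff x).2 hx]
    exact one_mem A0
  have hAF : ¬ A ≤ F := fun h => hA0 (by
    rw [← map_comap_eq_self_of_surjective (QuotientGroup.mk'_surjective F) A0, Subgroup.map_eq_bot_iff,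
      QuotientGroup.ker_mk']
    exact h)
  have hAq : ∀ a ∈ A, ∃ j, a ^ q ^ j ∈ F := fun a ha => by
    obtain ⟨j, hj⟩ := hA0q ⟨π a, ha⟩
    exact ⟨j, (QuotientGroup.eq_one_iff _).1 (by simpa [hπ] using congrArg Subtype.val hj)⟩
  have hAcomm : ∀ a ∈ A, ∀ b ∈ A, (a * b) * (b * a)⁻¹ ∈ F := fun a ha b hb => by
    refine (QuotientGroup.eq_one_iff _).1 ?_
    have := setLike_mul_comm (s := A0) (ha : π a ∈ A0) (hb : π b ∈ A0)
    simp only [hπ, QuotientGroup.mk'_apply] at this
    rw [QuotientGroup.mk_mul, QuotientGroup.mk_inv, QuotientGroup.mk_mul, QuotientGroup.mk_mul,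
      this, mul_inv_cancel]
  -- the `q'`-part of `F`
  obtain ⟨m, r, hqr, hcardF⟩ := Nat.exists_eq_pow_mul_and_not_dvd (Nat.card_pos (α := F)).ne' q
    hq.ne_one
  have hqr' : q.Coprime r := (hq.coprime_iff_not_dvd).2 hqr
  let V : Subgroup G :=
    { carrier := {x | x ∈ F ∧ x ^ r = 1}
      one_mem' := ⟨one_mem F, one_pow r⟩
      mul_mem' := fun {x y} hx hy => ⟨mul_mem hx.1 hy.1, by
        rw [(show Commute x y from setLike_mul_comm hx.1 hy.1).mul_pow, hx.2, hy.2, one_mul]⟩
      inv_mem' := fun {x} hx => ⟨inv_mem hx.1, by rw [inv_pow, hx.2, inv_one]⟩ }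
  haveI hVn : V.Normal := ⟨fun x hx g => ⟨hFn.conj_mem x hx.1 g, by
    rw [conj_pow, hx.2, mul_one, mul_inv_cancel]⟩⟩
  have hVF : V ≤ F := fun x hx => hx.1
  have hcent : ∀ a ∈ A, a ∈ centralizer (V : Set G) → a ∈ F := by
    set C := A ⊓ centralizer (V : Set G) with hCdef
    have hFC : F ≤ C := le_inf hFA ((le_centralizer_iff_isMulCommutative.2 hab).trans
      (centralizer_le hVF))
    have hcase : C ≤ F ∨ C = A := by
      haveI : C.Normal := inferInstance
      rcases hA0min (C.map π)
        (Subgroup.Normal.map inferInstance π (QuotientGroup.mk'_surjective F))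
        (map_le_iff_le_comap.2 inf_le_left) with h | h
      · left; rwa [Subgroup.map_eq_bot_iff, QuotientGroup.ker_mk'] at h
      · right
        rw [hAdef, ← h, comap_map_eq, QuotientGroup.ker_mk', sup_eq_left.2 hFC]
    rcases hcase with h | h
    · exact fun a ha hac => h (mem_inf.2 ⟨ha, hac⟩)
    exfalso
    refine hAF (CfsgLib.Solvable.le_fittingSubgroup hAn ?_)
    have hVA : V ≤ A := hVF.trans hFA
    have hq' : IsPGroup q (↥A ⧸ V.subgroupOf A) := by
      intro z
      induction z using QuotientGroup.induction_on with | H z =>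
      obtain ⟨j, hj⟩ := hAq z z.2
      refine ⟨j + m, ?_⟩
      rw [← QuotientGroup.mk_pow, QuotientGroup.eq_one_iff, mem_subgroupOf]
      refine ⟨?_, ?_⟩
      · rw [SubgroupClass.coe_pow, pow_add, pow_mul]
        exact pow_mem hj _
      · rw [SubgroupClass.coe_pow, ← pow_mul, pow_add, mul_assoc, pow_mul, ← hcardF]
        exact congrArg Subtype.val (pow_card_eq_one' (x := (⟨_, hj⟩ : F)))
    haveI := hq'.isNilpotent
    refine Subgroup.isNilpotent_of_ker_le_center (QuotientGroup.mk' (V.subgroupOf A)) ?_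
    rw [QuotientGroup.ker_mk']
    intro x hx
    refine mem_center_iff.2 fun a => Subtype.ext ?_
    exact (mem_centralizer_iff.1 ((h.ge a.2).2) (x : G) (mem_subgroupOf.1 hx)).symm
  -- a linear character with inertia group meeting `A` in `F`
  let conjF : G → F →* F := fun g =>
    (MulAut.conjNormal (H := F) g⁻¹).toMonoidHom
  let act : A → (F →* ℂˣ) →* (F →* ℂˣ) := fun a =>
    { toFun := fun l => l.comp (conjF a)
      map_one' := rfl
      map_mul' := fun _ _ => rfl }
  have hact : ∀ (a : A) (l : F →* ℂˣ) (f : F),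
      act a l f = l ⟨(a : G)⁻¹ * f * a, by simpa using hFn.conj_mem f f.2 (a : G)⁻¹⟩ := by
    intro a l f
    refine congrArg l (Subtype.ext ?_)
    simp [conjF]
  obtain ⟨lam, hlr, hlam⟩ := exists_regular act
    (fun a b l => MonoidHom.ext fun f => by
      simp only [hact]
      refine congrArg l (Subtype.ext ?_)
      simp [mul_assoc])
    (fun l => MonoidHom.ext fun f => by
      simp only [hact]
      refine congrArg l (Subtype.ext ?_)
      simp)
    (fun a b l => MonoidHom.ext fun f => by
      simp only [hact]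
      refine congrArg l (Subtype.ext ?_)
      simp only [Subgroup.coe_mul]
      have hk := hAcomm (a : G) a.2 (b : G) b.2
      have hco := setLike_mul_comm hk f.2
      generalize hk0 : (a : G) * b * ((b : G) * a)⁻¹ = k at hco
      have e : (a : G) * b = k * ((b : G) * a) := by rw [← hk0]; group
      rw [e]
      calc (k * ((b : G) * a))⁻¹ * f * (k * ((b : G) * a))
          = ((b : G) * a)⁻¹ * (k⁻¹ * ((f : G) * k)) * ((b : G) * a) := by group
        _ = ((b : G) * a)⁻¹ * f * ((b : G) * a) := by rw [← hco, inv_mul_cancel_left])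
    hqr' (fun a => by
      obtain ⟨j, hj⟩ := hAq a a.2
      refine ⟨j, fun l => MonoidHom.ext fun f => ?_⟩
      rw [hact]
      refine congrArg l (Subtype.ext ?_)
      simp only [SubgroupClass.coe_pow]
      rw [mul_assoc, setLike_mul_comm f.2 hj, inv_mul_cancel_left])
  have hreg : ∀ a : A, act a lam = lam → (a : G) ∈ F := by
    intro a ha
    refine hcent a a.2 (mem_centralizer_iff.2 fun v hv => ?_)
    have hmem : (a : G)⁻¹ * v * a ∈ F := by simpa using hFn.conj_mem v hv.1 (a : G)⁻¹
    set c : F := ⟨(a : G)⁻¹ * v * a, hmem⟩ * (⟨v, hv.1⟩ : F)⁻¹ with hcdef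
    have hcr : c ^ r = 1 := by
      have hv' : (⟨v, hv.1⟩ : F) ^ r = 1 := Subtype.ext hv.2
      have hw' : (⟨(a : G)⁻¹ * v * a, hmem⟩ : F) ^ r = 1 := Subtype.ext (by
        have := conj_pow (i := r) (a := (a : G)⁻¹) (b := v)
        rw [inv_inv, hv.2, mul_one, inv_mul_cancel] at this
        exact this)
      rw [hcdef, (show Commute _ _ from Subtype.ext (setLike_mul_comm hmem
        (inv_mem hv.1))).mul_pow, hw', inv_pow, hv', inv_one, one_mul]
    have hall : ∀ l : F →* ℂˣ, l c = 1 := by
      intro l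
      have hl : (l ^ q ^ m) ^ r = 1 := MonoidHom.ext fun f => by
        simp only [MonoidHom.pow_apply, MonoidHom.one_apply]
        rw [← pow_mul, ← hcardF, ← map_pow, pow_card_eq_one', map_one]
      have h1 := hlam a ha _ hl
      have h2 : (l c) ^ q ^ m = 1 := by
        have := DFunLike.congr_fun h1 ⟨v, hv.1⟩
        rw [hact, MonoidHom.pow_apply, MonoidHom.pow_apply] at this
        rw [hcdef, map_mul, map_inv, mul_pow, inv_pow, this, mul_inv_cancel]
      have h3 : (l c) ^ r = 1 := by rw [← map_pow, hcr, map_one]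
      have h4 : (l c) ^ Nat.gcd (q ^ m) r = 1 := pow_gcd_eq_one.2 ⟨h2, h3⟩
      rwa [hqr'.pow_left m, pow_one] at h4
    have hc1 : c = 1 := by
      by_contra hne
      obtain ⟨l, hl⟩ := exists_hom_ne_one (G := F) (g := c) (fun hm => hne (by
        have : commutator F = ⊥ := by
          rw [_root_.commutator_def, commutator_eq_bot_iff_le_centralizer]
          exact fun x _ => mem_centralizer_iff.2 fun y _ =>
            Subtype.ext (setLike_mul_comm y.2 x.2)
        rwa [this, mem_bot] at hm))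
      exact hl (hall l)
    rw [hcdef, mul_inv_eq_one, Subtype.ext_iff] at hc1
    have e : (a : G)⁻¹ * v * a = v := hc1
    calc v * a = a * ((a : G)⁻¹ * v * a) := by group
      _ = a * v := by rw [e]
  let θ : F → ℂ := fun f => (lam f : ℂ)
  have hθ : Cfsg.IsIrrCharacter F θ := isIrrCharacter_ofHom lam
  set T := inertia θ with hT
  have hFT : F ≤ T := le_inertia (IsIrrCharacter.isClassFunction hθ)
  have hTA : ∀ g ∈ A, g ∈ T → g ∈ F := by
    intro g hg hgT
    have : g⁻¹ ∈ F := hreg ⟨g⁻¹, inv_mem hg⟩ (MonoidHom.ext fun f => by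
      rw [hact]
      have h1 := (mem_inertia_iff θ g).1 hgT f
      refine Units.ext ?_
      simpa [θ] using h1)
    simpa using inv_mem this
  -- extend to `T`
  obtain ⟨H, hH, hFH⟩ := exists_complement_of_frattini_eq_bot hΦ F hab
  have htopT : F.subgroupOf T ⊔ H.subgroupOf T = ⊤ := by
    refine top_unique fun t _ => ?_
    obtain ⟨f, hf, h, hh, e⟩ := mem_sup_of_normal_left.1 (hH.ge (mem_top (t : G)))
    have hhT : h ∈ T := by
      have := mul_mem (inv_mem (hFT hf)) t.2
      rwa [← e, inv_mul_cancel_left] at this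
    have e' : t = (⟨f, hFT hf⟩ : T) * ⟨h, hhT⟩ := Subtype.ext e.symm
    rw [e']
    exact mul_mem_sup (mem_subgroupOf.2 hf) (mem_subgroupOf.2 hh)
  obtain ⟨E, hEF, -⟩ := exists_hom_glue (F.subgroupOf T) (H.subgroupOf T) htopT
    (lam.comp (subgroupOfEquivOfLe hFT).toMonoidHom) 1
    (fun x h1 h2 => by
      have : (x : G) ∈ F ⊓ H := mem_inf.2 ⟨mem_subgroupOf.1 h1, mem_subgroupOf.1 h2⟩
      rw [hFH, mem_bot] at this
      have hx : x = 1 := Subtype.ext this
      subst hx
      exact map_one _)
    (fun k h => Units.ext ((mem_inertia_iff θ ((k : T) : G)).1 (k : T).2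
      ⟨((h : T) : G), mem_subgroupOf.1 h.2⟩))
  haveI := Fintype.ofFinite T
  have hE : ∀ (f : G) (hf : f ∈ F), E ⟨f, hFT hf⟩ = lam ⟨f, hf⟩ := fun f hf =>
    hEF ⟨⟨f, hFT hf⟩, mem_subgroupOf.2 hf⟩
  have hres := IsCharacter.restrict hc T
  obtain ⟨b, hbpos, hb⟩ := IsIrrCharacter.exists_degree hχ
  obtain ⟨β, hβ, hβc⟩ := IsCharacter.exists_constituent hres (fun h => by
    have := congrFun h (1 : T)
    simp only [OneMemClass.coe_one, Pi.zero_apply, hb, Nat.cast_eq_zero] at this
    omega)
  have hβF : ∀ f : F, β (Subgroup.inclusion hFT f) = β 1 := fun f =>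
    PPrimeKernel.constituent_apply_eq hres hβ hβc (by simpa using htriv f f.2)
  set γ : T → ℂ := β * fun t => (E t : ℂ) with hγ
  have hγi : Cfsg.IsIrrCharacter T γ := IsIrrCharacter.mul_hom hβ E
  have hγc : Cfsg.classInner (fun f : F => γ (Subgroup.inclusion hFT f)) θ ≠ 0 := by
    have e : (fun f : F => γ (Subgroup.inclusion hFT f)) = β 1 • θ := by
      funext f
      simp only [hγ, Pi.mul_apply, Pi.smul_apply, smul_eq_mul, hβF, θ]
      rw [show E (Subgroup.inclusion hFT f) = lam f from hE f f.2]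
    rw [e, classInner_smul_left, IsIrrCharacter.classInner_self hθ, mul_one]
    exact IsIrrCharacter.apply_one_ne_zero hβ
  obtain ⟨hindγ, -⟩ := isIrrCharacter_indFun_of_inertia hFT hθ hT.symm hγi hγc
  have hindβ := IsCharacter.indFun (G := G) (IsIrrCharacter.isCharacter hβ)
  have hβχ : Cfsg.classInner (Cfsg.indFun T β) χ ≠ 0 := by
    rw [classInner_indFun β (IsIrrCharacter.isClassFunction hχ), ← classInner_conj]
    exact fun h => hβc (by simpa using h)
  have heq : Cfsg.indFun T β = χ := by
    refine IsCharacter.eq_of_constituent hindβ hχ hβχ ?_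
    have h1 := IsCharacter.re_constituent_le hindβ hχ hβχ
    have h2 := hmax _ hindγ
    obtain ⟨d, -, hd⟩ := IsIrrCharacter.exists_degree hβ
    simp only [hγ, indFun_one, Pi.mul_apply, map_one, Units.val_one, mul_one, hd, hb,
      ← Nat.cast_mul, Complex.natCast_re, Nat.cast_le] at h1 h2
    rw [indFun_one, hd, hb, ← Nat.cast_mul, le_antisymm h2 h1]
  -- `χ` vanishes on `A` outside `F`
  have hzero : ∀ a ∈ A, a ∉ F → χ a = 0 := by
    intro a ha haF
    rw [← heq]
    simp only [Cfsg.indFun]
    rw [Finset.sum_eq_zero fun y _ => extendByZero_of_not_mem β fun hy => haF ?_, mul_zero]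
    have h1 : y⁻¹ * a * y ∈ F := hTA _ (by simpa using hAn.conj_mem a ha y⁻¹) hy
    simpa [mul_assoc] using hFn.conj_mem _ h1 y
  haveI := Fintype.ofFinite A
  have hone := isIrrCharacter_ofHom (1 : A →* ℂˣ)
  have hinner : Cfsg.classInner (fun a : A => χ a) (fun a => (((1 : A →* ℂˣ) a : ℂˣ) : ℂ)) ≠ 0 := by
    rw [classInner_def]
    refine mul_ne_zero (inv_ne_zero (by exact_mod_cast Nat.card_pos.ne')) ?_
    have hsum : ∀ a : A, χ a * conj ((((1 : A →* ℂˣ) a : ℂˣ) : ℂ)) =
        if (a : G) ∈ F then (b : ℂ) else 0 := fun a => by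
      simp only [MonoidHom.one_apply, Units.val_one, map_one, mul_one]
      split_ifs with h
      · rw [htriv a h, hb]
      · exact hzero a a.2 h
    rw [Finset.sum_congr rfl fun a _ => hsum a, Finset.sum_ite, Finset.sum_const_zero, add_zero,
      Finset.sum_const, nsmul_eq_mul]
    refine mul_ne_zero (Nat.cast_ne_zero.2 (Finset.card_ne_zero.2 ⟨1, ?_⟩))
      (by exact_mod_cast hbpos.ne')
    simp [one_mem]
  have hsm := restrict_eq_smul_sum hχ hone hinner
  have horb : conjOrbit (N := A) (fun a => (((1 : A →* ℂˣ) a : ℂˣ) : ℂ)) =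
      {fun a => (((1 : A →* ℂˣ) a : ℂˣ) : ℂ)} := by
    refine Finset.eq_singleton_iff_unique_mem.2 ⟨self_mem_conjOrbit _, fun φ hφ => ?_⟩
    obtain ⟨t, rfl⟩ := mem_conjOrbit.1 hφ
    funext x
    simp [conjOn_apply]
  rw [horb, Finset.sum_singleton] at hsm
  obtain ⟨a, ha, haF⟩ := SetLike.not_le_iff_exists.1 hAF
  have e1 := congrFun hsm ⟨a, ha⟩
  have e2 := congrFun hsm 1
  simp only [Pi.smul_apply, MonoidHom.one_apply, OneMemClass.coe_one] at e1 e2
  exact haF (hker a (e1.trans e2.symm))

/-! ### The degree count and the chain -/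

theorem charDegree_eq {χ : G → ℂ} {d : ℕ} (h : χ 1 = d) : Cfsg.charDegree χ = d := by
  rw [Cfsg.charDegree, h, Complex.natCast_re, Nat.floor_natCast]

theorem degSet_finite [Finite G] : (degSet G).Finite := by
  haveI := Fintype.ofFinite G
  refine ((irrFinset G).image Cfsg.charDegree).finite_toSet.subset ?_
  rintro d ⟨χ, rfl⟩
  exact Finset.mem_image_of_mem _ (mem_irrFinset.2 χ.2)

theorem degSet_nonempty [Finite G] : (degSet G).Nonempty :=
  ⟨_, ⟨_, isIrrCharacter_ofHom (1 : G →* ℂˣ)⟩, rfl⟩

theorem degSet_subset {H : Type u} [Group H] (f : G →* H) (hf : Function.Surjective f) :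
    degSet H ⊆ degSet G := by
  rintro d ⟨χ, rfl⟩
  exact ⟨⟨_, IsIrrCharacter.comp_surjective χ.2 f hf⟩, by simp [Cfsg.charDegree]⟩

theorem degSet_quotient_ssubset [Finite G] [Group.IsSolvable G]
    (hF : Cfsg.fittingSubgroup G ≠ ⊤) [(Cfsg.fittingSubgroup G).Normal] :
    degSet (G ⧸ Cfsg.fittingSubgroup G) ⊂ degSet G := by
  classical
  set F := Cfsg.fittingSubgroup G with hFdef
  refine (Set.ssubset_iff_of_subset (degSet_subset _ (QuotientGroup.mk'_surjective F))).2 ?_
  let Q := G ⧸ frattini G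
  haveI := Fintype.ofFinite Q
  set π := QuotientGroup.mk' (frattini G) with hπ
  have hπs := QuotientGroup.mk'_surjective (frattini G)
  have hFQ : Cfsg.fittingSubgroup Q = F.map π := CfsgLib.Fitting.fittingSubgroup_quotient_frattini
  have hΦF : frattini G ≤ F :=
    CfsgLib.Solvable.le_fittingSubgroup inferInstance frattini_nilpotent
  haveI hQn : (Cfsg.fittingSubgroup Q).Normal := by
    rw [hFQ]; exact Subgroup.Normal.map inferInstance π hπs
  let e : Q ⧸ Cfsg.fittingSubgroup Q →* G ⧸ F :=
    QuotientGroup.lift _ (QuotientGroup.lift (frattini G) (QuotientGroup.mk' F)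
      (by rwa [QuotientGroup.ker_mk'])) (by
      rw [hFQ]
      rintro _ ⟨f, hf, rfl⟩
      exact (QuotientGroup.eq_one_iff f).2 hf)
  have he : Function.Surjective e := fun z => by
    induction z using QuotientGroup.induction_on with | H z =>
    exact ⟨QuotientGroup.mk' _ (π z), rfl⟩
  obtain ⟨χ, hχ, hmax⟩ := (irrFinset Q).exists_max_image (fun ψ => (ψ 1).re)
    ⟨_, mem_irrFinset.2 (isIrrCharacter_ofHom (1 : Q →* ℂˣ))⟩
  rw [mem_irrFinset] at hχ
  refine ⟨_, degSet_subset π hπs ⟨⟨χ, hχ⟩, rfl⟩, ?_⟩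
  rintro ⟨ψ, hψ⟩
  have hψ' : Cfsg.IsIrrCharacter Q
      (fun x => ψ.1 (e.comp (QuotientGroup.mk' (Cfsg.fittingSubgroup Q)) x)) :=
    IsIrrCharacter.comp_surjective ψ.2 _ (he.comp (QuotientGroup.mk'_surjective _))
  have hΦ : frattini Q = ⊥ := frattini_quotient_eq_bot
  refine not_trivial_on_fitting hΦ (fun h => hF ?_) hψ' (fun φ hφ => ?_) fun f hf => ?_
  · rw [hFQ] at h
    have := congrArg (Subgroup.comap π) h
    rwa [comap_map_eq, QuotientGroup.ker_mk', sup_eq_left.2 hΦF, comap_top] at this
  · refine (hmax φ (mem_irrFinset.2 hφ)).trans (le_of_eq ?_)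
    obtain ⟨d, -, hd⟩ := IsIrrCharacter.exists_degree hχ
    obtain ⟨d', -, hd'⟩ := IsIrrCharacter.exists_degree ψ.2
    rw [charDegree_eq hd, charDegree_eq hd'] at hψ
    simp [hd, hd', hψ]
  · simp [(QuotientGroup.eq_one_iff f).2 hf]

/-- A chain of normal subgroups with nilpotent factors, of length the number of degrees. -/
theorem exists_chain (n : ℕ) : ∀ (G : Type u) [Group G] [Finite G], Group.IsSolvable G →
    (degSet G).ncard ≤ n → ∃ N : ℕ → Subgroup G, N 0 = ⊥ ∧ N n = ⊤ ∧ Monotone N ∧
      (∀ i, (N i).Normal) ∧ ∀ i, ∃ c, (N (i + 1)).lowerCentralSeries c ≤ N i := by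
  induction n with
  | zero =>
    intro G _ _ _ hn
    exact absurd ((Set.ncard_eq_zero degSet_finite).1 (Nat.le_zero.1 hn)) degSet_nonempty.ne_empty
  | succ n ih =>
    intro G _ _ hs hn
    haveI := hs
    haveI hFn : (Cfsg.fittingSubgroup G).Normal := by
      rw [CfsgLib.Solvable.fittingSubgroup_eq_iSup_pCore]; infer_instance
    obtain ⟨c, hc⟩ := (Subgroup.isNilpotent_iff_lowerCentralSeries _).1
      (CfsgLib.Solvable.isNilpotent_fittingSubgroup (G := G))
    rcases eq_or_ne (Cfsg.fittingSubgroup G) ⊤ with hF | hF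
    · refine ⟨fun i => if i = 0 then ⊥ else ⊤, rfl, rfl, monotone_nat_of_le_succ fun i => ?_,
        fun i => ?_, fun i => ⟨c, ?_⟩⟩
      · simp only [Nat.succ_ne_zero, ↓reduceIte]
        exact le_top
      · show (if i = 0 then (⊥ : Subgroup G) else ⊤).Normal
        split_ifs <;> infer_instance
      · show Subgroup.lowerCentralSeries (if i + 1 = 0 then (⊥ : Subgroup G) else ⊤) c ≤ _
        rw [if_neg (Nat.succ_ne_zero i), ← hF, hc]
        exact bot_le
    set π := QuotientGroup.mk' (Cfsg.fittingSubgroup G) with hπ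
    have hπs := QuotientGroup.mk'_surjective (Cfsg.fittingSubgroup G)
    have hlt := Set.ncard_lt_ncard (degSet_quotient_ssubset (G := G) hF) degSet_finite
    obtain ⟨N, h0, hn', hmono, hnorm, hnil⟩ := ih (G ⧸ Cfsg.fittingSubgroup G) inferInstance
      (by omega)
    refine ⟨fun i => match i with | 0 => ⊥ | j + 1 => (N j).comap π, rfl, ?_,
      monotone_nat_of_le_succ fun i => ?_, fun i => ?_, fun i => ?_⟩
    · show (N n).comap π = ⊤
      rw [hn', comap_top]
    · match i with
      | 0 => exact bot_le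
      | j + 1 => exact comap_mono (hmono j.le_succ)
    · match i with
      | 0 => exact inferInstanceAs (⊥ : Subgroup G).Normal
      | j + 1 => exact (hnorm j).comap π
    · match i with
      | 0 =>
        refine ⟨c, ?_⟩
        show ((N 0).comap π).lowerCentralSeries c ≤ ⊥
        rw [h0, MonoidHom.comap_bot, QuotientGroup.ker_mk', hc]
      | j + 1 =>
        obtain ⟨c', hc'⟩ := hnil j
        refine ⟨c', ?_⟩
        show ((N (j + 1)).comap π).lowerCentralSeries c' ≤ (N j).comap π
        rw [← map_le_iff_le_comap, map_lowerCentralSeries, map_comap_eq_self_of_surjective hπs]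
        exact hc'

end CfsgLib.Char.Garrison
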