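import Cfsg.Agent.Char.PermChar
import Cfsg.Agent.Char.Generalized
import Mathlib.LinearAlgebra.Span.Basic

/-!
# Integer spans of induced characters
-/

namespace CfsgLib.Char

universe u

variable {G : Type u} [Group G] [Fintype G]

/-- Inducing from the whole group. -/
theorem indFun_top {f : G → ℂ} (hf : Cfsg.IsClassFunction G f) :
    Cfsg.indFun (⊤ : Subgroup G) (fun u => f u) = f := by
  funext g
  have h : ∀ x : G, Cfsg.extendByZero (⊤ : Subgroup G) (fun u => f u) (x⁻¹ * g * x) = f g :=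
    fun x => by
    rw [extendByZero_of_mem _ (Subgroup.mem_top _)]
    have := hf g x⁻¹
    rwa [inv_inv] at this
  rw [indFun_def, Finset.sum_congr rfl fun x _ => h x, Finset.sum_const, Finset.card_univ,
    Subgroup.card_top, nsmul_eq_mul, Nat.card_eq_fintype_card]
  field_simp

/-- The integer span of the functions induced from characters of subgroups satisfying `P`. -/
def indSpan (P : Subgroup G → Prop) : Submodule ℤ (G → ℂ) :=
  Submodule.span ℤ {f | ∃ (E : Subgroup G) (φ : E → ℂ),
    P E ∧ Cfsg.IsCharacter E φ ∧ f = Cfsg.indFun E φ}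

/-- The integer span of the functions induced from homomorphisms of subgroups satisfying `P`. -/
def linSpan (P : Subgroup G → Prop) : Submodule ℤ (G → ℂ) :=
  Submodule.span ℤ {f | ∃ (E : Subgroup G) (lam : E →* ℂˣ),
    P E ∧ f = Cfsg.indFun E (fun e => (lam e : ℂ))}

variable {P : Subgroup G → Prop}

theorem indFun_mem_indSpan_of_char {E : Subgroup G} {φ : E → ℂ} (hE : P E)
    (hφ : Cfsg.IsCharacter E φ) : Cfsg.indFun E φ ∈ indSpan P :=
  Submodule.subset_span ⟨E, φ, hE, hφ, rfl⟩

theorem indFun_mem_indSpan_of_generalized {E : Subgroup G} {φ : E → ℂ} (hE : P E)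
    (hφ : Cfsg.IsGeneralizedCharacter E φ) : Cfsg.indFun E φ ∈ indSpan P := by
  obtain ⟨a, b, ha, hb, rfl⟩ := hφ
  rw [indFun_sub]
  exact Submodule.sub_mem _ (indFun_mem_indSpan_of_char hE ha) (indFun_mem_indSpan_of_char hE hb)

theorem isGeneralized_of_mem_indSpan {f : G → ℂ} (hf : f ∈ indSpan P) :
    Cfsg.IsGeneralizedCharacter G f := by
  induction hf using Submodule.span_induction with
  | mem f hf =>
    obtain ⟨E, φ, -, hφ, rfl⟩ := hf
    exact IsCharacter.isGeneralized (IsCharacter.indFun hφ)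
  | zero => exact isGeneralized_zero
  | add f g _ _ h1 h2 => exact IsGeneralized.add h1 h2
  | smul n f _ h => exact IsGeneralized.zsmul h n

theorem mul_mem_indSpan {f χ : G → ℂ} (hχ : Cfsg.IsCharacter G χ) (hf : f ∈ indSpan P) :
    f * χ ∈ indSpan P := by
  induction hf using Submodule.span_induction with
  | mem f hf =>
    obtain ⟨E, φ, hE, hφ, rfl⟩ := hf
    rw [← indFun_mul_restrict φ (IsCharacter.isClassFunction hχ)]
    exact indFun_mem_indSpan_of_char hE (IsCharacter.mul hφ (IsCharacter.restrict hχ E))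
  | zero => rw [zero_mul]; exact Submodule.zero_mem _
  | add f g _ _ h1 h2 => rw [add_mul]; exact Submodule.add_mem _ h1 h2
  | smul n f _ h => rw [smul_mul_assoc]; exact Submodule.smul_mem _ n h

theorem char_mem_indSpan_of_one {χ : G → ℂ} (hχ : Cfsg.IsCharacter G χ)
    (h1 : (fun _ : G => (1 : ℂ)) ∈ indSpan P) : χ ∈ indSpan P := by
  have := mul_mem_indSpan hχ h1
  rwa [show (fun _ : G => (1 : ℂ)) * χ = χ from one_mul χ] at this

/-- Transport along a subgroup. -/
theorem indFun_mem_indSpan {K : Subgroup G} [Fintype K] {Q : Subgroup K → Prop}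
    (hQ : ∀ E, Q E → P (E.map K.subtype)) {f : K → ℂ} (hf : f ∈ indSpan Q) :
    Cfsg.indFun K f ∈ indSpan P := by
  induction hf using Submodule.span_induction with
  | mem f hf =>
    obtain ⟨E, φ, hE, hφ, rfl⟩ := hf
    let e : ↥(E.map K.subtype) ≃* E :=
      (E.equivMapOfInjective K.subtype K.subtype_injective).symm
    have hφe : φ = fun x : E => (φ ∘ e) ⟨((x : K) : G), Subgroup.mem_map_of_mem _ x.2⟩ := by
      funext x
      simp only [Function.comp_apply]
      congr 1
      exact ((MulEquiv.symm_apply_eq _).2 (Subtype.ext rfl)).symm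
    rw [hφe, indFun_indFun_map E]
    exact indFun_mem_indSpan_of_char (hQ E hE) (IsCharacter.comp hφ e.toMonoidHom)
  | zero => rw [indFun_zero]; exact Submodule.zero_mem _
  | add f g _ _ h1 h2 => rw [indFun_add]; exact Submodule.add_mem _ h1 h2
  | smul n f _ h =>
    rw [← Int.cast_smul_eq_zsmul ℂ, indFun_smul, Int.cast_smul_eq_zsmul]
    exact Submodule.smul_mem _ n h

/-- If the characters of every subgroup in the class are sums of functions induced from linear
characters of subgroups in the class, the two spans agree. -/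
theorem indSpan_le_linSpan
    (h : ∀ E, P E → ∀ [Fintype E] (ψ : E → ℂ), Cfsg.IsIrrCharacter E ψ → ∃ (U : Subgroup E) (lam : U →* ℂˣ),
      P (U.map E.subtype) ∧ ψ = Cfsg.indFun U (fun u => (lam u : ℂ))) :
    indSpan P ≤ linSpan P := by
  classical
  refine Submodule.span_le.2 ?_
  rintro f ⟨E, φ, hE, hφ, rfl⟩
  have := Fintype.ofFinite E
  refine IsCharacter.induction_irr (P := fun ψ => Cfsg.indFun E ψ ∈ linSpan P) ?_ ?_ ?_ hφ
  · rw [indFun_zero]; exact Submodule.zero_mem _
  · intro χ ψ h1 h2; rw [indFun_add]; exact Submodule.add_mem _ h1 h2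
  · intro ψ hψ
    obtain ⟨U, lam, hU, rfl⟩ := h E hE ψ hψ
    let e : ↥(U.map E.subtype) ≃* U :=
      (U.equivMapOfInjective E.subtype E.subtype_injective).symm
    have he : (fun u : U => (lam u : ℂ)) = fun x : U =>
        (fun y => ((lam.comp e.toMonoidHom) y : ℂ))
          ⟨((x : E) : G), Subgroup.mem_map_of_mem _ x.2⟩ := by
      funext x
      simp only [MonoidHom.comp_apply, MulEquiv.coe_toMonoidHom]
      congr 2
      exact ((MulEquiv.symm_apply_eq _).2 (Subtype.ext rfl)).symm
    have h2 : Cfsg.indFun E (Cfsg.indFun U fun u => (lam u : ℂ)) =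
        Cfsg.indFun (U.map E.subtype) (fun y => ((lam.comp e.toMonoidHom) y : ℂ)) := by
      rw [he]
      exact indFun_indFun_map U (fun y => ((lam.comp e.toMonoidHom) y : ℂ))
    rw [h2]
    exact Submodule.subset_span ⟨_, _, hU, rfl⟩

theorem exists_list_of_mem_indSpan {f : G → ℂ} (hf : f ∈ indSpan P) :
    ∃ l : List ((E : Subgroup G) × ((E → ℂ) × ℤ)),
      (∀ t ∈ l, P t.1 ∧ Cfsg.IsCharacter t.1 t.2.1) ∧
      f = (l.map fun t => (t.2.2 : ℂ) • Cfsg.indFun t.1 t.2.1).sum := by
  induction hf using Submodule.span_induction with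
  | mem f hf =>
    obtain ⟨E, φ, hE, hφ, rfl⟩ := hf
    exact ⟨[⟨E, φ, 1⟩], fun t ht => by rw [List.mem_singleton.1 ht]; exact ⟨hE, hφ⟩, by simp⟩
  | zero => exact ⟨[], by simp, by simp⟩
  | add f g _ _ h1 h2 =>
    obtain ⟨l, hl, rfl⟩ := h1
    obtain ⟨l', hl', rfl⟩ := h2
    exact ⟨l ++ l', fun t ht => (List.mem_append.1 ht).elim (hl t) (hl' t), by simp⟩
  | smul n f _ h =>
    obtain ⟨l, hl, rfl⟩ := h
    refine ⟨l.map fun t => ⟨t.1, t.2.1, n * t.2.2⟩, fun t ht => ?_, ?_⟩
    · obtain ⟨s, hs, rfl⟩ := List.mem_map.1 ht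
      exact hl s hs
    · rw [List.map_map, List.smul_sum, List.map_map]
      congr 1
      refine List.map_congr_left fun t _ => ?_
      simp only [Function.comp_apply, ← smul_smul, Int.cast_smul_eq_zsmul]

theorem exists_list_of_mem_linSpan {f : G → ℂ} (hf : f ∈ linSpan P) :
    ∃ l : List ((E : Subgroup G) × ((E →* ℂˣ) × ℤ)), (∀ t ∈ l, P t.1) ∧
      f = (l.map fun t => (t.2.2 : ℂ) • Cfsg.indFun t.1 (fun e => (t.2.1 e : ℂ))).sum := by
  induction hf using Submodule.span_induction with
  | mem f hf =>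
    obtain ⟨E, lam, hE, rfl⟩ := hf
    exact ⟨[⟨E, lam, 1⟩], fun t ht => by rw [List.mem_singleton.1 ht]; exact hE, by simp⟩
  | zero => exact ⟨[], by simp, by simp⟩
  | add f g _ _ h1 h2 =>
    obtain ⟨l, hl, rfl⟩ := h1
    obtain ⟨l', hl', rfl⟩ := h2
    exact ⟨l ++ l', fun t ht => (List.mem_append.1 ht).elim (hl t) (hl' t), by simp⟩
  | smul n f _ h =>
    obtain ⟨l, hl, rfl⟩ := h
    refine ⟨l.map fun t => ⟨t.1, t.2.1, n * t.2.2⟩, fun t ht => ?_, ?_⟩
    · obtain ⟨s, hs, rfl⟩ := List.mem_map.1 ht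
      exact hl s hs
    · rw [List.map_map, List.smul_sum, List.map_map]
      congr 1
      refine List.map_congr_left fun t _ => ?_
      simp only [Function.comp_apply, ← smul_smul, Int.cast_smul_eq_zsmul]

end CfsgLib.Char
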