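import Cfsg.Agent.Char.NormalSub
import Cfsg.Agent.Char.ExtendInv
import Cfsg.Agent.Char.CliffordCorrespondence

/-!
# Induction of a character whose inertia factor group is abelian
-/

set_option autoImplicit false
set_option linter.style.haveILetI false

namespace CfsgLib.Char

open scoped ComplexConjugate

universe u

variable {G : Type u} [Group G] [Fintype G] {H : Subgroup G} [hN : H.Normal]

theorem inertia_pullBack {T : Subgroup G} (θ : H → ℂ) (hT : T ≤ inertia θ) :
    inertia (pullBack (T := T) θ) = ⊤ := inertia_eq_top fun t x => by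
  have := congrFun ((mem_inertia θ (t : G)).1 (hT t.2))
    ⟨((x : T) : G), Subgroup.mem_subgroupOf.mp x.2⟩
  simp only [conjOn_apply] at this
  simp only [pullBack]
  exact this

theorem exists_indFun_inertia {T : Subgroup G} [Fintype H] {θ : H → ℂ}
    (hθ : Cfsg.IsIrrCharacter H θ) (hT : inertia θ = T)
    (hab : ∀ x ∈ T, ∀ y ∈ T, x * y * x⁻¹ * y⁻¹ ∈ H) :
    ∃ (e : ℕ) (C : Finset (G → ℂ)), 0 < e ∧ (∀ χ ∈ C, Cfsg.IsIrrCharacter G χ) ∧
      e ^ 2 * C.card = H.relIndex T ∧ Cfsg.indFun H θ = (e : ℂ) • ∑ χ ∈ C, χ ∧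
      (∀ χ ∈ C, χ 1 = (T.index : ℂ) * e * θ 1) ∧
      (Nat.Coprime (Nat.card H) (H.relIndex T) → e = 1) := by
  classical
  have hHT : H ≤ T := hT ▸ le_inertia (IsIrrCharacter.isClassFunction hθ)
  haveI := Fintype.ofFinite T
  haveI := Fintype.ofFinite (H.subgroupOf T)
  have hθ' : Cfsg.IsIrrCharacter (H.subgroupOf T) (pullBack θ) :=
    isIrrCharacter_pullBack hHT hθ
  have hI : inertia (pullBack (T := T) θ) = ⊤ := inertia_pullBack θ hT.ge
  obtain ⟨e, C, he, hC, hcard, hind⟩ := exists_indFun_eq_smul_sum hθ' hI fun x y => by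
    rw [Subgroup.mem_subgroupOf]
    exact hab _ x.2 _ y.2
  have hover : ∀ χ ∈ C,
      Cfsg.classInner (fun n : H => χ (Subgroup.inclusion hHT n)) θ ≠ 0 := fun χ hχ => by
    rw [← classInner_pullBack hHT]
    change Cfsg.classInner (fun x : H.subgroupOf T => χ x) (pullBack θ) ≠ 0
    rw [(hC χ hχ).2.2]
    exact_mod_cast he.ne'
  have hinj : Set.InjOn (fun χ : T → ℂ => Cfsg.indFun T χ) C := fun a ha b hb h =>
    indFun_injective_of_inertia hHT hθ hT (hC a ha).1 (hC b hb).1 (hover a ha) (hover b hb) h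
  have hθ1 : pullBack (T := T) θ 1 = θ 1 := rfl
  refine ⟨e, C.image (fun χ : T → ℂ => Cfsg.indFun T χ), he, fun χ hχ => ?_, ?_, ?_,
    fun χ hχ => ?_, fun hcop => ?_⟩
  · obtain ⟨ψ, hψ, rfl⟩ := Finset.mem_image.1 hχ
    exact (isIrrCharacter_indFun_of_inertia hHT hθ hT (hC ψ hψ).1 (hover ψ hψ)).1
  · rw [Finset.card_image_of_injOn hinj, hcard]
    rfl
  · rw [Finset.sum_image hinj, ← indFun_indFun hHT θ]
    change Cfsg.indFun T (Cfsg.indFun (H.subgroupOf T) (pullBack θ)) = _
    rw [hind, indFun_smul, indFun_sum]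
  · obtain ⟨ψ, hψ, rfl⟩ := Finset.mem_image.1 hχ
    rw [indFun_one, (hC ψ hψ).2.1, hθ1]
    ring
  · obtain ⟨η, hη, hηN⟩ := exists_extension_of_coprime hθ'
      (fun t x => (mem_inertia_iff _ t).1 (hI ▸ Subgroup.mem_top t) x)
      (show Nat.Coprime (Nat.card (H.subgroupOf T)) (H.relIndex T) by
        rwa [Nat.card_congr (Subgroup.subgroupOfEquivOfLe hHT).toEquiv])
    have h1 : Cfsg.classInner (Cfsg.indFun (H.subgroupOf T) (pullBack θ)) η = 1 := by
      rw [classInner_indFun _ (IsIrrCharacter.isClassFunction hη), funext hηN,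
        IsIrrCharacter.classInner_self hθ']
    rw [hind, classInner_smul_left, classInner_sum_left,
      Finset.sum_congr rfl fun χ hχ => IsIrrCharacter.classInner_eq (hC χ hχ).1 hη,
      Finset.sum_boole, ← Nat.cast_mul, Nat.cast_eq_one] at h1
    exact Nat.eq_one_of_mul_eq_one_right h1

end CfsgLib.Char
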