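import Cfsg.Agent.Char.PowPart
import Cfsg.Agent.Blocks.Congr

/-!
# Class functions with integral multiplicities, and separation of regular parts
-/

namespace CfsgLib.Char

open scoped ComplexConjugate

universe u

variable {G : Type u} [Group G] [Fintype G]

theorem isIntegral_classInner_of_irr {θ ψ : G → ℂ}
    (h : ∀ χ, Cfsg.IsIrrCharacter G χ → IsIntegral ℤ (Cfsg.classInner θ χ))
    (hψ : Cfsg.IsCharacter G ψ) : IsIntegral ℤ (Cfsg.classInner θ ψ) := by
  refine IsCharacter.induction_irr (P := fun ψ => IsIntegral ℤ (Cfsg.classInner θ ψ)) ?_ ?_ h hψ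
  · simpa using isIntegral_zero
  · intro a b ha hb
    rw [classInner_add_right]
    exact ha.add hb

/-- A class function has integral multiplicities if its restrictions to elementary subgroups
have. -/
theorem isIntegral_classInner_of_elementary {θ : G → ℂ} (hθ : Cfsg.IsClassFunction G θ)
    (hE : ∀ (E : Subgroup G) [Fintype E] (p : ℕ), p.Prime → Cfsg.IsElementary p E →
      ∀ ψ : E → ℂ, Cfsg.IsIrrCharacter E ψ →
        IsIntegral ℤ (Cfsg.classInner (fun e : E => θ e) ψ))
    {χ : G → ℂ} (hχ : Cfsg.IsCharacter G χ) : IsIntegral ℤ (Cfsg.classInner θ χ) := by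
  have key : ∀ f ∈ indSpan (IsElem (G := G)), IsIntegral ℤ (Cfsg.classInner (f * θ) χ) := by
    intro f hf
    induction hf using Submodule.span_induction with
    | mem f hf =>
      obtain ⟨E, φ, ⟨p, hp, hel⟩, hφ, rfl⟩ := hf
      have := Fintype.ofFinite E
      rw [← indFun_mul_restrict φ hθ, classInner_indFun _ (IsCharacter.isClassFunction hχ)]
      have e : Cfsg.classInner (φ * fun e : E => θ e) (fun e : E => χ e) =
          Cfsg.classInner (fun e : E => θ e) ((fun e : E => χ e) * fun e => conj (φ e)) := by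
        rw [classInner_def, classInner_def]
        congr 1
        refine Finset.sum_congr rfl fun e _ => ?_
        simp only [Pi.mul_apply, map_mul, Complex.conj_conj]
        ring
      rw [e]
      exact isIntegral_classInner_of_irr (hE E p hp hel)
        (IsCharacter.mul (IsCharacter.restrict hχ E) (IsCharacter.conj hφ))
    | zero => simpa using isIntegral_zero
    | add f g _ _ h1 h2 => rw [add_mul, classInner_add_left]; exact h1.add h2
    | smul n f _ h =>
      rw [smul_mul_assoc, ← Int.cast_smul_eq_zsmul ℂ, classInner_smul_left]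
      exact (isIntegral_algebraMap (R := ℤ) (x := n)).mul h
  have := key _ one_mem_indSpan_elem
  rwa [show (fun _ : G => (1 : ℂ)) * θ = θ from one_mul θ] at this

/-- The scaled indicator of a section. -/
noncomputable def sectionFun (n j : ℕ) (g : G) : G → ℂ :=
  fun x => haveI := Classical.propDecidable (IsConj (x ^ j) g); if IsConj (x ^ j) g then n else 0

omit [Fintype G] in
theorem isClassFunction_sectionFun (n j : ℕ) (g : G) :
    Cfsg.IsClassFunction G (sectionFun n j g) := fun x h => by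
  classical
  have : IsConj ((h * x * h⁻¹) ^ j) g ↔ IsConj (x ^ j) g := by
    have hc : IsConj (x ^ j) ((h * x * h⁻¹) ^ j) := isConj_iff.2 ⟨h, conj_pow.symm⟩
    exact ⟨fun h' => hc.trans h', fun h' => hc.symm.trans h'⟩
  simp only [sectionFun, this]

theorem isIntegral_classInner_sectionFun {m n j : ℕ} (hG : Nat.card G = m * n)
    (hcop : Nat.Coprime m n) (hj : 1 ≤ j) (hj1 : j ≡ 1 [MOD n]) (hj0 : j ≡ 0 [MOD m]) (g : G)
    {χ : G → ℂ} (hχ : Cfsg.IsCharacter G χ) :
    IsIntegral ℤ (Cfsg.classInner (sectionFun n j g) χ) := by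
  classical
  refine isIntegral_classInner_of_elementary (isClassFunction_sectionFun n j g)
    (fun E _ p hp hE ψ hψ => ?_) hχ
  have hEd : Nat.card E ∣ n * m := (mul_comm n m) ▸ hG ▸ Subgroup.card_subgroup_dvd_card E
  let φ : E →* E := MonoidHom.mk' (fun e => e ^ j) fun a b =>
    pow_part_mul hj1 hj0 hp hE hEd hcop.symm hj a b
  have hR : Nat.card φ.range ∣ n := by
    refine (Nat.Coprime.dvd_mul_right ?_).1 ((Subgroup.card_subgroup_dvd_card _).trans hEd)
    rw [Nat.coprime_iff_gcd_eq_one]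
    by_contra h
    obtain ⟨q, hq, hqd⟩ := Nat.exists_prime_and_dvd h
    have : Fact q.Prime := ⟨hq⟩
    obtain ⟨r, hr⟩ := exists_prime_orderOf_dvd_card' q (hqd.trans (Nat.gcd_dvd_left _ _))
    obtain ⟨a, ha⟩ := r.2
    have hrn : (r : E) ^ n = 1 := by
      rw [← ha]; exact pow_part_pow hj1 hj0 hEd a
    have : q ∣ n := by
      rw [← hr, ← Subgroup.orderOf_coe]; exact orderOf_dvd_of_pow_eq_one hrn
    exact hq.not_dvd_one (hcop ▸ Nat.dvd_gcd (hqd.trans (Nat.gcd_dvd_right _ _)) this)
  obtain ⟨t, ht⟩ := hR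
  let F : φ.range → ℂ := fun r => if IsConj ((r : E) : G) g then (n : ℂ) else 0
  have hF : Cfsg.IsClassFunction φ.range F := fun a b => by
    have hc : IsConj ((a : E) : G) (((b * a * b⁻¹ : φ.range) : E) : G) :=
      isConj_iff.2 ⟨((b : E) : G), by simp⟩
    have hiff : IsConj (((b * a * b⁻¹ : φ.range) : E) : G) g ↔ IsConj ((a : E) : G) g :=
      ⟨fun h => hc.trans h, fun h => hc.symm.trans h⟩
    simp only [F, hiff]
  have hcoef : ∀ η, Cfsg.IsIrrCharacter φ.range η → IsIntegral ℤ (Cfsg.classInner F η) := by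
    intro η hη
    have e : Cfsg.classInner F η =
        ∑ r : φ.range, (if IsConj ((r : E) : G) g then (t : ℂ) else 0) * conj (η r) := by
      rw [classInner_def, Finset.mul_sum]
      refine Finset.sum_congr rfl fun r _ => ?_
      have hR0 : (Nat.card φ.range : ℂ) ≠ 0 := by exact_mod_cast Nat.card_pos.ne'
      simp only [F]
      split_ifs
      · rw [ht]; push_cast; field_simp
      · simp
    rw [e]
    refine IsIntegral.sum _ fun r _ => IsIntegral.mul ?_
      (IsCharacter.isIntegral (IsCharacter.conj (IsIrrCharacter.isCharacter hη)) r)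
    split_ifs
    · exact map_natCast (algebraMap ℤ ℂ) t ▸ isIntegral_algebraMap
    · exact isIntegral_zero
  have hθE : (fun e : E => sectionFun n j g (e : G)) =
      ∑ η ∈ irrFinset φ.range, Cfsg.classInner F η • fun e => η (φ.rangeRestrict e) := by
    funext e
    have h1 := congrFun (eq_sum_irr hF) (φ.rangeRestrict e)
    simp only [Finset.sum_apply, Pi.smul_apply] at h1 ⊢
    rw [← h1]
    simp only [sectionFun, F]
    congr 1
  rw [hθE, classInner_sum_left]
  refine IsIntegral.sum _ fun η hη => ?_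
  rw [classInner_smul_left]
  obtain ⟨k, hk⟩ := IsCharacter.exists_classInner_eq_natCast
    (IsCharacter.comp (IsIrrCharacter.isCharacter (mem_irrFinset.1 hη)) φ.rangeRestrict) hψ
  refine (hcoef η (mem_irrFinset.1 hη)).mul ?_
  rw [hk]
  exact map_natCast (algebraMap ℤ ℂ) k ▸ isIntegral_algebraMap

omit [Fintype G] in
/-- The factor `v` of the unique decomposition is a power. -/
theorem exists_factor_iff {m n j : ℕ} (hG : Nat.card G = m * n) (hcop : Nat.Coprime m n)
    (hj1 : j ≡ 1 [MOD n]) (hj0 : j ≡ 0 [MOD m]) (x g : G) :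
    (∃ v : G, IsConj v g ∧ (∃ u : G, x = u * v ∧ Commute u v ∧ Nat.Coprime (orderOf u) n ∧
      Nat.Coprime (orderOf v) m)) ↔ IsConj (x ^ j) g := by
  have hG' : Nat.card G ∣ n * m := by rw [hG, mul_comm]
  constructor
  · rintro ⟨v, hv, u, rfl, huv, hu, hvm⟩
    have hv' : v ^ n = 1 := orderOf_dvd_iff_pow_eq_one.1
      ((hvm.dvd_mul_right).1 ((orderOf_dvd_natCard v).trans hG'))
    have hu' : u ^ m = 1 := orderOf_dvd_iff_pow_eq_one.1
      ((hu.dvd_mul_left).1 ((orderOf_dvd_natCard u).trans hG'))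
    rwa [huv.mul_pow, pow_part_eq_one hj1 hj0 hu', pow_part_eq_self hj1 hj0 hv', one_mul]
  · intro h
    have hv : (x ^ j) ^ n = 1 := pow_part_pow hj1 hj0 hG' x
    have hc : Commute (x * (x ^ j)⁻¹) (x ^ j) :=
      ((Commute.self_pow x j).mul_left (Commute.refl (x ^ j)).inv_left)
    refine ⟨x ^ j, h, x * (x ^ j)⁻¹, by rw [inv_mul_cancel_right], hc,
      Nat.Coprime.coprime_dvd_left (orderOf_dvd_of_pow_eq_one ?_) hcop,
      Nat.Coprime.coprime_dvd_left (orderOf_dvd_of_pow_eq_one hv) hcop.symm⟩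
    refine (pow_part_eq_one_iff hj1 hj0 hG' hcop.symm _).1 ?_
    rw [((Commute.self_pow x j).inv_right).mul_pow, inv_pow,
      pow_part_eq_self hj1 hj0 hv, mul_inv_cancel]

/-- Regular parts are separated modulo `p` by character values. -/
theorem isConj_of_cong {p : ℕ} {M : Ideal Cfsg.AlgInt} (hM : Cfsg.IsPModular p M) {x y : G}
    (hx : ¬ p ∣ orderOf x) (hy : ¬ p ∣ orderOf y)
    (h : ∀ χ, Cfsg.IsIrrCharacter G χ → Cfsg.MemLocalIdeal M (χ x - χ y)) : IsConj x y := by
  classical
  have := CfsgLib.Block.isPrime_of_isPModular hM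
  have hp := hM.1
  set N := Nat.card G with hN
  obtain ⟨m, n, hmn, hcop, hm, hpn⟩ : ∃ m n, N = m * n ∧ Nat.Coprime m n ∧
      m = p ^ N.factorization p ∧ ¬ p ∣ n :=
    ⟨_, _, (Nat.ordProj_mul_ordCompl_eq_self N p).symm,
      Nat.Coprime.pow_left _ (hp.coprime_iff_not_dvd.2 (Nat.not_dvd_ordCompl hp Nat.card_pos.ne')),
      rfl, Nat.not_dvd_ordCompl hp Nat.card_pos.ne'⟩
  have hm0 : m ≠ 0 := hm ▸ pow_ne_zero _ hp.ne_zero
  have hn0 : n ≠ 0 := fun h0 => hpn (h0 ▸ dvd_zero p)
  obtain ⟨j, hj, hj1, hj0⟩ := exists_exp hcop.symm hn0 hm0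
  have hreg : ∀ z : G, ¬ p ∣ orderOf z → z ^ j = z := fun z hz => by
    refine pow_part_eq_self hj1 hj0 (orderOf_dvd_iff_pow_eq_one.1 ?_)
    refine (Nat.Coprime.dvd_mul_left ?_).1 ((orderOf_dvd_natCard z).trans hmn.dvd)
    rw [hm]
    exact Nat.Coprime.pow_right _ (hp.coprime_iff_not_dvd.2 hz).symm
  by_contra hne
  have hx' : sectionFun n j x x = n := by
    simp only [sectionFun, hreg x hx]; exact if_pos (IsConj.refl x)
  have hy' : sectionFun n j x y = 0 := by
    simp only [sectionFun, hreg y hy]; exact if_neg fun h' => hne h'.symm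
  have hexp := eq_sum_irr (isClassFunction_sectionFun n j x)
  have hdiff : (n : ℂ) = ∑ χ ∈ irrFinset G,
      Cfsg.classInner (sectionFun n j x) χ * (χ x - χ y) := by
    conv_lhs => rw [← sub_zero (n : ℂ), ← hy', ← hx']
    rw [congrFun hexp x, congrFun hexp y, Finset.sum_apply, Finset.sum_apply,
      ← Finset.sum_sub_distrib]
    exact Finset.sum_congr rfl fun χ _ => by simp only [Pi.smul_apply, smul_eq_mul, mul_sub]
  have hmem : Cfsg.MemLocalIdeal M (n : ℂ) := by
    rw [hdiff]
    refine CfsgLib.Block.memLocalIdeal_sum fun χ hχ => CfsgLib.Block.memLocalIdeal_mul_left ?_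
      (h χ (mem_irrFinset.1 hχ))
    exact CfsgLib.Block.memLocalRing_of_isIntegral (isIntegral_classInner_sectionFun
      hmn hcop hj hj1 hj0 x (IsIrrCharacter.isCharacter (mem_irrFinset.1 hχ)))
  exact hpn ((CfsgLib.Block.memLocalIdeal_natCast_iff hM).1 hmem)

end CfsgLib.Char
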