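import Cfsg.Agent.Char.Kernel
import Cfsg.Agent.Char.Orthogonality
import Cfsg.Agent.Char.Linear
import Mathlib.Analysis.InnerProductSpace.PiL2
import Mathlib.Analysis.SpecialFunctions.Trigonometric.Basic
import Mathlib.Analysis.SpecialFunctions.Complex.Arg

/-!
# Elements with all eigenvalues in a short arc

In a finite linear group the elements all of whose eigenvalues `μ` satisfy `√3/2 < μ.re` commute
pairwise (Frobenius), and an abelian subgroup meets their normal closure in index at most `12^n`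
(Blichfeldt).
-/

set_option autoImplicit false
set_option linter.style.haveILetI false
set_option linter.unusedSectionVars false

namespace CfsgLib.Char.SmallArc

open Finset Module Representation
open scoped ComplexConjugate InnerProductSpace

universe u

variable {G : Type u} [Group G] [Fintype G] {n : ℕ} (ρ : Representation ℂ G (Fin n → ℂ))

/-- The map making the representation unitary. -/
noncomputable def emb : (Fin n → ℂ) →ₗ[ℂ] EuclideanSpace ℂ (G × Fin n) where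
  toFun v := WithLp.toLp 2 fun x => ρ x.1 v x.2
  map_add' v w := by ext x; simp
  map_smul' c v := by ext x; simp

theorem emb_apply (v : Fin n → ℂ) (x : G × Fin n) : (emb ρ v) x = ρ x.1 v x.2 := rfl

theorem emb_injective : Function.Injective (emb ρ) := fun v w h => by
  funext i
  have := congrArg (fun e : EuclideanSpace ℂ (G × Fin n) => e (1, i)) h
  simpa [emb_apply] using this

theorem inner_rep (g : G) (v w : Fin n → ℂ) :
    ⟪emb ρ (ρ g v), emb ρ (ρ g w)⟫_ℂ = ⟪emb ρ v, emb ρ w⟫_ℂ := by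
  rw [PiLp.inner_apply, PiLp.inner_apply]
  refine Fintype.sum_equiv ((Equiv.mulRight g).prodCongr (Equiv.refl _)) _ _ fun x => ?_
  simp [emb_apply, ← Module.End.mul_apply, ← map_mul]

theorem norm_rep (g : G) (v : Fin n → ℂ) : ‖emb ρ (ρ g v)‖ = ‖emb ρ v‖ := by
  rw [norm_eq_sqrt_re_inner (𝕜 := ℂ), norm_eq_sqrt_re_inner (𝕜 := ℂ), inner_rep]

/-- The projection onto the `μ`-eigenspace. -/
noncomputable def proj (g : G) (μ : ℂ) : Module.End ℂ (Fin n → ℂ) :=
  (orderOf g : ℂ)⁻¹ • ∑ j ∈ range (orderOf g), μ⁻¹ ^ j • ρ (g ^ j)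

/-- The roots of unity of order dividing the order of `g`. -/
noncomputable def roots (g : G) : Finset ℂ := Polynomial.nthRootsFinset (orderOf g) (1 : ℂ)

theorem mem_roots {g : G} {μ : ℂ} : μ ∈ roots g ↔ μ ^ orderOf g = 1 :=
  Polynomial.mem_nthRootsFinset (orderOf_pos g) 1

theorem rep_proj (g : G) {μ : ℂ} (hμ : μ ∈ roots g) : ρ g * proj ρ g μ = μ • proj ρ g μ := by
  have h1 := mem_roots.1 hμ
  have hμ0 : μ ≠ 0 := fun h => by
    rw [h, zero_pow (orderOf_pos g).ne'] at h1; exact zero_ne_one h1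
  obtain ⟨f, hf⟩ : ∃ f : ℕ → Module.End ℂ (Fin n → ℂ), ∀ j, f j = μ⁻¹ ^ j • ρ (g ^ j) :=
    ⟨_, fun _ => rfl⟩
  have hsucc : ∀ j, ρ g * f j = μ • f (j + 1) := fun j => by
    rw [hf, hf, mul_smul_comm, ← map_mul, ← pow_succ', smul_smul, pow_succ' μ⁻¹, ← mul_assoc,
      mul_inv_cancel₀ hμ0, one_mul]
  have hper : f (orderOf g) = f 0 := by
    rw [hf, hf, pow_orderOf_eq_one, pow_zero, inv_pow, h1, inv_one, pow_zero]
  have hshift : ∑ j ∈ range (orderOf g), f (j + 1) = ∑ j ∈ range (orderOf g), f j := by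
    have h2 := Finset.sum_range_succ' f (orderOf g)
    rw [Finset.sum_range_succ, hper] at h2
    exact (add_right_cancel h2).symm
  simp only [proj, ← hf, mul_smul_comm, Finset.mul_sum, hsucc, ← Finset.smul_sum, hshift,
    smul_comm μ]

theorem rep_proj_apply (g : G) {μ : ℂ} (hμ : μ ∈ roots g) (v : Fin n → ℂ) :
    ρ g (proj ρ g μ v) = μ • proj ρ g μ v :=
  LinearMap.congr_fun (rep_proj ρ g hμ) v

theorem sum_proj (g : G) (v : Fin n → ℂ) : ∑ μ ∈ roots g, proj ρ g μ v = v := by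
  obtain ⟨m, hm⟩ : ∃ m, orderOf g = m := ⟨_, rfl⟩
  have hm0 : 0 < m := hm ▸ orderOf_pos g
  have hζ := Complex.isPrimitiveRoot_exp m hm0.ne'
  obtain ⟨ζ, hζdef⟩ : ∃ ζ, Complex.exp (2 * Real.pi * Complex.I / m) = ζ := ⟨_, rfl⟩
  rw [hζdef] at hζ
  have hroots : roots g = (range m).image (fun i => ζ ^ i) := by
    ext μ
    rw [mem_roots, hm, mem_image]
    constructor
    · intro h
      haveI : NeZero m := ⟨hm0.ne'⟩
      obtain ⟨i, hi, rfl⟩ := hζ.eq_pow_of_pow_eq_one h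
      exact ⟨i, mem_range.2 hi, rfl⟩
    · rintro ⟨i, -, rfl⟩
      rw [← pow_mul, mul_comm, pow_mul, hζ.pow_eq_one, one_pow]
  have hsum : ∀ j ∈ range m, ∑ μ ∈ roots g, μ⁻¹ ^ j = if j = 0 then (m : ℂ) else 0 := by
    intro j hj
    rw [hroots, sum_image fun a ha b hb h => hζ.pow_inj (mem_range.1 ha) (mem_range.1 hb) h]
    split_ifs with h0
    · subst h0; simp
    · have hne : (ζ⁻¹) ^ j ≠ 1 := fun h => h0 (Nat.eq_zero_of_dvd_of_lt
        ((hζ.inv.pow_eq_one_iff_dvd j).1 h) (mem_range.1 hj))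
      rw [sum_congr rfl fun i _ => show ((ζ ^ i)⁻¹) ^ j = ((ζ⁻¹) ^ j) ^ i by
        rw [← inv_pow, ← pow_mul, mul_comm, pow_mul], geom_sum_eq hne, ← pow_mul, mul_comm,
        pow_mul, hζ.inv.pow_eq_one, one_pow, sub_self, zero_div]
  simp only [proj, hm, LinearMap.smul_apply, LinearMap.sum_apply, ← Finset.smul_sum]
  rw [Finset.sum_comm, sum_congr rfl fun j hj => by rw [← Finset.sum_smul, hsum j hj]]
  rw [sum_eq_single 0 (fun j _ hj => by rw [if_neg hj, zero_smul])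
    (fun h => absurd (mem_range.2 hm0) h), if_pos rfl, pow_zero, map_one, smul_smul,
    inv_mul_cancel₀ (Nat.cast_ne_zero.2 hm0.ne'), one_smul]
  rfl

/-- The eigenvalues of `g`. -/
def IsEigen (g : G) (μ : ℂ) : Prop := ∃ v : Fin n → ℂ, v ≠ 0 ∧ ρ g v = μ • v

theorem inner_eigen (g : G) {μ ν : ℂ} (hμ : μ ∈ roots g) (hne : μ ≠ ν) {v w : Fin n → ℂ}
    (hv : ρ g v = μ • v) (hw : ρ g w = ν • w) : ⟪emb ρ v, emb ρ w⟫_ℂ = 0 := by
  have h := inner_rep ρ g v w
  rw [hv, hw, map_smul, map_smul, inner_smul_left, inner_smul_right, ← mul_assoc] at h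
  have h1 : ‖μ‖ = 1 := Complex.norm_eq_one_of_pow_eq_one (mem_roots.1 hμ) (orderOf_pos g).ne'
  by_contra h0
  have h2 : conj μ * ν = 1 := (mul_eq_right₀ h0).1 h
  have h3 : μ * conj μ = 1 := by rw [Complex.mul_conj', h1]; norm_num
  exact hne (by calc μ = μ * (conj μ * ν) := by rw [h2, mul_one]
    _ = ν := by rw [← mul_assoc, h3, one_mul])

/-- Spectral bound for a polynomial of degree one in a unitary operator. -/
theorem norm_shift_le (g : G) (c : ℂ) {r : ℝ} (hr0 : 0 ≤ r)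
    (hr : ∀ μ ∈ roots g, IsEigen ρ g μ → ‖μ - c‖ ≤ r) (v : Fin n → ℂ) :
    ‖emb ρ (ρ g v - c • v)‖ ≤ r * ‖emb ρ v‖ := by
  obtain ⟨e, he⟩ : ∃ e : ℂ → EuclideanSpace ℂ (G × Fin n), ∀ μ, e μ = emb ρ (proj ρ g μ v) :=
    ⟨_, fun _ => rfl⟩
  have horth : ∀ μ ∈ roots g, ∀ ν ∈ roots g, μ ≠ ν → ⟪e μ, e ν⟫_ℂ = 0 := fun μ hμ ν hν h => by
    rw [he, he]
    exact inner_eigen ρ g hμ h (rep_proj_apply ρ g hμ v) (rep_proj_apply ρ g hν v)
  have hpy : ∀ a : ℂ → ℂ, ‖∑ μ ∈ roots g, a μ • e μ‖ ^ 2 =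
      ∑ μ ∈ roots g, ‖a μ‖ ^ 2 * ‖e μ‖ ^ 2 := by
    intro a
    rw [← inner_self_eq_norm_sq (𝕜 := ℂ), sum_inner, map_sum]
    refine sum_congr rfl fun μ hμ => ?_
    rw [inner_sum, sum_eq_single μ (fun ν hν hne => by
      rw [inner_smul_left, inner_smul_right, horth μ hμ ν hν hne.symm, mul_zero, mul_zero])
      (fun h => absurd hμ h), inner_self_eq_norm_sq (𝕜 := ℂ), norm_smul, mul_pow]
  have h1 : emb ρ v = ∑ μ ∈ roots g, (1 : ℂ) • e μ := by
    simp only [one_smul, he, ← map_sum, sum_proj]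
  have h2 : emb ρ (ρ g v - c • v) = ∑ μ ∈ roots g, (μ - c) • e μ := by
    conv_lhs => rw [← sum_proj ρ g v]
    rw [map_sum, Finset.smul_sum, ← Finset.sum_sub_distrib, map_sum]
    exact sum_congr rfl fun μ hμ => by rw [rep_proj_apply ρ g hμ, ← sub_smul, map_smul, he]
  have h3 : ‖emb ρ (ρ g v - c • v)‖ ^ 2 ≤ (r * ‖emb ρ v‖) ^ 2 := by
    rw [mul_pow, h2, h1, hpy, hpy, Finset.mul_sum]
    refine sum_le_sum fun μ hμ => ?_
    rw [norm_one, one_pow, one_mul]
    by_cases h0 : proj ρ g μ v = 0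
    · rw [he, h0, map_zero, norm_zero]; simp
    · exact mul_le_mul_of_nonneg_right (pow_le_pow_left₀ (norm_nonneg _)
        (hr μ hμ ⟨_, h0, rep_proj_apply ρ g hμ v⟩) 2) (sq_nonneg _)
  exact (pow_le_pow_iff_left₀ (norm_nonneg _) (mul_nonneg hr0 (norm_nonneg _)) two_ne_zero).1 h3

/-- All eigenvalues in the arc `|arg| < π/6`. -/
def IsSmall (g : G) : Prop := ∀ μ, IsEigen ρ g μ → Real.sqrt 3 / 2 < μ.re

theorem isSmall_conj {g : G} (hg : IsSmall ρ g) (y : G) : IsSmall ρ (y * g * y⁻¹) := by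
  rintro μ ⟨v, hv, hv'⟩
  refine hg μ ⟨ρ y⁻¹ v, fun h => hv ?_, ?_⟩
  · have := congrArg (ρ y) h
    rwa [← Module.End.mul_apply, ← map_mul, mul_inv_cancel, map_one, Module.End.one_apply,
      map_zero] at this
  · have := congrArg (ρ y⁻¹) hv'
    rw [map_smul, ← Module.End.mul_apply, ← map_mul] at this
    rw [← this, ← Module.End.mul_apply, ← map_mul]
    congr 2
    group

theorem exists_radius (g : G) (hg : IsSmall ρ g) :
    ∃ r : ℝ, 0 ≤ r ∧ r < 1 / 2 ∧
      ∀ μ ∈ roots g, IsEigen ρ g μ → ‖μ - ((Real.sqrt 3 / 2 : ℝ) : ℂ)‖ ≤ r := by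
  classical
  have hlt : ∀ μ ∈ (roots g).filter (IsEigen ρ g),
      ‖μ - ((Real.sqrt 3 / 2 : ℝ) : ℂ)‖ < 1 / 2 := by
    intro μ hμ
    rw [mem_filter] at hμ
    have h1 : ‖μ‖ = 1 :=
      Complex.norm_eq_one_of_pow_eq_one (mem_roots.1 hμ.1) (orderOf_pos g).ne'
    have h2 : μ.re * μ.re + μ.im * μ.im = 1 := by
      have h := Complex.sq_norm μ
      rw [h1, one_pow, Complex.normSq_apply] at h
      exact h.symm
    refine (pow_lt_pow_iff_left₀ (norm_nonneg _) (by norm_num) two_ne_zero).1 ?_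
    rw [Complex.sq_norm, Complex.normSq_apply, Complex.sub_re, Complex.sub_im, Complex.ofReal_re,
      Complex.ofReal_im, sub_zero]
    have h3 := Real.mul_self_sqrt (show (0 : ℝ) ≤ 3 by norm_num)
    have h4 := mul_lt_mul_of_pos_left (hg μ hμ.2) (Real.sqrt_pos.2 (show (0 : ℝ) < 3 by norm_num))
    nlinarith
  rcases Finset.eq_empty_or_nonempty ((roots g).filter (IsEigen ρ g)) with h | h
  · refine ⟨0, le_rfl, by norm_num, fun μ hμ he => ?_⟩
    exact absurd (mem_filter.2 ⟨hμ, he⟩ : μ ∈ (roots g).filter (IsEigen ρ g)) (h ▸ notMem_empty μ)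
  · obtain ⟨μ₀, hμ₀, hmax⟩ :=
      Finset.exists_max_image _ (fun μ => ‖μ - ((Real.sqrt 3 / 2 : ℝ) : ℂ)‖) h
    exact ⟨_, norm_nonneg _, hlt μ₀ hμ₀, fun μ hμ he => hmax μ (mem_filter.2 ⟨hμ, he⟩)⟩

theorem norm_sub_one_le (g : G) (hg : IsSmall ρ g) (v : Fin n → ℂ) :
    ‖emb ρ (ρ g v - v)‖ ≤ 1 * ‖emb ρ v‖ := by
  have h := norm_shift_le ρ g 1 zero_le_one (fun μ hμ he => ?_) v
  · rwa [one_smul] at h
  · have h1 : ‖μ‖ = 1 :=
      Complex.norm_eq_one_of_pow_eq_one (mem_roots.1 hμ) (orderOf_pos g).ne'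
    have h2 : μ.re * μ.re + μ.im * μ.im = 1 := by
      have h := Complex.sq_norm μ
      rw [h1, one_pow, Complex.normSq_apply] at h
      exact h.symm
    refine (pow_le_pow_iff_left₀ (norm_nonneg _) zero_le_one two_ne_zero).1 ?_
    rw [Complex.sq_norm, Complex.normSq_apply, Complex.sub_re, Complex.sub_im, Complex.one_re,
      Complex.one_im, sub_zero]
    have h3 : (1 : ℝ) ≤ Real.sqrt 3 := Real.one_le_sqrt.2 (by norm_num)
    nlinarith [hg μ he]

variable (hfaith : Function.Injective ρ)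

include hfaith in
/-- An element moving no vector far cannot conjugate `u` to a different commuting element. -/
theorem conj_eq_self {u x : G} (hx : ∀ v, ‖emb ρ (ρ x v - v)‖ ≤ 1 * ‖emb ρ v‖)
    (hc : u * (x * u * x⁻¹) = x * u * x⁻¹ * u) : x * u * x⁻¹ = u := by
  apply hfaith
  refine LinearMap.ext fun v => ?_
  obtain ⟨y, hy⟩ : ∃ y, x * u * x⁻¹ = y := ⟨_, rfl⟩
  rw [hy] at hc ⊢
  conv_lhs => rw [← sum_proj ρ y v]
  conv_rhs => rw [← sum_proj ρ y v]
  rw [map_sum, map_sum]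
  refine sum_congr rfl fun μ hμ => ?_
  obtain ⟨w, hw⟩ : ∃ w, proj ρ y μ v = w := ⟨_, rfl⟩
  have hwe : ρ y w = μ • w := hw ▸ rep_proj_apply ρ y hμ v
  rw [hw, hwe]
  have key : ∀ ν ∈ roots u, ρ u (proj ρ u ν w) = μ • proj ρ u ν w := by
    intro ν hν
    rw [rep_proj_apply ρ u hν]
    by_cases hνμ : ν = μ
    · rw [hνμ]
    suffices he0 : proj ρ u ν w = 0 by rw [he0, smul_zero, smul_zero]
    obtain ⟨e, he⟩ : ∃ e, proj ρ u ν w = e := ⟨_, rfl⟩
    rw [he]
    have hue : ρ u e = ν • e := he ▸ rep_proj_apply ρ u hν w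
    have hye : ρ y e = μ • e := by
      have hcp : ρ y * proj ρ u ν = proj ρ u ν * ρ y := by
        simp only [proj, mul_smul_comm, smul_mul_assoc, Finset.mul_sum, Finset.sum_mul, ← map_mul,
          (Commute.pow_right (show Commute y u from hc.symm) _).eq]
      rw [← he, ← Module.End.mul_apply, hcp, Module.End.mul_apply, hwe, map_smul]
    obtain ⟨f, hf⟩ : ∃ f, ρ x⁻¹ e = f := ⟨_, rfl⟩
    have hxf : ρ x f = e := by
      rw [← hf, ← Module.End.mul_apply, ← map_mul, mul_inv_cancel, map_one, Module.End.one_apply]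
    have huf : ρ u f = μ • f := by
      rw [← hf, ← map_smul, ← hye, ← Module.End.mul_apply, ← Module.End.mul_apply, ← map_mul,
        ← map_mul, ← hy]
      congr 2
      group
    have hμ' : μ ∈ roots u := mem_roots.2 (by
      have h := mem_roots.1 hμ
      rwa [← hy, ← MulAut.conj_apply, ← MulEquiv.coe_toMonoidHom,
        orderOf_injective (MulAut.conj x).toMonoidHom (MulEquiv.injective _)] at h)
    have horth := inner_eigen ρ u hμ' (Ne.symm hνμ) huf hue
    have h1 := hx f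
    rw [hxf, one_mul, map_sub] at h1
    have h2 : ‖emb ρ e - emb ρ f‖ ^ 2 = ‖emb ρ e‖ ^ 2 + ‖emb ρ f‖ ^ 2 := by
      have h3 : RCLike.re ⟪emb ρ e, emb ρ f⟫_ℂ = 0 := by
        rw [inner_re_symm, horth]; simp
      rw [norm_sub_sq (𝕜 := ℂ), h3]
      ring
    have h4 : ‖emb ρ e‖ = ‖emb ρ f‖ := by rw [← hxf, norm_rep]
    have h5 : ‖emb ρ e - emb ρ f‖ ^ 2 ≤ ‖emb ρ f‖ ^ 2 :=
      pow_le_pow_left₀ (norm_nonneg _) h1 2
    have h6 : ‖emb ρ e‖ = 0 := by nlinarith [norm_nonneg (emb ρ e)]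
    exact emb_injective ρ (by rw [norm_eq_zero.1 h6, map_zero])
  conv_rhs => rw [← sum_proj ρ u w, map_sum, sum_congr rfl key, ← Finset.smul_sum, sum_proj]

include hfaith in
/-- Frobenius: small elements commute. -/
theorem commute_of_small {u x : G} (hu : IsSmall ρ u) (hx : IsSmall ρ x) : u * x = x * u := by
  classical
  obtain ⟨r, hr0, hr, hrad⟩ := exists_radius ρ u hu
  obtain ⟨c, hc⟩ : ∃ c : ℂ, ((Real.sqrt 3 / 2 : ℝ) : ℂ) = c := ⟨_, rfl⟩
  rw [hc] at hrad
  obtain ⟨w, hw0, hwsucc⟩ : ∃ w : ℕ → G, w 0 = x ∧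
      ∀ k, w (k + 1) = u * w k * u⁻¹ * (w k)⁻¹ :=
    ⟨fun k => (fun z => u * z * u⁻¹ * z⁻¹)^[k] x, rfl,
      fun k => Function.iterate_succ_apply' _ k x⟩
  have hb : ∀ k v, ‖emb ρ (ρ (w k) v - v)‖ ≤ (2 * r) ^ k * ‖emb ρ v‖ := by
    intro k
    induction k with
    | zero => intro v; rw [hw0, pow_zero]; exact norm_sub_one_le ρ x hx v
    | succ k ih =>
      intro v
      obtain ⟨z, hz⟩ : ∃ z, ρ (u⁻¹ * (w k)⁻¹) v = z := ⟨_, rfl⟩
      have e1 : ρ (w (k + 1)) v - v =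
          (ρ u (ρ (w k) z - z) - c • (ρ (w k) z - z)) -
            (ρ (w k) (ρ u z - c • z) - (ρ u z - c • z)) := by
        have h1 : ρ (w (k + 1)) v = ρ u (ρ (w k) z) := by
          rw [← hz, hwsucc, ← Module.End.mul_apply, ← Module.End.mul_apply, ← map_mul, ← map_mul]
          congr 2
          group
        have h2 : v = ρ (w k) (ρ u z) := by
          rw [← hz, ← Module.End.mul_apply, ← Module.End.mul_apply, ← map_mul, ← map_mul]
          conv_lhs => rw [← Module.End.one_apply (R := ℂ) v, ← map_one ρ]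
          congr 2
          group
        rw [h1]
        conv_lhs => arg 2; rw [h2]
        simp only [map_sub, map_smul, smul_sub]
        abel
      rw [e1, map_sub]
      refine (_root_.norm_sub_le _ _).trans ?_
      have hzn : ‖emb ρ z‖ = ‖emb ρ v‖ := by rw [← hz, norm_rep]
      have ha := (norm_shift_le ρ u c hr0 hrad (ρ (w k) z - z)).trans
        (mul_le_mul_of_nonneg_left (ih z) hr0)
      have hb' := (ih (ρ u z - c • z)).trans (mul_le_mul_of_nonneg_left
        (norm_shift_le ρ u c hr0 hrad z) (pow_nonneg (by linarith) k))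
      rw [hzn] at ha hb'
      refine (add_le_add ha hb').trans (le_of_eq ?_)
      rw [pow_succ]
      ring
  have hb1 : ∀ k v, ‖emb ρ (ρ (w k) v - v)‖ ≤ 1 * ‖emb ρ v‖ := fun k v =>
    (hb k v).trans (mul_le_mul_of_nonneg_right (pow_le_one₀ (by linarith) (by linarith))
      (norm_nonneg _))
  -- the iterated commutators reach the identity
  have hex : ∃ k, w k = 1 := by
    by_contra hno
    push Not at hno
    have hpos : ∀ g : G, g ≠ 1 → ∃ v, 0 < ‖emb ρ (ρ g v - v)‖ := fun g hg => by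
      by_contra hnone
      push Not at hnone
      apply hg
      apply hfaith
      rw [map_one]
      refine LinearMap.ext fun v => sub_eq_zero.1 (emb_injective ρ ?_)
      rw [map_zero]
      exact norm_eq_zero.1 (le_antisymm (hnone v) (norm_nonneg _))
    choose vv hvv using hpos
    have hfreq : ∃ g : G, ∀ k₀, ∃ k, k₀ ≤ k ∧ w k = g := by
      by_contra hf
      push Not at hf
      choose k₀ hk₀ using hf
      exact hk₀ (w (univ.sup k₀)) _ (Finset.le_sup (mem_univ _)) rfl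
    obtain ⟨g, hg⟩ := hfreq
    obtain ⟨k1, -, hk1⟩ := hg 0
    have hg1 : g ≠ 1 := hk1 ▸ hno k1
    obtain ⟨ε, hε⟩ : ∃ ε, ‖emb ρ (ρ g (vv g hg1) - vv g hg1)‖ = ε := ⟨_, rfl⟩
    have hε0 : 0 < ε := hε ▸ hvv g hg1
    obtain ⟨k₀, hk₀⟩ := exists_pow_lt_of_lt_one
      (div_pos hε0 (by positivity : (0 : ℝ) < ‖emb ρ (vv g hg1)‖ + 1)) (show 2 * r < 1 by linarith)
    obtain ⟨k, hk, hkg⟩ := hg k₀
    have h1 := hb k (vv g hg1)
    rw [hkg, hε] at h1
    have h2 : (2 * r) ^ k ≤ (2 * r) ^ k₀ := pow_le_pow_of_le_one (by linarith) (by linarith) hk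
    rw [lt_div_iff₀ (by positivity)] at hk₀
    nlinarith [norm_nonneg (emb ρ (vv g hg1)), pow_nonneg (show (0:ℝ) ≤ 2 * r by linarith) k₀]
  have hdown : ∀ j, w (j + 1) = 1 → w 1 = 1 := by
    intro j
    induction j with
    | zero => exact id
    | succ j ih =>
      intro h
      refine ih ?_
      have h1 : u * w (j + 1) = w (j + 1) * u := by
        rw [hwsucc, mul_inv_eq_one] at h
        exact mul_inv_eq_iff_eq_mul.1 h
      rw [hwsucc] at h1 ⊢
      have h2 : u * (w j * u * (w j)⁻¹) = w j * u * (w j)⁻¹ * u := by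
        have hcomm : Commute u (u * w j * u⁻¹ * (w j)⁻¹) := h1
        have h3 : Commute u (w j * u⁻¹ * (w j)⁻¹) := by
          have := ((Commute.refl u).inv_right).mul_right hcomm
          simpa [mul_assoc] using this
        have h4 := h3.inv_right
        simpa [mul_assoc] using h4.eq
      have h5 := conj_eq_self ρ hfaith (hb1 j) h2
      rw [mul_inv_eq_one, mul_inv_eq_iff_eq_mul]
      exact (mul_inv_eq_iff_eq_mul.1 h5).symm
  obtain ⟨k, hk⟩ := hex
  have hw1 : w 1 = 1 := hdown k (by rw [hwsucc, hk]; group)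
  rw [hwsucc, hw0, mul_inv_eq_one, mul_inv_eq_iff_eq_mul] at hw1
  exact hw1

theorem trace_proj (g : G) (μ : ℂ) : LinearMap.trace ℂ _ (proj ρ g μ) =
    (orderOf g : ℂ)⁻¹ * ∑ j ∈ range (orderOf g), μ⁻¹ ^ j * ρ.character (g ^ j) := by
  simp [proj, map_sum, Representation.character]

theorem proj_eq_zero_of_trace (g : G) {μ : ℂ} (hμ : μ ∈ roots g)
    (h : LinearMap.trace ℂ _ (proj ρ g μ) = 0) : proj ρ g μ = 0 := by
  obtain ⟨P, hP⟩ : ∃ P, proj ρ g μ = P := ⟨_, rfl⟩
  rw [hP] at h ⊢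
  have hpow : ∀ j v, ρ (g ^ j) (P v) = μ ^ j • P v := by
    intro j
    induction j with
    | zero => intro v; simp
    | succ j ih =>
      intro v
      rw [pow_succ', map_mul, Module.End.mul_apply, ih, map_smul, ← hP, rep_proj_apply ρ g hμ,
        smul_smul, pow_succ]
  have hproj : LinearMap.IsProj (LinearMap.range P) P := by
    refine ⟨fun v => LinearMap.mem_range_self P v, fun v hv => ?_⟩
    obtain ⟨u, rfl⟩ := hv
    have hpz := fun j => hpow j u
    obtain ⟨z, hz⟩ : ∃ z, P u = z := ⟨_, rfl⟩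
    rw [hz] at hpz ⊢
    rw [← hP]
    have hμ0 : μ ≠ 0 := fun h0 => by
      have := mem_roots.1 hμ
      rw [h0, zero_pow (orderOf_pos g).ne'] at this
      exact zero_ne_one this
    simp only [proj, LinearMap.smul_apply, LinearMap.sum_apply]
    rw [sum_congr rfl fun j _ => by
      rw [hpz, smul_smul, ← mul_pow, inv_mul_cancel₀ hμ0, one_pow, one_smul], sum_const, card_range,
      ← Nat.cast_smul_eq_nsmul ℂ, smul_smul,
      inv_mul_cancel₀ (Nat.cast_ne_zero.2 (orderOf_pos g).ne'), one_smul]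
  rw [hproj.trace, Nat.cast_eq_zero, Submodule.finrank_eq_zero, LinearMap.range_eq_bot] at h
  exact h

theorem eigen_mem_roots {g : G} {μ : ℂ} (h : IsEigen ρ g μ) : μ ∈ roots g := by
  obtain ⟨v, hv, hv'⟩ := h
  have hpow : ∀ j, ρ (g ^ j) v = μ ^ j • v := by
    intro j
    induction j with
    | zero => simp
    | succ j ih => rw [pow_succ', map_mul, Module.End.mul_apply, ih, map_smul, hv', smul_smul, pow_succ]
  have h1 := hpow (orderOf g)
  rw [pow_orderOf_eq_one, map_one, Module.End.one_apply] at h1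
  refine mem_roots.2 ?_
  have h2 : (μ ^ orderOf g - 1) • v = 0 := by rw [sub_smul, one_smul, ← h1, sub_self]
  exact sub_eq_zero.1 ((smul_eq_zero.1 h2).resolve_right hv)

/-- On an abelian subgroup the eigenvalues are values of at most `n` linear characters. -/
theorem exists_eigen_chars (H : Subgroup G) (hab : ∀ x ∈ H, ∀ y ∈ H, x * y = y * x) :
    ∃ (k : ℕ) (l : Fin k → (H →* ℂˣ)), k ≤ n ∧
      ∀ (h : H) μ, IsEigen ρ (h : G) μ → ∃ i, (l i h : ℂ) = μ := by
  classical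
  have hχ : Cfsg.IsCharacter H fun x : H => ρ.character x :=
    IsCharacter.restrict (isCharacter_character ρ) H
  obtain ⟨s, hs, hsum⟩ := IsCharacter.exists_multiset hχ
  obtain ⟨L, rfl⟩ : ∃ L : List (H → ℂ), (L : Multiset (H → ℂ)) = s := ⟨s.toList, Multiset.coe_toList s⟩
  simp only [Multiset.sum_coe, Multiset.mem_coe] at hs hsum
  have h1 : ∀ i : Fin L.length, ∃ l : H →* ℂˣ, L.get i = fun g => (l g : ℂ) := fun i =>
    IsCharacter.exists_hom (IsIrrCharacter.isCharacter (hs _ (L.get_mem i)))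
      (abelian_iff_degree_one.1 (fun a b => Subtype.ext (hab _ a.2 _ b.2)) _ (hs _ (L.get_mem i)))
  choose l hl using h1
  have hval : ∀ x : H, ρ.character (x : G) = ∑ i, (l i x : ℂ) := fun x => by
    have h2 := congrFun hsum x
    rw [← List.ofFn_get L, List.sum_ofFn, Finset.sum_apply] at h2
    refine Eq.trans ?_ (sum_congr rfl fun i _ => congrFun (hl i) x)
    first
      | exact h2.symm
      | exact h2
  refine ⟨L.length, l, ?_, fun h μ hμ => ?_⟩
  · have h2 := hval 1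
    simp only [Subgroup.coe_one, ρ.char_one, Module.finrank_fin_fun, map_one, Units.val_one,
      sum_const, card_univ, Fintype.card_fin, nsmul_one, Nat.cast_inj] at h2
    exact h2.ge
  by_contra hno
  push Not at hno
  have hroot := eigen_mem_roots ρ hμ
  obtain ⟨v, hv, hv'⟩ := hμ
  have hμ0 : μ ≠ 0 := fun h0 => by
    have h1 := mem_roots.1 hroot
    rw [h0, zero_pow (orderOf_pos (h : G)).ne'] at h1
    exact zero_ne_one h1
  have htr : LinearMap.trace ℂ _ (proj ρ (h : G) μ) = 0 := by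
    rw [trace_proj]
    refine mul_eq_zero_of_right _ ?_
    rw [sum_congr rfl fun j _ => by rw [← Subgroup.coe_pow, hval, Finset.mul_sum], sum_comm]
    refine sum_eq_zero fun i _ => ?_
    rw [sum_congr rfl fun j _ => show μ⁻¹ ^ j * (l i (h ^ j) : ℂ) = (μ⁻¹ * l i h) ^ j by
      rw [map_pow, Units.val_pow_eq_pow_val, mul_pow]]
    have hne : μ⁻¹ * (l i h : ℂ) ≠ 1 := fun h3 => hno i (by
      rw [inv_mul_eq_one₀ hμ0] at h3; exact h3.symm)
    rw [geom_sum_eq hne, mul_pow, inv_pow, mem_roots.1 hroot, inv_one, one_mul,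
      ← Units.val_pow_eq_pow_val, ← map_pow, Subgroup.orderOf_coe, pow_orderOf_eq_one, map_one,
      Units.val_one, sub_self, zero_div]
  have h0 : proj ρ (h : G) μ v = v := by
    have hpow : ∀ j, ρ ((h : G) ^ j) v = μ ^ j • v := by
      intro j
      induction j with
      | zero => simp
      | succ j ih => rw [pow_succ', map_mul, Module.End.mul_apply, ih, map_smul, hv', smul_smul, pow_succ]
    simp only [proj, LinearMap.smul_apply, LinearMap.sum_apply, hpow, smul_smul, ← mul_pow,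
      inv_mul_cancel₀ hμ0, one_pow, one_smul, sum_const, card_range, ← Nat.cast_smul_eq_nsmul ℂ,
      inv_mul_cancel₀ (Nat.cast_ne_zero (R := ℂ).2 (orderOf_pos (h : G)).ne')]
  rw [proj_eq_zero_of_trace ρ _ hroot htr] at h0
  exact hv h0.symm

/-- The cell of a number on the circle. -/
noncomputable def cell (z : ℂ) : Fin 12 :=
  ⟨(⌊Complex.arg z * 6 / Real.pi⌋ % 12).toNat, by omega⟩

theorem re_of_cell_eq {z z' : ℂ} (hz : ‖z‖ = 1) (hz' : ‖z'‖ = 1) (h : cell z = cell z') :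
    Real.sqrt 3 / 2 < (conj z * z').re := by
  have h1 : ⌊Complex.arg z * 6 / Real.pi⌋ % 12 = ⌊Complex.arg z' * 6 / Real.pi⌋ % 12 := by
    have := congrArg Fin.val h
    simp only [cell] at this
    omega
  obtain ⟨k, hk⟩ : (12 : ℤ) ∣ ⌊Complex.arg z' * 6 / Real.pi⌋ - ⌊Complex.arg z * 6 / Real.pi⌋ :=
    Int.ModEq.dvd h1
  have e1 : ∀ w : ℂ, ‖w‖ = 1 → w.re = Real.cos w.arg ∧ w.im = Real.sin w.arg := by
    intro w hw
    have hw0 : w ≠ 0 := fun h => by rw [h, norm_zero] at hw; exact zero_ne_one hw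
    rw [Complex.cos_arg hw0, Complex.sin_arg, hw, div_one, div_one]
    exact ⟨rfl, rfl⟩
  obtain ⟨hr, hi⟩ := e1 z hz
  obtain ⟨hr', hi'⟩ := e1 z' hz'
  rw [Complex.mul_re, Complex.conj_re, Complex.conj_im, hr, hi, hr', hi']
  obtain ⟨a, ha⟩ : ∃ a, z.arg = a := ⟨_, rfl⟩
  obtain ⟨a', ha'⟩ : ∃ a', z'.arg = a' := ⟨_, rfl⟩
  rw [ha, ha'] at hk ⊢
  have hpi := Real.pi_pos
  obtain ⟨δ, hδ⟩ : ∃ δ, a' - a - (k : ℝ) * (2 * Real.pi) = δ := ⟨_, rfl⟩
  have hk' : (⌊a' * 6 / Real.pi⌋ : ℝ) - ⌊a * 6 / Real.pi⌋ = 12 * k := by exact_mod_cast hk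
  have f1 := Int.floor_le (a * 6 / Real.pi)
  have f2 := Int.lt_floor_add_one (a * 6 / Real.pi)
  have f3 := Int.floor_le (a' * 6 / Real.pi)
  have f4 := Int.lt_floor_add_one (a' * 6 / Real.pi)
  have hd : δ * 6 / Real.pi = a' * 6 / Real.pi - a * 6 / Real.pi - 12 * k := by
    rw [← hδ]; field_simp; ring
  have hlo : -1 < δ * 6 / Real.pi := by rw [hd]; linarith
  have hhi : δ * 6 / Real.pi < 1 := by rw [hd]; linarith
  rw [lt_div_iff₀ hpi] at hlo
  rw [div_lt_iff₀ hpi] at hhi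
  have habs : |δ| < Real.pi / 6 := abs_lt.2 ⟨by linarith, by linarith⟩
  have hcos : Real.cos (Real.pi / 6) < Real.cos |δ| :=
    Real.cos_lt_cos_of_nonneg_of_le_pi (abs_nonneg δ) (by linarith) habs
  rw [Real.cos_abs, Real.cos_pi_div_six] at hcos
  have e2 : Real.cos a * Real.cos a' - -Real.sin a * Real.sin a' = Real.cos δ := by
    rw [← hδ, Real.cos_sub_int_mul_two_pi, Real.cos_sub]; ring
  rw [e2]
  exact hcos

include hfaith in
/-- Blichfeldt's bound. -/
theorem exists_abelian_normal : ∃ A : Subgroup G, A.Normal ∧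
    (∀ x ∈ A, ∀ y ∈ A, x * y = y * x) ∧
      ∀ H : Subgroup G, (∀ x ∈ H, ∀ y ∈ H, x * y = y * x) → (A.subgroupOf H).index ≤ 12 ^ n := by
  classical
  obtain ⟨A, hA⟩ : ∃ A, Subgroup.closure {g | IsSmall ρ g} = A := ⟨_, rfl⟩
  have hSA : ∀ g, IsSmall ρ g → g ∈ A := fun g hg => hA ▸ Subgroup.subset_closure hg
  refine ⟨A, ⟨fun a ha y => ?_⟩, fun x hx y hy => ?_, fun H hH => ?_⟩
  · have h1 : A ≤ A.comap (MulAut.conj y).toMonoidHom := by
      conv_lhs => rw [← hA]
      exact (Subgroup.closure_le _).2 fun g hg => hSA _ (isSmall_conj ρ hg y)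
    exact h1 ha
  · rw [← hA] at hx hy
    induction hx, hy using Subgroup.closure_induction₂ with
    | mem a b ha hb => exact commute_of_small ρ hfaith ha hb
    | one_left b _ => simp
    | one_right a _ => simp
    | mul_left a a' b _ _ _ h h' => exact (Commute.mul_left h h')
    | mul_right b b' a _ _ _ h h' => exact (Commute.mul_right h h')
    | inv_left a b _ _ h => exact (Commute.inv_left h)
    | inv_right a b _ _ h => exact (Commute.inv_right h)
  obtain ⟨k, l, hk, hl⟩ := exists_eigen_chars ρ H hH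
  rw [Subgroup.index]
  refine le_trans (Nat.card_le_card_of_injective
    (fun q : H ⧸ A.subgroupOf H => fun i => cell ((l i q.out : ℂˣ) : ℂ)) fun q q' hqq => ?_) ?_
  · have hmem : q.out⁻¹ * q'.out ∈ A.subgroupOf H := Subgroup.mem_subgroupOf.2 (hSA _ fun μ hμ => by
      obtain ⟨i, rfl⟩ := hl (q.out⁻¹ * q'.out) μ hμ
      have hn1 : ∀ x : H, ‖((l i x : ℂˣ) : ℂ)‖ = 1 := fun x => norm_hom_eq_one (l i) x
      have h2 := re_of_cell_eq (hn1 q.out) (hn1 q'.out) (congrFun hqq i)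
      rw [conj_eq_inv_hom (l i) q.out, ← Units.val_mul, ← map_mul] at h2
      exact h2)
    rw [← q.out_eq, ← q'.out_eq]
    exact Quotient.sound (QuotientGroup.leftRel_apply.2 hmem)
  · rw [Nat.card_eq_fintype_card, Fintype.card_fun, Fintype.card_fin, Fintype.card_fin]
    exact Nat.pow_le_pow_right (by norm_num) hk

end CfsgLib.Char.SmallArc
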