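import Cfsg.Agent.Char.BlichfeldtHall
import Cfsg.Agent.Char.SmallArc
import Cfsg.Agent.Char.Monomial
import Mathlib.NumberTheory.PrimeCounting
import Mathlib.Algebra.Group.Action.Sigma
import Mathlib.Data.Finite.Perm

/-!
# The bound `n! * 12 ^ (n * (π (n + 1) + 1))` for linear groups
-/

set_option autoImplicit false
set_option linter.style.haveILetI false
set_option linter.unusedSectionVars false

namespace CfsgLib.Char.JordanBound

open Finset Representation

universe u

variable {G : Type u} [Group G] [Fintype G]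

/-- A nilpotent linear group of degree `n` has an abelian subgroup of index dividing `n!`. -/
theorem exists_abelian_index_dvd_factorial [Group.IsNilpotent G] {χ : G → ℂ}
    (hχ : Cfsg.IsCharacter G χ) (hfaith : ∀ g, χ g = χ 1 → g = 1) {n : ℕ} (hn : χ 1 = n) :
    ∃ B : Subgroup G, (∀ x ∈ B, ∀ y ∈ B, x * y = y * x) ∧ B.index ∣ Nat.factorial n := by
  classical
  choose! a ha using fun (f : G → ℂ) (hf : f ∈ irrFinset G) =>
    IsCharacter.exists_classInner_eq_natCast hχ (mem_irrFinset.1 hf)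
  choose! U lam hUlam using fun (f : G → ℂ) (hf : f ∈ irrFinset G) =>
    IsIrrCharacter.exists_indFun_linear (mem_irrFinset.1 hf)
  obtain ⟨s, hs⟩ : ∃ s, (irrFinset G).filter (fun f => a f ≠ 0) = s := ⟨_, rfl⟩
  have hsub : s ⊆ irrFinset G := hs ▸ filter_subset _ _
  have hone : ∀ f ∈ irrFinset G, f 1 = ((U f).index : ℂ) := by
    intro f hf
    have h1 := congrFun (hUlam f hf) 1
    have hx : ∀ x : G, Cfsg.extendByZero (U f) (fun u => (lam f u : ℂ)) (x⁻¹ * 1 * x) = 1 := by
      intro x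
      rw [mul_one, inv_mul_cancel, extendByZero_of_mem _ (Subgroup.one_mem _),
        show (⟨1, Subgroup.one_mem (U f)⟩ : U f) = 1 from rfl, map_one, Units.val_one]
    rw [indFun_def, sum_congr rfl fun x _ => hx x, sum_const, Finset.card_univ,
      ← Nat.card_eq_fintype_card, nsmul_eq_mul, mul_one,
      ← Subgroup.card_mul_index (U f), Nat.cast_mul] at h1
    rw [h1, inv_mul_cancel_left₀ (Nat.cast_ne_zero.2 Nat.card_pos.ne')]
  have hsum : ∑ f ∈ s, (U f).index ≤ n := by
    have h := congrFun (eq_sum_irr (IsCharacter.isClassFunction hχ)) 1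
    rw [Finset.sum_apply, sum_congr rfl fun f hf => by
      rw [Pi.smul_apply, ha f hf, hone f hf, smul_eq_mul, ← Nat.cast_mul], ← Nat.cast_sum, hn,
      Nat.cast_inj] at h
    rw [h]
    refine (sum_le_sum fun f hf => Nat.le_mul_of_pos_left _ (Nat.pos_of_ne_zero ?_)).trans
      (sum_le_sum_of_subset hsub)
    rw [← hs] at hf
    exact (mem_filter.1 hf).2
  obtain ⟨φ, hφ⟩ : ∃ φ : G →* Equiv.Perm ((f : s) × G ⧸ U f),
      MulAction.toPermHom G ((f : s) × G ⧸ U f) = φ := ⟨_, rfl⟩
  refine ⟨φ.ker, fun x hx y hy => ?_, ?_⟩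
  · have hmem : ∀ z ∈ φ.ker, ∀ f ∈ s, ∀ g : G, g⁻¹ * z * g ∈ U f := fun z hz f hf g => by
      rw [← hφ, MonoidHom.mem_ker] at hz
      have h1 := congrArg (fun e : Equiv.Perm _ => e ⟨⟨f, hf⟩, (g : G ⧸ U f)⟩) hz
      simp only [MulAction.toPermHom_apply, MulAction.toPerm_apply, Equiv.Perm.one_apply] at h1
      have h2 : ((z * g : G) : G ⧸ U f) = (g : G ⧸ U f) := by
        simpa [Sigma.smul_mk, MulAction.Quotient.smul_mk] using h1
      have h3 := QuotientGroup.eq.1 h2.symm
      rwa [← mul_assoc] at h3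
    have h1 : x * y * x⁻¹ * y⁻¹ = 1 := hfaith _ (by
      rw [eq_sum_irr (IsCharacter.isClassFunction hχ)]
      rw [Finset.sum_apply, Finset.sum_apply]
      refine sum_congr rfl fun f hf => ?_
      simp only [Pi.smul_apply, smul_eq_mul]
      by_cases h0 : a f = 0
      · simp [ha f hf, h0]
      congr 1
      have hfs : f ∈ s := hs ▸ mem_filter.2 ⟨hf, h0⟩
      rw [congrFun (hUlam f hf), congrFun (hUlam f hf), indFun_def, indFun_def]
      refine congrArg _ (sum_congr rfl fun g _ => ?_)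
      have hxg := hmem x hx f hfs g
      have hyg := hmem y hy f hfs g
      have hc : g⁻¹ * (x * y * x⁻¹ * y⁻¹) * g = (g⁻¹ * x * g) * (g⁻¹ * y * g) *
          (g⁻¹ * x * g)⁻¹ * (g⁻¹ * y * g)⁻¹ := by group
      rw [hc, extendByZero_of_mem _ (Subgroup.mul_mem _ (Subgroup.mul_mem _
          (Subgroup.mul_mem _ hxg hyg) (Subgroup.inv_mem _ hxg)) (Subgroup.inv_mem _ hyg)),
        show g⁻¹ * 1 * g = 1 by group, extendByZero_of_mem _ (Subgroup.one_mem _),
        show (⟨(g⁻¹ * x * g) * (g⁻¹ * y * g) * (g⁻¹ * x * g)⁻¹ * (g⁻¹ * y * g)⁻¹, _⟩ : U f) =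
          ⟨_, hxg⟩ * ⟨_, hyg⟩ * (⟨_, hxg⟩ : U f)⁻¹ * (⟨_, hyg⟩ : U f)⁻¹ from rfl,
        show (⟨1, Subgroup.one_mem (U f)⟩ : U f) = 1 from rfl]
      simp only [map_mul, map_inv, map_one, mul_comm (lam f ⟨_, hxg⟩) (lam f ⟨_, hyg⟩),
        mul_inv_cancel_right, mul_inv_cancel])
    calc x * y = (x * y * x⁻¹ * y⁻¹) * (y * x) := by group
      _ = y * x := by rw [h1, one_mul]
  · rw [Subgroup.index_ker]
    refine (Subgroup.card_subgroup_dvd_card φ.range).trans ?_
    rw [Nat.card_perm, Nat.card_sigma]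
    refine Nat.factorial_dvd_factorial ?_
    have h : ∑ f : s, Nat.card (G ⧸ U f) = ∑ f ∈ s, (U f).index := by
      rw [Finset.sum_coe_sort s fun f => Nat.card (G ⧸ U f)]
      rfl
    exact h ▸ hsum

theorem pow_dvd_relIndex {q : ℕ} (hq : q.Prime) (A H : Subgroup G) (hH : ¬ q ∣ H.index) :
    q ^ A.index.factorization q ∣ A.relIndex H := by
  refine ((hq.coprime_iff_not_dvd.2 hH).pow_left _).dvd_of_dvd_mul_right ?_
  rw [← Subgroup.inf_relIndex_right, Subgroup.relIndex_mul_index inf_le_right]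
  exact (Nat.ordProj_dvd _ _).trans (Subgroup.index_dvd_of_le inf_le_left)

/-- Jordan's bound. -/
theorem exists_abelian_normal_index_le {χ : G → ℂ} (hχ : Cfsg.IsCharacter G χ)
    (hfaith : ∀ g, χ g = χ 1 → g = 1) {n : ℕ} (hn : χ 1 = n) :
    ∃ A : Subgroup G, A.Normal ∧ (∀ x ∈ A, ∀ y ∈ A, x * y = y * x) ∧
      A.index ≤ Nat.factorial n * 12 ^ (n * (Nat.primeCounting (n + 1) + 1)) := by
  classical
  obtain ⟨d, ρ, rfl⟩ := id hχ
  have hd : ρ.character 1 = (d : ℂ) := by rw [ρ.char_one, Module.finrank_fin_fun]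
  rw [hd, Nat.cast_inj] at hn
  subst hn
  have hinj : Function.Injective ρ := fun a b hab => by
    have h1 : a⁻¹ * b = 1 := hfaith _ (by
      rw [Representation.character, Representation.character, map_mul, ← hab, ← map_mul,
        inv_mul_cancel])
    exact inv_mul_eq_one.1 h1
  obtain ⟨A, hAn, hAab, hA⟩ := SmallArc.exists_abelian_normal ρ hinj
  refine ⟨A, hAn, hAab, ?_⟩
  obtain ⟨H, hHab, -, hHidx⟩ :=
    BlichfeldtHall.exists_abelian_hall (Nat.card G) rfl ρ.character hχ hfaith d hd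
  have hI : A.index ≠ 0 := Subgroup.index_ne_zero_of_finite
  conv_lhs => rw [← Nat.prod_factorization_pow_eq_self hI]
  rw [Finsupp.prod, Nat.support_factorization,
    ← prod_filter_mul_prod_filter_not A.index.primeFactors (fun p => p ≤ d + 1)]
  have hbig : ∏ q ∈ A.index.primeFactors.filter (fun p => ¬ p ≤ d + 1),
      q ^ A.index.factorization q ≤ 12 ^ d := by
    refine (Nat.le_of_dvd ?_ (Finset.prod_dvd_of_isRelPrime ?_ ?_)).trans (hA H hHab)
    · exact Nat.pos_of_ne_zero Subgroup.index_ne_zero_of_finite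
    · intro p hp q hq hpq
      simp only [coe_filter, Set.mem_setOf_eq] at hp hq
      exact Nat.coprime_iff_isRelPrime.1 (Nat.coprime_pow_primes _ _
        (Nat.prime_of_mem_primeFactors hp.1) (Nat.prime_of_mem_primeFactors hq.1) hpq)
    · intro q hq
      rw [mem_filter] at hq
      exact pow_dvd_relIndex (Nat.prime_of_mem_primeFactors hq.1) A H
        fun h => hq.2 (hHidx q (Nat.prime_of_mem_primeFactors hq.1) h)
  obtain ⟨s, hs⟩ : ∃ s, A.index.primeFactors.filter (fun p => p ≤ d + 1) = s := ⟨_, rfl⟩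
  rw [hs]
  have hsp : ∀ p ∈ s, p.Prime := fun p hp =>
    Nat.prime_of_mem_primeFactors (mem_filter.1 (hs ▸ hp)).1
  have hcount : s.card ≤ Nat.primeCounting (d + 1) := by
    rw [Nat.primeCounting, Nat.primeCounting', Nat.count_eq_card_filter_range]
    refine card_le_card fun p hp => mem_filter.2 ⟨mem_range.2 ?_, hsp p hp⟩
    have := (mem_filter.1 (hs ▸ hp)).2
    omega
  have hsmall : ∀ p ∈ s, p ^ A.index.factorization p ≤
      p ^ d.factorial.factorization p * 12 ^ d := by
    intro p hp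
    haveI := Fact.mk (hsp p hp)
    obtain ⟨P⟩ : Nonempty (Sylow p G) := inferInstance
    haveI : Group.IsNilpotent (P : Subgroup G) := P.isPGroup'.isNilpotent
    haveI := Fintype.ofFinite (P : Subgroup G)
    obtain ⟨B, hBab, hBi⟩ := exists_abelian_index_dvd_factorial
      (IsCharacter.restrict hχ (P : Subgroup G))
      (fun g hg => Subtype.ext (hfaith g hg)) (n := d) hd
    obtain ⟨k, hk⟩ := P.isPGroup'.exists_card_eq
    obtain ⟨j, -, hj⟩ := (Nat.dvd_prime_pow (hsp p hp)).1 (hk ▸ B.index_dvd_card)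
    have hjd : p ^ j ≤ p ^ d.factorial.factorization p :=
      Nat.pow_le_pow_right (hsp p hp).pos
        (((hsp p hp).pow_dvd_iff_le_factorization (Nat.factorial_ne_zero d)).1 (hj ▸ hBi))
    obtain ⟨B', hB'⟩ : ∃ B', B.map (P : Subgroup G).subtype = B' := ⟨_, rfl⟩
    have hB'ab : ∀ x ∈ B', ∀ y ∈ B', x * y = y * x := by
      rw [← hB']
      rintro _ ⟨u, hu, rfl⟩ _ ⟨v, hv, rfl⟩
      exact congrArg Subtype.val (hBab u hu v hv)
    have hB'P : B' ≤ P := hB' ▸ Subgroup.map_subtype_le B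
    have hrel : B'.relIndex P = p ^ j := by
      rw [← hB', BlichfeldtHall.relIndex_map_subtype_eq, hj]
    calc p ^ A.index.factorization p ≤ A.relIndex P :=
          Nat.le_of_dvd (Nat.pos_of_ne_zero Subgroup.index_ne_zero_of_finite)
            (pow_dvd_relIndex (hsp p hp) A P P.not_dvd_index)
      _ ≤ (A ⊓ B').relIndex P := Nat.le_of_dvd (Nat.pos_of_ne_zero Subgroup.index_ne_zero_of_finite)
            (Subgroup.relIndex_dvd_of_le_left _ inf_le_left)
      _ = A.relIndex B' * B'.relIndex P := by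
          rw [← Subgroup.inf_relIndex_right A B', Subgroup.relIndex_mul_relIndex _ _ _ inf_le_right hB'P]
      _ ≤ 12 ^ d * p ^ d.factorial.factorization p := by
          rw [hrel]
          exact Nat.mul_le_mul (hA B' hB'ab) hjd
      _ = _ := mul_comm _ _
  have hfact : ∏ p ∈ s, p ^ d.factorial.factorization p ≤ d.factorial :=
    Nat.le_of_dvd (Nat.factorial_pos d) (Finset.prod_dvd_of_isRelPrime
      (fun p hp q hq hpq =>
        Nat.coprime_iff_isRelPrime.1 (Nat.coprime_pow_primes _ _ (hsp p hp) (hsp q hq) hpq))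
      fun p _ => Nat.ordProj_dvd _ _)
  calc (∏ p ∈ s, p ^ A.index.factorization p) * _
      ≤ (∏ p ∈ s, p ^ d.factorial.factorization p * 12 ^ d) * 12 ^ d :=
        Nat.mul_le_mul (prod_le_prod' hsmall) hbig
    _ ≤ (d.factorial * (12 ^ d) ^ Nat.primeCounting (d + 1)) * 12 ^ d := by
        rw [prod_mul_distrib, prod_const]
        exact Nat.mul_le_mul (Nat.mul_le_mul hfact
          (Nat.pow_le_pow_right (pow_pos (by norm_num) d) hcount)) le_rfl
    _ = _ := by rw [mul_assoc, ← pow_succ, ← pow_mul]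

end CfsgLib.Char.JordanBound
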