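import Cfsg.Agent.Char.ExtendInv
import Cfsg.Agent.GlaubermanCorr.InvariantOver
import Cfsg.Agent.Blocks.NormalSub
import Mathlib.GroupTheory.SchurZassenhaus
import Mathlib.GroupTheory.Transfer

/-!
# Invariant constituents above an invariant character, solvable top layer

The intertwiners of an invariant character give a finite central extension of the quotient in
which the two layers have coprime orders.
-/

set_option autoImplicit false
set_option linter.style.haveILetI false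
set_option linter.unusedSectionVars false

namespace CfsgLib.Char.Layer

open Module Representation

universe u

/-- Powers by the order of a finite central quotient are multiplicative. -/
theorem mul_pow_of_ker_le_center {H Q : Type*} [Group H] [Group Q] [Finite Q] (φ : H →* Q)
    (hker : φ.ker ≤ Subgroup.center H) {m : ℕ} (hm : Nat.card Q ∣ m) (a b : H) :
    (a * b) ^ m = a ^ m * b ^ m := by
  have h1 : φ.ker.index ∣ Nat.card Q := by
    rw [Subgroup.index_ker]; exact Subgroup.card_subgroup_dvd_card _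
  have hd : (Subgroup.center H).index ∣ Nat.card Q :=
    (Subgroup.index_dvd_of_le hker).trans h1
  haveI : (Subgroup.center H).FiniteIndex :=
    ⟨ne_zero_of_dvd_ne_zero Nat.card_pos.ne' hd⟩
  obtain ⟨j, rfl⟩ := hd.trans hm
  have h := congrArg Subtype.val (map_mul (MonoidHom.transferCenterPow H) a b)
  simp only [MonoidHom.transferCenterPow_apply, Subgroup.coe_mul] at h
  rw [pow_mul, pow_mul, pow_mul, h]
  refine Commute.mul_pow ?_ j
  have hmem := (MonoidHom.transferCenterPow H a).2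
  rw [MonoidHom.transferCenterPow_apply] at hmem
  exact (Subgroup.mem_center_iff.1 hmem _).symm

theorem prime_dvd_of_pow_eq_one {H : Type*} [Group H] [Finite H] {q r : ℕ}
    (h : ∀ x : H, x ^ q = 1) (hr : r.Prime) (hd : r ∣ Nat.card H) : r ∣ q := by
  haveI := Fact.mk hr
  obtain ⟨x, hx⟩ := exists_prime_orderOf_dvd_card' (G := H) r hd
  exact hx ▸ orderOf_dvd_of_pow_eq_one (h x)

variable {G : Type u} [Group G] [Finite G] (K N : Subgroup G) [hK : K.Normal] [hN : N.Normal]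
  {d : ℕ} (σ : Representation ℂ N (Fin d → ℂ)) [hσ : σ.IsIrreducible]

theorem exists_invariant_of_rep (hNK : N ≤ K) (hcop : K.index.Coprime (N.relIndex K))
    (hsolv : Group.IsSolvable (G ⧸ K))
    (hinv : ∀ g : G, conjOn g σ.character = σ.character) :
    ∃ χ : K → ℂ, Cfsg.IsIrrCharacter K χ ∧ ∃ c : ℂ, c ≠ 0 ∧
      (∀ n : N, χ ⟨(n : G), hNK n.2⟩ = c * σ.character n) ∧
      ∀ (x : G) (g : K), χ ⟨x * g * x⁻¹, hK.conj_mem g g.2 x⟩ = χ g := by
  classical
  -- the intertwiners modulo the copy of `N`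
  obtain ⟨L, hLdef⟩ :
      ∃ L, (scalarBase σ).ker.map (N.comap (intertwinersProj σ)).subtype = L := ⟨_, rfl⟩
  have hLN : ∀ l ∈ L, intertwinersProj σ l ∈ N := by
    intro l hl
    rw [← hLdef] at hl
    obtain ⟨c, -, rfl⟩ := hl
    exact c.2
  have hLmem : ∀ c : (N.comap (intertwinersProj σ) : Subgroup (intertwiners σ)),
      (c : intertwiners σ) ∈ L ↔ scalarBase σ c = 1 := by
    intro c
    rw [← hLdef]
    refine ⟨?_, fun h => ⟨c, h, rfl⟩⟩
    rintro ⟨c', hc', he⟩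
    rw [← Subtype.ext (a1 := c') (a2 := c) he]
    exact hc'
  haveI hLn : L.Normal := ⟨fun l hl γ => by
    have hc : l ∈ N.comap (intertwinersProj σ) := hLN l hl
    refine (hLmem ⟨γ * l * γ⁻¹, Subgroup.Normal.conj_mem inferInstance l hc γ⟩).2 ?_
    rw [scalarBase_conj σ γ ⟨l, hc⟩]
    exact (hLmem ⟨l, hc⟩).1 hl⟩
  let mk : intertwiners σ →* intertwiners σ ⧸ L := QuotientGroup.mk' L
  let π : intertwiners σ ⧸ L →* G ⧸ N :=
    QuotientGroup.lift L ((QuotientGroup.mk' N).comp (intertwinersProj σ)) fun l hl => by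
      rw [MonoidHom.mem_ker, MonoidHom.comp_apply, QuotientGroup.mk'_apply,
        QuotientGroup.eq_one_iff]
      exact hLN l hl
  have hπ : ∀ γ, π (mk γ) = (intertwinersProj σ γ : G ⧸ N) := fun γ => rfl
  have hker : ∀ γ, π (mk γ) = 1 ↔ intertwinersProj σ γ ∈ N := fun γ => by
    rw [hπ, QuotientGroup.eq_one_iff]
  have hsurjI := intertwinersProj_surjective σ hinv
  have hπsurj : Function.Surjective π := fun y => by
    obtain ⟨g, rfl⟩ := QuotientGroup.mk_surjective y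
    obtain ⟨γ, rfl⟩ := hsurjI g
    exact ⟨mk γ, rfl⟩
  have hcent : π.ker ≤ Subgroup.center _ := by
    intro x hx
    obtain ⟨c, rfl⟩ := QuotientGroup.mk'_surjective L x
    have hc : c ∈ N.comap (intertwinersProj σ) := (hker c).1 hx
    refine Subgroup.mem_center_iff.2 fun y => ?_
    obtain ⟨γ, rfl⟩ := QuotientGroup.mk'_surjective L y
    have h1 : γ * c * γ⁻¹ * c⁻¹ ∈ L := by
      have hc' := Subgroup.Normal.conj_mem inferInstance c hc γ
      refine (hLmem ⟨_, Subgroup.mul_mem _ hc' (Subgroup.inv_mem _ hc)⟩).2 ?_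
      rw [show (⟨γ * c * γ⁻¹ * c⁻¹, Subgroup.mul_mem _ hc' (Subgroup.inv_mem _ hc)⟩ :
          (N.comap (intertwinersProj σ) : Subgroup (intertwiners σ))) =
          ⟨γ * c * γ⁻¹, hc'⟩ * ⟨c, hc⟩⁻¹ from rfl, map_mul, map_inv, scalarBase_conj σ γ ⟨c, hc⟩,
        mul_inv_cancel]
    have h2 : mk (γ * c * γ⁻¹ * c⁻¹) = 1 := (QuotientGroup.eq_one_iff _).2 h1
    simp only [map_mul, map_inv] at h2
    exact mul_inv_eq_iff_eq_mul.1 (mul_inv_eq_one.1 h2)
  -- roots in the scalar part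
  have hscalar : ∀ z : ℂˣ, ∃ c : (N.comap (intertwinersProj σ) : Subgroup (intertwiners σ)),
      scalarBase σ c = z := by
    intro z
    let u : (Module.End ℂ (Fin d → ℂ))ˣ :=
      Units.map (algebraMap ℂ (Module.End ℂ (Fin d → ℂ))).toMonoidHom z
    have hu : (u : Module.End ℂ (Fin d → ℂ)) = (z : ℂ) • 1 := Algebra.algebraMap_eq_smul_one _
    have hγ : ((1 : G), u) ∈ intertwiners σ := by
      intro n
      show (u : Module.End ℂ (Fin d → ℂ)) * σ n =
        σ ⟨1 * n * 1⁻¹, _⟩ * (u : Module.End ℂ (Fin d → ℂ))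
      rw [hu, smul_mul_assoc, one_mul, mul_smul_comm, mul_one]
      congr 2
      exact Subtype.ext (by simp)
    have hmem : (⟨_, hγ⟩ : intertwiners σ) ∈ N.comap (intertwinersProj σ) := N.one_mem
    refine ⟨⟨_, hmem⟩, Units.ext (smul_rep_injective σ σ (1 : N) ?_)⟩
    refine ((scalarBase_spec σ ⟨_, hmem⟩).symm.trans hu).trans ?_
    rw [map_one σ]
  -- the scalar on the kernel
  let toKer : (N.comap (intertwinersProj σ) : Subgroup (intertwiners σ)) →* π.ker :=
    { toFun := fun c => ⟨mk c, (hker c).2 c.2⟩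
      map_one' := Subtype.ext (map_one mk)
      map_mul' := fun a b => Subtype.ext (map_mul mk _ _) }
  have htoKer : Function.Surjective toKer := fun x => by
    obtain ⟨c, hc⟩ := QuotientGroup.mk'_surjective L x.1
    exact ⟨⟨c, (hker c).1 (by rw [show mk c = x.1 from hc]; exact x.2)⟩, Subtype.ext hc⟩
  have htoKer' : toKer.ker ≤ (scalarBase σ).ker := fun c hc =>
    (hLmem c).1 ((QuotientGroup.eq_one_iff _).1 (congrArg Subtype.val hc :))
  obtain ⟨lam, hlam⟩ : ∃ lam : π.ker →* ℂˣ, ∀ c, lam (toKer c) = scalarBase σ c :=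
    ⟨MonoidHom.liftOfSurjective toKer htoKer ⟨scalarBase σ, htoKer'⟩,
      MonoidHom.liftOfRightInverse_comp_apply _ _ _ _⟩
  have hlaminj : Function.Injective lam := by
    rw [injective_iff_map_eq_one]
    intro x hx
    obtain ⟨c, rfl⟩ := htoKer x
    rw [hlam] at hx
    exact Subtype.ext ((QuotientGroup.eq_one_iff _).2 ((hLmem c).2 hx))
  have hroot : ∀ x ∈ π.ker, ∀ e : ℕ, 0 < e → ∃ y ∈ π.ker, y ^ e = x := by
    intro x hx e he
    obtain ⟨w, hw⟩ := IsAlgClosed.exists_pow_nat_eq (lam ⟨x, hx⟩ : ℂ) he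
    have hw0 : w ≠ 0 := fun h => by
      rw [h, zero_pow he.ne'] at hw; exact (lam ⟨x, hx⟩).ne_zero hw.symm
    obtain ⟨c, hc⟩ := hscalar (Units.mk0 w hw0)
    refine ⟨(toKer c).1, (toKer c).2, congrArg Subtype.val (hlaminj
      (a₁ := toKer c ^ e) (a₂ := ⟨x, hx⟩) ?_)⟩
    rw [map_pow, hlam, hc]
    exact Units.ext (by simpa using hw)
  -- the finite extension
  obtain ⟨q, hqdef⟩ : ∃ q, N.relIndex K = q := ⟨_, rfl⟩
  obtain ⟨m, hmdef⟩ : ∃ m, N.index = m := ⟨_, rfl⟩
  have hmk : m = q * K.index := by rw [← hmdef, ← hqdef, Subgroup.relIndex_mul_index hNK]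
  have hm0 : 0 < m := hmdef ▸ Nat.pos_of_ne_zero Subgroup.index_ne_zero_of_finite
  have hq0 : 0 < q := Nat.pos_of_ne_zero fun h => hm0.ne' (by rw [hmk, h, zero_mul])
  have hcardQ : Nat.card (G ⧸ N) ∣ m := hmdef ▸ dvd_of_eq rfl
  obtain ⟨T, hTdef⟩ : ∃ T : Subgroup (intertwiners σ ⧸ L), ∀ x, x ∈ T ↔ x ^ m = 1 :=
    ⟨{ carrier := {x | x ^ m = 1}
       one_mem' := one_pow m
       mul_mem' := fun {a b} ha hb => by
         simp only [Set.mem_ofPred_eq] at ha hb ⊢
         rw [mul_pow_of_ker_le_center π hcent hcardQ, ha, hb, one_mul]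
       inv_mem' := fun {a} ha => by
         simp only [Set.mem_ofPred_eq] at ha ⊢
         rw [inv_pow, ha, inv_one] }, fun x => Iff.rfl⟩
  obtain ⟨Kb, hKb⟩ : ∃ Kb, K.map (QuotientGroup.mk' N) = Kb := ⟨_, rfl⟩
  haveI : Kb.Normal := hKb ▸ hK.map _ (QuotientGroup.mk'_surjective N)
  have hKbcard : Nat.card Kb = q := by
    rw [← hKb, ← hqdef, ← Subgroup.relIndex_ker, QuotientGroup.ker_mk']
  have hKbidx : Kb.index = K.index := by
    rw [← hKb, Subgroup.index_map_eq _ (QuotientGroup.mk'_surjective N)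
      (by rwa [QuotientGroup.ker_mk'])]
  have hKbmem : ∀ g : G, (g : G ⧸ N) ∈ Kb ↔ g ∈ K := fun g => by
    rw [← hKb]
    refine ⟨?_, fun h => ⟨g, h, rfl⟩⟩
    rintro ⟨k, hk, he⟩
    have h1 : k⁻¹ * g ∈ N := QuotientGroup.eq.1 he
    simpa using K.mul_mem hk (hNK h1)
  have hmulq : ∀ a b, π a ∈ Kb → π b ∈ Kb → (a * b) ^ q = a ^ q * b ^ q := by
    intro a b ha hb
    have hk : ((π.comp (Kb.comap π).subtype).codRestrict Kb fun x => x.2).ker ≤
        Subgroup.center (Kb.comap π) := by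
      intro x hx
      refine Subgroup.mem_center_iff.2 fun y => Subtype.ext ?_
      exact Subgroup.mem_center_iff.1 (hcent (congrArg Subtype.val hx : π x.1 = 1)) y.1
    exact congrArg Subtype.val (mul_pow_of_ker_le_center _ hk (dvd_of_eq hKbcard)
      (⟨a, ha⟩ : Kb.comap π) ⟨b, hb⟩ :)
  obtain ⟨U, hUdef⟩ : ∃ U : Subgroup (intertwiners σ ⧸ L), ∀ x, x ∈ U ↔ π x ∈ Kb ∧ x ^ q = 1 :=
    ⟨{ carrier := {x | π x ∈ Kb ∧ x ^ q = 1}
       one_mem' := ⟨by simp, one_pow q⟩
       mul_mem' := fun {a b} ha hb => by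
         simp only [Set.mem_ofPred_eq] at ha hb ⊢
         exact ⟨by rw [map_mul]; exact Kb.mul_mem ha.1 hb.1,
           by rw [hmulq a b ha.1 hb.1, ha.2, hb.2, one_mul]⟩
       inv_mem' := fun {a} ha => by
         simp only [Set.mem_ofPred_eq] at ha ⊢
         exact ⟨by rw [map_inv]; exact Kb.inv_mem ha.1, by rw [inv_pow, ha.2, inv_one]⟩ },
      fun x => Iff.rfl⟩
  have hUT : U ≤ T := fun x hx => by
    rw [hTdef, hmk, pow_mul, ((hUdef x).1 hx).2, one_pow]
  have hTsurj : ∀ y : G ⧸ N, ∃ x ∈ T, π x = y := by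
    intro y
    obtain ⟨x, rfl⟩ := hπsurj y
    have hxm : x ^ m ∈ π.ker := by
      rw [MonoidHom.mem_ker, map_pow, ← hmdef, Subgroup.index_eq_card]; exact pow_card_eq_one'
    obtain ⟨v, hv, hv'⟩ := hroot _ hxm m hm0
    refine ⟨x * v⁻¹, ?_, by rw [map_mul, map_inv, MonoidHom.mem_ker.1 hv, inv_one, mul_one]⟩
    rw [hTdef, mul_pow_of_ker_le_center π hcent hcardQ, inv_pow, hv', mul_inv_cancel]
  have hUsurj : ∀ g ∈ K, ∃ x ∈ U, π x = (g : G ⧸ N) := by
    intro g hg
    obtain ⟨x, hx⟩ := hπsurj (g : G ⧸ N)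
    have hxK : π x ∈ Kb := hx ▸ (hKbmem g).2 hg
    have hxq : x ^ q ∈ π.ker := by
      rw [MonoidHom.mem_ker, map_pow]
      exact congrArg Subtype.val (orderOf_dvd_iff_pow_eq_one.1
        (hKbcard ▸ orderOf_dvd_natCard (⟨π x, hxK⟩ : Kb)) :)
    obtain ⟨v, hv, hv'⟩ := hroot _ hxq q hq0
    have hvK : π v⁻¹ ∈ Kb := by rw [map_inv, MonoidHom.mem_ker.1 hv, inv_one]; exact Kb.one_mem
    refine ⟨x * v⁻¹, ?_, by rw [map_mul, map_inv, MonoidHom.mem_ker.1 hv, inv_one, mul_one, hx]⟩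
    rw [hUdef]
    exact ⟨by rw [map_mul]; exact Kb.mul_mem hxK hvK,
      by rw [hmulq _ _ hxK hvK, inv_pow, hv', mul_inv_cancel]⟩
  haveI : Finite T := by
    haveI hfk : Finite (π.comp T.subtype).ker := by
      haveI : NeZero m := ⟨hm0.ne'⟩
      refine Finite.of_injective (fun x : (π.comp T.subtype).ker =>
        (⟨lam ⟨x.1.1, x.2⟩, (mem_rootsOfUnity _ _).2 ?_⟩ : rootsOfUnity m ℂ)) fun x y h => ?_
      · rw [← map_pow, show (⟨x.1.1, x.2⟩ : π.ker) ^ m = 1 from
          Subtype.ext ((hTdef _).1 x.1.2), map_one]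
      · exact Subtype.ext (Subtype.ext (congrArg Subtype.val (hlaminj (congrArg Subtype.val h)) :))
    exact (MonoidHom.finite_iff_finite_ker_range (π.comp T.subtype)).2 ⟨hfk, inferInstance⟩
  haveI := Fintype.ofFinite T
  -- the coprime layers
  obtain ⟨A, hAdef⟩ : ∃ A, U.subgroupOf T = A := ⟨_, rfl⟩
  have hAmem : ∀ x : T, x ∈ A ↔ π x.1 ∈ Kb ∧ x.1 ^ q = 1 := fun x => by
    rw [← hAdef, Subgroup.mem_subgroupOf, hUdef]
  haveI hAn : A.Normal := ⟨fun a ha g => by
    rw [hAmem] at ha ⊢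
    refine ⟨?_, ?_⟩
    · simp only [Subgroup.coe_mul, Subgroup.coe_inv, map_mul, map_inv]
      exact Subgroup.Normal.conj_mem inferInstance _ ha.1 _
    · simp only [Subgroup.coe_mul, Subgroup.coe_inv, conj_pow, ha.2, mul_one, mul_inv_cancel]⟩
  have hAq : ∀ x : A, x ^ q = 1 := fun x => Subtype.ext (Subtype.ext ((hAmem x.1).1 x.2).2)
  have hkA : ∀ x : T, x ^ K.index ∈ A := fun x => by
    rw [hAmem]
    refine ⟨?_, ?_⟩
    · rw [Subgroup.coe_pow, map_pow, ← hKbidx]; exact Subgroup.pow_index_mem Kb _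
    · rw [Subgroup.coe_pow, ← pow_mul, mul_comm, ← hmk]; exact (hTdef _).1 x.2
  have hkquot : ∀ y : T ⧸ A, y ^ K.index = 1 := fun y => by
    obtain ⟨x, rfl⟩ := QuotientGroup.mk_surjective y
    rw [← QuotientGroup.mk_pow, QuotientGroup.eq_one_iff]; exact hkA x
  have hcopA : Nat.Coprime (Nat.card A) A.index := by
    refine Nat.coprime_of_dvd fun r hr h1 h2 => ?_
    refine hr.not_dvd_one (hcop.gcd_eq_one ▸ Nat.dvd_gcd ?_ ?_)
    · exact prime_dvd_of_pow_eq_one hkquot hr (Subgroup.index_eq_card A ▸ h2)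
    · exact hqdef ▸ prime_dvd_of_pow_eq_one hAq hr h1
  obtain ⟨S, hS⟩ := Subgroup.exists_right_complement'_of_coprime hcopA
  have hScard : Nat.card S = A.index := by rw [hS.symm.index_eq_card]
  have hSone : ∀ s ∈ S, s ∈ A → s = 1 := fun s hs ha =>
    Subgroup.disjoint_def.1 hS.disjoint ha hs
  have hSsol : Group.IsSolvable S := by
    let f : S →* G ⧸ K := (QuotientGroup.map N K (MonoidHom.id G) hNK).comp
      ((π.comp T.subtype).comp S.subtype)
    have hab : ∀ a ∈ f.ker, ∀ b : S, a * b = b * a := by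
      intro a ha b
      obtain ⟨g, hg⟩ := QuotientGroup.mk_surjective (π a.1.1)
      have hgK : g ∈ K := by
        have h1 : (QuotientGroup.map N K (MonoidHom.id G) hNK) (π a.1.1) = 1 := ha
        rw [← hg] at h1
        exact (QuotientGroup.eq_one_iff g).1 h1
      have haK : π a.1.1 ∈ Kb := hg ▸ (hKbmem g).2 hgK
      have h1 : (π a.1.1) ^ K.index = 1 := by
        rw [← map_pow, ← Subgroup.coe_pow, hSone _ (S.pow_mem a.2 _) (hkA _)]
        exact map_one π
      have h2 : (π a.1.1) ^ q = 1 := congrArg Subtype.val (orderOf_dvd_iff_pow_eq_one.1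
        (hKbcard ▸ orderOf_dvd_natCard (⟨π a.1.1, haK⟩ : Kb)) :)
      have h3 : π a.1.1 = 1 := orderOf_eq_one_iff.1 (Nat.eq_one_of_dvd_coprimes
        (hqdef ▸ hcop) (orderOf_dvd_of_pow_eq_one h1) (orderOf_dvd_of_pow_eq_one h2))
      exact Subtype.ext (Subtype.ext ((Subgroup.mem_center_iff.1 (hcent h3) b.1.1).symm))
    haveI := hsolv
    haveI : Group.IsSolvable f.ker :=
      Group.isSolvable_of_comm fun a b => Subtype.ext (hab a a.2 b.1)
    exact Group.isSolvable_of_ker_le_range f.ker.subtype f (by rw [Subgroup.range_subtype])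
  -- the central character
  obtain ⟨Z, hZdef⟩ : ∃ Z, A ⊓ (π.comp T.subtype).ker = Z := ⟨_, rfl⟩
  have hZA : Z ≤ A := hZdef ▸ inf_le_left
  have hZker : ∀ z : Z, π z.1.1 = 1 := fun z =>
    (hZdef ▸ z.2 : z.1 ∈ A ⊓ (π.comp T.subtype).ker).2
  have hZcent : ∀ z : Z, ∀ x : T, x * z.1 = z.1 * x := fun z x =>
    Subtype.ext (Subgroup.mem_center_iff.1 (hcent (hZker z)) x.1)
  let ν : Z →* ℂˣ := (lam.comp
    (((T.subtype).comp Z.subtype).codRestrict π.ker fun z => hZker z))⁻¹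
  haveI := Fintype.ofFinite A
  haveI := Fintype.ofFinite Z
  haveI := Fintype.ofFinite G
  have hνirr : Cfsg.IsIrrCharacter Z (fun z => (ν z : ℂ)) := by
    have := IsIrrCharacter.mul_hom (isIrrCharacter_one (G := Z)) ν
    simpa [funext_iff, Pi.mul_def] using this
  have hZconj : ∀ (x : T) (z : T), z ∈ Z → x * z * x⁻¹ = z := fun x z hz => by
    rw [hZcent ⟨z, hz⟩ x, mul_inv_cancel_right]
  obtain ⟨ξ, hξν, hξS⟩ := CfsgLib.GlaubermanCorr.exists_invariant_over (S := S) (K := A) hZA hSsol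
    (fun s _ a ha => hAn.conj_mem a ha s) (fun g _ z hz => (hZconj g z hz).symm ▸ hz)
    (fun s _ z hz => (hZconj s z hz).symm ▸ hz) (hScard ▸ hcopA) ⟨_, hνirr⟩
    (fun s _ z z' hz' => congrArg (fun w : Z => (ν w : ℂ))
      (Subtype.ext (hz'.trans (hZconj s z z.2))))
  have hξT : ∀ (x : T) (a : A),
      (ξ : A → ℂ) ⟨x * a * x⁻¹, hAn.conj_mem a a.2 x⟩ = (ξ : A → ℂ) a := by
    intro x a
    obtain ⟨⟨a₁, s⟩, rfl⟩ := hS.2 x
    refine Eq.trans ?_ (hξS s.1 s.2 a ⟨s * a * (s : T)⁻¹, hAn.conj_mem a a.2 s⟩ rfl)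
    refine Eq.trans (congrArg (ξ : A → ℂ) (Subtype.ext ?_))
      (IsIrrCharacter.isClassFunction ξ.2 ⟨s * a * (s : T)⁻¹, hAn.conj_mem a a.2 s⟩ a₁)
    simp only [Subgroup.coe_mul, Subgroup.coe_inv]
    group
  have hξZ : ∀ (z : Z), (ξ : A → ℂ) ⟨z.1, hZA z.2⟩ = (ξ : A → ℂ) 1 * (ν z : ℂ) := by
    haveI : (Z.subgroupOf A).Normal := ⟨fun z hz a => by
      rw [Subgroup.mem_subgroupOf] at hz ⊢
      rw [Subgroup.coe_mul, Subgroup.coe_mul, Subgroup.coe_inv, hZconj a.1 _ hz]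
      exact hz⟩
    haveI := Fintype.ofFinite (Z.subgroupOf A)
    have hν' := isIrrCharacter_pullBack (T := A) hZA hνirr
    have hne : Cfsg.classInner (fun w : Z.subgroupOf A => (ξ : A → ℂ) w)
        (pullBack (fun z => (ν z : ℂ))) ≠ 0 := fun h0 => hξν (by
      rw [← classInner_pullBack hZA]; exact h0)
    have hr := restrict_eq_smul_sum ξ.2 hν' hne
    have horb : conjOrbit (G := A) (pullBack (T := A) fun z : Z => (ν z : ℂ)) =
        {pullBack fun z => (ν z : ℂ)} := by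
      refine Finset.eq_singleton_iff_unique_mem.2 ⟨self_mem_conjOrbit _, fun f hf => ?_⟩
      obtain ⟨g, rfl⟩ := mem_conjOrbit.1 hf
      funext w
      exact congrArg (fun z : Z => (ν z : ℂ))
        (Subtype.ext (hZconj g.1 _ (Subgroup.mem_subgroupOf.1 w.2)))
    rw [horb, Finset.sum_singleton] at hr
    intro z
    have h1 := congrFun hr ⟨⟨z.1, hZA z.2⟩, z.2⟩
    have h2 := congrFun hr 1
    simp only [OneMemClass.coe_one, Pi.smul_apply, smul_eq_mul] at h1 h2
    rw [h1, h2]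
    simp only [pullBack, OneMemClass.coe_one]
    rw [show (⟨(1 : T), (Subgroup.mem_subgroupOf.1 (1 : Z.subgroupOf A).2)⟩ : Z) = 1 from rfl,
      map_one, Units.val_one, mul_one]
  -- the finite group over `K`
  obtain ⟨P, hPmem⟩ : ∃ P : Subgroup (intertwiners σ),
      ∀ γ, γ ∈ P ↔ intertwinersProj σ γ ∈ K ∧ mk γ ∈ U :=
    ⟨K.comap (intertwinersProj σ) ⊓ U.comap mk, fun γ => Iff.rfl⟩
  have hPK : ∀ p : P, intertwinersProj σ p.1 ∈ K := fun p => ((hPmem _).1 p.2).1
  have hPU : ∀ p : P, mk p.1 ∈ U := fun p => ((hPmem _).1 p.2).2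
  have hLP : L ≤ P := fun l hl => (hPmem l).2 ⟨hNK (hLN l hl),
    show mk l ∈ U by rw [show mk l = 1 from (QuotientGroup.eq_one_iff l).2 hl]; exact U.one_mem⟩
  let cls : P →* A :=
    { toFun := fun p => ⟨⟨mk p.1, hUT (hPU p)⟩, hAdef ▸ Subgroup.mem_subgroupOf.2 (hPU p)⟩
      map_one' := Subtype.ext (Subtype.ext (map_one mk))
      map_mul' := fun a b => Subtype.ext (Subtype.ext (map_mul mk _ _)) }
  have hclsker : cls.ker = L.subgroupOf P := Subgroup.ext fun p => by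
    rw [MonoidHom.mem_ker, Subgroup.mem_subgroupOf, ← QuotientGroup.eq_one_iff, Subtype.ext_iff,
      Subtype.ext_iff]
    rfl
  haveI : Finite P := by
    haveI : Finite cls.ker := by
      rw [hclsker]
      refine Finite.of_injective
        (fun p : L.subgroupOf P => (⟨intertwinersProj σ p.1.1, hLN _ p.2⟩ : N)) fun p p' h => ?_
      have hc : p.1.1 * p'.1.1⁻¹ ∈ L := L.mul_mem p.2 (L.inv_mem p'.2)
      have hproj : intertwinersProj σ (p.1.1 * p'.1.1⁻¹) = 1 := by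
        rw [map_mul, map_inv, show intertwinersProj σ p.1.1 = intertwinersProj σ p'.1.1 from
          congrArg Subtype.val h, mul_inv_cancel]
      have hsp := scalarBase_spec σ ⟨_, (hLN _ hc : _ ∈ N.comap (intertwinersProj σ))⟩
      rw [(hLmem ⟨_, (hLN _ hc : _ ∈ N.comap (intertwinersProj σ))⟩).1 hc, Units.val_one,
        one_smul] at hsp
      have h1 : p.1.1 * p'.1.1⁻¹ = 1 := Subtype.ext (Prod.ext hproj (Units.ext
        (hsp.trans ((congrArg σ (Subtype.ext hproj)).trans (map_one σ)))))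
      exact Subtype.ext (Subtype.ext (mul_inv_eq_one.1 h1))
    exact (MonoidHom.finite_iff_finite_ker_range cls).2 ⟨this, inferInstance⟩
  haveI := Fintype.ofFinite P
  have hclssurj : Function.Surjective cls := by
    rintro ⟨⟨x, hxT⟩, hxA⟩
    obtain ⟨γ, rfl⟩ := QuotientGroup.mk'_surjective L x
    have hxU : mk γ ∈ U := (hAdef ▸ hxA : (⟨mk γ, hxT⟩ : T) ∈ U.subgroupOf T)
    have hγK : intertwinersProj σ γ ∈ K := (hKbmem _).1 ((hUdef _).1 hxU).1
    exact ⟨⟨γ, (hPmem γ).2 ⟨hγK, hxU⟩⟩, rfl⟩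
  -- the natural representation and its product with `ξ`
  let R : Representation ℂ P (Fin d → ℂ) :=
    (Units.coeHom _).comp ((MonoidHom.snd G _).comp ((intertwiners σ).subtype.comp P.subtype))
  have hRL : ∀ l : L.subgroupOf P,
      R (l : P) = σ ⟨intertwinersProj σ (l : P).1, hLN _ l.2⟩ := by
    intro l
    have hsp := scalarBase_spec σ ⟨_, (hLN _ l.2 : _ ∈ N.comap (intertwinersProj σ))⟩
    rw [(hLmem ⟨_, (hLN _ l.2 : _ ∈ N.comap (intertwinersProj σ))⟩).1 l.2, Units.val_one,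
      one_smul] at hsp
    exact hsp
  let ι : L.subgroupOf P →* N :=
    { toFun := fun l => ⟨intertwinersProj σ (l : P).1, hLN _ l.2⟩
      map_one' := Subtype.ext (map_one _)
      map_mul' := fun a b => Subtype.ext (map_mul _ _ _) }
  have hι : Function.Surjective ι := by
    intro n
    let u : (Module.End ℂ (Fin d → ℂ))ˣ := MonoidHom.toHomUnits σ n
    have hγ : ((n : G), u) ∈ intertwiners σ := by
      intro a
      show σ n * σ a = σ ⟨(n : G) * a * (n : G)⁻¹, _⟩ * σ n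
      rw [← map_mul, ← map_mul]
      congr 1
      exact Subtype.ext (by simp [mul_assoc])
    have hmem : (⟨_, hγ⟩ : intertwiners σ) ∈ N.comap (intertwinersProj σ) := n.2
    have hl : (⟨_, hγ⟩ : intertwiners σ) ∈ L := (hLmem ⟨_, hmem⟩).2 (Units.ext
      (smul_rep_injective σ σ n (by
        rw [Units.val_one, one_smul]
        exact (scalarBase_spec σ ⟨_, hmem⟩).symm)))
    exact ⟨⟨⟨_, hLP hl⟩, hl⟩, rfl⟩
  let RL : Representation ℂ (L.subgroupOf P) (Fin d → ℂ) := R.comp (L.subgroupOf P).subtype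
  haveI : Representation.IsIrreducible RL := by
    rw [show RL = σ.comp ι from MonoidHom.ext hRL]
    rw [CfsgLib.Char.isIrreducible_iff_isIrrCharacter]
    exact IsIrrCharacter.comp_surjective (isIrrCharacter_character σ) ι hι
  haveI : (L.subgroupOf P).Normal := hclsker ▸ MonoidHom.normal_ker cls
  haveI := Fintype.ofFinite (L.subgroupOf P)
  have hRirr : R.IsIrreducible :=
    isIrreducible_of_restrict R RL fun _ => rfl
  have hprod : Cfsg.IsIrrCharacter P ((fun p => (ξ : A → ℂ) (cls p)) * R.character) :=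
    ((gallagher_one (N := L.subgroupOf P) (isIrrCharacter_character R)
      (isIrrCharacter_character RL)).mapsTo
      ⟨IsIrrCharacter.comp_surjective ξ.2 cls hclssurj, fun l hl => by
        rw [show cls l = 1 from (hclsker ▸ hl : l ∈ cls.ker), map_one]⟩).1
  -- descend to `K`
  let prK : P →* K :=
    ((intertwinersProj σ).comp P.subtype).codRestrict K fun p => hPK p
  have hlift : ∀ (x : G) (γ₀ : intertwiners σ ⧸ L), π γ₀ = (x : G ⧸ N) →
      ∃ γ : intertwiners σ, intertwinersProj σ γ = x ∧ mk γ = γ₀ := by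
    intro x γ₀ h
    obtain ⟨γ, rfl⟩ := QuotientGroup.mk'_surjective L γ₀
    obtain ⟨l, hl⟩ := hι ⟨(intertwinersProj σ γ)⁻¹ * x, QuotientGroup.eq.1 h⟩
    refine ⟨γ * (l : P).1, ?_, ?_⟩
    · rw [map_mul, show intertwinersProj σ (l : P).1 = (intertwinersProj σ γ)⁻¹ * x from
        congrArg Subtype.val hl, mul_inv_cancel_left]
    · rw [map_mul, show mk (l : P).1 = 1 from (QuotientGroup.eq_one_iff _).2 l.2, mul_one]
  have hprK : Function.Surjective prK := by
    rintro ⟨g, hg⟩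
    obtain ⟨x, hxU, hx⟩ := hUsurj g hg
    obtain ⟨γ, hγ, hγ'⟩ := hlift g x hx
    exact ⟨⟨γ, (hPmem γ).2 ⟨show _ ∈ K from hγ.symm ▸ hg, show mk γ ∈ U from hγ'.symm ▸ hxU⟩⟩,
      Subtype.ext hγ⟩
  have hd : (d : ℂ) ≠ 0 := by
    have := finrank_pos_of_isIrreducible σ
    rw [Module.finrank_fin_fun] at this
    exact Nat.cast_ne_zero.2 this.ne'
  have hkerP : ∀ p ∈ prK.ker, (ξ : A → ℂ) (cls p) * R.character p =
      (ξ : A → ℂ) (cls 1) * R.character 1 := by
    intro p hp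
    have hp1 : intertwinersProj σ p.1 = 1 := congrArg Subtype.val hp
    have hc : p.1 ∈ N.comap (intertwinersProj σ) := by
      rw [Subgroup.mem_comap, hp1]; exact N.one_mem
    have hR : R p = (scalarBase σ ⟨p.1, hc⟩ : ℂ) • (1 : Module.End ℂ (Fin d → ℂ)) :=
      (scalarBase_spec σ ⟨p.1, hc⟩).trans
        (congrArg ((scalarBase σ ⟨p.1, hc⟩ : ℂ) • ·)
          ((congrArg σ (show (⟨_, _⟩ : N) = 1 from Subtype.ext hp1)).trans (map_one σ)))
    have hz : (cls p).1 ∈ Z := hZdef ▸ ⟨(cls p).2, (hker p.1).2 hc⟩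
    have hξ : (ξ : A → ℂ) (cls p) = (ξ : A → ℂ) 1 * ((scalarBase σ ⟨p.1, hc⟩)⁻¹ : ℂˣ) := by
      have := hξZ ⟨_, hz⟩
      rw [show (⟨(cls p).1, hZA hz⟩ : A) = cls p from rfl] at this
      rw [this]
      congr 2
      show (lam ⟨mk p.1, _⟩)⁻¹ = _
      rw [← hlam ⟨p.1, hc⟩]
      rfl
    rw [map_one, hξ, R.char_one]
    show _ * LinearMap.trace ℂ _ (R p) = _
    rw [hR, map_smul, LinearMap.trace_one, smul_eq_mul, mul_assoc, Units.inv_mul_cancel_left]
  obtain ⟨φ, hφ⟩ := CfsgLib.Block.exists_quotient_irr prK.ker ⟨_, hprod⟩ hkerP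
  let e := QuotientGroup.quotientKerEquivOfSurjective prK hprK
  let χ : K → ℂ := fun g => (φ : P ⧸ prK.ker → ℂ) (e.symm g)
  have hχ : ∀ p : P, χ (prK p) = (ξ : A → ℂ) (cls p) * R.character p := fun p => by
    refine Eq.trans (congrArg (φ : P ⧸ prK.ker → ℂ) ?_) (hφ p).symm
    rw [MulEquiv.symm_apply_eq]
    rfl
  refine ⟨χ, IsIrrCharacter.comp_surjective φ.2 e.symm.toMonoidHom e.symm.surjective,
    (ξ : A → ℂ) 1, IsIrrCharacter.apply_one_ne_zero ξ.2, fun n => ?_, fun x g => ?_⟩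
  · obtain ⟨l, hl⟩ := hι n
    rw [show (⟨(n : G), hNK n.2⟩ : K) = prK l from Subtype.ext (congrArg Subtype.val hl).symm, hχ,
      show cls l = 1 from MonoidHom.mem_ker.1 (by rw [hclsker]; exact l.2)]
    congr 1
    show LinearMap.trace ℂ _ (R l) = LinearMap.trace ℂ _ (σ n)
    rw [hRL, ← hl]
    rfl
  · obtain ⟨p, rfl⟩ := hprK g
    obtain ⟨t, htT, ht⟩ := hTsurj (x : G ⧸ N)
    obtain ⟨γ, hγx, hγt⟩ := hlift x t ht
    have hp' : γ * p.1 * γ⁻¹ ∈ P := (hPmem _).2 ⟨by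
      show intertwinersProj σ _ ∈ K
      simp only [map_mul, map_inv, hγx]
      exact hK.conj_mem _ (hPK p) x, by
      show mk _ ∈ U
      simp only [map_mul, map_inv, hγt]
      have := hAn.conj_mem ⟨mk p.1, hUT (hPU p)⟩ (cls p).2 ⟨t, htT⟩
      rw [← hAdef] at this
      exact this⟩
    have he : (⟨x * prK p * x⁻¹, hK.conj_mem _ (prK p).2 x⟩ : K) = prK ⟨_, hp'⟩ := Subtype.ext (by
      show x * intertwinersProj σ p.1 * x⁻¹ = intertwinersProj σ (γ * p.1 * γ⁻¹)
      simp only [map_mul, map_inv, hγx])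
    rw [he, hχ, hχ]
    congr 1
    · rw [← hξT ⟨t, htT⟩ (cls p)]
      refine congrArg (ξ : A → ℂ) (Subtype.ext (Subtype.ext ?_))
      show mk _ = t * mk p.1 * t⁻¹
      simp only [map_mul, map_inv, hγt]
    · show LinearMap.trace ℂ _ ((γ.1.2 : Module.End ℂ (Fin d → ℂ)) * R p *
        ((γ.1.2⁻¹ : (Module.End ℂ (Fin d → ℂ))ˣ) : Module.End ℂ (Fin d → ℂ))) =
          LinearMap.trace ℂ _ (R p)
      rw [LinearMap.trace_mul_cycle, Units.inv_mul, one_mul]

end CfsgLib.Char.Layer
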