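import Cfsg.Agent.Char.Linear
import Cfsg.Agent.Char.Inflation
import Cfsg.Agent.Char.Monomial
import Cfsg.Agent.BlocksB.ClassSum
import Cfsg.Agent.Frobenius.Fpf
import Cfsg.Agent.Solvable.Glauberman
import Mathlib.GroupTheory.SchurZassenhaus

/-!
# Groups whose characters are multiplicative on elements of coprime prime power order
-/

set_option autoImplicit false
set_option linter.style.haveILetI false

namespace CfsgLib.Char.MultCoprime

open Subgroup Cfsg
open scoped commutatorElement ComplexConjugate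

universe u

variable {G : Type u} [Group G] [Finite G]

/-- Two nonidentity elements of prime power order for different primes. -/
def Pair (x y : G) : Prop :=
  x ≠ 1 ∧ y ≠ 1 ∧ ∃ p q a b : ℕ, p.Prime ∧ q.Prime ∧ p ≠ q ∧ orderOf x = p ^ a ∧ orderOf y = q ^ b

/-- Nonlinear characters vanish on one factor and on the product. -/
theorem nonlinear_zero (h : ∀ (x y : G) (χ : IrrCharacter G), Pair x y →
      (χ : G → ℂ) (x * y) = (χ : G → ℂ) x * (χ : G → ℂ) y) {χ : G → ℂ}
    (hχ : IsIrrCharacter G χ) (h1 : χ 1 ≠ 1) {x y : G} (hxy : Pair x y) : χ (x * y) = 0 := by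
  haveI := Fintype.ofFinite G
  have hterm : ∀ g : G, χ (g * x * g⁻¹ * y) = χ x * χ y := by
    intro g
    have ho : orderOf (g * x * g⁻¹) = orderOf x := (MulAut.conj g).orderOf_eq x
    obtain ⟨hx, hy, p, q, a, b, hp, hq, hpq, hoa, hob⟩ := hxy
    refine (h (g * x * g⁻¹) y ⟨χ, hχ⟩ ⟨fun e => hx (conj_eq_one_iff.1 e), hy, p, q, a, b, hp, hq,
      hpq, ho.trans hoa, hob⟩).trans ?_
    show χ (g * x * g⁻¹) * χ y = χ x * χ y
    rw [IsIrrCharacter.isClassFunction hχ x g]
  have hs := BlocksB.sum_conj_mul hχ x y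
  simp only [hterm, Finset.sum_const, Finset.card_univ, nsmul_eq_mul, ← Nat.card_eq_fintype_card] at hs
  have h2 : (Nat.card G : ℂ) * (χ x * χ y) * (χ 1 - 1) = 0 := by linear_combination hs
  rcases mul_eq_zero.1 h2 with h3 | h3
  · rcases mul_eq_zero.1 h3 with h4 | h4
    · exact absurd h4 (Nat.cast_ne_zero.2 Nat.card_pos.ne')
    · exact (h x y ⟨χ, hχ⟩ hxy).trans h4
  · exact absurd (sub_eq_zero.1 h3) h1

/-- The class of such a product is a coset of the derived group. -/
theorem isConj_of_mem (h : ∀ (x y : G) (χ : IrrCharacter G), Pair x y →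
      (χ : G → ℂ) (x * y) = (χ : G → ℂ) x * (χ : G → ℂ) y)
    {x y : G} (hxy : Pair x y) {c : G} (hc : c ∈ commutator G) : IsConj (x * y) (x * y * c) := by
  rw [isConj_iff_irr_eq]
  intro χ hχ
  by_cases h1 : χ 1 = 1
  · obtain ⟨l, rfl⟩ := IsCharacter.exists_hom (IsIrrCharacter.isCharacter hχ) h1
    have hl : l c = 1 := MonoidHom.mem_ker.1 (Abelianization.commutator_subset_ker l hc)
    simp [hl]
  have h0 := nonlinear_zero h hχ h1 hxy
  rw [h0]
  -- the centraliser of `x * y` is as small as possible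
  classical
  by_contra hne
  set w := x * y with hw
  have hs : ∀ u : G, (Nat.card (centralizer ({u} : Set G)) : ℝ) = ∑ θ ∈ irrFinset G, ‖θ u‖ ^ 2 := by
    intro u
    have := sum_irr_mul_conj u u
    rw [if_pos (IsConj.refl u)] at this
    simp only [Complex.mul_conj'] at this
    exact_mod_cast this.symm
  have hlt : Nat.card (centralizer ({w} : Set G)) < Nat.card (centralizer ({w * c} : Set G)) := by
    have : (Nat.card (centralizer ({w} : Set G)) : ℝ) < Nat.card (centralizer ({w * c} : Set G)) := by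
      rw [hs, hs]
      refine Finset.sum_lt_sum (fun θ hθ => ?_) ⟨χ, mem_irrFinset.2 hχ, ?_⟩
      · by_cases hθ1 : θ 1 = 1
        · obtain ⟨l, rfl⟩ := IsCharacter.exists_hom
            (IsIrrCharacter.isCharacter (mem_irrFinset.1 hθ)) hθ1
          have hl : l c = 1 := MonoidHom.mem_ker.1 (Abelianization.commutator_subset_ker l hc)
          simp [hl]
        · rw [hw, nonlinear_zero h (mem_irrFinset.1 hθ) hθ1 hxy, norm_zero]
          simp [sq_nonneg]
      · rw [h0, norm_zero, zero_pow two_ne_zero]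
        exact pow_pos (norm_pos_iff.2 (Ne.symm hne)) 2
    exact_mod_cast this
  -- but the class of `w` has at most as many elements as the derived group
  have hlow : (commutator G).index ≤ Nat.card (centralizer ({w} : Set G)) := by
    have h1 := card_conj_class_mul_card_centralizer w
    have h2 : Nat.card {z : G // IsConj w z} ≤ Nat.card (commutator G) := by
      refine Nat.card_le_card_of_injective (fun z => ⟨w⁻¹ * z, ?_⟩) fun a b hab => ?_
      · obtain ⟨g, hg⟩ := isConj_iff.1 z.2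
        rw [← hg, show w⁻¹ * (g * w * g⁻¹) = ⁅w⁻¹, g⁆ by rw [commutatorElement_def]; group]
        exact commutator_mem_commutator (mem_top _) (mem_top _)
      · exact Subtype.ext (mul_left_cancel (congrArg Subtype.val hab))
    have h3 := (commutator G).card_mul_index
    rw [← h1] at h3
    by_contra hlt'
    push Not at hlt'
    have : Nat.card {z : G // IsConj w z} * Nat.card (centralizer ({w} : Set G)) <
        Nat.card (commutator G) * (commutator G).index :=
      Nat.mul_lt_mul_of_le_of_lt h2 hlt' Nat.card_pos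
    omega
  -- and the sum over linear characters already gives that many
  have hup : Nat.card (centralizer ({w} : Set G)) ≤ (commutator G).index := by
    have h1 : (Nat.card (centralizer ({w} : Set G)) : ℝ) ≤ (commutator G).index := by
      rw [hs, ← Finset.sum_filter_add_sum_filter_not _ (fun θ : G → ℂ => θ 1 = 1),
        Finset.sum_eq_zero (s := (irrFinset G).filter fun θ : G → ℂ => ¬ θ 1 = 1) fun θ hθ => by
          rw [Finset.mem_filter] at hθ
          rw [hw, nonlinear_zero h (mem_irrFinset.1 hθ.1) hθ.2 hxy]; simp, add_zero,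
        Finset.sum_congr rfl (g := fun _ => (1 : ℝ)) fun θ hθ => by
          rw [Finset.mem_filter] at hθ
          obtain ⟨l, rfl⟩ := IsCharacter.exists_hom
            (IsIrrCharacter.isCharacter (mem_irrFinset.1 hθ.1)) hθ.2
          show ‖(l w : ℂ)‖ ^ 2 = 1
          rw [norm_hom_eq_one, one_pow],
        Finset.sum_const, nsmul_eq_mul, mul_one, ← card_linear (G := G)]
      refine le_of_eq ?_
      congr 1
      rw [← Nat.card_eq_finsetCard]
      exact Nat.card_congr
        { toFun := fun θ => ⟨⟨θ.1, mem_irrFinset.1 (Finset.mem_filter.1 θ.2).1⟩,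
            (Finset.mem_filter.1 θ.2).2⟩
          invFun := fun θ => ⟨θ.1.1, Finset.mem_filter.2 ⟨mem_irrFinset.2 θ.1.2, θ.2⟩⟩
          left_inv := fun θ => rfl
          right_inv := fun θ => rfl }
    exact_mod_cast h1
  -- every element of the coset is conjugate to `w`
  have hclass : ∀ z : G, w⁻¹ * z ∈ commutator G → IsConj w z := by
    have h1 := card_conj_class_mul_card_centralizer w
    rw [le_antisymm hup hlow, ← (commutator G).card_mul_index] at h1
    have h2 : Nat.card {z : G // IsConj w z} = Nat.card (commutator G) :=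
      Nat.eq_of_mul_eq_mul_right (Nat.pos_of_ne_zero index_ne_zero_of_finite) h1
    let f : {z : G // IsConj w z} → commutator G := fun z => ⟨w⁻¹ * z, by
      obtain ⟨g, hg⟩ := isConj_iff.1 z.2
      rw [← hg, show w⁻¹ * (g * w * g⁻¹) = ⁅w⁻¹, g⁆ by rw [commutatorElement_def]; group]
      exact commutator_mem_commutator (mem_top _) (mem_top _)⟩
    have hf : Function.Injective f := fun a b hab =>
      Subtype.ext (mul_left_cancel (congrArg Subtype.val hab))
    intro z hz
    obtain ⟨a, ha⟩ := (hf.bijective_of_nat_card_le h2.ge).2 ⟨_, hz⟩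
    rw [← mul_left_cancel (congrArg Subtype.val ha)]
    exact a.2
  have := IsClassFunction.apply_eq_of_isConj (IsIrrCharacter.isClassFunction hχ)
    (hclass (w * c) (by simpa using hc))
  exact hne (by rw [← this, h0])

theorem orderOf_mul_of_pair {x y : G} (hxy : Pair x y) (hc : Commute x y) :
    orderOf (x * y) ≠ orderOf y := by
  obtain ⟨hx, hy, p, q, a, b, hp, hq, hpq, hoa, hob⟩ := hxy
  rw [hc.orderOf_mul_eq_mul_orderOf_of_coprime (hoa ▸ hob ▸
    Nat.Coprime.pow a b ((Nat.coprime_primes hp hq).2 hpq))]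
  intro e
  have : orderOf x = 1 := Nat.eq_of_mul_eq_mul_right (orderOf_pos y) (e.trans (one_mul _).symm)
  exact hx (orderOf_eq_one_iff.1 this)

/-- The structure forced by multiplicativity. -/
theorem structure_of_mult (h : ∀ (x y : G) (χ : IrrCharacter G), Pair x y →
      (χ : G → ℂ) (x * y) = (χ : G → ℂ) x * (χ : G → ℂ) y)
    (hnp : ¬ ∃ p : ℕ, p.Prime ∧ IsPGroup p G) (hna : ¬ IsMulCommutative G) :
    ∃ (p : ℕ) (_ : Fact p.Prime) (P : Sylow p G) (A : Subgroup G), (P : Subgroup G).Normal ∧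
      IsCyclic ↥A ∧ A ≠ ⊥ ∧ (Nat.card ↥A).Coprime p ∧ A ⊔ (P : Subgroup G) = ⊤ ∧
      IsMulCommutative ↥((P : Subgroup G) ⊓ centralizer (A : Set G)) ∧
      (⁅A, (P : Subgroup G)⁆).Normal ∧
      ((P : Subgroup G) ⊓ centralizer (A : Set G)) ⊔ ⁅A, (P : Subgroup G)⁆ = (P : Subgroup G) ∧
      ((P : Subgroup G) ⊓ centralizer (A : Set G)) ⊓ ⁅A, (P : Subgroup G)⁆ = ⊥ ∧
      ∀ a ∈ A, a ≠ 1 → ∀ d ∈ ⁅A, (P : Subgroup G)⁆, a * d = d * a → d = 1 := by
  classical
  obtain ⟨D, hDdef⟩ : ∃ D, D = commutator G := ⟨_, rfl⟩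
  haveI hDn : D.Normal := hDdef ▸ inferInstance
  have hD1 : D ≠ ⊥ := fun hb => hna ⟨⟨fun a b => commutatorElement_eq_one_iff_mul_comm.1
    (mem_bot.1 (hb ▸ hDdef ▸ commutator_mem_commutator (mem_top a) (mem_top b)))⟩⟩
  obtain ⟨p, hp, hpD⟩ := Nat.exists_prime_and_dvd (fun e => hD1 (card_eq_one.1 e) :
    Nat.card D ≠ 1)
  haveI := Fact.mk hp
  have hnoPair : ∀ x ∈ D, ∀ y ∈ D, ¬ Pair x y := by
    intro x hx y hy hxy
    have h1 := isConj_of_mem h hxy (c := (x * y)⁻¹) (hDdef ▸ inv_mem (mul_mem hx hy))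
    rw [mul_inv_cancel, isConj_one_left] at h1
    obtain ⟨hx1, hy1, p', q', a, b, hp', hq', hpq, hoa, hob⟩ := hxy
    rw [eq_inv_of_mul_eq_one_left h1, orderOf_inv, hob] at hoa
    rcases Nat.eq_zero_or_pos b with rfl | hb
    · exact hy1 (orderOf_eq_one_iff.1 (by rw [hob, pow_zero]))
    · exact hpq ((Nat.prime_dvd_prime_iff_eq hq' hp').1
        (hq'.dvd_of_dvd_pow (hoa ▸ dvd_pow_self q' hb.ne'))).symm
  have hDp : IsPGroup p D := by
    refine IsPGroup.of_card (n := (Nat.card D).primeFactorsList.length)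
      (Nat.eq_prime_pow_of_unique_prime_dvd Nat.card_pos.ne' fun {q} hq hqD => ?_)
    by_contra hne
    haveI := Fact.mk hq
    obtain ⟨x, hx⟩ := exists_prime_orderOf_dvd_card' p hpD
    obtain ⟨y, hy⟩ := exists_prime_orderOf_dvd_card' q hqD
    rw [← orderOf_coe] at hx hy
    refine hnoPair x x.2 y y.2 ⟨fun e => ?_, fun e => ?_, p, q, 1, 1, hp, hq, Ne.symm hne,
      by rw [hx, pow_one], by rw [hy, pow_one]⟩
    · rw [e, orderOf_one] at hx; exact hp.one_lt.ne hx
    · rw [e, orderOf_one] at hy; exact hq.one_lt.ne hy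
  -- elements of order prime to `p` act fixed-point-freely
  have hfpf : ∀ z : G, z ≠ 1 → ¬ p ∣ orderOf z → ∀ d ∈ D, z * d = d * z → d = 1 := by
    intro z hz hzp d hd hzd
    by_contra hd1
    obtain ⟨q, hq, hqz⟩ := Nat.exists_prime_and_dvd (fun e => hz (orderOf_eq_one_iff.1 e) :
      orderOf z ≠ 1)
    obtain ⟨k, hk⟩ := hqz
    have hy : orderOf (z ^ k) = q := by
      rw [orderOf_pow_of_dvd (fun e => by rw [e, mul_zero] at hk; exact (orderOf_pos z).ne' hk)
        (hk ▸ dvd_mul_left k q), hk, Nat.mul_div_cancel _ (Nat.pos_of_ne_zero fun e => by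
          rw [e, mul_zero] at hk; exact (orderOf_pos z).ne' hk)]
    obtain ⟨j, hj⟩ := IsPGroup.iff_orderOf.1 hDp ⟨d, hd⟩
    rw [orderOf_mk] at hj
    have hqp : q ≠ p := fun e => hzp (e ▸ hk ▸ dvd_mul_right q k)
    have hxy : Pair d (z ^ k) := ⟨hd1, fun e => hq.one_lt.ne (by rw [← hy, e, orderOf_one]), p, q,
      j, 1, hp, hq, hqp.symm, hj, by rw [hy, pow_one]⟩
    have hcomm : Commute d (z ^ k) := (show Commute d z from hzd.symm).pow_right k
    refine orderOf_mul_of_pair hxy hcomm ?_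
    obtain ⟨g, hg⟩ := isConj_iff.1 (isConj_of_mem h hxy (c := (d * z ^ k)⁻¹ * z ^ k) (hDdef ▸ by
      simpa [mul_assoc] using hDn.conj_mem' _ (inv_mem hd) (z ^ k)))
    rw [mul_inv_cancel_left] at hg
    conv_rhs => rw [← hg]
    exact ((MulAut.conj g).orderOf_eq _).symm
  -- the Sylow subgroup is normal
  obtain ⟨P⟩ : Nonempty (Sylow p G) := inferInstance
  obtain ⟨S, hS⟩ := hDp.exists_le_sylow
  obtain ⟨g, hg⟩ := MulAction.exists_smul_eq G S P
  have hDP : D ≤ (P : Subgroup G) := fun d hd => by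
    rw [← hg, Sylow.coe_subgroup_smul, CfsgLib.SZ.mem_conj_smul]
    refine hS ?_
    simpa using hDn.conj_mem d hd g⁻¹
  haveI hPn : (P : Subgroup G).Normal := Normal.of_commutator_le G (hDdef.symm.le.trans hDP)
  obtain ⟨k, hk⟩ := IsPGroup.iff_card.1 P.2
  have hcop : (Nat.card (P : Subgroup G)).Coprime (P : Subgroup G).index :=
    hk ▸ ((hp.coprime_iff_not_dvd.2 P.not_dvd_index).pow_left k)
  obtain ⟨A, hA⟩ := exists_right_complement'_of_coprime hcop
  have hAcard : Nat.card A = (P : Subgroup G).index := hA.symm.index_eq_card.symm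
  have hAp : (Nat.card A).Coprime p :=
    hAcard ▸ (hp.coprime_iff_not_dvd.2 P.not_dvd_index).symm
  have hA1 : A ≠ ⊥ := fun hb => hnp ⟨p, hp, IsPGroup.of_card (n := k) (by
    rw [← (P : Subgroup G).card_mul_index, ← hAcard, hb, card_bot, mul_one, hk])⟩
  have hAord : ∀ a ∈ A, ¬ p ∣ orderOf a := fun a ha hd =>
    hp.not_dvd_one (hAp ▸ Nat.dvd_gcd (hd.trans (A.orderOf_dvd_natCard ha)) dvd_rfl)
  have hAcomm : ∀ a ∈ A, ∀ b ∈ A, a * b = b * a := fun a ha b hb => by
    have h1 : ⁅a, b⁆ ∈ (P : Subgroup G) ⊓ A := by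
      refine mem_inf.2 ⟨hDP (hDdef ▸ commutator_mem_commutator (mem_top _) (mem_top _)), ?_⟩
      rw [commutatorElement_def]
      exact mul_mem (mul_mem (mul_mem ha hb) (inv_mem ha)) (inv_mem hb)
    rw [hA.disjoint.eq_bot, mem_bot] at h1
    exact commutatorElement_eq_one_iff_mul_comm.1 h1
  haveI : IsMulCommutative A := ⟨⟨fun a b => Subtype.ext (hAcomm a a.2 b b.2)⟩⟩
  have hcyc : IsCyclic A := by
    haveI : Nontrivial D := (nontrivial_iff_ne_bot D).2 hD1
    haveI := hDp.center_nontrivial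
    let φ : A →* MulAut (center D) :=
      { toFun := fun a => MulEquiv.ofBijective
          ((MonoidHom.codRestrict ((MulAut.conjNormal (H := D) (a : G)).toMonoidHom.comp
            (center D).subtype) (center D) fun c => mem_center_iff.2 fun e => by
              have h1 := mem_center_iff.1 c.2 ((MulAut.conjNormal (H := D) (a : G)).symm e)
              have h2 := congrArg (MulAut.conjNormal (H := D) (a : G)) h1
              simpa [map_mul] using h2))
          (Finite.injective_iff_bijective.1 fun c c' e => by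
            apply Subtype.ext
            exact (MulAut.conjNormal (H := D) (a : G)).injective (congrArg Subtype.val e))
        map_one' := by ext c; simp
        map_mul' := fun a b => by ext c; simp [mul_assoc] }
    refine CfsgLib.Frobenius.IsFpf.isCyclic_of_comm (φ := φ) ?_ fun a b => mul_comm' a b
    intro a ha c hc
    have h1 : (a : G) * ((c : D) : G) * (a : G)⁻¹ = ((c : D) : G) :=
      congrArg (fun t : center D => ((t : D) : G)) hc
    refine Subtype.ext (Subtype.ext (hfpf (a : G) (fun e => ha (Subtype.ext e)) (hAord a a.2) _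
      (c : D).2 (mul_inv_eq_iff_eq_mul.1 h1)))
  obtain ⟨⟨z, hz⟩, hgen⟩ := hcyc.exists_generator
  have hz1 : z ≠ 1 := by
    rintro rfl
    refine hA1 ((eq_bot_iff_forall _).2 fun a ha => ?_)
    obtain ⟨i, hi⟩ := hgen ⟨a, ha⟩
    simpa using (congrArg Subtype.val hi).symm
  have hinj : Function.Injective
      (fun d : D => (⟨z * d * z⁻¹ * (d : G)⁻¹, mul_mem (hDn.conj_mem d d.2 z) (inv_mem d.2)⟩ : D)) := by
    intro d e hde
    have h1 : z * d * z⁻¹ * (d : G)⁻¹ = z * e * z⁻¹ * (e : G)⁻¹ := congrArg Subtype.val hde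
    refine Subtype.ext (inv_mul_eq_one.1 (hfpf z hz1 (hAord z hz) _
      (mul_mem (inv_mem e.2) d.2) ?_)).symm
    calc z * ((e : G)⁻¹ * d) = z * (e : G)⁻¹ * (z⁻¹ * (z * d * z⁻¹ * (d : G)⁻¹) * d * z) := by group
      _ = z * (e : G)⁻¹ * (z⁻¹ * (z * e * z⁻¹ * (e : G)⁻¹) * d * z) := by rw [h1]
      _ = (e : G)⁻¹ * d * z := by group
  have hsurj := (Finite.injective_iff_surjective).1 hinj
  have hDeq : ⁅A, (P : Subgroup G)⁆ = D := by
    refine le_antisymm (hDdef ▸ commutator_mono le_top le_top) fun d hd => ?_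
    obtain ⟨e, he⟩ := hsurj ⟨d, hd⟩
    rw [show d = ⁅z, (e : G)⁆ from (congrArg Subtype.val he).symm]
    exact commutator_mem_commutator hz (hDP e.2)
  have hCD : ((P : Subgroup G) ⊓ centralizer (A : Set G)) ⊓ D = ⊥ := by
    refine (eq_bot_iff_forall _).2 fun d hd => ?_
    obtain ⟨⟨-, h1⟩, h2⟩ := mem_inf.1 hd
    exact hfpf z hz1 (hAord z hz) d h2 (mem_centralizer_iff.1 h1 z hz)
  refine ⟨p, inferInstance, P, A, hPn, hcyc, hA1, hAp, hA.symm.sup_eq_top, ⟨⟨fun a b => ?_⟩⟩,
    hDeq ▸ hDn, ?_, hDeq ▸ hCD, fun a ha ha1 d hd => hfpf a ha1 (hAord a ha) d (hDeq ▸ hd)⟩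
  · refine Subtype.ext (commutatorElement_eq_one_iff_mul_comm.1 (mem_bot.1 (hCD.le (mem_inf.2
      ⟨?_, hDdef ▸ commutator_mem_commutator (mem_top _) (mem_top _)⟩))))
    rw [commutatorElement_def]
    exact mul_mem (mul_mem (mul_mem a.2 b.2) (inv_mem a.2)) (inv_mem b.2)
  · rw [hDeq]
    refine le_antisymm (sup_le inf_le_left hDP) fun x hx => ?_
    obtain ⟨e, he⟩ := hsurj ⟨⁅z, x⁆, hDdef ▸ commutator_mem_commutator (mem_top _) (mem_top _)⟩
    have he' : z * e * z⁻¹ * (e : G)⁻¹ = z * x * z⁻¹ * x⁻¹ := congrArg Subtype.val he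
    have hcz : ((e : G)⁻¹ * x) * z = z * ((e : G)⁻¹ * x) := by
      calc ((e : G)⁻¹ * x) * z = z * (e : G)⁻¹ * (z⁻¹ * (z * e * z⁻¹ * (e : G)⁻¹) * x * z) := by group
        _ = z * (e : G)⁻¹ * (z⁻¹ * (z * x * z⁻¹ * x⁻¹) * x * z) := by rw [he']
        _ = z * ((e : G)⁻¹ * x) := by group
    have hc : (e : G)⁻¹ * x ∈ (P : Subgroup G) ⊓ centralizer (A : Set G) := by
      refine mem_inf.2 ⟨mul_mem (inv_mem (hDP e.2)) hx, mem_centralizer_iff.2 fun a ha => ?_⟩
      obtain ⟨i, hi⟩ := hgen ⟨a, ha⟩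
      have hi' : z ^ i = a := by simpa using congrArg Subtype.val hi
      rw [← hi']
      exact ((show Commute ((e : G)⁻¹ * x) z from hcz).zpow_right i).eq.symm
    rw [show x = (e : G) * ((e : G)⁻¹ * x) by group]
    exact mul_mem (mem_sup_right e.2) (mem_sup_left hc)

/-- Conversely the structure gives multiplicativity. -/
theorem mult_of_structure {p : ℕ} [Fact p.Prime] (P : Sylow p G) (A C D : Subgroup G)
    [hP : (P : Subgroup G).Normal] [hD : D.Normal] (hAc : IsCyclic A)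
    (hAp : (Nat.card A).Coprime p) (hsup : A ⊔ (P : Subgroup G) = ⊤)
    (hC : C ≤ (P : Subgroup G) ⊓ centralizer (A : Set G)) (hCc : IsMulCommutative C)
    (hCD : C ⊔ D = (P : Subgroup G)) (hinf : C ⊓ D = ⊥)
    (hfpf : ∀ a ∈ A, a ≠ 1 → ∀ d ∈ D, a * d = d * a → d = 1)
    {x y : G} (hxy : Pair x y) (χ : IrrCharacter G) :
    (χ : G → ℂ) (x * y) = (χ : G → ℂ) x * (χ : G → ℂ) y := by
  classical
  have hp : p.Prime := Fact.out
  by_cases h1 : (χ : G → ℂ) 1 = 1
  · obtain ⟨l, hl⟩ := IsCharacter.exists_hom (IsIrrCharacter.isCharacter χ.2) h1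
    rw [hl]; simp
  haveI := hAc
  letI := IsCyclic.commGroup (α := A)
  have hCP : C ≤ (P : Subgroup G) := hC.trans inf_le_left
  have hDP : D ≤ (P : Subgroup G) := hCD ▸ le_sup_right
  have hcAC : ∀ a ∈ A, ∀ c ∈ C, a * c = c * a := fun a ha c hc =>
    mem_centralizer_iff.1 (mem_inf.1 (hC hc)).2 a ha
  -- decomposition
  have hdec : ∀ z : G, ∃ a ∈ A, ∃ c ∈ C, ∃ d ∈ D, z = a * c * d := by
    intro z
    obtain ⟨a, ha, u, hu, rfl⟩ := mem_sup_of_normal_right.1 (hsup ▸ mem_top z)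
    obtain ⟨c, hc, d, hd, rfl⟩ := mem_sup_of_normal_right.1 (hCD ▸ hu)
    exact ⟨a, ha, c, hc, d, hd, (mul_assoc _ _ _).symm⟩
  have hker : ∃ d ∈ D, (χ : G → ℂ) d ≠ (χ : G → ℂ) 1 := by
    by_contra hall
    push Not at hall
    refine h1 (IsIrrCharacter.apply_one_eq_one_of_commutators χ.2 fun u v => hall _ ?_)
    obtain ⟨a, ha, c, hc, d, hd, rfl⟩ := hdec u
    obtain ⟨a', ha', c', hc', d', hd', rfl⟩ := hdec v
    rw [← QuotientGroup.eq_one_iff]
    simp only [QuotientGroup.mk_mul, QuotientGroup.mk_inv, (QuotientGroup.eq_one_iff _).2 hd,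
      (QuotientGroup.eq_one_iff _).2 hd', mul_one]
    rw [← QuotientGroup.mk_mul, ← QuotientGroup.mk_mul, ← QuotientGroup.mk_inv, ← QuotientGroup.mk_inv,
      ← QuotientGroup.mk_mul, ← QuotientGroup.mk_mul, ← QuotientGroup.mk_mul]
    have e1 : a * a' = a' * a := congrArg Subtype.val (mul_comm (⟨a, ha⟩ : A) ⟨a', ha'⟩)
    have e2 : c * c' = c' * c := congrArg Subtype.val (hCc.is_comm.comm ⟨c, hc⟩ ⟨c', hc'⟩)
    have e3 : (a * c) * (a' * c') = (a' * c') * (a * c) := by
      calc (a * c) * (a' * c') = a * (c * a') * c' := by group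
        _ = a * (a' * c) * c' := by rw [hcAC a' ha' c hc]
        _ = (a * a') * (c * c') := by group
        _ = (a' * a) * (c' * c) := by rw [e1, e2]
        _ = a' * (a * c') * c := by group
        _ = a' * (c' * a) * c := by rw [hcAC a ha c' hc']
        _ = _ := by group
    rw [show a * c * (a' * c') * (a * c)⁻¹ * (a' * c')⁻¹ = 1 by rw [e3]; group, QuotientGroup.mk_one]
  -- nonidentity elements of order prime to `p` act fixed-point-freely on `D`
  have hz : ∀ z : G, z ≠ 1 → ¬ p ∣ orderOf z → ∀ d ∈ D, d * z = z * d → d = 1 := by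
    intro z hz1 hzp e he hez
    obtain ⟨a, ha, c, hc, d, hd, rfl⟩ := hdec z
    set m := orderOf (a * c * d)
    have hm : a ^ m * c ^ m ∈ D := by
      rw [← QuotientGroup.eq_one_iff, ← (show Commute a c from hcAC a ha c hc).mul_pow,
        QuotientGroup.mk_pow]
      have : ((a * c * d : G) : G ⧸ D) = ((a * c : G) : G ⧸ D) := by
        rw [QuotientGroup.mk_mul, (QuotientGroup.eq_one_iff d).2 hd, mul_one]
      rw [← this, ← QuotientGroup.mk_pow, pow_orderOf_eq_one, QuotientGroup.mk_one]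
    have ham : a ^ m = 1 := by
      have h2 : a ^ m ∈ (P : Subgroup G) := by
        have := mul_mem (hDP hm) (inv_mem (pow_mem (hCP hc) m))
        simpa using this
      obtain ⟨i, hi⟩ := IsPGroup.iff_orderOf.1 P.2 ⟨_, h2⟩
      rw [orderOf_mk] at hi
      refine orderOf_eq_one_iff.1 (Nat.eq_one_of_dvd_coprimes (hAp.pow_right i)
        (A.orderOf_dvd_natCard (pow_mem ha m)) (hi ▸ dvd_rfl))
    rw [ham, one_mul] at hm
    have hcm : c ^ m = 1 := mem_bot.1 (hinf.le (mem_inf.2 ⟨pow_mem hc m, hm⟩))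
    have hc1 : c = 1 := by
      obtain ⟨i, hi⟩ := IsPGroup.iff_orderOf.1 P.2 ⟨c, hCP hc⟩
      rw [orderOf_mk] at hi
      exact orderOf_eq_one_iff.1 (Nat.eq_one_of_dvd_coprimes
        ((hp.coprime_iff_not_dvd.2 hzp).pow_left i) (hi ▸ dvd_rfl) (orderOf_dvd_of_pow_eq_one hcm))
    subst hc1
    simp only [mul_one] at hez hz1 hzp
    have ha1 : a ≠ 1 := by
      rintro rfl
      rw [one_mul] at hz1
      have hzp' : ¬ p ∣ orderOf d := by simpa [m] using hzp
      obtain ⟨i, hi⟩ := IsPGroup.iff_orderOf.1 P.2 ⟨d, hDP hd⟩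
      rw [orderOf_mk] at hi
      rcases Nat.eq_zero_or_pos i with rfl | hi0
      · exact hz1 (orderOf_eq_one_iff.1 (by rw [hi, pow_zero]))
      · exact hzp' (hi ▸ dvd_pow_self p hi0.ne')
    have hinj : Function.Injective (fun w : D =>
        (⟨a⁻¹ * w * a * (w : G)⁻¹, mul_mem (hD.conj_mem' w w.2 a) (inv_mem w.2)⟩ : D)) := by
      intro v w hvw
      have h2 : a⁻¹ * v * a * (v : G)⁻¹ = a⁻¹ * w * a * (w : G)⁻¹ := congrArg Subtype.val hvw
      refine Subtype.ext (inv_mul_eq_one.1 (hfpf a ha ha1 _ (mul_mem (inv_mem w.2) v.2) ?_)).symm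
      calc a * ((w : G)⁻¹ * v) = (w : G)⁻¹ * (a * (a⁻¹ * w * a * (w : G)⁻¹)) * v := by group
        _ = (w : G)⁻¹ * (a * (a⁻¹ * v * a * (v : G)⁻¹)) * v := by rw [h2]
        _ = (w : G)⁻¹ * v * a := by group
    obtain ⟨w, hw⟩ := (Finite.injective_iff_surjective).1 hinj ⟨d, hd⟩
    have hw' : a⁻¹ * w * a * (w : G)⁻¹ = d := congrArg Subtype.val hw
    have hcom : a * ((w : G)⁻¹ * e * w) = (w : G)⁻¹ * e * w * a := by
      have : e * (w * a * (w : G)⁻¹) = w * a * (w : G)⁻¹ * e := by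
        rw [show (w : G) * a * (w : G)⁻¹ = a * d by rw [← hw']; group]
        exact hez
      calc a * ((w : G)⁻¹ * e * w) = (w : G)⁻¹ * ((w * a * (w : G)⁻¹) * e) * w := by group
        _ = (w : G)⁻¹ * (e * (w * a * (w : G)⁻¹)) * w := by rw [this]
        _ = _ := by group
    exact conj_eq_one_iff.1 (by simpa using hfpf a ha ha1 _ (hD.conj_mem' e he w) hcom :
      (w : G)⁻¹ * e * ((w : G)⁻¹)⁻¹ = 1)
  -- vanishing outside `P`
  have hout : ∀ g : G, g ∉ (P : Subgroup G) → (χ : G → ℂ) g = 0 := by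
    intro g hg
    refine IsIrrCharacter.apply_eq_zero_of_not_centralized D χ.2 hker fun d hd hdg => ?_
    obtain ⟨i, m, hm, hgo⟩ := Nat.exists_eq_pow_mul_and_not_dvd (orderOf_pos g).ne' p hp.ne_one
    have hm0 : m ≠ 0 := fun e => hm (e ▸ dvd_zero p)
    refine hz (g ^ p ^ i) (fun e => hg ?_) ?_ d hd ((show Commute d g from hdg).pow_right _).eq
    · obtain ⟨j, hj⟩ : ∃ j, (g : G) ^ p ^ j ∈ (P : Subgroup G) := ⟨i, by rw [e]; exact one_mem _⟩
      have h2 : orderOf (g : G ⧸ (P : Subgroup G)) ∣ p ^ j := orderOf_dvd_of_pow_eq_one (by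
        rw [← QuotientGroup.mk_pow, (QuotientGroup.eq_one_iff _).2 hj])
      have h3 : orderOf (g : G ⧸ (P : Subgroup G)) ∣ (P : Subgroup G).index :=
        index_eq_card (P : Subgroup G) ▸ orderOf_dvd_natCard _
      exact (QuotientGroup.eq_one_iff g).1 (orderOf_eq_one_iff.1 (Nat.eq_one_of_dvd_coprimes
        ((hp.coprime_iff_not_dvd.2 P.not_dvd_index).pow_left j) h2 h3))
    · rw [orderOf_pow_of_dvd (pow_ne_zero i hp.ne_zero) (hgo ▸ dvd_mul_right _ m), hgo,
        Nat.mul_div_cancel_left m (pow_pos hp.pos i)]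
      exact hm
  -- the case distinction
  have hmemP : ∀ g : G, g ∈ (P : Subgroup G) → ∃ i, orderOf g = p ^ i := fun g hg => by
    obtain ⟨i, hi⟩ := IsPGroup.iff_orderOf.1 P.2 ⟨g, hg⟩
    exact ⟨i, by rwa [orderOf_mk] at hi⟩
  obtain ⟨hx1, hy1, r, s, i, j, hr, hs, hrs, hox, hoy⟩ := hxy
  have key : ∀ {v : G} {t l : ℕ}, t.Prime → v ≠ 1 → orderOf v = t ^ l → v ∈ (P : Subgroup G) → t = p := by
    intro v t l ht hv ho hvP
    obtain ⟨n, hn⟩ := hmemP v hvP
    have hl : l ≠ 0 := fun e => hv (orderOf_eq_one_iff.1 (by rw [ho, e, pow_zero]))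
    exact (Nat.prime_dvd_prime_iff_eq ht hp).1
      (ht.dvd_of_dvd_pow (hn ▸ ho ▸ dvd_pow_self t hl))
  have hxyP : x * y ∉ (P : Subgroup G) := by
    intro hm
    have h2 : orderOf ((y : G) : G ⧸ (P : Subgroup G)) ∣ r ^ i := by
      have h3 : ((y : G) : G ⧸ (P : Subgroup G)) = ((x : G) : G ⧸ (P : Subgroup G))⁻¹ := by
        rw [eq_inv_iff_mul_eq_one, ← QuotientGroup.mk_mul, QuotientGroup.eq_one_iff]
        have h4 := hP.conj_mem _ hm y
        simpa [mul_assoc] using h4
      rw [h3, orderOf_inv, ← hox]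
      exact orderOf_map_dvd (QuotientGroup.mk' (P : Subgroup G)) x
    have hyP : y ∈ (P : Subgroup G) := (QuotientGroup.eq_one_iff y).1 (orderOf_eq_one_iff.1
      (Nat.eq_one_of_dvd_coprimes (Nat.Coprime.pow i j ((Nat.coprime_primes hr hs).2 hrs)) h2
        (hoy ▸ orderOf_map_dvd (QuotientGroup.mk' (P : Subgroup G)) y)))
    have hxP : x ∈ (P : Subgroup G) := by simpa using mul_mem hm (inv_mem hyP)
    exact hrs ((key hr hx1 hox hxP).trans (key hs hy1 hoy hyP).symm)
  rw [hout _ hxyP]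
  by_cases hx : x ∈ (P : Subgroup G)
  · rw [hout y fun hy => hrs ((key hr hx1 hox hx).trans (key hs hy1 hoy hy).symm), mul_zero]
  · rw [hout x hx, zero_mul]

end CfsgLib.Char.MultCoprime
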