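import Cfsg.Prelude.Def_Transfer
import Cfsg.Agent.Char.Linear
import Cfsg.Agent.Char.Induction
import Cfsg.Agent.Transfer.Frobenius
import Cfsg.Agent.Transfer.Tate
import Cfsg.Agent.LocalB.Tate

/-!
# Thompson: all nonlinear degrees divisible by `p` gives a normal `p`-complement
-/

set_option autoImplicit false
set_option linter.style.haveILetI false

namespace CfsgLib.Char.ThompsonDegree

open Finset
open scoped ComplexConjugate commutatorElement Pointwise

universe u

variable {G : Type u} [Group G] [Fintype G] {p : ℕ} [Fact p.Prime]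

theorem exists_extension
    (hdeg : ∀ f : G → ℂ, Cfsg.IsIrrCharacter G f → ∀ m : ℕ, f 1 = m → m ≠ 1 → p ∣ m)
    (P : Sylow p G) (lam : (P : Subgroup G) →* ℂˣ) :
    ∃ μ : G →* ℂˣ, ∀ x : (P : Subgroup G), μ x = lam x := by
  classical
  haveI := Fintype.ofFinite (P : Subgroup G)
  obtain ⟨θ, hθ⟩ : ∃ θ, Cfsg.indFun (P : Subgroup G) (fun x => (lam x : ℂ)) = θ := ⟨_, rfl⟩
  have hlamch : Cfsg.IsCharacter (P : Subgroup G) (fun x => (lam x : ℂ)) :=
    IsIrrCharacter.isCharacter (isIrrCharacter_ofHom lam)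
  have hθc : Cfsg.IsCharacter G θ := hθ ▸ IsCharacter.indFun hlamch
  choose! a ha using fun (f : G → ℂ) (hf : f ∈ irrFinset G) =>
    IsCharacter.exists_classInner_eq_natCast hθc (mem_irrFinset.1 hf)
  choose! b hb0 hb using fun (f : G → ℂ) (hf : f ∈ irrFinset G) =>
    IsIrrCharacter.exists_degree (mem_irrFinset.1 hf)
  have hx : ∀ x : G, Cfsg.extendByZero (P : Subgroup G) (fun x => (lam x : ℂ)) (x⁻¹ * 1 * x) = 1 :=
    fun x => by
      rw [mul_one, inv_mul_cancel, extendByZero_of_mem _ (Subgroup.one_mem _),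
        show (⟨1, Subgroup.one_mem _⟩ : (P : Subgroup G)) = 1 from rfl, map_one, Units.val_one]
  have h1 := congrFun (eq_sum_irr (IsCharacter.isClassFunction hθc)) 1
  rw [Finset.sum_apply, sum_congr rfl fun f hf => by
    rw [Pi.smul_apply, ha f hf, hb f hf, smul_eq_mul, ← Nat.cast_mul], ← Nat.cast_sum, ← hθ,
    indFun_def, sum_congr rfl fun x _ => hx x, sum_const, Finset.card_univ,
    ← Nat.card_eq_fintype_card, nsmul_eq_mul, mul_one, ← Subgroup.card_mul_index (P : Subgroup G),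
    Nat.cast_mul, inv_mul_cancel_left₀ (Nat.cast_ne_zero.2 Nat.card_pos.ne'), Nat.cast_inj] at h1
  obtain ⟨f, hf, hpf⟩ : ∃ f ∈ irrFinset G, ¬ p ∣ a f * b f := by
    by_contra hno
    push Not at hno
    exact P.not_dvd_index (h1 ▸ dvd_sum hno)
  have hb1 : b f = 1 := by
    by_contra hne
    exact hpf ((hdeg f (mem_irrFinset.1 hf) _ (hb f hf) hne).mul_left _)
  obtain ⟨μ, rfl⟩ := IsCharacter.exists_hom (IsIrrCharacter.isCharacter (mem_irrFinset.1 hf))
    (by rw [hb f hf, hb1, Nat.cast_one])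
  refine ⟨μ, ?_⟩
  obtain ⟨ψ, hψ⟩ : ∃ ψ : (P : Subgroup G) →* ℂˣ, μ.comp (P : Subgroup G).subtype = ψ := ⟨_, rfl⟩
  by_contra hne
  have hne' : (fun x => (lam x : ℂ)) ≠ fun x => (ψ x : ℂ) := fun h => hne fun x => by
    have := Units.ext (congrFun h x)
    rw [this, ← hψ]
    rfl
  apply hpf
  have h2 := ha _ hf
  rw [← hθ, classInner_indFun _ (IsIrrCharacter.isClassFunction (mem_irrFinset.1 hf)),
    show (fun h : (P : Subgroup G) => ((μ (h : G) : ℂˣ) : ℂ)) = fun h => (ψ h : ℂ) from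
      hψ ▸ rfl,
    IsIrrCharacter.classInner_of_ne (isIrrCharacter_ofHom lam) (isIrrCharacter_ofHom ψ) hne'] at h2
  have : a (fun g : G => (μ g : ℂ)) = 0 := by exact_mod_cast h2.symm
  rw [this, Nat.zero_mul]
  exact dvd_zero p

theorem hasNormalPComplement
    (hdeg : ∀ f : G → ℂ, Cfsg.IsIrrCharacter G f → ∀ m : ℕ, f 1 = m → m ≠ 1 → p ∣ m) :
    Cfsg.HasNormalPComplement p G := by
  classical
  have hp : p.Prime := Fact.out
  obtain ⟨P⟩ : Nonempty (Sylow p G) := inferInstance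
  have hext := exists_extension hdeg P
  have hfoc : (P : Subgroup G).focalSubgroup ≤ ⁅(P : Subgroup G), (P : Subgroup G)⁆ := by
    rw [Subgroup.focalSubgroup_def, Subgroup.closure_le]
    rintro z ⟨hz, x, hx, u, rfl⟩
    have hz' : (⟨_, hz⟩ : (P : Subgroup G)) ∈ commutator (P : Subgroup G) := by
      by_contra hnc
      obtain ⟨lam, hlam⟩ := exists_hom_ne_one hnc
      obtain ⟨μ, hμ⟩ := hext lam
      apply hlam
      rw [← hμ]
      show μ ⁅x, u⁆ = 1
      rw [map_commutatorElement]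
      exact commutatorElement_eq_one_iff_commute.2 (Commute.all _ _)
    rw [← Subgroup.map_subtype_commutator]
    exact ⟨_, hz', rfl⟩
  have hres := CfsgLib.Tate.inf_pResidual_le P (P : Subgroup G) le_rfl
    ((CfsgLib.Fusion.inf_pResidual_le_focal P).trans hfoc)
  have hPbot : Cfsg.pResidual p (P : Subgroup G) = ⊥ := by
    obtain ⟨k, hk⟩ := IsPGroup.iff_card.1 P.2
    refine le_bot_iff.1 (CfsgLib.PResidual.pResidual_le (k := k) ?_)
    rw [Subgroup.index_bot, hk]
  rw [hPbot, Subgroup.map_bot, le_bot_iff] at hres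
  rw [CfsgLib.PResidual.hasNormalPComplement_iff]
  refine CfsgLib.PResidual.coprime_of_not_dvd hp fun hdvd => ?_
  obtain ⟨g, hg⟩ := exists_prime_orderOf_dvd_card' (G := Cfsg.pResidual p G) p hdvd
  have hgp : IsPGroup p (Subgroup.zpowers (g : G)) :=
    IsPGroup.of_card (n := 1) (by rw [Nat.card_zpowers, pow_one, Subgroup.orderOf_coe, hg])
  obtain ⟨Q, hQ⟩ := hgp.exists_le_sylow
  obtain ⟨c, hc⟩ := MulAction.exists_smul_eq G Q P
  have h1 : c * g * c⁻¹ ∈ (P : Subgroup G) := by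
    rw [← hc, Sylow.coe_subgroup_smul]
    exact Subgroup.smul_mem_pointwise_smul (g : G) (MulAut.conj c) (Q : Subgroup G)
      (hQ (Subgroup.mem_zpowers _))
  have h2 : c * g * c⁻¹ ∈ (⊥ : Subgroup G) := by
    rw [← hres]
    exact ⟨h1, Subgroup.Normal.conj_mem inferInstance _ g.2 c⟩
  rw [Subgroup.mem_bot, conj_eq_one_iff] at h2
  rw [← Subgroup.orderOf_coe, h2, orderOf_one] at hg
  exact hp.ne_one hg.symm

theorem exists_complement
    (hdeg : ∀ f : G → ℂ, Cfsg.IsIrrCharacter G f → ∀ m : ℕ, f 1 = m → m ≠ 1 → p ∣ m) :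
    ∃ N : Subgroup G, N.Normal ∧ (Nat.card N).Coprime p ∧ ∃ k : ℕ, N.index = p ^ k := by
  obtain ⟨P, N, hN, hNP⟩ := hasNormalPComplement hdeg
  exact ⟨N, hN, CfsgLib.PResidual.card_coprime_of_isComplement' P hNP⟩

end CfsgLib.Char.ThompsonDegree
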