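import Cfsg.Agent.Char.NonabelianQuotient
import Cfsg.Agent.Char.CenterValues
import Cfsg.Agent.Char.Inflation
import Cfsg.Agent.Char.ThompsonDegree
import Cfsg.Agent.PClosed.SimplePrimeBound
import Cfsg.Prelude.Def_DegreeGraph

/-!
Two distinguished numbers for the degrees of a solvable group; groups whose nonlinear degrees are primes.
-/

set_option autoImplicit false
set_option linter.style.haveILetI false
set_option linter.unusedSectionVars false

namespace CfsgLib.Char.PrimeDeg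

open scoped commutatorElement ComplexConjugate
open Cfsg (IrrCharacter charDegree)

universe u

variable {G : Type u} [Group G]

theorem charDegree_natCast {χ : G → ℂ} {n : ℕ} (h : χ 1 = n) : Cfsg.charDegree χ = n := by
  rw [Cfsg.charDegree, h, Complex.natCast_re, Nat.floor_natCast]

theorem mem_charDegrees {n : ℕ} :
    n ∈ Cfsg.charDegrees G ↔ ∃ χ : G → ℂ, Cfsg.IsIrrCharacter G χ ∧ χ 1 = n := by
  constructor
  · rintro ⟨χ, rfl⟩
    obtain ⟨m, -, hm⟩ := IsIrrCharacter.exists_degree χ.2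
    exact ⟨χ, χ.2, by rw [charDegree_natCast hm, hm]⟩
  · rintro ⟨χ, hχ, h⟩
    exact ⟨⟨χ, hχ⟩, charDegree_natCast h⟩

/-- Every prime divisor of a degree is tied to one of two numbers. -/
theorem exists_two [Finite G] [Group.IsSolvable G] (hG : commutator G ≠ ⊥) :
    ∃ s f : ℕ, s.Prime ∧ 1 < f ∧ f ∈ Cfsg.charDegrees G ∧ ∀ t : ℕ, t.Prime →
      (∃ d ∈ Cfsg.charDegrees G, t ∣ d) →
        t = s ∨ (∃ d ∈ Cfsg.charDegrees G, t * s ∣ d) ∨ t ∣ f ∨ ∃ d ∈ Cfsg.charDegrees G, f * t ∣ d := by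
  classical
  haveI := Fintype.ofFinite G
  obtain ⟨s, N, K, hs, hN, hK, hNK, hcommK, hab, ⟨a, ha0, hidx⟩, hcase⟩ := NonabQuot.exists_quotient hG
  haveI := hN
  haveI := hK
  haveI := Fintype.ofFinite N
  haveI := Fintype.ofFinite K
  have hsdiv : ∀ (t : ℕ) (χ : G → ℂ) (n : ℕ), t.Prime → Cfsg.IsIrrCharacter G χ → χ 1 = n → t ∣ n →
      s ∣ n → t = s ∨ ∃ d ∈ Cfsg.charDegrees G, t * s ∣ d := by
    intro t χ n ht hχ hn htn hsn
    by_cases h : t = s
    · exact Or.inl h
    · exact Or.inr ⟨n, mem_charDegrees.2 ⟨χ, hχ, hn⟩,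
        Nat.Coprime.mul_dvd_of_dvd_of_dvd ((Nat.coprime_primes ht hs).2 h) htn hsn⟩
  rcases hcase with ⟨⟨b, hb⟩, x, y, hxy⟩ | ⟨htop, hfpf⟩
  · -- the quotient is an `s`-group
    obtain ⟨β, hβ, hβN, f, hf, hf1⟩ : ∃ β : G → ℂ, Cfsg.IsIrrCharacter G β ∧ (∀ n ∈ N, β n = β 1) ∧
        ∃ f : ℕ, β 1 = f ∧ 1 < f := by
      haveI : Finite (G ⧸ N) := inferInstance
      have hna : ¬ ∀ χ : G ⧸ N → ℂ, Cfsg.IsIrrCharacter (G ⧸ N) χ → χ 1 = 1 := fun h => hxy (by
        have := abelian_iff_degree_one.2 h (x : G ⧸ N) (y : G ⧸ N)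
        rw [← QuotientGroup.eq_one_iff,
          show ((⁅x, y⁆ : G) : G ⧸ N) = ⁅(x : G ⧸ N), (y : G ⧸ N)⁆ from map_commutatorElement (QuotientGroup.mk' N) x y,
          commutatorElement_eq_one_iff_mul_comm]
        exact this)
      push Not at hna
      obtain ⟨χ, hχ, hχ1⟩ := hna
      obtain ⟨f, hf0, hf⟩ := IsIrrCharacter.exists_degree hχ
      refine ⟨inflate N χ, IsIrrCharacter.inflate N hχ, fun n hn => inflate_apply_mem N χ hn, f, ?_, ?_⟩
      · rw [← hf]; rfl
      · by_contra h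
        exact hχ1 (by rw [hf, show f = 1 by omega, Nat.cast_one])
    refine ⟨s, f, hs, hf1, mem_charDegrees.2 ⟨β, hβ, hf⟩, fun t ht ⟨d, hd, htd⟩ => ?_⟩
    obtain ⟨χ, hχ, hχd⟩ := mem_charDegrees.1 hd
    by_cases hsd : s ∣ d
    · rcases hsdiv t χ d ht hχ hχd htd hsd with h | h
      exacts [Or.inl h, Or.inr (Or.inl h)]
    obtain ⟨θ, hθ, hc⟩ := exists_constituent_restrict (N := N) hχ
    obtain ⟨k, hk, hk1⟩ := exists_degree_ratio hχ hθ hc
    obtain ⟨m, -, hm⟩ := IsIrrCharacter.exists_degree hθ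
    rw [hχd, hm, ← Nat.cast_mul, Nat.cast_inj] at hk1
    obtain ⟨i, -, rfl⟩ := (Nat.dvd_prime_pow hs).1 (hb ▸ hk)
    obtain rfl : i = 0 := by
      by_contra hi
      exact hsd (hk1 ▸ Dvd.dvd.mul_right (dvd_pow_self s hi) m)
    rw [pow_zero, one_mul] at hk1
    have hres : (fun n : N => χ n) = θ :=
      IsCharacter.eq_of_constituent (IsCharacter.restrict (IsIrrCharacter.isCharacter hχ) N) hθ hc
        (by simp only [OneMemClass.coe_one]; rw [hχd, hm, hk1])
    have hirr := ((gallagher_one (N := N) hχ (hres ▸ hθ)).mapsTo (show β ∈ _ from ⟨hβ, hβN⟩)).1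
    refine Or.inr (Or.inr (Or.inr ⟨f * d, mem_charDegrees.2 ⟨_, hirr, ?_⟩, Nat.mul_dvd_mul_left f htd⟩))
    show β 1 * χ 1 = _
    rw [hf, hχd, Nat.cast_mul]
  · -- the Frobenius case
    have hf1 : 1 < K.index := by
      rcases Nat.lt_or_ge 1 K.index with h | h
      · exact h
      · exact absurd (Subgroup.index_eq_one.1 (le_antisymm h
          (Nat.one_le_iff_ne_zero.2 Subgroup.index_ne_zero_of_finite))) htop
    have hmul := fun {ψ : K → ℂ} (hψ : Cfsg.IsIrrCharacter K ψ) {m : ℕ} (hm : ψ 1 = m) (hsm : ¬ s ∣ m) =>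
      NonabQuot.exists_degree_mul hNK hab hs ha0 hidx hfpf hcommK hψ hm hsm
    obtain ⟨χ₁, hχ₁, hχ₁d⟩ := hmul (isIrrCharacter_one (G := K)) (m := 1) Nat.cast_one.symm hs.not_dvd_one
    rw [mul_one] at hχ₁d
    refine ⟨s, K.index, hs, hf1, mem_charDegrees.2 ⟨χ₁, hχ₁, hχ₁d⟩, fun t ht ⟨d, hd, htd⟩ => ?_⟩
    obtain ⟨χ, hχ, hχd⟩ := mem_charDegrees.1 hd
    obtain ⟨ψ, hψ, hc⟩ := exists_constituent_restrict (N := K) hχ
    obtain ⟨k, hk, hk1⟩ := exists_degree_ratio hχ hψ hc
    obtain ⟨m, -, hm⟩ := IsIrrCharacter.exists_degree hψ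
    rw [hχd, hm, ← Nat.cast_mul, Nat.cast_inj] at hk1
    rcases ht.dvd_mul.1 (hk1 ▸ htd) with h | h
    · exact Or.inr (Or.inr (Or.inl (h.trans hk)))
    by_cases hsm : s ∣ m
    · rcases hsdiv t χ d ht hχ hχd htd (hk1 ▸ hsm.mul_left k) with h | h
      exacts [Or.inl h, Or.inr (Or.inl h)]
    obtain ⟨χ₂, hχ₂, hχ₂d⟩ := hmul hψ hm hsm
    exact Or.inr (Or.inr (Or.inr ⟨_, mem_charDegrees.2 ⟨χ₂, hχ₂, hχ₂d⟩, Nat.mul_dvd_mul_left _ h⟩))

/-- A `2 × 2` involution of determinant one is scalar. -/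
theorem scalar_of_det_one (A : Matrix (Fin 2) (Fin 2) ℂ) (h2 : A * A = 1) (hd : A.det = 1) :
    ∃ c : ℂ, A = c • 1 := by
  rw [Matrix.det_fin_two] at hd
  have e := fun i j => congrFun (congrFun h2 i) j
  have e00 := e 0 0
  have e01 := e 0 1
  have e10 := e 1 0
  have e11 := e 1 1
  simp [Matrix.mul_apply, Fin.sum_univ_two] at e00 e01 e10 e11
  have ht : A 0 0 + A 1 1 ≠ 0 := fun h => by
    have h3 : (2 : ℂ) = 0 := by linear_combination (-1 : ℂ) * e00 - hd + A 0 0 * h
    norm_num at h3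
  have h01 : A 0 1 = 0 := (mul_eq_zero.1 (show A 0 1 * (A 0 0 + A 1 1) = 0 by linear_combination e01)).resolve_right ht
  have h10 : A 1 0 = 0 := (mul_eq_zero.1 (show A 1 0 * (A 0 0 + A 1 1) = 0 by linear_combination e10)).resolve_right ht
  have hd' : A 0 0 = A 1 1 := by
    refine sub_eq_zero.1 ((mul_eq_zero.1 (show (A 0 0 - A 1 1) * (A 0 0 + A 1 1) = 0 by
      linear_combination e00 - e11)).resolve_right ht)
  refine ⟨A 0 0, ?_⟩
  ext i j
  fin_cases i <;> fin_cases j <;> simp [h01, h10, hd']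

section simple

variable {S : Type u} [Group S] [Finite S] [IsSimpleGroup S]

theorem commutator_eq_top (hna : ¬ ∀ a b : S, a * b = b * a) : commutator S = ⊤ := by
  rcases IsSimpleGroup.eq_bot_or_eq_top_of_normal (commutator S) inferInstance with h | h
  · refine absurd (fun a b => ?_) hna
    rw [← commutatorElement_eq_one_iff_mul_comm, ← Subgroup.mem_bot, ← h]
    exact Subgroup.commutator_mem_commutator (Subgroup.mem_top a) (Subgroup.mem_top b)
  · exact h

/-- A nonlinear irreducible representation of a simple group has only scalars trivially. -/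
theorem eq_one_of_scalar (hna : ¬ ∀ a b : S, a * b = b * a) {n : ℕ} {ρ : Representation ℂ S (Fin n → ℂ)}
    (hρ : ρ.IsIrreducible) (hn : 2 ≤ n) {g : S} {ω : ℂ}
    (hg : ρ g = ω • (LinearMap.id : (Fin n → ℂ) →ₗ[ℂ] (Fin n → ℂ))) : g = 1 := by
  classical
  haveI := Fintype.ofFinite S
  have hker : ρ.ker = ⊥ := by
    rcases IsSimpleGroup.eq_bot_or_eq_top_of_normal ρ.ker inferInstance with h | h
    · exact h
    · exfalso
      have hχ : Cfsg.IsIrrCharacter S ρ.character := ⟨n, ρ, hρ, rfl⟩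
      have hconst : ρ.character = fun _ => (n : ℂ) := funext fun x => by
        rw [Representation.character, show ρ x = 1 from MonoidHom.mem_ker.1 (h ▸ Subgroup.mem_top x),
          LinearMap.trace_one, Module.finrank_fin_fun]
      have h1 := IsIrrCharacter.classInner_self hχ
      rw [hconst, classInner_def, Finset.sum_const, Finset.card_univ, ← Nat.card_eq_fintype_card, nsmul_eq_mul,
        ← mul_assoc, inv_mul_cancel₀ (Nat.cast_ne_zero.2 Nat.card_pos.ne'), one_mul, Complex.conj_natCast,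
        ← Nat.cast_mul, Nat.cast_eq_one] at h1
      have h2 := Nat.eq_one_of_mul_eq_one_left h1
      omega
  have hc : g ∈ Subgroup.center S := Subgroup.mem_center_iff.2 fun x => by
    refine (ρ.ker_eq_bot_iff.1 hker) ?_
    rw [map_mul, map_mul, hg]
    ext v
    simp
  rcases IsSimpleGroup.eq_bot_or_eq_top_of_normal (Subgroup.center S) inferInstance with h | h
  · rw [h, Subgroup.mem_bot] at hc; exact hc
  · exact absurd (fun a b => (Subgroup.mem_center_iff.1 (h ▸ Subgroup.mem_top b) a)) hna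

theorem degree_ne_two (hna : ¬ ∀ a b : S, a * b = b * a) {χ : S → ℂ} (hχ : Cfsg.IsIrrCharacter S χ) :
    χ 1 ≠ 2 := by
  classical
  haveI := Fintype.ofFinite S
  intro h2
  have h2' : χ 1 = ((2 : ℕ) : ℂ) := by rw [h2]; norm_num
  obtain ⟨t, ht⟩ := exists_prime_orderOf_dvd_card' 2 (hp := ⟨Nat.prime_two⟩)
    (IsIrrCharacter.degree_dvd_card hχ h2')
  obtain ⟨n, ρ, hρ, rfl⟩ := hχ
  rw [ρ.char_one, Module.finrank_fin_fun, Nat.cast_inj] at h2'
  subst h2'
  let m : S →* Matrix (Fin 2) (Fin 2) ℂ :=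
    (LinearMap.toMatrixAlgEquiv' : _ ≃ₐ[ℂ] Matrix (Fin 2) (Fin 2) ℂ).toMulEquiv.toMonoidHom.comp ρ
  let δ : S →* ℂˣ := (Matrix.detMonoidHom.comp m).toHomUnits
  have hδ : ∀ x, δ x = 1 := fun x => by
    have hle : commutator S ≤ δ.ker := Abelianization.commutator_subset_ker δ
    rw [commutator_eq_top hna] at hle
    exact MonoidHom.mem_ker.1 (hle (Subgroup.mem_top x))
  obtain ⟨c, hc⟩ := scalar_of_det_one (m t)
    (by
      have h3 := pow_orderOf_eq_one t
      rw [ht, pow_two] at h3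
      rw [← map_mul, h3, map_one])
    (congrArg Units.val (hδ t))
  have hρt : ρ t = c • (LinearMap.id : (Fin 2 → ℂ) →ₗ[ℂ] (Fin 2 → ℂ)) := by
    refine (LinearMap.toMatrixAlgEquiv' : _ ≃ₐ[ℂ] Matrix (Fin 2) (Fin 2) ℂ).injective ?_
    rw [map_smul, ← Module.End.one_eq_id, map_one]
    exact hc
  rw [eq_one_of_scalar hna hρ le_rfl hρt, orderOf_one] at ht
  norm_num at ht

/-- No nonabelian simple group has all its nonlinear degrees prime. -/
theorem not_prime_degrees (hna : ¬ ∀ a b : S, a * b = b * a)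
    (h : ∀ d ∈ Cfsg.charDegrees S, d = 1 ∨ d.Prime) : False := by
  classical
  haveI := Fintype.ofFinite S
  set D := {d : ℕ | d ∈ Cfsg.charDegrees S ∧ d.Prime}
  have hfin : D.Finite := (Set.finite_le_nat (Nat.card S)).subset fun d hd => by
    obtain ⟨χ, hχ, hχd⟩ := mem_charDegrees.1 hd.1
    exact Nat.le_of_dvd Nat.card_pos (IsIrrCharacter.degree_dvd_card hχ hχd)
  have hdeg1 : ∀ χ : S → ℂ, Cfsg.IsIrrCharacter S χ → ∀ m : ℕ, χ 1 = m → m ≠ 1 → m ∈ D :=
    fun χ hχ m hm hm1 => by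
      have hmem := mem_charDegrees.2 ⟨χ, hχ, hm⟩
      exact ⟨hmem, (h m hmem).resolve_left hm1⟩
  have hne : D.Nonempty := by
    by_contra hD
    refine hna (abelian_iff_degree_one.2 fun χ hχ => ?_)
    obtain ⟨m, -, hm⟩ := IsIrrCharacter.exists_degree hχ
    by_contra h1
    exact hD ⟨m, hdeg1 χ hχ m hm fun e => h1 (by rw [hm, e, Nat.cast_one])⟩
  obtain ⟨p, ⟨hpD, hp⟩, hmax⟩ := hfin.exists_maximal hne
  have hle : ∀ d ∈ D, d ≤ p := fun d hd => le_of_not_gt fun hlt => absurd (hmax hd hlt.le) (not_le.2 hlt)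
  haveI := Fact.mk hp
  obtain ⟨χ, hχ, hχp⟩ := mem_charDegrees.1 hpD
  have hp2 : p ≠ 2 := by
    rintro rfl
    exact degree_ne_two hna hχ (by rw [hχp]; norm_num)
  obtain ⟨n, ρ, hρ, rfl⟩ := id hχ
  haveI := hρ
  have hn : n = p := by
    have := hχp
    rwa [ρ.char_one, Module.finrank_fin_fun, Nat.cast_inj] at this
  have hnorm : ∀ g : S, ‖ρ.character g‖ = (n : ℝ) → g = 1 := fun g hg => by
    obtain ⟨ω, hω⟩ := (norm_character_eq_iff ρ g).1 (by rwa [Module.finrank_fin_fun])
    exact eq_one_of_scalar hna hρ (hn ▸ hp.two_le) hω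
  obtain ⟨T⟩ : Nonempty (Sylow p S) := inferInstance
  set P : Subgroup S := (T : Subgroup S) with hP
  haveI := Fintype.ofFinite P
  have hχ' := IsIrrCharacter.isCharacter hχ
  -- the Sylow subgroup is abelian
  have hab : ∀ x ∈ P, ∀ y ∈ P, x * y = y * x := by
    by_contra hcon
    push Not at hcon
    obtain ⟨x, hx, y, hy, hxy⟩ := hcon
    have hR := IsCharacter.restrict hχ' P
    have hbig : ¬ ∀ θ : P → ℂ, Cfsg.IsIrrCharacter P θ →
        Cfsg.classInner (fun g : P => ρ.character g) θ ≠ 0 → θ 1 = 1 := by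
      intro hall
      refine hxy ?_
      rw [← commutatorElement_eq_one_iff_mul_comm]
      refine hnorm _ ?_
      have hval : (fun g : P => ρ.character g) ⁅(⟨x, hx⟩ : P), ⟨y, hy⟩⁆ = (fun g : P => ρ.character g) 1 := by
        rw [eq_sum_irr (IsCharacter.isClassFunction hR), Finset.sum_apply, Finset.sum_apply]
        refine Finset.sum_congr rfl fun θ hθ => ?_
        simp only [Pi.smul_apply, smul_eq_mul]
        by_cases h0 : Cfsg.classInner (fun g : P => ρ.character g) θ = 0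
        · rw [h0, zero_mul, zero_mul]
        · obtain ⟨lam, rfl⟩ := IsCharacter.exists_hom (IsIrrCharacter.isCharacter (mem_irrFinset.1 hθ))
            (hall θ (mem_irrFinset.1 hθ) h0)
          congr 1
          have : lam ⁅(⟨x, hx⟩ : P), ⟨y, hy⟩⁆ = 1 := by
            rw [map_commutatorElement, commutatorElement_eq_one_iff_mul_comm, mul_comm]
          show ((lam _ : ℂˣ) : ℂ) = ((lam 1 : ℂˣ) : ℂ)
          rw [this, map_one]
      simp only [OneMemClass.coe_one] at hval
      have hcoe : ((⁅(⟨x, hx⟩ : P), ⟨y, hy⟩⁆ : P) : S) = ⁅x, y⁆ := map_commutatorElement P.subtype _ _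
      rw [hcoe] at hval
      rw [hval, hχp, Complex.norm_natCast, hn]
    push Not at hbig
    obtain ⟨θ, hθ, hθc, hθ1⟩ := hbig
    obtain ⟨m, hm0, hm⟩ := IsIrrCharacter.exists_degree hθ
    obtain ⟨k, hk⟩ := IsPGroup.iff_card.1 T.isPGroup'
    obtain ⟨i, -, rfl⟩ := (Nat.dvd_prime_pow hp).1 (hk ▸ IsIrrCharacter.degree_dvd_card hθ hm)
    have hi0 : i ≠ 0 := fun h0 => hθ1 (by rw [hm, h0, pow_zero, Nat.cast_one])
    have hile : p ^ i ≤ p := by
      have := IsCharacter.re_constituent_le hR hθ hθc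
      rw [hm, OneMemClass.coe_one, hχp, Complex.natCast_re, Complex.natCast_re] at this
      exact_mod_cast this
    have hi1 : i = 1 := le_antisymm ((Nat.pow_le_pow_iff_right hp.one_lt).1 (hile.trans (pow_one p).ge)) (by omega)
    subst hi1
    rw [pow_one] at hm
    have hres : (fun g : P => ρ.character g) = θ :=
      IsCharacter.eq_of_constituent hR hθ hθc (by simp only [OneMemClass.coe_one]; rw [hχp, hm])
    haveI : Nontrivial P := ⟨⟨⟨x, hx⟩, ⟨y, hy⟩, fun e => hxy (by rw [Subtype.mk.injEq] at e; rw [e])⟩⟩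
    haveI := IsPGroup.center_nontrivial (G := P) T.isPGroup'
    obtain ⟨⟨z, hz⟩, hz1⟩ := exists_ne (1 : Subgroup.center P)
    refine hz1 (Subtype.ext (Subtype.ext (hnorm (z : S) ?_)))
    obtain ⟨n', σ, hσ, hσθ⟩ := id hθ
    haveI := hσ
    have hn' : n' = p := by
      have := hm
      rwa [← hσθ, σ.char_one, Module.finrank_fin_fun, Nat.cast_inj] at this
    rcases char_eq_zero_or_norm_eq σ z (by
      rw [show Subgroup.centralizer ({z} : Set P) = ⊤ from eq_top_iff.2 fun w _ =>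
        Subgroup.mem_centralizer_singleton_iff.2 (Subgroup.mem_center_iff.1 hz w), Subgroup.index_top]
      exact Nat.coprime_one_right _) with h0 | h0
    · exfalso
      have := IsIrrCharacter.apply_center_mul hθ hz z⁻¹
      rw [mul_inv_cancel, ← hσθ, h0, zero_div, zero_mul, hσθ] at this
      exact IsIrrCharacter.apply_one_ne_zero hθ this
    · rw [hσθ, Module.finrank_fin_fun, hn', ← hres] at h0
      rw [show (n : ℝ) = (p : ℝ) by rw [hn]]; exact h0
  -- it has order `p`
  have hvan : ∀ g ∈ P, g ≠ 1 → ρ.character g = 0 := by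
    intro g hg hg1
    refine (char_eq_zero_or_norm_eq ρ g ?_).resolve_right fun h0 => hg1 (hnorm g (by rwa [Module.finrank_fin_fun] at h0))
    rw [Module.finrank_fin_fun, hn]
    refine hp.coprime_iff_not_dvd.2 fun hd => T.not_dvd_index (hd.trans (Subgroup.index_dvd_of_le fun y hy =>
      Subgroup.mem_centralizer_singleton_iff.2 (hab y hy g hg)))
  have hdvd : p ∣ Nat.card S := IsIrrCharacter.degree_dvd_card hχ hχp
  have hcard : Nat.card T = p := by
    obtain ⟨k, hk⟩ := IsCharacter.exists_classInner_eq_natCast (IsCharacter.restrict hχ' P)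
      (isIrrCharacter_one (G := P))
    rw [classInner_def, Finset.sum_eq_single (1 : P) (fun b _ hb => by
      rw [hvan b b.2 (fun e => hb (Subtype.ext e)), zero_mul]) (fun h1 => absurd (Finset.mem_univ _) h1),
      OneMemClass.coe_one, hχp, map_one, mul_one, inv_mul_eq_iff_eq_mul₀ (Nat.cast_ne_zero.2 Nat.card_pos.ne'),
      ← Nat.cast_mul, Nat.cast_inj] at hk
    exact ((Nat.dvd_prime hp).1 ⟨k, hk⟩).resolve_left fun h1 =>
      T.ne_bot_of_dvd_card hdvd (Subgroup.card_eq_one.1 h1)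
  have hnn : ¬ (P : Subgroup S).Normal := fun hn' => by
    rcases IsSimpleGroup.eq_bot_or_eq_top_of_normal P hn' with h1 | h1
    · exact T.ne_bot_of_dvd_card hdvd h1
    · exact hna fun a b => hab a (h1 ▸ Subgroup.mem_top a) b (h1 ▸ Subgroup.mem_top b)
  set e := (Subgroup.centralizer (P : Set S)).relIndex (Subgroup.normalizer (P : Set S)) with he
  have he2 : 2 ≤ e := by
    have he0 : e ≠ 0 := Subgroup.index_ne_zero_of_finite
    by_contra hlt
    have hle' := Subgroup.relIndex_eq_one.1 (show e = 1 by omega)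
    rcases IsSimpleGroup.eq_bot_or_eq_top_of_normal (MonoidHom.transferSylow T hle').ker inferInstance with h1 | h1
    · have hcomp := MonoidHom.ker_transferSylow_isComplement' T hle'
      have h2 := hcomp.card_mul
      rw [h1, Subgroup.card_bot, one_mul] at h2
      exact hnn (by rw [hP, Subgroup.eq_top_of_card_eq _ h2]; infer_instance)
    · have hcomp := MonoidHom.ker_transferSylow_isComplement' T hle'
      have h2 := hcomp.disjoint
      rw [h1] at h2
      exact T.ne_bot_of_dvd_card hdvd (top_disjoint.1 h2)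
  obtain ⟨M, hM⟩ := CfsgLib.Block.exists_isPModular hp
  haveI := hM.2.1.isPrime
  haveI := CfsgLib.Block.charP_residue hM
  letI := CfsgLib.Block.Chr.irrFintype (G := S)
  haveI : Fintype (Cfsg.principalBlock M S) := Fintype.ofFinite _
  obtain ⟨X, εX, ε, hX, -, hXv, -, -, -, -⟩ := CfsgLib.Cyclic.principal_prime_order hM T hcard he.symm
  obtain ⟨a, ha, b, hb, hab'⟩ := Finset.one_lt_card.1 (show 1 < X.card by omega)
  have key : ∀ θ ∈ X, ∀ g, ((θ : IrrCharacter S) : S → ℂ) g = 1 := by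
    intro θ hθ
    obtain ⟨hs, hcong, -⟩ := hXv θ hθ
    obtain ⟨m, hm0, hm⟩ := IsIrrCharacter.exists_degree (θ : IrrCharacter S).2
    have hdm : CfsgLib.Cyclic.deg (θ : IrrCharacter S) = (m : ℤ) := by
      show ((charDegree ((θ : IrrCharacter S) : S → ℂ) : ℕ) : ℤ) = m
      rw [charDegree_natCast hm]
    rw [hdm] at hcong
    by_cases hm1 : m = 1
    · subst hm1
      rw [Nat.cast_one] at hm
      intro g
      rw [CfsgLib.PClosedBound.eq_one_of_apply_one (commutator_eq_top hna) (θ : IrrCharacter S).2 hm]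
    exfalso
    have hmD := hdeg1 _ (θ : IrrCharacter S).2 m hm hm1
    have hm2 : m ≠ 2 := fun e2 => degree_ne_two hna (θ : IrrCharacter S).2 (by rw [hm, e2]; norm_num)
    have hmp := hle m hmD
    have hmodd := hmD.2.eq_two_or_odd.resolve_left hm2
    have hpodd := hp.eq_two_or_odd.resolve_left hp2
    have hm3 := hmD.2.two_le
    rcases hs with hs | hs <;> rw [hs] at hcong
    · have h1 : (p : ℤ) ∣ (m : ℤ) - 1 := Int.modEq_iff_dvd.1 hcong.symm
      have := Int.le_of_dvd (by omega) h1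
      omega
    · have h1 : (p : ℤ) ∣ (m : ℤ) + 1 := by simpa using Int.modEq_iff_dvd.1 hcong.symm
      obtain ⟨c, hc⟩ := h1
      rcases le_or_gt c 0 with hc0 | hc0
      · nlinarith
      rcases le_or_gt c 1 with hc1 | hc1
      · obtain rfl : c = 1 := by omega
        omega
      · nlinarith
  exact hab' (Subtype.ext (Subtype.ext (funext fun g => (key a ha g).trans (key b hb g).symm)))

end simple

/-- A group whose nonlinear degrees are primes is solvable. -/
theorem isSolvable_of_prime_degrees [Finite G] (h : ∀ d ∈ Cfsg.charDegrees G, d = 1 ∨ d.Prime) :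
    Group.IsSolvable G := by
  classical
  haveI := Fintype.ofFinite G
  by_contra hns
  have hex : ∃ c, ∃ n, Nat.card (derivedSeries G n) = c := ⟨_, 0, rfl⟩
  obtain ⟨n, hn⟩ := Nat.find_spec hex
  have hsucc : derivedSeries G (n + 1) = derivedSeries G n := by
    refine Subgroup.eq_of_le_of_card_ge ?_ ?_
    · rw [derivedSeries_succ]; exact Subgroup.commutator_le_left _ _
    · rw [hn]; exact Nat.find_min' hex ⟨n + 1, rfl⟩
  set L := derivedSeries G n with hL
  haveI := Fintype.ofFinite L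
  have hL1 : L ≠ ⊥ := fun e => hns ((isSolvable_def G).2 ⟨n, e⟩)
  haveI : L.Normal := derivedSeries_normal G n
  haveI : Nontrivial L := (Subgroup.nontrivial_iff_ne_bot L).2 hL1
  have hperf : commutator L = ⊤ := by
    refine Subgroup.map_injective L.subtype_injective ?_
    rw [Subgroup.map_subtype_commutator, ← MonoidHom.range_eq_map, Subgroup.range_subtype, hL,
      ← derivedSeries_succ, hsucc]
  have hdegL : ∀ d ∈ Cfsg.charDegrees L, d = 1 ∨ d.Prime := by
    intro d hd
    obtain ⟨θ, hθ, hθd⟩ := mem_charDegrees.1 hd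
    obtain ⟨f, hf, hc⟩ := DegreesPrime.exists_over L hθ
    obtain ⟨m, -, hm⟩ := IsIrrCharacter.exists_degree hf
    have hdm := TwoDegrees.degree_dvd hf hθ hc hm hθd
    rcases h m (mem_charDegrees.2 ⟨f, hf, hm⟩) with h1 | h1
    · subst h1; exact Or.inl (Nat.dvd_one.1 hdm)
    · rcases (Nat.dvd_prime h1).1 hdm with h2 | h2
      · exact Or.inl h2
      · exact Or.inr (h2 ▸ h1)
  obtain ⟨R, ⟨hR, hRtop⟩, hRmax⟩ := Set.Finite.exists_maximal
    (s := {R : Subgroup L | R.Normal ∧ R ≠ ⊤}) (Set.toFinite _) ⟨⊥, inferInstance, bot_ne_top⟩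
  haveI := hR
  haveI : Nontrivial (L ⧸ R) := QuotientGroup.nontrivial_iff.2 hRtop
  haveI : IsSimpleGroup (L ⧸ R) := by
    refine ⟨fun M hM => ?_⟩
    haveI := hM
    by_cases hM1 : M.comap (QuotientGroup.mk' R) = ⊤
    · right
      rw [← Subgroup.map_comap_eq_self_of_surjective (QuotientGroup.mk'_surjective R) M, hM1,
        Subgroup.map_top_of_surjective _ (QuotientGroup.mk'_surjective R)]
    · left
      have hle : R ≤ M.comap (QuotientGroup.mk' R) := fun x hx => by
        show QuotientGroup.mk' R x ∈ M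
        rw [show QuotientGroup.mk' R x = 1 from (QuotientGroup.eq_one_iff x).2 hx]; exact one_mem M
      have := le_antisymm (hRmax ⟨inferInstance, hM1⟩ hle) hle
      rw [← Subgroup.map_comap_eq_self_of_surjective (QuotientGroup.mk'_surjective R) M, this,
        QuotientGroup.map_mk'_self]
  refine not_prime_degrees (S := L ⧸ R) (fun hab => ?_) fun d hd => ?_
  · refine hRtop (eq_top_iff.2 ?_)
    rw [← hperf, commutator_def, Subgroup.commutator_le]
    intro a _ b _
    rw [← QuotientGroup.eq_one_iff, show ((⁅a, b⁆ : L) : L ⧸ R) = ⁅(a : L ⧸ R), (b : L ⧸ R)⁆ from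
      map_commutatorElement (QuotientGroup.mk' R) a b, commutatorElement_eq_one_iff_mul_comm]
    exact hab _ _
  · obtain ⟨θ, hθ, hθd⟩ := mem_charDegrees.1 hd
    exact hdegL d (mem_charDegrees.2 ⟨inflate R θ, IsIrrCharacter.inflate R hθ, by rw [← hθd]; rfl⟩)

end CfsgLib.Char.PrimeDeg
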