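import Cfsg.Agent.Char.DegreesPrime
import Cfsg.Agent.Char.Values
import Mathlib.GroupTheory.Solvable
import Mathlib.GroupTheory.Sylow

/-!
# A minimal nonabelian solvable quotient and the degrees over it

Isaacs, Lemmas 12.3 and 12.4.
-/

set_option autoImplicit false
set_option linter.style.haveILetI false
set_option linter.unusedSectionVars false

namespace CfsgLib.Char.NonabQuot

open scoped commutatorElement

universe u

variable {G : Type u} [Group G] [Finite G]

/-- A nontrivial solvable group with every nontrivial normal subgroup containing the commutator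
subgroup, which is not trivial. -/
theorem structure_of_minimal {Q : Type u} [Group Q] [Finite Q] [Group.IsSolvable Q]
    (hne : commutator Q ≠ ⊥) (hmin : ∀ M : Subgroup Q, M.Normal → M ≠ ⊥ → commutator Q ≤ M) :
    ∃ s : ℕ, s.Prime ∧ (∃ a, a ≠ 0 ∧ Nat.card (commutator Q) = s ^ a) ∧
      (∀ a ∈ commutator Q, ∀ b ∈ commutator Q, a * b = b * a) ∧
      ((∃ b, Nat.card Q = s ^ b) ∨
        (commutator Q ≠ ⊤ ∧ ∀ y ∉ commutator Q, ∀ k ∈ commutator Q, y * k = k * y → k = 1)) := by
  classical
  set D := commutator Q with hD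
  haveI : D.Normal := hD ▸ inferInstance
  have hDD : ⁅D, D⁆ = ⊥ := by
    by_contra h
    have h1 : D ≤ ⁅D, D⁆ := hmin _ (Subgroup.commutator_normal D D) h
    haveI : Nontrivial D := (Subgroup.nontrivial_iff_ne_bot D).2 hne
    have h2 : commutator D < ⊤ := Group.IsSolvable.commutator_lt_top_of_nontrivial D
    refine h2.ne ?_
    rw [eq_top_iff]
    intro x _
    have hx : (x : Q) ∈ (commutator D).map D.subtype := by
      rw [Subgroup.map_subtype_commutator]; exact h1 x.2
    obtain ⟨y, hy, hyx⟩ := Subgroup.mem_map.1 hx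
    rwa [← Subtype.ext (hyx : (y : Q) = x)]
  have hab : ∀ a ∈ D, ∀ b ∈ D, a * b = b * a := fun a ha b hb => by
    rw [← commutatorElement_eq_one_iff_mul_comm, ← Subgroup.mem_bot, ← hDD]
    exact Subgroup.commutator_mem_commutator ha hb
  haveI : IsMulCommutative D := ⟨⟨fun a b => Subtype.ext (hab a a.2 b b.2)⟩⟩
  have hD1 : Nat.card D ≠ 1 := fun h => hne (Subgroup.card_eq_one.1 h)
  obtain ⟨s, hs, hsD⟩ := Nat.exists_prime_and_dvd hD1
  haveI := Fact.mk hs
  -- the Sylow `s`-subgroup of `D` is everything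
  have hDp : IsPGroup s D := by
    obtain ⟨T⟩ : Nonempty (Sylow s D) := inferInstance
    haveI : (T : Subgroup D).Normal := Subgroup.normal_of_isMulCommutative _
    haveI : (T : Subgroup D).Characteristic := Sylow.characteristic_of_normal T inferInstance
    have hTne : (T : Subgroup D).map D.subtype ≠ ⊥ := fun h => by
      rw [Subgroup.map_eq_bot_iff_of_injective _ D.subtype_injective] at h
      exact T.ne_bot_of_dvd_card hsD h
    have hDT := hmin _ inferInstance hTne
    have htop : (T : Subgroup D) = ⊤ := eq_top_iff.2 fun x _ => by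
      obtain ⟨y, hy, hyx⟩ := Subgroup.mem_map.1 (hDT x.2)
      rwa [← Subtype.ext (hyx : (y : Q) = x)]
    exact fun x => by
      obtain ⟨k, hk⟩ := T.isPGroup' ⟨x, htop ▸ Subgroup.mem_top x⟩
      exact ⟨k, congrArg Subtype.val hk⟩
  obtain ⟨a, ha⟩ := IsPGroup.iff_card.1 hDp
  have ha0 : a ≠ 0 := fun h => hD1 (by rw [ha, h, pow_zero])
  refine ⟨s, hs, ⟨a, ha0, ha⟩, hab, ?_⟩
  by_cases hZ : Subgroup.center Q = ⊥
  · right
    have hfix : ∀ y : Q, (∀ k ∈ D, y * k = k * y) ∨ ∀ k ∈ D, y * k = k * y → k = 1 := by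
      intro y
      have hF : (D ⊓ Subgroup.centralizer ({y} : Set Q)).Normal := ⟨fun k hk g => by
        obtain ⟨hk1, hk2⟩ := Subgroup.mem_inf.1 hk
        refine Subgroup.mem_inf.2 ⟨Subgroup.Normal.conj_mem inferInstance k hk1 g, ?_⟩
        rw [Subgroup.mem_centralizer_singleton_iff] at hk2 ⊢
        have hd : y⁻¹ * (g⁻¹ * y * g) ∈ D := by
          rw [show y⁻¹ * (g⁻¹ * y * g) = ⁅y⁻¹, g⁻¹⁆ by simp [commutatorElement_def, mul_assoc]]
          exact Subgroup.commutator_mem_commutator (Subgroup.mem_top _) (Subgroup.mem_top _)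
        have hc : k * (g⁻¹ * y * g) = g⁻¹ * y * g * k := by
          calc k * (g⁻¹ * y * g) = k * y * (y⁻¹ * (g⁻¹ * y * g)) := by group
            _ = y * (k * (y⁻¹ * (g⁻¹ * y * g))) := by rw [hk2, mul_assoc]
            _ = _ := by rw [hab _ hk1 _ hd]; group
        calc g * k * g⁻¹ * y = g * (k * (g⁻¹ * y * g)) * g⁻¹ := by group
          _ = _ := by rw [hc]; group⟩
      by_cases h : D ⊓ Subgroup.centralizer ({y} : Set Q) = ⊥
      · right
        intro k hk hky
        rw [← Subgroup.mem_bot, ← h]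
        exact Subgroup.mem_inf.2 ⟨hk, Subgroup.mem_centralizer_singleton_iff.2 hky.symm⟩
      · left
        intro k hk
        exact ((Subgroup.mem_centralizer_singleton_iff.1
          (Subgroup.mem_inf.1 (hmin _ hF h hk)).2)).symm
    obtain ⟨y, hy⟩ : ∃ y : Q, ¬ ∀ k ∈ D, y * k = k * y := by
      by_contra h
      push Not at h
      refine hne (le_bot_iff.1 ?_)
      rw [← hZ]
      exact fun k hk => Subgroup.mem_center_iff.2 fun g => h g k hk
    refine ⟨fun htop => hy fun k hk => hab y (htop ▸ Subgroup.mem_top y) k hk, fun c hc => ?_⟩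
    rcases hfix c with hcent | hcfix
    swap
    · exact hcfix
    exfalso
    have hyfix := (hfix y).resolve_left hy
    -- commutation with `y` is onto `D`
    let f : D → D := fun k => ⟨⁅(k : Q), y⁆,
      Subgroup.commutator_mem_commutator (Subgroup.mem_top _) (Subgroup.mem_top _)⟩
    have hf : Function.Injective f := fun k l h => by
      have h1 : ⁅(k : Q), y⁆ = ⁅(l : Q), y⁆ := congrArg Subtype.val h
      have h2 : (l : Q)⁻¹ * k * y = y * ((l : Q)⁻¹ * k) := by
        rw [commutatorElement_def, commutatorElement_def, mul_left_inj] at h1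
        calc (l : Q)⁻¹ * k * y = (l : Q)⁻¹ * (k * y * (k : Q)⁻¹) * k := by group
          _ = _ := by rw [h1]; group
      exact Subtype.ext (inv_mul_eq_one.1 (hyfix _ (D.mul_mem (D.inv_mem l.2) k.2) h2.symm)).symm
    obtain ⟨k, hk⟩ := (Finite.injective_iff_surjective.1 hf) ⟨⁅c, y⁆,
      Subgroup.commutator_mem_commutator (Subgroup.mem_top _) (Subgroup.mem_top _)⟩
    have hk1 : ⁅(k : Q), y⁆ = ⁅c, y⁆ := congrArg Subtype.val hk
    set w := (k : Q)⁻¹ * c
    have hwy : w * y = y * w := by
      rw [commutatorElement_def, commutatorElement_def, mul_left_inj] at hk1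
      show (k : Q)⁻¹ * c * y = y * ((k : Q)⁻¹ * c)
      calc (k : Q)⁻¹ * c * y = (k : Q)⁻¹ * (c * y * c⁻¹) * c := by group
        _ = _ := by rw [← hk1]; group
    have hwc : ∀ d ∈ D, w * d = d * w := fun d hd => by
      rw [mul_assoc, hcent d hd, ← mul_assoc, hab _ (D.inv_mem k.2) d hd, mul_assoc]
    have hW : (Subgroup.centralizer (D : Set Q) ⊓ Subgroup.centralizer ({y} : Set Q)).Normal := ⟨fun u hu g => by
      obtain ⟨hu1, hu2⟩ := Subgroup.mem_inf.1 hu
      refine Subgroup.mem_inf.2 ⟨Subgroup.Normal.conj_mem inferInstance u hu1 g, ?_⟩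
      rw [Subgroup.mem_centralizer_singleton_iff] at hu2 ⊢
      have hd : y⁻¹ * (g⁻¹ * y * g) ∈ D := by
        rw [show y⁻¹ * (g⁻¹ * y * g) = ⁅y⁻¹, g⁻¹⁆ by simp [commutatorElement_def, mul_assoc]]
        exact Subgroup.commutator_mem_commutator (Subgroup.mem_top _) (Subgroup.mem_top _)
      have hc : u * (g⁻¹ * y * g) = g⁻¹ * y * g * u := by
        calc u * (g⁻¹ * y * g) = u * y * (y⁻¹ * (g⁻¹ * y * g)) := by group
          _ = y * (u * (y⁻¹ * (g⁻¹ * y * g))) := by rw [hu2, mul_assoc]
          _ = _ := by rw [← Subgroup.mem_centralizer_iff.1 hu1 _ hd]; group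
      calc g * u * g⁻¹ * y = g * (u * (g⁻¹ * y * g)) * g⁻¹ := by group
        _ = _ := by rw [hc]; group⟩
    have hw1 : w = 1 := by
      by_contra h
      have hle := hmin _ hW (fun hb => h (Subgroup.mem_bot.1 (hb ▸ Subgroup.mem_inf.2
        ⟨Subgroup.mem_centralizer_iff.2 fun d hd => (hwc d hd).symm,
          Subgroup.mem_centralizer_singleton_iff.2 hwy⟩)))
      exact hy fun d hd => (Subgroup.mem_centralizer_singleton_iff.1 (Subgroup.mem_inf.1 (hle hd)).2).symm
    exact hc ((inv_mul_eq_one.1 hw1) ▸ k.2)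
  · left
    have hle : D ≤ Subgroup.center Q := hmin _ inferInstance hZ
    haveI : Group.IsNilpotent Q := by
      haveI : Group.IsNilpotent (Q ⧸ Subgroup.center Q) := by
        have hcm : ∀ a b : Q ⧸ Subgroup.center Q, a * b = b * a := by
          intro a b
          induction a using QuotientGroup.induction_on
          induction b using QuotientGroup.induction_on
          rename_i a b
          rw [← QuotientGroup.mk_mul, ← QuotientGroup.mk_mul, QuotientGroup.eq]
          refine hle ?_
          rw [show (a * b)⁻¹ * (b * a) = ⁅b⁻¹, a⁻¹⁆ by simp [commutatorElement_def, mul_assoc]]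
          exact Subgroup.commutator_mem_commutator (Subgroup.mem_top _) (Subgroup.mem_top _)
        letI : CommGroup (Q ⧸ Subgroup.center Q) := { (inferInstance : Group (Q ⧸ Subgroup.center Q)) with mul_comm := hcm }
        exact CommGroup.isNilpotent (G := Q ⧸ Subgroup.center Q)
      exact Group.of_quotient_center_nilpotent inferInstance
    have hall : ∀ t : ℕ, t.Prime → t ∣ Nat.card Q → t = s := by
      intro t ht htQ
      haveI := Fact.mk ht
      obtain ⟨T⟩ : Nonempty (Sylow t Q) := inferInstance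
      have hTn : (T : Subgroup Q).Normal :=
        T.normal_of_normalizerCondition Group.normalizerCondition_of_isNilpotent
      have hsT : s ∣ Nat.card (T : Subgroup Q) :=
        hsD.trans (Subgroup.card_dvd_of_le (hmin _ hTn (T.ne_bot_of_dvd_card htQ)))
      obtain ⟨k, hk⟩ := IsPGroup.iff_card.1 T.isPGroup'
      rw [hk] at hsT
      exact ((Nat.prime_dvd_prime_iff_eq hs ht).1 (hs.dvd_of_dvd_pow hsT)).symm
    exact ⟨_, Nat.eq_prime_pow_of_unique_prime_dvd Nat.card_pos.ne' fun {d} hd hdQ => hall d hd hdQ⟩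

/-- Lemma 12.3: a solvable nonabelian group has a quotient of one of two types. -/
theorem exists_quotient [Group.IsSolvable G] (hG : commutator G ≠ ⊥) :
    ∃ (s : ℕ) (N K : Subgroup G), s.Prime ∧ N.Normal ∧ K.Normal ∧ N ≤ K ∧
      (∀ a b : G, ⁅a, b⁆ ∈ K) ∧ (∀ a ∈ K, ∀ b ∈ K, ⁅a, b⁆ ∈ N) ∧
      (∃ a, a ≠ 0 ∧ N.relIndex K = s ^ a) ∧
      (((∃ b, N.index = s ^ b) ∧ ∃ a b : G, ⁅a, b⁆ ∉ N) ∨
        (K ≠ ⊤ ∧ ∀ y ∉ K, ∀ k ∈ K, ⁅y, k⁆ ∈ N → k ∈ N)) := by
  classical
  obtain ⟨N, hN, hmax⟩ := Set.Finite.exists_maximal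
    (s := {N : Subgroup G | N.Normal ∧ ¬ commutator G ≤ N}) (Set.toFinite _)
    ⟨⊥, inferInstance, fun h => hG (le_bot_iff.1 h)⟩
  obtain ⟨hNn, hNc⟩ := hN
  haveI := hNn
  set π := QuotientGroup.mk' N with hπ
  have hπs : Function.Surjective π := QuotientGroup.mk'_surjective N
  have hmap : (commutator G).map π = commutator (G ⧸ N) := by
    rw [commutator_def, Subgroup.map_commutator, Subgroup.map_top_of_surjective π hπs, ← commutator_def]
  have hne : commutator (G ⧸ N) ≠ ⊥ := fun h => by
    rw [← hmap, Subgroup.map_eq_bot_iff, QuotientGroup.ker_mk'] at h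
    exact hNc h
  haveI : Group.IsSolvable (G ⧸ N) := Group.isSolvable_of_surjective hπs
  obtain ⟨s, hs, ⟨a, ha0, ha⟩, hab, hcase⟩ := structure_of_minimal hne (fun M hM hM1 => by
    haveI := hM
    have hle : N ≤ M.comap π := fun x hx => by
      show π x ∈ M
      rw [show π x = 1 from (QuotientGroup.eq_one_iff x).2 hx]; exact one_mem M
    by_contra hcon
    have heq : M.comap π = N :=
      le_antisymm (hmax ⟨inferInstance, fun h => hcon (by rw [← hmap]; exact Subgroup.map_le_iff_le_comap.2 h)⟩ hle) hle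
    exact hM1 (by rw [← Subgroup.map_comap_eq_self_of_surjective hπs M, heq, QuotientGroup.map_mk'_self]))
  set K := (commutator (G ⧸ N)).comap π with hK
  have hmem : ∀ x : G, x ∈ K ↔ π x ∈ commutator (G ⧸ N) := fun x => Iff.rfl
  have hN1 : ∀ x : G, π x = 1 ↔ x ∈ N := fun x => QuotientGroup.eq_one_iff x
  have hNK : N ≤ K := fun x hx => (hmem x).2 ((hN1 x).2 hx ▸ one_mem _)
  refine ⟨s, N, K, hs, hNn, inferInstance, hNK, fun x y => ?_, fun x hx y hy => ?_, ⟨a, ha0, ?_⟩, ?_⟩
  · rw [hmem, map_commutatorElement]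
    exact Subgroup.commutator_mem_commutator (Subgroup.mem_top _) (Subgroup.mem_top _)
  · rw [← hN1, map_commutatorElement, commutatorElement_eq_one_iff_mul_comm]
    exact hab _ hx _ hy
  · rw [← ha]
    refine Nat.eq_of_mul_eq_mul_right (Nat.pos_of_ne_zero (Subgroup.index_ne_zero_of_finite (H := K))) ?_
    rw [Subgroup.relIndex_mul_index hNK, hK, Subgroup.index_comap_of_surjective _ hπs, Subgroup.card_mul_index,
      Subgroup.index_eq_card]
  · rcases hcase with ⟨b, hb⟩ | ⟨htop, hfpf⟩
    · refine Or.inl ⟨⟨b, by rw [Subgroup.index_eq_card, hb]⟩, ?_⟩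
      by_contra h
      push Not at h
      exact hNc (by rw [commutator_def, Subgroup.commutator_le]; exact fun x _ y _ => h x y)
    · refine Or.inr ⟨fun h => htop ?_, fun y hy k hk hyk => ?_⟩
      · rw [← Subgroup.map_comap_eq_self_of_surjective hπs (commutator (G ⧸ N)), ← hK, h,
          Subgroup.map_top_of_surjective π hπs]
      · rw [← hN1]
        refine hfpf (π y) hy (π k) hk ?_
        rw [← commutatorElement_eq_one_iff_mul_comm, ← map_commutatorElement, hN1]
        exact hyk

/-- Lemma 12.4: over a Frobenius section, a degree is multiplied by the index or divisible by `s`. -/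
theorem exists_degree_mul [Fintype G] {N K : Subgroup G} [N.Normal] [K.Normal] (hNK : N ≤ K)
    (hab : ∀ a ∈ K, ∀ b ∈ K, ⁅a, b⁆ ∈ N) {s a : ℕ} (hs : s.Prime) (ha0 : a ≠ 0)
    (hidx : N.relIndex K = s ^ a) (hfpf : ∀ y ∉ K, ∀ k ∈ K, ⁅y, k⁆ ∈ N → k ∈ N)
    (hcommK : ∀ a b : G, ⁅a, b⁆ ∈ K)
    {ψ : K → ℂ} (hψ : Cfsg.IsIrrCharacter K ψ) {m : ℕ} (hm : ψ 1 = m) (hsm : ¬ s ∣ m) :
    ∃ χ : G → ℂ, Cfsg.IsIrrCharacter G χ ∧ χ 1 = ((K.index * m : ℕ) : ℂ) := by
  classical
  haveI := Fintype.ofFinite K
  set N' := N.subgroupOf K with hN'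
  haveI : N'.Normal := Subgroup.Normal.subgroupOf inferInstance K
  haveI := Fintype.ofFinite N'
  -- the restriction to `N` is irreducible
  obtain ⟨θ, hθ, hc⟩ := exists_constituent_restrict (N := N') hψ
  obtain ⟨k, hk, hk1⟩ := exists_degree_ratio hψ hθ hc
  obtain ⟨d, -, hd⟩ := IsIrrCharacter.exists_degree hθ
  rw [hm, hd, ← Nat.cast_mul, Nat.cast_inj] at hk1
  have hidx' : N'.index = s ^ a := hidx
  obtain ⟨i, -, rfl⟩ := (Nat.dvd_prime_pow hs).1 (hidx' ▸ hk)
  have hi : i = 0 := by
    by_contra hi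
    exact hsm (hk1 ▸ Dvd.dvd.mul_right (dvd_pow_self s hi) d)
  subst hi
  rw [pow_zero, one_mul] at hk1
  have hres : (fun n : N' => ψ n) = θ :=
    IsCharacter.eq_of_constituent (IsCharacter.restrict (IsIrrCharacter.isCharacter hψ) N') hθ hc
      (by simp only [OneMemClass.coe_one]; rw [hm, hd, hk1])
  have hresI : Cfsg.IsIrrCharacter N' (fun n : N' => ψ n) := hres ▸ hθ
  have hgal := gallagher_one (N := N') hψ hresI
  -- twists by linear characters trivial on `N`
  set L := {lam : K →* ℂˣ // ∀ x ∈ N', lam x = 1}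
  let tw : L → K → ℂ := fun lam => (fun x => (lam.1 x : ℂ)) * ψ
  have hlamset : ∀ lam : L, (fun x => (lam.1 x : ℂ)) ∈
      {β : K → ℂ | Cfsg.IsIrrCharacter K β ∧ ∀ n ∈ N', β n = β 1} := fun lam =>
    ⟨isIrrCharacter_ofHom lam.1, fun n hn => by show ((lam.1 n : ℂ)) = (lam.1 1 : ℂ); rw [lam.2 n hn, map_one]⟩
  have htwirr : ∀ lam : L, Cfsg.IsIrrCharacter K (tw lam) := fun lam => (hgal.mapsTo (hlamset lam)).1
  have htwres : ∀ (lam : L) (x : K), x ∈ N' → tw lam x = ψ x := fun lam x hx => by
    simp only [tw, Pi.mul_apply, lam.2 x hx, Units.val_one, one_mul]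
  have htwone : ∀ lam : L, tw lam 1 = ψ 1 := fun lam => htwres lam 1 N'.one_mem
  have htwinj : ∀ lam lam' : L, tw lam = tw lam' → lam = lam' := fun lam lam' h => by
    have := hgal.injOn (hlamset lam) (hlamset lam') h
    exact Subtype.ext (MonoidHom.ext fun x => Units.ext (congrFun this x))
  have hfixres : ∀ (g : G) (lam : L), conjOn g (tw lam) = tw lam →
      ∀ x : K, x ∈ N' → ψ ⟨g * x * g⁻¹, Subgroup.Normal.conj_mem inferInstance _ x.2 g⟩ = ψ x := by
    intro g lam hg x hx
    have h := congrFun hg x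
    rw [conjOn_apply, htwres lam x hx, htwres lam _ (show (_ : K) ∈ N' from
      Subgroup.mem_subgroupOf.2 (Subgroup.Normal.conj_mem inferInstance _ (Subgroup.mem_subgroupOf.1 hx) g))] at h
    exact h
  -- an element outside `K` fixes at most one twist
  have huniq : ∀ g ∉ K, ∀ lam lam' : L, conjOn g (tw lam) = tw lam →
      conjOn g (tw lam') = tw lam' → lam = lam' := by
    intro g hg lam lam' h1 h2
    let μ : L := ⟨lam'.1 / lam.1, fun x hx => by rw [MonoidHom.div_apply, lam'.2 x hx, lam.2 x hx, div_one]⟩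
    let μg : L := ⟨μ.1.comp (MulAut.conjNormal g : K ≃* K).toMonoidHom, fun x hx => μ.2 _ (by
      rw [hN', Subgroup.mem_subgroupOf]
      show ((MulAut.conjNormal g x : K) : G) ∈ N
      rw [MulAut.conjNormal_apply]
      exact Subgroup.Normal.conj_mem inferInstance _ (Subgroup.mem_subgroupOf.1 hx) g)⟩
    have hμ : ∀ x, tw lam' x = (μ.1 x : ℂ) * tw lam x := fun x => by
      simp only [tw, μ, Pi.mul_apply, MonoidHom.div_apply, Units.val_div_eq_div_val]
      rw [← mul_assoc, div_mul_cancel₀ _ (Units.ne_zero _)]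
    have heq : (fun x => (μg.1 x : ℂ)) * tw lam = (fun x => (μ.1 x : ℂ)) * tw lam := by
      funext x
      have ha := congrFun h1 x
      have hb := congrFun h2 x
      rw [conjOn_apply] at ha hb
      rw [hμ, hμ, ha] at hb
      exact hb
    have hμeq : μg = μ := by
      have := (gallagher_one (N := N') (htwirr lam) (by
        rw [show (fun n : N' => tw lam n) = fun n : N' => ψ n from funext fun n => htwres lam n n.2]
        exact hresI)).injOn (hlamset μg) (hlamset μ) heq
      exact Subtype.ext (MonoidHom.ext fun x => Units.ext (congrFun this x))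
    have hμ1 : ∀ x : K, μ.1 x = 1 := by
      haveI : IsMulCommutative (K ⧸ N') := ⟨⟨fun u v => by
        induction u using QuotientGroup.induction_on
        induction v using QuotientGroup.induction_on
        rename_i u v
        rw [← QuotientGroup.mk_mul, ← QuotientGroup.mk_mul, QuotientGroup.eq, Subgroup.mem_subgroupOf,
          show (((u * v)⁻¹ * (v * u) : K) : G) = ⁅((v : G))⁻¹, ((u : G))⁻¹⁆ by simp [commutatorElement_def, mul_assoc]]
        exact hab _ (K.inv_mem v.2) _ (K.inv_mem u.2)⟩⟩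
      let q := QuotientGroup.mk' N'
      let φ : K →* K ⧸ N' :=
        { toFun := fun x => q (MulAut.conjNormal g x) * (q x)⁻¹
          map_one' := by simp
          map_mul' := fun u v => by
            simp only [map_mul, _root_.mul_inv_rev]
            rw [mul_comm' (q v)⁻¹ (q u)⁻¹, mul_assoc, mul_assoc, ← mul_assoc (q ((MulAut.conjNormal g) v)),
              mul_comm' (q ((MulAut.conjNormal g) v)) (q u)⁻¹, mul_assoc] }
      have hφ : ∀ x : K, φ x = 1 → x ∈ N' := fun x hx => by
        rw [Subgroup.mem_subgroupOf]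
        refine hfpf g hg x x.2 ?_
        have h : MulAut.conjNormal g x * x⁻¹ ∈ N' := (QuotientGroup.eq_one_iff _).1 (by
          show q (MulAut.conjNormal g x * x⁻¹) = 1
          rw [map_mul, map_inv]; exact hx)
        rw [Subgroup.mem_subgroupOf, Subgroup.coe_mul, Subgroup.coe_inv, MulAut.conjNormal_apply] at h
        exact h
      have hN'φ : N' ≤ φ.ker := fun x hx => by
        show q (MulAut.conjNormal g x) * (q x)⁻¹ = 1
        have h1 : q x = 1 := (QuotientGroup.eq_one_iff x).2 hx
        have h2 : q (MulAut.conjNormal g x) = 1 := (QuotientGroup.eq_one_iff _).2 (by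
          rw [Subgroup.mem_subgroupOf, MulAut.conjNormal_apply]
          exact Subgroup.Normal.conj_mem inferInstance _ (Subgroup.mem_subgroupOf.1 hx) g)
        rw [h1, h2, inv_one, mul_one]
      have hinj : Function.Injective (QuotientGroup.lift N' φ hN'φ) := by
        rw [injective_iff_map_eq_one]
        intro u
        induction u using QuotientGroup.induction_on
        exact fun hu => (QuotientGroup.eq_one_iff _).2 (hφ _ hu)
      intro x
      obtain ⟨u, hu⟩ := (Finite.injective_iff_surjective.1 hinj) (q x)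
      induction u using QuotientGroup.induction_on
      rename_i u
      have hu' : q (MulAut.conjNormal g u * u⁻¹) = q x := by rw [map_mul, map_inv]; exact hu
      have hmem := μ.2 _ (QuotientGroup.eq.1 hu'.symm)
      rw [map_mul, map_inv, inv_mul_eq_one] at hmem
      have h3 : μg.1 u = μ.1 u := by rw [hμeq]
      rw [hmem, map_mul, map_inv, show μ.1 (MulAut.conjNormal g u) = μ.1 u from h3, mul_inv_cancel]
    refine Subtype.ext (MonoidHom.ext fun x => ?_)
    have h := hμ1 x
    simp only [μ, MonoidHom.div_apply, div_eq_one] at h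
    exact h.symm
  -- some twist has inertia group `K`
  have hex : ∃ lam : L, inertia (tw lam) ≤ K := by
    by_contra h
    push Not at h
    simp only [SetLike.not_le_iff_exists] at h
    obtain ⟨u, hu⟩ : ∃ lam : L, lam ≠ ⟨1, fun _ _ => rfl⟩ := by
      haveI : IsMulCommutative (K ⧸ N') := ⟨⟨fun u v => by
        induction u using QuotientGroup.induction_on
        induction v using QuotientGroup.induction_on
        rename_i u v
        rw [← QuotientGroup.mk_mul, ← QuotientGroup.mk_mul, QuotientGroup.eq, Subgroup.mem_subgroupOf,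
          show (((u * v)⁻¹ * (v * u) : K) : G) = ⁅((v : G))⁻¹, ((u : G))⁻¹⁆ by simp [commutatorElement_def, mul_assoc]]
        exact hab _ (K.inv_mem v.2) _ (K.inv_mem u.2)⟩⟩
      have hcard : 1 < Nat.card (K ⧸ N') := by
        rw [← Subgroup.index_eq_card, hidx']; exact Nat.one_lt_pow ha0 hs.one_lt
      haveI : Nontrivial (K ⧸ N') := Finite.one_lt_card_iff_nontrivial.1 hcard
      obtain ⟨v, hv⟩ := exists_ne (1 : K ⧸ N')
      obtain ⟨lam, hlam⟩ := exists_hom_ne_one (g := v) (by
        rw [(commutator_eq_bot_iff_center_eq_top (K ⧸ N')).2 ?_, Subgroup.mem_bot]; · exact hv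
        exact eq_top_iff.2 fun x _ => Subgroup.mem_center_iff.2 fun y => mul_comm' y x)
      refine ⟨⟨lam.comp (QuotientGroup.mk' N'), fun x hx => by
        rw [MonoidHom.comp_apply, show QuotientGroup.mk' N' x = 1 from (QuotientGroup.eq_one_iff x).2 hx,
          map_one]⟩, fun heq => ?_⟩
      obtain ⟨x, rfl⟩ := QuotientGroup.mk'_surjective N' v
      exact hlam (congrArg (fun l : L => l.1 x) heq)
    set lam1 : L := ⟨1, fun _ _ => rfl⟩
    obtain ⟨g, hg, hgK⟩ := h lam1
    obtain ⟨g', hg', hgK'⟩ := h u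
    rw [mem_inertia] at hg hg'
    -- `g'` sends the fixed twist of `g` to a twist
    have hirr := isIrrCharacter_conjOn (htwirr lam1) g'
    have hres' : (fun n : N' => conjOn g' (tw lam1) n) = fun n : N' => ψ n := funext fun n => by
      rw [conjOn_apply, htwres lam1 _ (show (_ : K) ∈ N' from Subgroup.mem_subgroupOf.2
        (Subgroup.Normal.conj_mem inferInstance _ (Subgroup.mem_subgroupOf.1 n.2) g'))]
      exact hfixres g' u hg' n n.2
    obtain ⟨β, ⟨hβ, hβN⟩, hβψ⟩ := hgal.surjOn (show conjOn g' (tw lam1) ∈ _ from ⟨hirr, by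
      rw [hres', IsIrrCharacter.classInner_self hresI]; exact one_ne_zero⟩)
    have hβ1 : β 1 = 1 := by
      have h := congrFun hβψ 1
      rw [conjOn_apply_one, htwone] at h
      exact (mul_eq_right₀ (IsIrrCharacter.apply_one_ne_zero hψ)).1 h
    obtain ⟨lam, rfl⟩ := IsCharacter.exists_hom (IsIrrCharacter.isCharacter hβ) hβ1
    let v : L := ⟨lam, fun x hx => Units.ext (by rw [Units.val_one]; exact (hβN x hx).trans hβ1)⟩
    have hv : tw v = conjOn g' (tw lam1) := hβψ
    -- it is fixed by `g`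
    have hk : g' * g * (g * g')⁻¹ ∈ K := by
      rw [show g' * g * (g * g')⁻¹ = ⁅g', g⁆ by simp [commutatorElement_def, mul_assoc]]
      exact hcommK g' g
    have hgv : conjOn g (tw v) = tw v := by
      rw [hv, conjOn_conjOn]
      have e1 : conjOn (g * g') (tw lam1) = conjOn g' (tw lam1) := by
        rw [← conjOn_conjOn, hg]
      rw [← e1, show g' * g = g' * g * (g * g')⁻¹ * (g * g') by group, ← conjOn_conjOn (g' * g * (g * g')⁻¹)]
      congr 1
      exact (mem_inertia _ _).1 (le_inertia (IsIrrCharacter.isClassFunction (htwirr lam1)) hk)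
    have h2 := huniq g hgK v lam1 hgv hg
    rw [h2] at hv
    exact hu (huniq g' hgK' u lam1 hg' hv.symm)
  obtain ⟨lam, hlam⟩ := hex
  refine ⟨Cfsg.indFun K (tw lam), isIrrCharacter_indFun_of_inertia_le (htwirr lam) hlam, ?_⟩
  rw [indFun_one, htwone, hm, Nat.cast_mul]

end CfsgLib.Char.NonabQuot
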