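import Cfsg.Prelude.Def_Blocks
import Cfsg.Agent.GlaubermanCorr.Main
import Cfsg.Agent.Char.Constituents
import Cfsg.Agent.Char.Kernel
import Cfsg.Agent.Char.DegreeRatio
import Cfsg.Agent.Char.Linear
import Cfsg.Agent.Char.Values
import Cfsg.Agent.Char.TwoClass
import Cfsg.Agent.Char.ExtendInv
import Cfsg.Agent.Char.CoprimeComplement
import Cfsg.Agent.Transfer.PResidual
import Cfsg.Agent.Solvable.PGroupBasic
import Cfsg.Agent.LocalB.Tate
import Cfsg.Agent.PLocal.Core
import Cfsg.Agent.CharP.LargestPReduced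

/-!
# The common kernel of the characters of degree prime to `p`

It is the core of `N P'`, where `N` is the largest normal subgroup on which a Sylow subgroup `P`
acts without fixed points.
-/

set_option autoImplicit false
set_option linter.style.haveILetI false
set_option linter.unusedSectionVars false

namespace CfsgLib.Char.PPrimeKernel

open Finset
open scoped ComplexConjugate

universe u

variable {G : Type u} [Group G] [Finite G]

/-- The constituents of a constituent are constituents. -/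
theorem classInner_restrict_trans {A : Type u} [Group A] [Fintype A] (B : Subgroup A) [Fintype B]
    {φ ψ : A → ℂ} {η : B → ℂ} (hφ : Cfsg.IsCharacter A φ) (hψ : Cfsg.IsIrrCharacter A ψ)
    (hη : Cfsg.IsCharacter B η) (h1 : Cfsg.classInner φ ψ ≠ 0)
    (h2 : Cfsg.classInner (fun b : B => ψ b) η ≠ 0) :
    Cfsg.classInner (fun b : B => φ b) η ≠ 0 := by
  rw [← classInner_indFun_right (IsCharacter.isClassFunction hφ)]
  refine IsCharacter.classInner_ne_zero_of_common hφ (IsCharacter.indFun hη) hψ h1 ?_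
  rw [classInner_indFun η (IsIrrCharacter.isClassFunction hψ), ← classInner_conj]
  exact fun h => h2 (by simpa using h)

/-- The kernel of a character lies in the kernel of each of its constituents. -/
theorem constituent_apply_eq {A : Type u} [Group A] [Fintype A] {φ ψ : A → ℂ}
    (hφ : Cfsg.IsCharacter A φ) (hψ : Cfsg.IsIrrCharacter A ψ)
    (h : Cfsg.classInner φ ψ ≠ 0) {x : A} (hx : φ x = φ 1) : ψ x = ψ 1 := by
  have hd := IsCharacter.sub_irr hφ hψ h
  have h1 := IsCharacter.norm_apply_le hd x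
  have h2 := IsCharacter.norm_apply_le (IsIrrCharacter.isCharacter hψ) x
  have h3 := Complex.re_le_norm ((φ - ψ) x)
  have h4 := Complex.re_le_norm (ψ x)
  simp only [Pi.sub_apply, Complex.sub_re] at h1 h3
  rw [hx] at h1 h3
  obtain ⟨d, -, hd1⟩ := IsIrrCharacter.exists_degree hψ
  have h5 : (ψ x).re = (ψ 1).re := by linarith
  have h6 : ‖ψ x‖ = (ψ x).re := le_antisymm (h5 ▸ h2) h4
  refine Complex.ext h5 ?_
  have h7 := Complex.re_eq_norm.1 h6.symm
  rw [hd1, Complex.natCast_im]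
  exact (Complex.nonneg_iff.1 h7).2.symm

/-- A character of degree prime to `p` has a constituent of degree prime to `p`. -/
theorem exists_constituent_not_dvd {A : Type u} [Group A] [Fintype A] {p : ℕ} {φ : A → ℂ}
    (hφ : Cfsg.IsCharacter A φ) {m : ℕ} (hm : φ 1 = m) (hp : ¬ p ∣ m) :
    ∃ ψ : A → ℂ, ∃ d : ℕ, Cfsg.IsIrrCharacter A ψ ∧ ψ 1 = d ∧ ¬ p ∣ d ∧
      Cfsg.classInner φ ψ ≠ 0 := by
  classical
  choose! a ha using fun (f : A → ℂ) (hf : f ∈ irrFinset A) =>
    IsCharacter.exists_classInner_eq_natCast hφ (mem_irrFinset.1 hf)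
  choose! b hb0 hb using fun (f : A → ℂ) (hf : f ∈ irrFinset A) =>
    IsIrrCharacter.exists_degree (mem_irrFinset.1 hf)
  have h1 := congrFun (eq_sum_irr (IsCharacter.isClassFunction hφ)) 1
  rw [Finset.sum_apply, sum_congr rfl fun f hf => by
    rw [Pi.smul_apply, ha f hf, hb f hf, smul_eq_mul, ← Nat.cast_mul], ← Nat.cast_sum, hm,
    Nat.cast_inj] at h1
  obtain ⟨f, hf, hfp⟩ : ∃ f ∈ irrFinset A, ¬ p ∣ a f * b f := by
    by_contra! hall
    exact hp (h1 ▸ Finset.dvd_sum hall)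
  refine ⟨f, b f, mem_irrFinset.1 hf, hb f hf, fun h => hfp (h.mul_left _), ?_⟩
  rw [ha f hf, Nat.cast_ne_zero]
  exact fun h => hfp (h ▸ by simp)

/-- A nontrivial group has a nontrivial irreducible character. -/
theorem exists_ne_one {A : Type u} [Group A] [Finite A] (hA : Nat.card A ≠ 1) :
    ∃ χ : A → ℂ, Cfsg.IsIrrCharacter A χ ∧ χ ≠ fun _ => 1 := by
  classical
  by_contra! hall
  have h1 : irrFinset A = {fun _ => 1} := Finset.eq_singleton_iff_unique_mem.2
    ⟨mem_irrFinset.2 isIrrCharacter_one, fun χ hχ => hall χ (mem_irrFinset.1 hχ)⟩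
  have h := sum_degree_sq (G := A)
  rw [h1, Finset.sum_singleton, one_pow] at h
  exact hA (by exact_mod_cast h.symm)

variable {p : ℕ} [hp : Fact p.Prime]

/-- The common kernel of the irreducible characters of degree prime to `p`. -/
def commonKer (p : ℕ) (G : Type u) [Group G] [Finite G] : Subgroup G :=
  ⨅ χ : {χ : Cfsg.IrrCharacter G // ¬ p ∣ Cfsg.charDegree (χ : G → ℂ)},
    kerSubgroup (IsIrrCharacter.isCharacter χ.1.2)

instance commonKer_normal : (commonKer p G).Normal :=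
  Subgroup.normal_iInf_normal fun _ => kerSubgroup_normal _

theorem mem_commonKer {g : G} : g ∈ commonKer p G ↔
    ∀ χ : Cfsg.IrrCharacter G, ¬ p ∣ Cfsg.charDegree (χ : G → ℂ) →
      (χ : G → ℂ) g = (χ : G → ℂ) 1 := by
  rw [commonKer, Subgroup.mem_iInf]
  exact ⟨fun h χ hχ => h ⟨χ, hχ⟩, fun h χ => h χ.1 χ.2⟩

/-- A group on which a Sylow subgroup acts without fixed points has order prime to `p`. -/
theorem not_dvd_card (P : Sylow p G) (N : Subgroup G) [N.Normal]
    (hN : N ⊓ Subgroup.centralizer ((P : Subgroup G) : Set G) = ⊥) : ¬ p ∣ Nat.card N := by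
  intro hd
  obtain ⟨n, hn⟩ := exists_prime_orderOf_dvd_card' (G := N) p hd
  have hnp : IsPGroup p (Subgroup.zpowers (n : G)) :=
    IsPGroup.of_card (n := 1) (by rw [Nat.card_zpowers, pow_one, Subgroup.orderOf_coe, hn])
  obtain ⟨Q, hQ⟩ := hnp.exists_le_sylow
  obtain ⟨c, hc⟩ := MulAction.exists_smul_eq G Q P
  have hxP : c * n * c⁻¹ ∈ (P : Subgroup G) := by
    rw [← hc, Sylow.coe_subgroup_smul]
    exact Subgroup.smul_mem_pointwise_smul (n : G) (MulAut.conj c) (Q : Subgroup G)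
      (hQ (Subgroup.mem_zpowers _))
  haveI := P.2.isNilpotent
  refine CfsgLib.PGroupBasic.inf_center_ne_bot (N.subgroupOf (P : Subgroup G)) (fun h => ?_) ?_
  · have h1 : (⟨_, hxP⟩ : (P : Subgroup G)) ∈ N.subgroupOf (P : Subgroup G) :=
      Subgroup.Normal.conj_mem inferInstance _ n.2 c
    rw [h, Subgroup.mem_bot] at h1
    have h2 : c * (n : G) * c⁻¹ = 1 := congrArg Subtype.val h1
    rw [conj_eq_one_iff] at h2
    rw [← Subgroup.orderOf_coe, h2, orderOf_one] at hn
    exact hp.out.ne_one hn.symm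
  · rw [eq_bot_iff]
    rintro x ⟨hx1, hx2⟩
    refine Subgroup.mem_bot.2 (Subtype.ext ?_)
    refine Subgroup.mem_bot.1 (hN ▸ ⟨hx1, ?_⟩)
    intro y hy
    exact congrArg Subtype.val (Subgroup.mem_center_iff.1 hx2 ⟨y, hy⟩)

/-- Some conjugate of every character with an inertia index prime to `p` is invariant under a
given Sylow subgroup. -/
theorem exists_conjOn_inv (P : Sylow p G) {N : Subgroup G} [N.Normal] (θ : N → ℂ)
    (hd : ¬ p ∣ (inertia (G := G) θ).index) :
    ∃ c : G, GlaubermanCorr.Inv N (P : Subgroup G) (conjOn c θ) := by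
  classical
  obtain ⟨T, hT⟩ : ∃ T, inertia (G := G) θ = T := ⟨_, rfl⟩
  rw [hT] at hd
  obtain ⟨a, ha⟩ := P.2.nonempty_fixed_point_of_prime_not_dvd_card (α := G ⧸ T)
    (by rwa [← Subgroup.index_eq_card])
  obtain ⟨x, rfl⟩ := QuotientGroup.mk_surjective a
  refine ⟨x⁻¹, fun y hy => ?_⟩
  have h1 : (QuotientGroup.mk (y * x) : G ⧸ T) = QuotientGroup.mk x := ha ⟨y, hy⟩
  have h2 : x⁻¹ * y * x ∈ T := by
    have := T.inv_mem (QuotientGroup.eq.1 h1)
    simpa [mul_assoc] using this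
  have h3 : conjOn y (conjOn x⁻¹ θ) = conjOn x⁻¹ θ := by
    rw [conjOn_conjOn, show x⁻¹ * y = x⁻¹ * y * x * x⁻¹ by group]
    exact conjOn_mul_of_mem (hT ▸ h2) x⁻¹
  intro k k' hk
  refine Eq.trans ?_ (congrFun h3 k)
  exact congrArg (conjOn x⁻¹ θ) (Subtype.ext hk)

/-- A normal subgroup without nontrivial fixed points of a Sylow subgroup acts trivially in
every character of degree prime to `p`. -/
theorem le_ker (P : Sylow p G) (N : Subgroup G) [N.Normal]
    (hN : N ⊓ Subgroup.centralizer ((P : Subgroup G) : Set G) = ⊥)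
    (χ : Cfsg.IrrCharacter G) (hχ : ¬ p ∣ Cfsg.charDegree (χ : G → ℂ)) :
    ∀ n ∈ N, (χ : G → ℂ) n = (χ : G → ℂ) 1 := by
  classical
  haveI := Fintype.ofFinite G
  haveI := Fintype.ofFinite N
  haveI := Fintype.ofFinite (⊥ : Subgroup G)
  obtain ⟨θ, hθ, hc⟩ := exists_constituent_restrict (N := N) χ.2
  obtain ⟨m, -, hm⟩ := IsIrrCharacter.exists_degree χ.2
  rw [charDegree_eq_natCast hm] at hχ
  obtain ⟨d, -, hd1⟩ := IsIrrCharacter.exists_degree hθ
  obtain ⟨e, he⟩ := IsCharacter.exists_classInner_eq_natCast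
    (IsCharacter.restrict (IsIrrCharacter.isCharacter χ.2) N) hθ
  have hdeg := degree_eq_mul χ.2 hθ hc
  rw [hm, he, hd1, ← Nat.cast_mul, ← Nat.cast_mul, Nat.cast_inj] at hdeg
  obtain ⟨c, hcinv⟩ := exists_conjOn_inv P θ fun hd =>
    hχ (hdeg ▸ (hd.mul_left e).mul_right d)
  have hpN := not_dvd_card P N hN
  have hCmem : ∀ k, k ∈ (⊥ : Subgroup G) ↔
      k ∈ N ∧ ∀ y ∈ (P : Subgroup G), y * k * y⁻¹ * k⁻¹ ∈ (⊥ : Subgroup G) := by
    intro k
    refine ⟨fun hk => ?_, fun hk => hN ▸ ⟨hk.1, fun y hy => ?_⟩⟩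
    · rw [Subgroup.mem_bot] at hk
      subst hk
      exact ⟨one_mem _, fun y _ => by simp⟩
    · exact mul_inv_eq_iff_eq_mul.1 (mul_inv_eq_one.1 (Subgroup.mem_bot.1 (hk.2 y hy)))
  obtain ⟨f, hf, -⟩ := GlaubermanCorr.exists_correspondence (K := N) (Q := ⊥) (C := ⊥) P.2 bot_le
    (fun k _ q hq => by rw [Subgroup.mem_bot] at hq ⊢; subst hq; simp) IsPGroup.of_bot
    (by rwa [Subgroup.relIndex_bot_left]) (fun y _ k hk => Subgroup.Normal.conj_mem inferInstance k hk y)
    bot_le hCmem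
  have hsub : ∀ ξ ξ' : {ξ : Cfsg.IrrCharacter (⊥ : Subgroup G) //
      GlaubermanCorr.Inv ⊥ (P : Subgroup G) (ξ : (⊥ : Subgroup G) → ℂ)}, ξ = ξ' := by
    intro ξ ξ'
    have key : ∀ f : (⊥ : Subgroup G) → ℂ, Cfsg.IsIrrCharacter (⊥ : Subgroup G) f →
        f = fun _ => 1 := by
      intro f hf
      obtain ⟨n, hn, hn1⟩ := IsIrrCharacter.exists_degree hf
      have h1 := IsIrrCharacter.degree_dvd_card hf hn1
      rw [Subgroup.card_bot, Nat.dvd_one] at h1
      funext x
      rw [Subsingleton.elim x 1, hn1, h1, Nat.cast_one]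
    exact Subtype.ext (Subtype.ext ((key _ ξ.1.2).trans (key _ ξ'.1.2).symm))
  have hone : conjOn c θ = fun _ => 1 := by
    have h1 : GlaubermanCorr.Inv N (P : Subgroup G) (fun _ : N => (1 : ℂ)) :=
      fun _ _ _ _ _ => rfl
    exact congrArg (fun x => (x.1 : N → ℂ))
      (hf.1 (hsub (f ⟨⟨_, isIrrCharacter_conjOn hθ c⟩, hcinv⟩) (f ⟨⟨_, isIrrCharacter_one⟩, h1⟩)))
  have hθ1 : θ = fun _ => 1 := by
    rw [← conjOn_one (G := G) θ, ← mul_inv_cancel c, ← conjOn_conjOn, hone]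
    rfl
  subst hθ1
  intro n hn
  have horb : conjOrbit (G := G) (fun _ : N => (1 : ℂ)) = {fun _ => 1} :=
    Finset.eq_singleton_iff_unique_mem.2 ⟨self_mem_conjOrbit _, fun f hf => by
      obtain ⟨g, rfl⟩ := mem_conjOrbit.1 hf; rfl⟩
  have hres := restrict_eq_smul_sum χ.2 hθ hc
  rw [horb, Finset.sum_singleton] at hres
  exact (congrFun hres ⟨n, hn⟩).trans (congrFun hres 1).symm

/-- The core of `N P'` lies in the kernel of every character of degree prime to `p`. -/
theorem core_le (P : Sylow p G) (N : Subgroup G) [N.Normal]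
    (hN : N ⊓ Subgroup.centralizer ((P : Subgroup G) : Set G) = ⊥) :
    (N ⊔ ⁅(P : Subgroup G), (P : Subgroup G)⁆).normalCore ≤ commonKer p G := by
  classical
  intro g hg
  refine mem_commonKer.2 fun χ hχ => ?_
  haveI := Fintype.ofFinite G
  obtain ⟨J, hJ⟩ : ∃ J, (N ⊔ ⁅(P : Subgroup G), (P : Subgroup G)⁆).normalCore = J := ⟨_, rfl⟩
  rw [hJ] at hg
  haveI : J.Normal := hJ ▸ Subgroup.normalCore_normal _
  haveI := Fintype.ofFinite J
  haveI := Fintype.ofFinite (P : Subgroup G)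
  have hNJ : N ≤ J := hJ ▸ Subgroup.normal_le_normalCore.2 le_sup_left
  have hJD : J ≤ N ⊔ ⁅(P : Subgroup G), (P : Subgroup G)⁆ := hJ ▸ Subgroup.normalCore_le _
  have hker := le_ker P N hN χ hχ
  obtain ⟨m, -, hm⟩ := IsIrrCharacter.exists_degree χ.2
  rw [charDegree_eq_natCast hm] at hχ
  -- the index of `N` in `J` is a power of `p`
  obtain ⟨i, hi⟩ : ∃ i, N.relIndex J = p ^ i := by
    have h1 : J ≤ N ⊔ (P : Subgroup G) :=
      hJD.trans (sup_le_sup_left (Subgroup.commutator_le_self _) N)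
    have h2 : N.relIndex J ∣ Nat.card (P : Subgroup G) := by
      refine dvd_trans ?_ (Subgroup.index_dvd_card (N.subgroupOf (P : Subgroup G)))
      change N.relIndex J ∣ N.relIndex (P : Subgroup G)
      rw [← Subgroup.relIndex_sup_right (K := N) (H := (P : Subgroup G)), sup_comm,
        ← Subgroup.relIndex_mul_relIndex N J _ hNJ h1]
      exact dvd_mul_right _ _
    obtain ⟨k, hk⟩ := IsPGroup.iff_card.1 P.2
    obtain ⟨i, -, hi⟩ := (Nat.dvd_prime_pow hp.out).1 (hk ▸ h2)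
    exact ⟨i, hi⟩
  -- all constituents on `J` are linear
  obtain ⟨φ, hφ, hc⟩ := exists_constituent_restrict (N := J) χ.2
  have hlin : ∃ ν : J →* ℂˣ, φ = fun x => (ν x : ℂ) := by
    refine IsCharacter.exists_hom (IsIrrCharacter.isCharacter hφ) ?_
    obtain ⟨k, -, hk⟩ := exists_degree_ratio χ.2 hφ hc
    obtain ⟨d, hd0, hd⟩ := IsIrrCharacter.exists_degree hφ
    obtain ⟨N', hN'⟩ : ∃ N', N.subgroupOf J = N' := ⟨_, rfl⟩
    haveI : N'.Normal := hN' ▸ Subgroup.normal_subgroupOf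
    have htriv : ∀ x ∈ N', φ x = φ 1 := fun x hx => by
      refine constituent_apply_eq (IsCharacter.restrict (IsIrrCharacter.isCharacter χ.2) J) hφ hc ?_
      exact hker x (Subgroup.mem_subgroupOf.1 (hN' ▸ hx))
    obtain ⟨σ, hσ, hφσ⟩ := TwoClass.exists_deflate hφ htriv
    have hσ1 : σ 1 = d := by rw [← hd, congrFun hφσ 1]; rfl
    have hdvd := IsIrrCharacter.degree_dvd_card hσ hσ1
    rw [← Subgroup.index_eq_card, ← hN'] at hdvd
    change d ∣ N.relIndex J at hdvd
    rw [hi, Nat.dvd_prime_pow hp.out] at hdvd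
    obtain ⟨j, -, rfl⟩ := hdvd
    rcases Nat.eq_zero_or_pos j with rfl | hj
    · simpa using hd
    · rw [hm, hd, ← Nat.cast_mul, Nat.cast_inj] at hk
      exact absurd (hk ▸ (dvd_pow_self p hj.ne').mul_left k) hχ
  obtain ⟨ν, rfl⟩ := hlin
  -- the trivial character occurs on the part inside the derived group
  obtain ⟨ψ, d, hψ, hd, hpd, hψc⟩ := exists_constituent_not_dvd
    (IsCharacter.restrict (IsIrrCharacter.isCharacter χ.2) (P : Subgroup G))
    (m := m) (by simpa using hm) hχ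
  have hd1 : d = 1 := by
    obtain ⟨k, hk⟩ := IsPGroup.iff_card.1 P.2
    obtain ⟨j, -, rfl⟩ := (Nat.dvd_prime_pow hp.out).1
      (hk ▸ IsIrrCharacter.degree_dvd_card hψ hd)
    rcases Nat.eq_zero_or_pos j with rfl | hj
    · simp
    · exact absurd (dvd_pow_self p hj.ne') hpd
  obtain ⟨μ, rfl⟩ := IsCharacter.exists_hom (IsIrrCharacter.isCharacter hψ)
    (by rw [hd, hd1, Nat.cast_one])
  obtain ⟨E, hE⟩ : ∃ E, J.subgroupOf (P : Subgroup G) ⊓ commutator (P : Subgroup G) = E :=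
    ⟨_, rfl⟩
  haveI := Fintype.ofFinite E
  have hEm : ∀ x : E, ((x : (P : Subgroup G)) : G) ∈ J ∧
      (x : (P : Subgroup G)) ∈ commutator (P : Subgroup G) := fun x => by
    have h := x.2
    simp only [← hE, Subgroup.mem_inf, Subgroup.mem_subgroupOf] at h
    exact h
  have hμE : ∀ x : E, μ (x : (P : Subgroup G)) = 1 := fun x =>
    Abelianization.commutator_subset_ker μ (hEm x).2
  have htr : Cfsg.classInner (fun x : E => (χ : G → ℂ) (x : (P : Subgroup G))) (fun _ => 1) ≠ 0 := by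
    refine classInner_restrict_trans E (φ := fun x : (P : Subgroup G) => (χ : G → ℂ) x)
      (ψ := fun x => (μ x : ℂ)) (IsCharacter.restrict (IsIrrCharacter.isCharacter χ.2) _)
      hψ isCharacter_one hψc ?_
    rw [show (fun b : E => (μ (b : (P : Subgroup G)) : ℂ)) = fun _ => 1 from
      funext fun b => by rw [hμE]; rfl, IsIrrCharacter.classInner_self isIrrCharacter_one]
    exact one_ne_zero
  let ι : E →* J := MonoidHom.mk'
    (fun x => ⟨((x : (P : Subgroup G)) : G), (hEm x).1⟩) fun _ _ => rfl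
  obtain ⟨a, ha⟩ : ∃ a : G, ∀ x : E, conjOn a (fun y : J => (ν y : ℂ)) (ι x) = 1 := by
    by_contra! hne
    apply htr
    have hres := restrict_eq_smul_sum χ.2 hφ hc
    rw [show (fun x : E => (χ : G → ℂ) (x : (P : Subgroup G))) = fun x : E =>
      Cfsg.classInner (fun n : J => (χ : G → ℂ) n) (fun y : J => (ν y : ℂ)) *
        ∑ f ∈ conjOrbit (G := G) (fun y : J => (ν y : ℂ)), f (ι x) from funext fun x => by
      refine (congrFun hres (ι x)).trans ?_
      rw [Pi.smul_apply, Finset.sum_apply, smul_eq_mul]]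
    rw [classInner_def]
    simp only [map_one, mul_one]
    rw [← Finset.mul_sum, Finset.sum_comm, Finset.sum_eq_zero fun f hf => ?_, mul_zero, mul_zero]
    obtain ⟨a, rfl⟩ := mem_conjOrbit.1 hf
    let αa : E →* ℂˣ := (ν.comp (MonoidHom.mk' (fun y : J =>
      (⟨a * y * a⁻¹, Subgroup.Normal.conj_mem inferInstance _ y.2 a⟩ : J))
        fun y z => Subtype.ext (by simp [mul_assoc]))).comp ι
    obtain ⟨x, hx⟩ := hne a
    have hαx : (αa x : ℂ) ≠ 1 := hx
    have hsum : (αa x : ℂ) * ∑ y, (αa y : ℂ) = 1 * ∑ y, (αa y : ℂ) := by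
      rw [one_mul, Finset.mul_sum]
      exact Fintype.sum_equiv (Equiv.mulLeft x) _ _ fun y => by simp
    by_contra h0
    exact hαx (mul_right_cancel₀ h0 hsum)
  -- the conjugate of `ν` is trivial on all of `J`
  have htop : ∀ y : J, conjOn a (fun z : J => (ν z : ℂ)) y = 1 := by
    intro y
    obtain ⟨n, hn, z, hz, hyz⟩ := Subgroup.mem_sup_of_normal_left.1 (hJD y.2)
    have hzJ : z ∈ J := by
      rw [show z = n⁻¹ * y by rw [← hyz, inv_mul_cancel_left]]
      exact J.mul_mem (J.inv_mem (hNJ hn)) y.2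
    have hzP : z ∈ (P : Subgroup G) := Subgroup.commutator_le_self _ hz
    have hzE : (⟨z, hzP⟩ : (P : Subgroup G)) ∈ E := by
      rw [← hE]
      refine ⟨Subgroup.mem_subgroupOf.2 hzJ, ?_⟩
      rw [← Subgroup.map_subtype_commutator] at hz
      obtain ⟨w, hw, hwz⟩ := hz
      exact (Subtype.ext hwz : w = ⟨z, hzP⟩) ▸ hw
    have h1 : conjOn a (fun w : J => (ν w : ℂ)) ⟨z, hzJ⟩ = 1 := ha ⟨_, hzE⟩
    have h2 : conjOn a (fun w : J => (ν w : ℂ)) ⟨n, hNJ hn⟩ = 1 := by
      rw [conjOn_apply]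
      refine (constituent_apply_eq (IsCharacter.restrict (IsIrrCharacter.isCharacter χ.2) J) hφ
        hc ?_).trans (by simp)
      exact hker _ (Subgroup.Normal.conj_mem inferInstance n hn a)
    rw [conjOn_apply] at h1 h2 ⊢
    have he : (⟨a * (y : G) * a⁻¹, Subgroup.Normal.conj_mem inferInstance _ y.2 a⟩ : J) =
        ⟨a * n * a⁻¹, Subgroup.Normal.conj_mem inferInstance _ (hNJ hn) a⟩ *
          ⟨a * z * a⁻¹, Subgroup.Normal.conj_mem inferInstance _ hzJ a⟩ :=
      Subtype.ext (by simp only [Subgroup.coe_mul]; rw [show (y : G) = n * z from hyz.symm]; group)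
    rw [he, map_mul, Units.val_mul, h1, h2, one_mul]
  have hν : (fun w : J => (ν w : ℂ)) = fun _ => 1 := by
    rw [← conjOn_one (G := G) (fun w : J => (ν w : ℂ)), ← mul_inv_cancel a, ← conjOn_conjOn,
      funext htop]
    rfl
  have horb : conjOrbit (G := G) (fun w : J => (ν w : ℂ)) = {fun _ => 1} := by
    rw [hν]
    exact Finset.eq_singleton_iff_unique_mem.2 ⟨self_mem_conjOrbit _, fun f hf => by
      obtain ⟨g, rfl⟩ := mem_conjOrbit.1 hf; rfl⟩
  have hres := restrict_eq_smul_sum χ.2 hφ hc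
  rw [horb, Finset.sum_singleton] at hres
  exact (congrFun hres ⟨g, hg⟩).trans (congrFun hres 1).symm

/-- The common kernel meets a Sylow subgroup inside its derived group. -/
theorem mem_commutator_of_mem (P : Sylow p G) (x : (P : Subgroup G))
    (hx : (x : G) ∈ commonKer p G) : x ∈ commutator (P : Subgroup G) := by
  classical
  haveI := Fintype.ofFinite G
  haveI := Fintype.ofFinite (P : Subgroup G)
  by_contra hxc
  obtain ⟨lam, hlam⟩ := exists_hom_ne_one hxc
  have hchar : Cfsg.IsCharacter (P : Subgroup G) (fun y => (lam y : ℂ)) :=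
    IsIrrCharacter.isCharacter (isIrrCharacter_ofHom lam)
  obtain ⟨f, d, hf, hd, hpd, hfc⟩ := exists_constituent_not_dvd (IsCharacter.indFun hchar)
    (m := (P : Subgroup G).index) (by rw [indFun_one]; simp) P.not_dvd_index
  rw [classInner_indFun _ (IsIrrCharacter.isClassFunction hf), ← classInner_conj] at hfc
  have hne : Cfsg.classInner (fun y : (P : Subgroup G) => f y) (fun y => (lam y : ℂ)) ≠ 0 :=
    fun h => hfc (by rw [h, map_zero])
  have hfx : f x = f 1 := mem_commonKer.1 hx ⟨f, hf⟩ (by rwa [charDegree_eq_natCast hd])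
  have := constituent_apply_eq (IsCharacter.restrict (IsIrrCharacter.isCharacter hf) _)
    (isIrrCharacter_ofHom lam) hne (x := x) hfx
  exact hlam (Units.ext (by simpa using this))

/-- The elements of order prime to `p` of the common kernel generate a subgroup of order prime
to `p`. -/
theorem exists_complement (P : Sylow p G) : ∃ K₀ : Subgroup G, K₀.Normal ∧
    K₀ ≤ commonKer p G ∧ ¬ p ∣ Nat.card K₀ ∧
      ∀ g ∈ commonKer p G, ∃ k : ℕ, g ^ p ^ k ∈ K₀ := by
  classical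
  obtain ⟨K, hK⟩ : ∃ K, commonKer p G = K := ⟨_, rfl⟩
  haveI : K.Normal := hK ▸ commonKer_normal
  have hKP : ∀ x : (P : Subgroup G), (x : G) ∈ K → x ∈ frattini (P : Subgroup G) := fun x hx =>
    (CfsgLib.PGroupBasic.commutator_pow_le_frattini P.2).1 (mem_commutator_of_mem P x (hK ▸ hx))
  rw [hK]
  obtain ⟨K₀, hK₀⟩ : ∃ K₀, Subgroup.closure {g : G | g ∈ K ∧ (orderOf g).Coprime p} = K₀ :=
    ⟨_, rfl⟩
  have hset : ∀ (n g : G), n ∈ {g : G | g ∈ K ∧ (orderOf g).Coprime p} →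
      g * n * g⁻¹ ∈ {g : G | g ∈ K ∧ (orderOf g).Coprime p} := fun n g hn =>
    ⟨Subgroup.Normal.conj_mem inferInstance n hn.1 g, by
      have e : orderOf (g * n * g⁻¹) = orderOf n := by
        simpa using orderOf_injective (MulAut.conj g).toMonoidHom (MulAut.conj g).injective n
      rw [e]; exact hn.2⟩
  have hn0 : K₀.Normal := ⟨fun n hn g => by
    rw [← hK₀] at hn ⊢
    have := Subgroup.mem_map_of_mem (MulAut.conj g).toMonoidHom hn
    rw [MonoidHom.map_closure] at this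
    refine Subgroup.closure_mono ?_ (by simpa using this)
    rintro _ ⟨m, hm, rfl⟩
    simpa using hset m g hm⟩
  refine ⟨K₀, hn0, hK₀ ▸ (Subgroup.closure_le K).2 fun g hg => hg.1, ?_, fun g hg => ?_⟩
  · obtain ⟨H, hH⟩ : ∃ H, K ⊔ (P : Subgroup G) = H := ⟨_, rfl⟩
    have hKH : K ≤ H := hH ▸ le_sup_left
    have hPH : (P : Subgroup G) ≤ H := hH ▸ le_sup_right
    haveI : (K.subgroupOf H).Normal := Subgroup.normal_subgroupOf
    obtain ⟨S, hS⟩ : ∃ S : Sylow p H, P.subtype hPH = S := ⟨_, rfl⟩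
    obtain ⟨k, hk⟩ : ∃ k, K.relIndex H = p ^ k := by
      have h2 : K.relIndex H ∣ Nat.card (P : Subgroup G) := by
        refine dvd_trans ?_ (Subgroup.index_dvd_card (K.subgroupOf (P : Subgroup G)))
        change K.relIndex H ∣ K.relIndex (P : Subgroup G)
        rw [← hH, sup_comm, Subgroup.relIndex_sup_right]
      obtain ⟨j, hj⟩ := IsPGroup.iff_card.1 P.2
      obtain ⟨i, -, hi⟩ := (Nat.dvd_prime_pow hp.out).1 (hj ▸ h2)
      exact ⟨i, hi⟩
    have hres : Cfsg.pResidual p H ≤ K.subgroupOf H := CfsgLib.PResidual.pResidual_le (k := k) hk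
    have hbot := CfsgLib.LocalB.Tate.inf_pResidual_eq_bot S fun x hx => by
      subst hS
      let e : ((P.subtype hPH : Sylow p H) : Subgroup H) ≃* (P : Subgroup G) :=
        Subgroup.subgroupOfEquivOfLe hPH
      have hxK : ((e x : (P : Subgroup G)) : G) ∈ K := Subgroup.mem_subgroupOf.1 (hres hx)
      have h1 := hKP (e x) hxK
      rw [frattini, Order.radical] at h1 ⊢
      simp only [Subgroup.mem_iInf] at h1 ⊢
      intro M hM
      have h2 := h1 (M.map e.toMonoidHom) ((OrderIso.isCoatom_iff e.mapSubgroup M).2 hM)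
      obtain ⟨w, hw, hwx⟩ := h2
      exact e.injective hwx ▸ hw
    intro hd
    obtain ⟨g, hg⟩ := exists_prime_orderOf_dvd_card' (G := K₀) p hd
    have hgK : (g : G) ∈ (Cfsg.pResidual p H).map H.subtype := by
      have h1 : K₀ ≤ (Cfsg.pResidual p H).map H.subtype := by
        rw [← hK₀, Subgroup.closure_le]
        rintro y ⟨hyK, hyo⟩
        exact ⟨⟨y, hKH hyK⟩, CfsgLib.PResidual.mem_pResidual p
          (by rwa [← Subgroup.orderOf_coe]), rfl⟩
      exact h1 g.2
    obtain ⟨w, hw, hwg⟩ := hgK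
    have how : orderOf w = p := by
      rw [← Subgroup.orderOf_coe, ← Subgroup.coe_subtype, hwg, Subgroup.orderOf_coe, hg]
    have hwp : IsPGroup p (Subgroup.zpowers w) :=
      IsPGroup.of_card (n := 1) (by rw [Nat.card_zpowers, pow_one, how])
    obtain ⟨Q, hQ⟩ := hwp.exists_le_sylow
    obtain ⟨c, hc⟩ := MulAction.exists_smul_eq H Q S
    have h1 : c * w * c⁻¹ ∈ (S : Subgroup H) := by
      rw [← hc, Sylow.coe_subgroup_smul]
      exact Subgroup.smul_mem_pointwise_smul w (MulAut.conj c) (Q : Subgroup H)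
        (hQ (Subgroup.mem_zpowers _))
    have h2 : c * w * c⁻¹ = 1 := congrArg Subtype.val
      (hbot ⟨_, h1⟩ (Subgroup.Normal.conj_mem inferInstance _ hw c))
    rw [conj_eq_one_iff] at h2
    rw [h2, orderOf_one] at how
    exact hp.out.ne_one how.symm
  · refine ⟨(orderOf g).factorization p, hK₀ ▸ Subgroup.subset_closure ⟨pow_mem hg _, ?_⟩⟩
    rw [orderOf_pow' _ (pow_ne_zero _ hp.out.ne_zero),
      Nat.gcd_eq_right (Nat.ordProj_dvd _ _)]
    exact (hp.out.coprime_iff_not_dvd.2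
      (Nat.not_dvd_ordCompl hp.out (orderOf_pos g).ne')).symm

/-- A normal subgroup of order prime to `p` in the common kernel has no fixed points. -/
theorem inf_centralizer_eq_bot (P : Sylow p G) (K₀ : Subgroup G) [K₀.Normal]
    (hle : K₀ ≤ commonKer p G) (hpK : ¬ p ∣ Nat.card K₀) :
    K₀ ⊓ Subgroup.centralizer ((P : Subgroup G) : Set G) = ⊥ := by
  classical
  haveI := Fintype.ofFinite G
  haveI := Fintype.ofFinite K₀
  obtain ⟨C, hC⟩ : ∃ C, K₀ ⊓ Subgroup.centralizer ((P : Subgroup G) : Set G) = C := ⟨_, rfl⟩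
  rw [hC]
  by_contra hne
  haveI := Fintype.ofFinite C
  have hCK : C ≤ K₀ := hC ▸ inf_le_left
  have hCmem : ∀ k, k ∈ C ↔
      k ∈ K₀ ∧ ∀ y ∈ (P : Subgroup G), y * k * y⁻¹ * k⁻¹ ∈ (⊥ : Subgroup G) := by
    intro k
    rw [← hC, Subgroup.mem_inf]
    refine and_congr_right fun hk => ⟨fun h y hy => ?_, fun h y hy => ?_⟩
    · rw [Subgroup.mem_bot, show y * k = k * y from h y hy]; group
    · exact mul_inv_eq_iff_eq_mul.1 (mul_inv_eq_one.1 (Subgroup.mem_bot.1 (h y hy)))
  obtain ⟨f, hf, -⟩ := GlaubermanCorr.exists_correspondence (K := K₀) (Q := ⊥) (C := C) P.2 bot_le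
    (fun k _ q hq => by rw [Subgroup.mem_bot] at hq ⊢; subst hq; simp) IsPGroup.of_bot
    (by rwa [Subgroup.relIndex_bot_left]) (fun y _ k hk => Subgroup.Normal.conj_mem inferInstance k hk y)
    hCK hCmem
  have hinvC : ∀ ξ : C → ℂ, GlaubermanCorr.Inv C (P : Subgroup G) ξ := by
    intro ξ y hy k k' hk
    refine congrArg ξ (Subtype.ext ?_)
    have h := ((hC ▸ k.2 : (k : G) ∈ K₀ ⊓ Subgroup.centralizer ((P : Subgroup G) : Set G))).2 y hy
    rw [hk, h, mul_inv_cancel_right]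
  obtain ⟨ξ, hξ, hξne⟩ := exists_ne_one (A := C)
    (fun h => hne (Subgroup.eq_bot_of_card_eq _ h))
  obtain ⟨θ, hθne⟩ : ∃ θ : {χ : Cfsg.IrrCharacter K₀ //
      GlaubermanCorr.Inv K₀ (P : Subgroup G) (χ : K₀ → ℂ)}, (θ.1 : K₀ → ℂ) ≠ fun _ => 1 := by
    by_contra! hall
    obtain ⟨x, hx⟩ := hf.2 ⟨⟨ξ, hξ⟩, hinvC ξ⟩
    obtain ⟨x', hx'⟩ := hf.2 ⟨⟨_, isIrrCharacter_one⟩, hinvC _⟩
    have e : x = x' := Subtype.ext (Subtype.ext ((hall x).trans (hall x').symm))
    subst e
    exact hξne (congrArg (fun z => (z.1 : C → ℂ)) (hx.symm.trans hx'))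
  obtain ⟨H, hH⟩ : ∃ H, K₀ ⊔ (P : Subgroup G) = H := ⟨_, rfl⟩
  have hKH : K₀ ≤ H := hH ▸ le_sup_left
  have hPH : (P : Subgroup G) ≤ H := hH ▸ le_sup_right
  haveI := Fintype.ofFinite H
  haveI := Fintype.ofFinite (K₀.subgroupOf H)
  haveI : (K₀.subgroupOf H).Normal := Subgroup.normal_subgroupOf
  have hcard : Nat.card (K₀.subgroupOf H) = Nat.card K₀ :=
    Nat.card_congr (Subgroup.subgroupOfEquivOfLe hKH).toEquiv
  have hidx : (K₀.subgroupOf H).index ∣ Nat.card (P : Subgroup G) := by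
    refine dvd_trans ?_ (Subgroup.index_dvd_card (K₀.subgroupOf (P : Subgroup G)))
    change K₀.relIndex H ∣ K₀.relIndex (P : Subgroup G)
    rw [← hH, sup_comm, Subgroup.relIndex_sup_right]
  have hcop : (Nat.card (K₀.subgroupOf H)).Coprime (K₀.subgroupOf H).index := by
    obtain ⟨k, hk⟩ := IsPGroup.iff_card.1 P.2
    rw [hcard]
    exact Nat.Coprime.coprime_dvd_right (hk ▸ hidx)
      (((hp.out.coprime_iff_not_dvd.2 hpK).symm).pow_right k)
  have hθ' := isIrrCharacter_pullBack hKH θ.1.2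
  have hinv : ∀ g : H, conjOn g (pullBack (T := H) (θ.1 : K₀ → ℂ)) =
      pullBack (T := H) (θ.1 : K₀ → ℂ) := by
    rintro ⟨g, hg⟩
    obtain ⟨k, hk, y, hy, rfl⟩ := Subgroup.mem_sup_of_normal_left.1 (hH ▸ hg :
      g ∈ K₀ ⊔ (P : Subgroup G))
    have e : (⟨k * y, hg⟩ : H) = ⟨k, hKH hk⟩ * ⟨y, hPH hy⟩ := rfl
    rw [e, ← conjOn_conjOn, (mem_inertia _ _).1 (le_inertia (IsIrrCharacter.isClassFunction hθ')
      (show (⟨k, hKH hk⟩ : H) ∈ K₀.subgroupOf H from hk))]
    funext n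
    exact θ.2 y hy ⟨((n : H) : G), Subgroup.mem_subgroupOf.1 n.2⟩ _ rfl
  obtain ⟨ψ, hψ, hψθ⟩ := exists_extension_of_coprime hθ' (fun g n => congrFun (hinv g) n) hcop
  obtain ⟨d, hd0, hd⟩ := IsIrrCharacter.exists_degree θ.1.2
  have hψ1 : ψ 1 = d := by
    rw [← hd, show (1 : H) = ((1 : K₀.subgroupOf H) : H) from rfl, hψθ]
    rfl
  have hpd : ¬ p ∣ H.index * d := by
    rw [hp.out.dvd_mul]
    rintro (h | h)
    · exact P.not_dvd_index (h.trans (Subgroup.index_dvd_of_le hPH))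
    · exact hpK (h.trans (IsIrrCharacter.degree_dvd_card θ.1.2 hd))
  obtain ⟨χ, m, hχ, hm, hpm, hχc⟩ := exists_constituent_not_dvd
    (IsCharacter.indFun (IsIrrCharacter.isCharacter hψ)) (m := H.index * d)
    (by rw [indFun_one, hψ1, Nat.cast_mul]) hpd
  rw [classInner_indFun _ (IsIrrCharacter.isClassFunction hχ), ← classInner_conj] at hχc
  have hne' : Cfsg.classInner (fun y : H => χ y) ψ ≠ 0 := fun h => hχc (by rw [h, map_zero])
  have hrest := classInner_restrict_trans (K₀.subgroupOf H)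
    (IsCharacter.restrict (IsIrrCharacter.isCharacter hχ) H) hψ
    (IsIrrCharacter.isCharacter hθ') hne' (by
      rw [show (fun b : K₀.subgroupOf H => ψ b) = pullBack (T := H) (θ.1 : K₀ → ℂ) from
        funext hψθ, IsIrrCharacter.classInner_self hθ']
      exact one_ne_zero)
  rw [show (fun b : K₀.subgroupOf H => χ ((b : H) : G)) = pullBack (T := H) (fun k : K₀ => χ k)
    from rfl, classInner_pullBack hKH] at hrest
  apply hθne
  have hconst : ∀ x : K₀, (θ.1 : K₀ → ℂ) x = (θ.1 : K₀ → ℂ) 1 := fun x =>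
    constituent_apply_eq (IsCharacter.restrict (IsIrrCharacter.isCharacter hχ) K₀) θ.1.2 hrest
      (mem_commonKer.1 (hle x.2) ⟨χ, hχ⟩ (by rwa [charDegree_eq_natCast hm]))
  have h1 : (θ.1 : K₀ → ℂ) 1 = 1 := by
    have := IsIrrCharacter.classInner_self θ.1.2
    rw [classInner_def, sum_congr rfl fun x _ => by rw [hconst x], sum_const, Finset.card_univ,
      nsmul_eq_mul, ← mul_assoc, Nat.card_eq_fintype_card,
      inv_mul_cancel₀ (Nat.cast_ne_zero.2 Fintype.card_ne_zero), one_mul, hd,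
      Complex.conj_natCast, ← Nat.cast_mul, Nat.cast_eq_one] at this
    rw [hd, (mul_eq_one.1 this).1, Nat.cast_one]
  funext x
  rw [hconst x, h1]

/-- The common kernel lies in the core of `N P'`. -/
theorem le_core (P : Sylow p G) (N : Subgroup G) [N.Normal]
    (hmax : ∀ L : Subgroup G, L.Normal →
      L ⊓ Subgroup.centralizer ((P : Subgroup G) : Set G) = ⊥ → L ≤ N) :
    commonKer p G ≤ (N ⊔ ⁅(P : Subgroup G), (P : Subgroup G)⁆).normalCore := by
  refine Subgroup.normal_le_normalCore.2 ?_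
  obtain ⟨K₀, hn0, hle, hpK, hpow⟩ := exists_complement P
  haveI := hn0
  have h0N : K₀ ≤ N := hmax K₀ hn0 (inf_centralizer_eq_bot P K₀ hle hpK)
  refine (CfsgLib.CharP.le_sup_sylow_of_pow hpow P).trans
    (sup_le (h0N.trans le_sup_left) ?_)
  rw [sup_eq_left.2 hle]
  rintro x ⟨hxP, hxK⟩
  refine Subgroup.mem_sup_right ?_
  rw [← Subgroup.map_subtype_commutator]
  exact ⟨⟨x, hxP⟩, mem_commutator_of_mem P ⟨x, hxP⟩ hxK, rfl⟩

end CfsgLib.Char.PPrimeKernel
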