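import Cfsg.Agent.Char.ThompsonDegree
import Cfsg.Agent.Char.Monomial
import Cfsg.Agent.Char.DegreeRatio
import Cfsg.Agent.Char.ExtendInv
import Cfsg.Agent.Char.InflationInduction
import Cfsg.Agent.Char.TwoClass
import Cfsg.Agent.Char.PermChar
import Mathlib.GroupTheory.Nilpotent
import Mathlib.NumberTheory.Divisors

/-!
# Two character degrees: the commutator subgroup is abelian
-/

set_option autoImplicit false
set_option linter.style.haveILetI false
set_option linter.unusedSectionVars false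

namespace CfsgLib.Char.TwoDegrees

open Finset
open scoped ComplexConjugate

universe u

variable {G : Type u} [Group G] [Fintype G]

/-- The degree of a constituent on a normal subgroup divides the degree. -/
theorem degree_dvd {N : Subgroup G} [N.Normal] {f : G → ℂ} (hf : Cfsg.IsIrrCharacter G f)
    {θ : N → ℂ} (hθ : Cfsg.IsIrrCharacter N θ) [Fintype N]
    (hc : Cfsg.classInner (fun n : N => f n) θ ≠ 0) {m d : ℕ} (hm : f 1 = m) (hd : θ 1 = d) :
    d ∣ m := by
  obtain ⟨k, -, hk⟩ := exists_degree_ratio hf hθ hc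
  rw [hm, hd, ← Nat.cast_mul, Nat.cast_inj] at hk
  exact hk ▸ Dvd.intro_left k rfl

/-- A coprime extension of an abelian normal subgroup by a nilpotent group is monomial. -/
theorem exists_indFun_linear_of_coprime (K : Subgroup G) [K.Normal] [Fintype K]
    (hab : ∀ a ∈ K, ∀ b ∈ K, a * b = b * a) (hcop : (Nat.card K).Coprime K.index)
    (hnil : Group.IsNilpotent (G ⧸ K)) {f : G → ℂ} (hf : Cfsg.IsIrrCharacter G f) :
    ∃ (U : Subgroup G) (lam : U →* ℂˣ), Cfsg.indFun U (fun u => (lam u : ℂ)) = f := by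
  classical
  obtain ⟨θ, hθ, hc⟩ := exists_constituent_restrict (N := K) hf
  have hθ1 : θ 1 = 1 :=
    IsIrrCharacter.apply_one_eq_one hθ fun a b => Subtype.ext (hab a a.2 b b.2)
  obtain ⟨T, hT⟩ : ∃ T : Subgroup G, inertia θ = T := ⟨_, rfl⟩
  haveI := Fintype.ofFinite T
  have hKT : K ≤ T := hT ▸ le_inertia (IsIrrCharacter.isClassFunction hθ)
  obtain ⟨ψ, hψ, hind, hmul⟩ := exists_indFun_eq_of_inertia hKT hθ hT hf hc
  have hc' : Cfsg.classInner (fun n : K => ψ (Subgroup.inclusion hKT n)) θ ≠ 0 := hmul ▸ hc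
  have hres := restrict_inertia_eq hKT hθ hT.ge hψ hc'
  obtain ⟨K', hK'⟩ : ∃ K', K.subgroupOf T = K' := ⟨_, rfl⟩
  haveI hK'n : K'.Normal := hK' ▸ Subgroup.Normal.subgroupOf inferInstance T
  haveI := Fintype.ofFinite K'
  have hmemK : ∀ x : T, x ∈ K' → (x : G) ∈ K := fun x hx => by
    rw [← hK'] at hx; exact Subgroup.mem_subgroupOf.1 hx
  let θ' : K' → ℂ := fun x => θ ⟨((x : T) : G), hmemK _ x.2⟩
  let e' : K' →* K := { toFun := fun x => ⟨((x : T) : G), hmemK _ x.2⟩,
                        map_one' := rfl, map_mul' := fun _ _ => rfl }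
  have he' : Function.Surjective e' := fun k =>
    ⟨⟨⟨(k : G), hKT k.2⟩, by rw [← hK']; exact Subgroup.mem_subgroupOf.2 k.2⟩, Subtype.ext rfl⟩
  have hθ' : Cfsg.IsIrrCharacter K' θ' := IsIrrCharacter.comp_surjective hθ e' he'
  have hinv : ∀ (t : T) (x : K'), θ' ⟨t * x * t⁻¹, hK'n.conj_mem (x : T) x.2 t⟩ = θ' x := by
    intro t x
    have h1 := congrFun ((mem_inertia θ (t : G)).1 (hT ▸ t.2))
      ⟨((x : T) : G), hmemK _ x.2⟩
    simp only [conjOn_apply] at h1
    exact h1
  have hcop' : (Nat.card K').Coprime K'.index := by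
    have h1 : Nat.card K' = Nat.card K := by
      rw [← hK']; exact Nat.card_congr (Subgroup.subgroupOfEquivOfLe hKT).toEquiv
    have h2 : K'.index ∣ K.index := by
      rw [← hK']
      exact Subgroup.relIndex_dvd_index_of_le hKT
    rw [h1]
    exact hcop.coprime_dvd_right h2
  obtain ⟨L0, hL0, hL0K⟩ := exists_extension_of_coprime hθ' hinv hcop'
  have hL01 : L0 1 = 1 := by
    have h1 := hL0K 1
    rw [Subgroup.coe_one] at h1
    rw [h1]
    exact hθ1
  obtain ⟨L, rfl⟩ := IsCharacter.exists_hom (IsIrrCharacter.isCharacter hL0) hL01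
  have hψ' := IsIrrCharacter.mul_hom hψ L⁻¹
  obtain ⟨c, hc0⟩ : ∃ c : ℂ, Cfsg.classInner (fun n : K => ψ (Subgroup.inclusion hKT n)) θ = c :=
    ⟨_, rfl⟩
  have hker : ∀ y ∈ K', (ψ * fun x : T => ((L⁻¹ x : ℂˣ) : ℂ)) y =
      (ψ * fun x : T => ((L⁻¹ x : ℂˣ) : ℂ)) 1 := by
    intro y hy
    have h1 := congrFun hres ⟨(y : G), hmemK _ hy⟩
    have h2 := congrFun hres 1
    have h3 := hL0K ⟨y, hy⟩
    simp only [hc0, Pi.smul_apply, smul_eq_mul, map_one, hθ1, mul_one] at h1 h2
    simp only [Pi.mul_apply, MonoidHom.inv_apply, Units.val_inv_eq_inv_val, map_one, Units.val_one,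
      inv_one, mul_one]
    rw [show ψ y = c * θ ⟨(y : G), hmemK _ hy⟩ from h1, h2,
      show ((L y : ℂˣ) : ℂ) = θ ⟨(y : G), hmemK _ hy⟩ from h3,
      mul_assoc, mul_inv_cancel₀, mul_one]
    rw [← show ((L y : ℂˣ) : ℂ) = θ ⟨(y : G), hmemK _ hy⟩ from h3]
    exact Units.ne_zero _
  obtain ⟨σ, hσ, hσeq⟩ := TwoClass.exists_deflate hψ' hker
  haveI := Fintype.ofFinite (T ⧸ K')
  haveI : Group.IsNilpotent (T ⧸ K') := by
    let g : T ⧸ K' →* G ⧸ K := QuotientGroup.lift K' ((QuotientGroup.mk' K).comp T.subtype)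
      fun x hx => by
        rw [MonoidHom.mem_ker]
        exact (QuotientGroup.eq_one_iff _).2 (hmemK x hx)
    refine Subgroup.isNilpotent_of_ker_le_center (f := g) (le_of_eq_of_le ?_ bot_le)
    rw [MonoidHom.ker_eq_bot_iff]
    intro a b hab
    obtain ⟨a, rfl⟩ := QuotientGroup.mk_surjective a
    obtain ⟨b, rfl⟩ := QuotientGroup.mk_surjective b
    refine QuotientGroup.eq.2 ?_
    rw [← hK', Subgroup.mem_subgroupOf]
    exact QuotientGroup.eq.1 hab
  obtain ⟨W, μ, hW⟩ := IsIrrCharacter.exists_indFun_linear hσ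
  obtain ⟨V, hV⟩ : ∃ V, W.comap (QuotientGroup.mk' K') = V := ⟨_, rfl⟩
  have hKV : K' ≤ V := by
    intro x hx
    rw [← hV, Subgroup.mem_comap, QuotientGroup.mk'_apply, (QuotientGroup.eq_one_iff x).2 hx]
    exact Subgroup.one_mem W
  have hmap : V.map (QuotientGroup.mk' K') = W := by
    rw [← hV, Subgroup.map_comap_eq_self_of_surjective (QuotientGroup.mk'_surjective K')]
  subst hmap
  let ν : V →* ℂˣ :=
    { toFun := fun v => μ ⟨QuotientGroup.mk' K' v, Subgroup.mem_map_of_mem _ v.2⟩ * L v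
      map_one' := by
        simp only [Subgroup.coe_one, map_one, mul_one]
        exact μ.map_one
      map_mul' := fun a b => by
        rw [show (⟨QuotientGroup.mk' K' (a * b : V), Subgroup.mem_map_of_mem _ (a * b).2⟩ :
            V.map (QuotientGroup.mk' K')) = ⟨_, Subgroup.mem_map_of_mem _ a.2⟩ *
            ⟨_, Subgroup.mem_map_of_mem _ b.2⟩ from Subtype.ext (map_mul _ _ _), map_mul,
          Subgroup.coe_mul, map_mul]
        exact mul_mul_mul_comm _ _ _ _ }
  have hψν : Cfsg.indFun V (fun v => (ν v : ℂ)) = ψ := by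
    have hsplit : (fun v : V => (ν v : ℂ)) =
        (fun v : V => (μ ⟨QuotientGroup.mk' K' v, Subgroup.mem_map_of_mem _ v.2⟩ : ℂ)) *
          fun v : V => (L (v : T) : ℂ) := funext fun v => by
      simp [ν]
    rw [hsplit]
    refine (indFun_mul_restrict _ (χ := fun t : T => (L t : ℂ))
      (IsIrrCharacter.isClassFunction hL0)).trans ?_
    funext t
    rw [Pi.mul_apply]
    rw [← indFun_inflate K' V hKV _ (fun w => (μ w : ℂ)) (fun x => rfl) t,
      ← congrFun hW (QuotientGroup.mk' K' t)]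
    have h1 := congrFun hσeq t
    simp only [Pi.mul_apply, MonoidHom.inv_apply, Units.val_inv_eq_inv_val] at h1
    rw [show σ (QuotientGroup.mk' K' t) = ψ t * ((L t : ℂˣ) : ℂ)⁻¹ from h1.symm,
      inv_mul_cancel_right₀ (Units.ne_zero _)]
  refine ⟨V.map T.subtype,
    ν.comp (V.equivMapOfInjective T.subtype T.subtype_injective).symm.toMonoidHom, ?_⟩
  rw [← hind, ← hψν, ← indFun_indFun_map V]
  congr 2
  funext u
  simp only [MonoidHom.comp_apply, MulEquiv.coe_toMonoidHom]
  congr 2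
  exact (MulEquiv.symm_apply_eq _).2 (Subtype.ext rfl)

/-- Two degrees: the commutator subgroup is abelian. -/
theorem commutator_abelian {m : ℕ}
    (hcd : ∀ f : G → ℂ, Cfsg.IsIrrCharacter G f → f 1 = 1 ∨ f 1 = (m : ℂ)) (hm1 : m ≠ 1)
    (hm0 : 0 < m) : ∀ a ∈ commutator G, ∀ b ∈ commutator G, a * b = b * a := by
  classical
  have hN : ∀ p : m.primeFactors, ∃ N : Subgroup G, N.Normal ∧ (Nat.card N).Coprime p ∧
      ∃ k : ℕ, N.index = (p : ℕ) ^ k := fun p => by
    haveI := Fact.mk (Nat.prime_of_mem_primeFactors p.2)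
    refine ThompsonDegree.exists_complement fun f hf d hd hd1 => ?_
    rcases hcd f hf with h | h
    · rw [hd, Nat.cast_eq_one] at h; exact absurd h hd1
    · rw [hd, Nat.cast_inj] at h
      rw [h]
      exact Nat.dvd_of_mem_primeFactors p.2
  choose N hNn hNc k hk using hN
  haveI := hNn
  let φ : G →* (p : m.primeFactors) → G ⧸ N p := MonoidHom.pi fun p => QuotientGroup.mk' (N p)
  obtain ⟨K, hK⟩ : ∃ K, φ.ker = K := ⟨_, rfl⟩
  haveI : K.Normal := hK ▸ inferInstance
  haveI := Fintype.ofFinite K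
  haveI hnilPi : Group.IsNilpotent ((p : m.primeFactors) → G ⧸ N p) := by
    haveI : ∀ p : m.primeFactors, Group.IsNilpotent (G ⧸ N p) := fun p => by
      haveI := Fact.mk (Nat.prime_of_mem_primeFactors p.2)
      exact (IsPGroup.of_card (n := k p) (by rw [← Subgroup.index_eq_card, hk])).isNilpotent
    infer_instance
  have hnil : Group.IsNilpotent (G ⧸ K) := by
    subst hK
    exact Subgroup.isNilpotent_of_ker_le_center (f := QuotientGroup.kerLift φ)
      (le_of_eq_of_le ((MonoidHom.ker_eq_bot_iff _).2 (QuotientGroup.kerLift_injective φ)) bot_le)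
  have hKcop : ∀ p : m.primeFactors, (Nat.card K).Coprime p := fun p => by
    refine (hNc p).coprime_dvd_left (Subgroup.card_dvd_of_le fun x hx => ?_)
    rw [← hK, MonoidHom.mem_ker] at hx
    exact (QuotientGroup.eq_one_iff x).1 (congrFun hx p)
  have hcop : (Nat.card K).Coprime K.index := by
    refine Nat.coprime_of_dvd fun q hq h1 h2 => ?_
    rw [← hK, Subgroup.index_ker] at h2
    have h3 := h2.trans (Subgroup.card_subgroup_dvd_card φ.range)
    rw [Nat.card_pi] at h3
    obtain ⟨p, -, hp⟩ := hq.prime.exists_mem_finset_dvd h3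
    rw [← Subgroup.index_eq_card, hk] at hp
    have hqp := (Nat.prime_dvd_prime_iff_eq hq (Nat.prime_of_mem_primeFactors p.2)).1
      (hq.dvd_of_dvd_pow hp)
    exact hq.one_lt.ne' (Nat.dvd_one.1 ((hKcop p) ▸ Nat.dvd_gcd h1 (hqp ▸ dvd_rfl)))
  have hKab : ∀ a ∈ K, ∀ b ∈ K, a * b = b * a := by
    intro a ha b hb
    refine congrArg Subtype.val (abelian_iff_degree_one.2 (fun θ hθ => ?_) ⟨a, ha⟩ ⟨b, hb⟩)
    obtain ⟨d, -, hd⟩ := IsIrrCharacter.exists_degree hθ
    obtain ⟨f, hf, hc⟩ : ∃ f : G → ℂ, Cfsg.IsIrrCharacter G f ∧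
        Cfsg.classInner (fun n : K => f n) θ ≠ 0 := by
      by_contra hno
      push Not at hno
      have h0 := eq_zero_of_classInner_eq_zero (isClassFunction_indFun K θ) fun f hf => by
        rw [classInner_indFun θ (IsIrrCharacter.isClassFunction hf), ← classInner_conj, hno f hf,
          map_zero]
      have h1 := congrFun h0 1
      rw [indFun_one, hd, Pi.zero_apply, mul_eq_zero, Nat.cast_eq_zero, Nat.cast_eq_zero] at h1
      obtain ⟨d', hd', hd''⟩ := IsIrrCharacter.exists_degree hθ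
      rw [hd, Nat.cast_inj] at hd''
      rcases h1 with h1 | h1
      · exact Subgroup.index_ne_zero_of_finite h1
      · omega
    have hdc : d ∣ Nat.card K := IsIrrCharacter.degree_dvd_card hθ hd
    rw [hd, Nat.cast_eq_one]
    rcases hcd f hf with h | h
    · exact Nat.dvd_one.1 (degree_dvd hf hθ hc (by rw [h, Nat.cast_one]) hd)
    · have hdm := degree_dvd hf hθ hc h hd
      by_contra hne
      obtain ⟨q, hq, hqd⟩ := Nat.exists_prime_and_dvd hne
      exact hq.one_lt.ne' (Nat.dvd_one.1 ((hKcop ⟨q, Nat.mem_primeFactors.2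
        ⟨hq, hqd.trans hdm, hm0.ne'⟩⟩) ▸ Nat.dvd_gcd (hqd.trans hdc) dvd_rfl))
  intro a ha b hb
  suffices h : a * b * a⁻¹ * b⁻¹ = 1 by
    calc a * b = (a * b * a⁻¹ * b⁻¹) * (b * a) := by group
      _ = b * a := by rw [h, one_mul]
  refine isConj_one_right.1 ((isConj_iff_irr_eq _ _).2 fun f hf => ?_)
  rcases hcd f hf with h | h
  · obtain ⟨L, rfl⟩ := IsCharacter.exists_hom (IsIrrCharacter.isCharacter hf) h
    simp only [map_mul, map_inv, map_one, mul_comm (L a) (L b), mul_inv_cancel_right,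
      mul_inv_cancel]
  obtain ⟨U, lam, hUlam⟩ := exists_indFun_linear_of_coprime K hKab hcop hnil hf
  haveI := Fintype.ofFinite U
  have hidx : U.index = m := by
    have h1 := congrFun hUlam 1
    rw [indFun_one, map_one, Units.val_one, mul_one, h] at h1
    exact_mod_cast h1
  have hmem : ∀ z ∈ commutator G, ∀ x : G, x⁻¹ * z * x ∈ U := by
    intro z hz x
    have hπc : Cfsg.IsCharacter G (permChar U) := IsCharacter.indFun isCharacter_one
    have hπ1 : permChar U 1 = (U.index : ℂ) := by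
      rw [permChar, indFun_one, mul_one]
    have hone : Cfsg.classInner (permChar U) (fun _ => (1 : ℂ)) = 1 := by
      rw [permChar, classInner_indFun _ (IsCharacter.isClassFunction isCharacter_one), classInner_def]
      simp [Nat.card_eq_fintype_card]
    choose! c hc using fun (φ : G → ℂ) (hφ : φ ∈ irrFinset G) =>
      IsCharacter.exists_classInner_eq_natCast hπc (mem_irrFinset.1 hφ)
    have hexp : ∀ g, permChar U g = ∑ φ ∈ irrFinset G, (c φ : ℂ) * φ g := fun g => by
      conv_lhs => rw [eq_sum_irr (IsCharacter.isClassFunction hπc)]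
      rw [Finset.sum_apply]
      exact sum_congr rfl fun φ hφ => by rw [Pi.smul_apply, hc φ hφ, smul_eq_mul]
    have heq : permChar U z = permChar U 1 := by
      rw [hexp, hexp]
      refine sum_congr rfl fun φ hφ => ?_
      by_cases h0 : c φ = 0
      · simp [h0]
      congr 1
      rcases hcd φ (mem_irrFinset.1 hφ) with h' | h'
      · obtain ⟨L, rfl⟩ := IsCharacter.exists_hom
          (IsIrrCharacter.isCharacter (mem_irrFinset.1 hφ)) h'
        have hz1 : L z = 1 := MonoidHom.mem_ker.1 (Abelianization.commutator_subset_ker L hz)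
        simp [hz1]
      · exfalso
        have h1m : (fun _ : G => (1 : ℂ)) ∈ irrFinset G := mem_irrFinset.2 isIrrCharacter_one
        have hc1 : c (fun _ : G => (1 : ℂ)) = 1 := by
          have := hc _ h1m
          rw [hone] at this
          exact_mod_cast this.symm
        have hne : (fun _ : G => (1 : ℂ)) ≠ φ := fun he => hm1 (by
          have := congrFun he 1
          rw [h'] at this
          exact_mod_cast this.symm)
        choose! d hd0 hd using fun (ψ : G → ℂ) (hψ : ψ ∈ irrFinset G) =>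
          IsIrrCharacter.exists_degree (mem_irrFinset.1 hψ)
        have hsum := hexp 1
        rw [sum_congr rfl fun ψ hψ => by rw [hd ψ hψ, ← Nat.cast_mul], ← Nat.cast_sum, hπ1,
          Nat.cast_inj] at hsum
        have hd1 : d (fun _ : G => (1 : ℂ)) = 1 := by
          have := hd _ h1m
          exact_mod_cast this.symm
        have hdφ : d φ = m := by
          have := hd _ hφ
          rw [h', Nat.cast_inj] at this
          exact this.symm
        have hle : ∑ ψ ∈ ({(fun _ : G => (1 : ℂ)), φ} : Finset (G → ℂ)), c ψ * d ψ ≤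
            ∑ ψ ∈ irrFinset G, c ψ * d ψ :=
          sum_le_sum_of_subset (insert_subset h1m (singleton_subset_iff.2 hφ))
        rw [sum_pair hne, hc1, hd1, hdφ, ← hsum, hidx] at hle
        have := Nat.le_mul_of_pos_left m (Nat.pos_of_ne_zero h0)
        omega
    rw [permChar_apply, hπ1, Nat.cast_inj, Subgroup.index] at heq
    have hall : MulAction.fixedBy (G ⧸ U) z = Set.univ := by
      refine Set.eq_univ_of_forall ?_
      by_contra hx
      push Not at hx
      obtain ⟨q, hq⟩ := hx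
      have hlt := Set.ncard_lt_ncard (s := MulAction.fixedBy (G ⧸ U) z) (t := Set.univ)
        (Set.ssubset_univ_iff.2 fun he => hq (he ▸ Set.mem_univ q))
      rw [Set.ncard_univ, ← Nat.card_coe_set_eq, heq] at hlt
      exact lt_irrefl _ hlt
    have hx : z • (x : G ⧸ U) = (x : G ⧸ U) := by
      have : (x : G ⧸ U) ∈ MulAction.fixedBy (G ⧸ U) z := hall ▸ Set.mem_univ _
      exact this
    have h2 := QuotientGroup.eq.1 (show ((x : G) : G ⧸ U) = ((z * x : G) : G ⧸ U) from hx.symm)
    rwa [← mul_assoc] at h2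
  rw [← hUlam, indFun_def, indFun_def]
  refine congrArg _ (sum_congr rfl fun x _ => ?_)
  have hxa := hmem a ha x
  have hxb := hmem b hb x
  have hc : x⁻¹ * (a * b * a⁻¹ * b⁻¹) * x = (x⁻¹ * a * x) * (x⁻¹ * b * x) *
      (x⁻¹ * a * x)⁻¹ * (x⁻¹ * b * x)⁻¹ := by group
  rw [hc, extendByZero_of_mem _ (Subgroup.mul_mem _ (Subgroup.mul_mem _
      (Subgroup.mul_mem _ hxa hxb) (Subgroup.inv_mem _ hxa)) (Subgroup.inv_mem _ hxb)),
    show x⁻¹ * 1 * x = 1 by group, extendByZero_of_mem _ (Subgroup.one_mem _),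
    show (⟨(x⁻¹ * a * x) * (x⁻¹ * b * x) * (x⁻¹ * a * x)⁻¹ * (x⁻¹ * b * x)⁻¹, _⟩ : U) =
      ⟨_, hxa⟩ * ⟨_, hxb⟩ * (⟨_, hxa⟩ : U)⁻¹ * (⟨_, hxb⟩ : U)⁻¹ from rfl,
    show (⟨1, Subgroup.one_mem U⟩ : U) = 1 from rfl]
  simp only [map_mul, map_inv, map_one, mul_comm (lam ⟨_, hxa⟩) (lam ⟨_, hxb⟩),
    mul_inv_cancel_right, mul_inv_cancel]

end CfsgLib.Char.TwoDegrees
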