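import Cfsg.Agent.Char.CoprimeDegreesFaithful
import Cfsg.Agent.Char.TwoDegrees
import Cfsg.Agent.Char.NonabelianQuotient
import Cfsg.Agent.Char.PPrimeKernel
import Cfsg.Agent.Char.Inflation
import Cfsg.Agent.Char.Kernel
import Cfsg.Agent.Char.Linear
import Cfsg.Agent.Solvable.PGroupBasic

/-!
# Three character degrees: the third derived subgroup is trivial
-/

set_option autoImplicit false
set_option linter.style.haveILetI false
set_option linter.unusedSectionVars false

namespace CfsgLib.Char.ThreeDeg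

open scoped commutatorElement ComplexConjugate

universe u

/-- All irreducible degrees are among `1, a, b`. -/
def Three (G : Type u) [Group G] (a b : ℕ) : Prop :=
  ∀ f : G → ℂ, Cfsg.IsIrrCharacter G f → f 1 = 1 ∨ f 1 = a ∨ f 1 = b

variable {G : Type u} [Group G] [Fintype G]

theorem one_lt_degree {f : G → ℂ} (hf : Cfsg.IsIrrCharacter G f) {m : ℕ} (hm : f 1 = m)
    (h : m ≠ 1) : 1 < m := by
  obtain ⟨d, hd0, hd⟩ := IsIrrCharacter.exists_degree hf
  rw [hm, Nat.cast_inj] at hd
  omega

/-- With at most two degrees the second derived subgroup is trivial. -/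
theorem two_derived {m : ℕ} (h : ∀ f : G → ℂ, Cfsg.IsIrrCharacter G f → f 1 = 1 ∨ f 1 = m) :
    derivedSeries G 2 = ⊥ := by
  have hab : ∀ a ∈ commutator G, ∀ b ∈ commutator G, a * b = b * a := by
    by_cases hm : 1 < m
    · exact TwoDegrees.commutator_abelian h hm.ne' (by omega)
    · have hall := abelian_iff_degree_one.2 (fun f hf => (h f hf).elim id fun h2 => by
        obtain ⟨d, hd0, hd⟩ := IsIrrCharacter.exists_degree hf
        rw [h2, Nat.cast_inj] at hd
        rw [h2, show m = 1 by omega, Nat.cast_one])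
      exact fun a _ b _ => hall a b
  rw [show (2 : ℕ) = 1 + 1 from rfl, derivedSeries_succ, derivedSeries_one, eq_bot_iff,
    Subgroup.commutator_le]
  intro a ha b hb
  rw [Subgroup.mem_bot, commutatorElement_eq_one_iff_mul_comm]
  exact hab a ha b hb

/-- Every irreducible character of a normal subgroup lies under some irreducible character. -/
theorem exists_over' (N : Subgroup G) [N.Normal] [Fintype N] {θ : N → ℂ}
    (hθ : Cfsg.IsIrrCharacter N θ) :
    ∃ χ : G → ℂ, Cfsg.IsIrrCharacter G χ ∧ Cfsg.classInner (fun n : N => χ n) θ ≠ 0 := by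
  by_contra hno
  push Not at hno
  have h0 := eq_zero_of_classInner_eq_zero (isClassFunction_indFun N θ) fun f hf => by
    rw [classInner_indFun θ (IsIrrCharacter.isClassFunction hf), ← classInner_conj, hno f hf,
      map_zero]
  have h1 := congrFun h0 1
  rw [indFun_one, Pi.zero_apply, mul_eq_zero, Nat.cast_eq_zero] at h1
  exact h1.elim Subgroup.index_ne_zero_of_finite (IsIrrCharacter.apply_one_ne_zero hθ)

/-- A linear character is trivial on the commutator subgroup. -/
theorem linear_apply {f : G → ℂ} (hf : Cfsg.IsIrrCharacter G f) (h : f 1 = 1) {z : G}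
    (hz : z ∈ commutator G) : f z = f 1 := by
  obtain ⟨L, rfl⟩ := IsCharacter.exists_hom (IsIrrCharacter.isCharacter hf) h
  have hz1 : L z = 1 := MonoidHom.mem_ker.1 (Abelianization.commutator_subset_ker L hz)
  simp [hz1]

/-- One step of Taketa's argument. -/
theorem taketa_step {U : Subgroup G} {lam : U →* ℂˣ} {D : Subgroup G} [D.Normal]
    (hsmall : ∀ β : G → ℂ, Cfsg.IsIrrCharacter G β → (β 1).re < U.index →
      ∀ x ∈ D, β x = β 1) {z : G} (hz : z ∈ ⁅D, D⁆) :
    Cfsg.indFun U (fun u => (lam u : ℂ)) z = Cfsg.indFun U (fun u => (lam u : ℂ)) 1 := by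
  classical
  haveI := Fintype.ofFinite U
  have hperm : Cfsg.IsCharacter G (Cfsg.indFun U (fun _ => 1)) :=
    IsCharacter.indFun isCharacter_one
  have hDH : D ≤ U := by
    by_cases hU : U = ⊤
    · rw [hU]; exact le_top
    intro x hx
    have hone : Cfsg.classInner (Cfsg.indFun U (fun _ => 1)) (fun _ : G => (1 : ℂ)) ≠ 0 := by
      rw [classInner_indFun _ (IsIrrCharacter.isClassFunction isIrrCharacter_one),
        classInner_one_one]
      exact one_ne_zero
    have hx1 : Cfsg.indFun U (fun _ => (1 : ℂ)) x = Cfsg.indFun U (fun _ => 1) 1 := by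
      rw [eq_sum_irr (isClassFunction_indFun U fun _ => (1 : ℂ)), Finset.sum_apply, Finset.sum_apply]
      refine Finset.sum_congr rfl fun β hβ => ?_
      by_cases hc : Cfsg.classInner (Cfsg.indFun U fun _ => (1 : ℂ)) β = 0
      · simp [hc]
      rw [Pi.smul_apply, Pi.smul_apply, hsmall β (mem_irrFinset.1 hβ) ?_ x hx]
      by_cases hβ1 : β = fun _ => 1
      · subst hβ1
        have h2 : 1 < U.index := Subgroup.one_lt_index_of_ne_top hU
        simpa using h2
      have h1 := IsCharacter.sub_irr hperm isIrrCharacter_one hone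
      have h2 : Cfsg.classInner (Cfsg.indFun U (fun _ => 1) - fun _ : G => (1 : ℂ)) β ≠ 0 := by
        rw [classInner_sub_left, IsIrrCharacter.classInner_of_ne isIrrCharacter_one
          (mem_irrFinset.1 hβ) (Ne.symm hβ1), sub_zero]
        exact hc
      have h3 := IsCharacter.re_constituent_le h1 (mem_irrFinset.1 hβ) h2
      rw [Pi.sub_apply, indFun_one, mul_one, Complex.sub_re, Complex.natCast_re, Complex.one_re] at h3
      linarith
    have hfix : MulAction.fixedBy (G ⧸ U) x = Set.univ := by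
      have hx2 := permChar_apply U x
      rw [permChar, hx1, indFun_one, mul_one, Nat.cast_inj, Subgroup.index] at hx2
      refine Set.eq_of_subset_of_ncard_le (Set.subset_univ _) ?_
      rw [Set.ncard_univ, hx2, Nat.card_coe_set_eq]
    have : ((1 : G) : G ⧸ U) ∈ MulAction.fixedBy (G ⧸ U) x := hfix ▸ Set.mem_univ _
    rw [MulAction.mem_fixedBy] at this
    change ((x * 1 : G) : G ⧸ U) = ((1 : G) : G ⧸ U) at this
    rw [mul_one, QuotientGroup.eq, mul_one] at this
    exact inv_mem_iff.1 this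
  have hval : ∀ y ∈ ⁅D, D⁆, Cfsg.extendByZero U (fun u => (lam u : ℂ)) y = 1 := by
    intro y hy
    have hyU : y ∈ U := hDH (D.commutator_le_self hy)
    rw [extendByZero_of_mem _ hyU]
    have hle : ⁅D, D⁆ ≤ lam.ker.map U.subtype := Subgroup.commutator_le.2 fun a ha b hb =>
      ⟨⁅(⟨a, hDH ha⟩ : U), ⟨b, hDH hb⟩⁆, by
        rw [SetLike.mem_coe, MonoidHom.mem_ker, map_commutatorElement,
          commutatorElement_eq_one_iff_mul_comm, mul_comm], map_commutatorElement U.subtype _ _⟩
    obtain ⟨w, hw, hwy⟩ := hle hy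
    rw [show (⟨y, hyU⟩ : U) = w from Subtype.ext hwy.symm, MonoidHom.mem_ker.1 hw, Units.val_one]
  rw [indFun_def, indFun_def]
  congr 1
  refine Finset.sum_congr rfl fun x _ => ?_
  rw [hval _ (by simpa using Subgroup.Normal.conj_mem inferInstance z hz x⁻¹), mul_one,
    inv_mul_cancel, hval 1 (one_mem _)]

/-- The monomial case. -/
theorem monomial_derived {a b : ℕ} (hcd : Three G a b) (hab : a < b) (ha : 1 < a)
    (Q : Subgroup G) [Q.Normal] (hQab : ∀ x ∈ Q, ∀ y ∈ Q, x * y = y * x)
    (hcop : (Nat.card Q).Coprime Q.index) (hnil : Group.IsNilpotent (G ⧸ Q)) :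
    derivedSeries G 3 = ⊥ := by
  classical
  haveI := Fintype.ofFinite Q
  haveI := derivedSeries_normal G 1
  haveI := derivedSeries_normal G 2
  have step : ∀ (i : ℕ) (f : G → ℂ), Cfsg.IsIrrCharacter G f →
      (∀ β : G → ℂ, Cfsg.IsIrrCharacter G β → (β 1).re < (f 1).re →
        ∀ x ∈ derivedSeries G i, β x = β 1) → ∀ z ∈ derivedSeries G (i + 1), f z = f 1 := by
    intro i f hf h z hz
    haveI := derivedSeries_normal G i
    obtain ⟨U, lam, rfl⟩ := TwoDegrees.exists_indFun_linear_of_coprime Q hQab hcop hnil hf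
    refine taketa_step (D := derivedSeries G i) (fun β hβ hlt => h β hβ ?_) hz
    rwa [indFun_one, map_one, Units.val_one, mul_one, Complex.natCast_re]
  have h1 : ∀ f : G → ℂ, Cfsg.IsIrrCharacter G f → f 1 = 1 →
      ∀ z ∈ derivedSeries G 1, f z = f 1 := fun f hf hf1 z hz =>
    linear_apply hf hf1 (by rwa [derivedSeries_one] at hz)
  have h2 : ∀ f : G → ℂ, Cfsg.IsIrrCharacter G f → (f 1 = 1 ∨ f 1 = a) →
      ∀ z ∈ derivedSeries G 2, f z = f 1 := by
    intro f hf hf1
    rcases hf1 with hf1 | hf1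
    · exact fun z hz => h1 f hf hf1 z (derivedSeries_antitone G (by norm_num) hz)
    refine step 1 f hf fun β hβ hlt => h1 β hβ ?_
    rcases hcd β hβ with h | h | h
    · exact h
    · rw [h, hf1] at hlt; exact absurd hlt (lt_irrefl _)
    · rw [h, hf1, Complex.natCast_re, Complex.natCast_re, Nat.cast_lt] at hlt; omega
  refine le_bot_iff.1 fun z hz => Subgroup.mem_bot.2 (isConj_one_left.1 ((isConj_iff_irr_eq z 1).2 ?_))
  intro f hf
  rcases hcd f hf with h | h | h
  · exact h1 f hf h z (derivedSeries_antitone G (by norm_num) hz)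
  · exact h2 f hf (Or.inr h) z (derivedSeries_antitone G (by norm_num) hz)
  refine step 2 f hf (fun β hβ hlt => h2 β hβ ?_) z hz
  rcases hcd β hβ with h' | h' | h'
  · exact Or.inl h'
  · exact Or.inr h'
  · rw [h', h] at hlt; exact absurd hlt (lt_irrefl _)

theorem linear_all (h : commutator (G ⧸ (⊥ : Subgroup G)) = ⊥) (f : G → ℂ)
    (hf : Cfsg.IsIrrCharacter G f) : f 1 = 1 := by
  refine abelian_iff_degree_one.1 (fun x y => ?_) f hf
  have h1 : ⁅(x : G ⧸ (⊥ : Subgroup G)), (y : G ⧸ (⊥ : Subgroup G))⁆ ∈ commutator (G ⧸ (⊥ : Subgroup G)) :=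
    Subgroup.commutator_mem_commutator (Subgroup.mem_top _) (Subgroup.mem_top _)
  rw [h, Subgroup.mem_bot, commutatorElement_eq_one_iff_mul_comm, ← QuotientGroup.mk_mul,
    ← QuotientGroup.mk_mul, QuotientGroup.eq, Subgroup.mem_bot, inv_mul_eq_one] at h1
  exact h1

theorem three_quotient {a b : ℕ} (hcd : Three G a b) (N : Subgroup G) [N.Normal] :
    Three (G ⧸ N) a b := fun f hf => by
  have h := hcd _ (IsIrrCharacter.inflate N hf)
  simpa [CfsgLib.Char.inflate] using h

/-- The case of a prime dividing both nonlinear degrees. -/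
theorem of_common_prime {a b r : ℕ} [Fact r.Prime] (hcd : Three G a b) (ha : 1 < a) (hab : a < b)
    (hra : r ∣ a) (hrb : r ∣ b) (hA : ∃ f : G → ℂ, Cfsg.IsIrrCharacter G f ∧ f 1 = a)
    (ih : ∀ (Q : Subgroup G), Nat.card Q < Nat.card G → ∀ a' b' : ℕ, Three Q a' b' →
      derivedSeries Q 3 = ⊥) : derivedSeries G 3 = ⊥ := by
  classical
  obtain ⟨Q, hQn, hQr, k, hk⟩ := ThompsonDegree.exists_complement (p := r) (G := G)
    fun f hf m hm hm1 => by
      rcases hcd f hf with h | h | h <;> rw [hm] at h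
      · exact absurd (Nat.cast_eq_one.1 h) hm1
      · rw [Nat.cast_inj.1 h]; exact hra
      · rw [Nat.cast_inj.1 h]; exact hrb
  haveI := hQn
  haveI := Fintype.ofFinite Q
  have hr : r.Prime := Fact.out
  have hnd : ¬ r ∣ Nat.card Q := fun h =>
    hr.one_lt.ne' (Nat.dvd_one.1 (hQr ▸ Nat.dvd_gcd h dvd_rfl))
  -- degrees on `Q` are the `r'`-parts
  have hpart : ∀ (θ : Q → ℂ), Cfsg.IsIrrCharacter Q θ → ∀ (f : G → ℂ), Cfsg.IsIrrCharacter G f →
      Cfsg.classInner (fun n : Q => f n) θ ≠ 0 → ∀ m : ℕ, f 1 = m →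
      ∃ i : ℕ, i ≤ k ∧ ∃ d : ℕ, θ 1 = d ∧ ¬ r ∣ d ∧ m = r ^ i * d := by
    intro θ hθ f hf hc m hm
    obtain ⟨j, hj, hjd⟩ := exists_degree_ratio hf hθ hc
    obtain ⟨d, hd0, hd⟩ := IsIrrCharacter.exists_degree hθ
    rw [hm, hd, ← Nat.cast_mul, Nat.cast_inj] at hjd
    rw [hk] at hj
    obtain ⟨i, hi, rfl⟩ := (Nat.dvd_prime_pow hr).1 hj
    exact ⟨i, hi, d, hd, fun h => hnd (h.trans (IsIrrCharacter.degree_dvd_card hθ hd)), hjd⟩
  have hcomp : ∀ i d : ℕ, ¬ r ∣ d → ordCompl[r] (r ^ i * d) = d := fun i d hd => by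
    rw [Nat.ordCompl_mul, Nat.ordCompl_self_pow hr, one_mul, Nat.factorization_eq_zero_of_not_dvd hd, pow_zero, Nat.div_one]
  have hQ3 : Three Q (ordCompl[r] a) (ordCompl[r] b) := by
    intro θ hθ
    obtain ⟨f, hf, hc⟩ := exists_over' Q hθ
    obtain ⟨m, -, hm⟩ := IsIrrCharacter.exists_degree hf
    obtain ⟨i, -, d, hd, hrd, rfl⟩ := hpart θ hθ f hf hc m hm
    rw [hd]
    rcases hcd f hf with h | h | h <;> rw [hm] at h
    · left; rw [Nat.cast_eq_one.1 h |> fun e => (Nat.eq_one_of_mul_eq_one_left e), Nat.cast_one]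
    · right; left; rw [← Nat.cast_inj.1 h, hcomp i d hrd]
    · right; right; rw [← Nat.cast_inj.1 h, hcomp i d hrd]
  have hlt : Nat.card Q < Nat.card G := by
    refine lt_of_le_of_ne (Nat.card_le_card_of_injective _ Subtype.val_injective) fun h => hnd ?_
    obtain ⟨f, hf, hf1⟩ := hA
    rw [h]
    exact hra.trans (IsIrrCharacter.degree_dvd_card hf hf1)
  have hQd := ih Q hlt _ _ hQ3
  set K : Subgroup G := (commutator Q).map Q.subtype with hK
  haveI hKn : K.Normal := by
    rw [hK, Subgroup.map_subtype_commutator]; exact Subgroup.commutator_normal Q Q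
  haveI := Fintype.ofFinite (G ⧸ K)
  -- characters trivial on `K`
  have hquot : ∀ f : G ⧸ K → ℂ, Cfsg.IsIrrCharacter (G ⧸ K) f → ∃ i : ℕ, f 1 = ((r ^ i : ℕ) : ℂ) := by
    intro f hf
    have hfi := IsIrrCharacter.inflate K hf
    obtain ⟨θ, hθ, hc⟩ := exists_constituent_restrict (N := Q) hfi
    obtain ⟨m, -, hm⟩ := IsIrrCharacter.exists_degree hfi
    obtain ⟨i, -, d, hd, -, rfl⟩ := hpart θ hθ _ hfi hc m hm
    have h1 : θ 1 = 1 := IsIrrCharacter.apply_one_eq_one_of_commutators hθ fun x y =>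
      PPrimeKernel.constituent_apply_eq (IsCharacter.restrict (IsIrrCharacter.isCharacter hfi) Q) hθ hc
        (inflate_apply_mem K f (Subgroup.mem_map_of_mem Q.subtype
          (show x * y * x⁻¹ * y⁻¹ ∈ commutator Q by
            rw [← commutatorElement_def x y]
            exact Subgroup.commutator_mem_commutator (Subgroup.mem_top x) (Subgroup.mem_top y))))
    rw [hd, Nat.cast_eq_one] at h1
    subst h1
    exact ⟨i, by rw [mul_one] at hm; simpa [CfsgLib.Char.inflate] using hm⟩
  have hpow : ∀ i : ℕ, ordCompl[r] (r ^ i) = 1 := fun i => Nat.ordCompl_self_pow hr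
  have hdown : ∀ i : ℕ, derivedSeries (G ⧸ K) i = ⊥ → derivedSeries G i ≤ K := fun i h => by
    have := map_derivedSeries_le_derivedSeries (QuotientGroup.mk' K) i
    rw [h, le_bot_iff, Subgroup.map_eq_bot_iff, QuotientGroup.ker_mk'] at this
    exact this
  by_cases ha' : ordCompl[r] a = 1
  · by_cases hb' : ordCompl[r] b = 1
    · -- `Q` is abelian
      have hQab : ∀ x y : Q, x * y = y * x := abelian_iff_degree_one.2 fun θ hθ => by
        rcases hQ3 θ hθ with h | h | h
        · exact h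
        · rw [h, ha', Nat.cast_one]
        · rw [h, hb', Nat.cast_one]
      refine monomial_derived hcd hab ha Q (fun x hx y hy =>
        congrArg Subtype.val (hQab ⟨x, hx⟩ ⟨y, hy⟩)) ?_ ?_
      · rw [hk]; exact Nat.Coprime.pow_right k hQr
      · exact (IsPGroup.of_card (n := k) (by rw [← Subgroup.index_eq_card, hk])).isNilpotent
    · -- degrees `1, b'` on `Q` and `1, a` modulo `K`
      have hQ2 : derivedSeries Q 2 = ⊥ := two_derived (m := ordCompl[r] b) fun θ hθ => by
        rcases hQ3 θ hθ with h | h | h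
        · exact Or.inl h
        · exact Or.inl (by rw [h, ha', Nat.cast_one])
        · exact Or.inr h
      have hG2 : derivedSeries (G ⧸ K) 2 = ⊥ := two_derived (m := a) fun f hf => by
        rcases three_quotient hcd K f hf with h | h | h
        · exact Or.inl h
        · exact Or.inr h
        · obtain ⟨i, hi⟩ := hquot f hf
          rw [h, Nat.cast_inj] at hi
          exact absurd (by rw [hi, hpow]) hb'
      rw [derivedSeries_succ, eq_bot_iff]
      refine (Subgroup.commutator_mono (hdown 2 hG2) (hdown 2 hG2)).trans (le_of_eq ?_)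
      rw [hK, ← Subgroup.map_commutator, Subgroup.map_eq_bot_iff_of_injective _ Q.subtype_injective,
        ← derivedSeries_one, ← derivedSeries_succ]
      exact hQ2
  · by_cases hb' : ordCompl[r] b = 1
    · -- degrees `1, a'` on `Q` and `1, b` modulo `K`
      have hQ2 : derivedSeries Q 2 = ⊥ := two_derived (m := ordCompl[r] a) fun θ hθ => by
        rcases hQ3 θ hθ with h | h | h
        · exact Or.inl h
        · exact Or.inr h
        · exact Or.inl (by rw [h, hb', Nat.cast_one])
      have hG2 : derivedSeries (G ⧸ K) 2 = ⊥ := two_derived (m := b) fun f hf => by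
        rcases three_quotient hcd K f hf with h | h | h
        · exact Or.inl h
        · obtain ⟨i, hi⟩ := hquot f hf
          rw [h, Nat.cast_inj] at hi
          exact absurd (by rw [hi, hpow]) ha'
        · exact Or.inr h
      rw [derivedSeries_succ, eq_bot_iff]
      refine (Subgroup.commutator_mono (hdown 2 hG2) (hdown 2 hG2)).trans (le_of_eq ?_)
      rw [hK, ← Subgroup.map_commutator, Subgroup.map_eq_bot_iff_of_injective _ Q.subtype_injective,
        ← derivedSeries_one, ← derivedSeries_succ]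
      exact hQ2
    · -- `G'` is the commutator subgroup of `Q`
      have hG1 : derivedSeries (G ⧸ K) 1 = ⊥ := by
        have hall : ∀ x y : G ⧸ K, x * y = y * x := abelian_iff_degree_one.2 fun f hf => by
          obtain ⟨i, hi⟩ := hquot f hf
          rcases three_quotient hcd K f hf with h | h | h
          · exact h
          · rw [h, Nat.cast_inj] at hi; exact absurd (by rw [hi, hpow]) ha'
          · rw [h, Nat.cast_inj] at hi; exact absurd (by rw [hi, hpow]) hb'
        rw [derivedSeries_one, commutator_def, eq_bot_iff, Subgroup.commutator_le]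
        intro x _ y _
        rw [Subgroup.mem_bot, commutatorElement_eq_one_iff_mul_comm]; exact hall x y
      have hge : ∀ i : ℕ, derivedSeries G (i + 1) ≤ (derivedSeries Q (i + 1)).map Q.subtype := by
        intro i
        induction i with
        | zero => rw [zero_add, derivedSeries_one Q]; exact hdown 1 hG1
        | succ i hi =>
          rw [derivedSeries_succ G, derivedSeries_succ Q, Subgroup.map_commutator]
          exact Subgroup.commutator_mono hi hi
      exact le_bot_iff.1 ((hge 2).trans (le_of_eq (by rw [hQd, Subgroup.map_bot])))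

/-- A Frobenius or prime power quotient gives a subgroup with two degrees. -/
theorem exists_two_degree_subgroup {a b : ℕ} (hcd : Three G a b) (ha : 1 < a) (hb : 1 < b)
    (hcop : a.Coprime b) (hA : ∃ f : G → ℂ, Cfsg.IsIrrCharacter G f ∧ f 1 = a)
    (hB : ∃ f : G → ℂ, Cfsg.IsIrrCharacter G f ∧ f 1 = b)
    (M : Subgroup G) [M.Normal] [Group.IsSolvable (G ⧸ M)] (hne : commutator (G ⧸ M) ≠ ⊥) :
    ∃ E : Subgroup G, commutator G ≤ E ∧ derivedSeries E 2 = ⊥ := by
  classical
  obtain ⟨s, N₀, K₀, hs, hN₀, hK₀, hNK₀, hcomm₀, hab₀, ⟨e, he0, he⟩, hcase⟩ :=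
    NonabQuot.exists_quotient (G := G ⧸ M) hne
  haveI := Fact.mk hs
  set π := QuotientGroup.mk' M
  have hπ : Function.Surjective π := QuotientGroup.mk'_surjective M
  set N := N₀.comap π with hN
  set K := K₀.comap π with hK
  haveI : N.Normal := hN₀.comap π
  haveI : K.Normal := hK₀.comap π
  haveI := Fintype.ofFinite N
  haveI := Fintype.ofFinite K
  haveI := Fintype.ofFinite (G ⧸ N)
  have hNK : N ≤ K := Subgroup.comap_mono hNK₀
  have hcomm : ∀ x y : G, ⁅x, y⁆ ∈ K := fun x y => by
    rw [hK, Subgroup.mem_comap, map_commutatorElement]; exact hcomm₀ _ _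
  have hab : ∀ x ∈ K, ∀ y ∈ K, ⁅x, y⁆ ∈ N := fun x hx y hy => by
    rw [hN, Subgroup.mem_comap, map_commutatorElement]; exact hab₀ _ hx _ hy
  have hidx : N.relIndex K = s ^ e := by
    rw [hN, Subgroup.relIndex_comap, hK, Subgroup.map_comap_eq_self_of_surjective hπ, he]
  -- no character has degree `a * b`
  have hnot : ∀ f : G → ℂ, Cfsg.IsIrrCharacter G f → f 1 ≠ ((a * b : ℕ) : ℂ) := fun f hf h => by
    have h1 : a * 1 < a * b := Nat.mul_lt_mul_of_pos_left hb (by omega)
    have h2 : 1 * b < a * b := Nat.mul_lt_mul_of_pos_right ha (by omega)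
    rcases hcd f hf with h' | h' | h' <;> rw [h] at h'
    · exact absurd (Nat.cast_eq_one.1 h') (by omega)
    · exact absurd (Nat.cast_inj.1 h') (by omega)
    · exact absurd (Nat.cast_inj.1 h') (by omega)
  rcases hcase with ⟨⟨t, ht⟩, x₀, y₀, hxy⟩ | ⟨hKtop₀, hfpf₀⟩
  · -- a prime power quotient
    exfalso
    have hNidx : N.index = s ^ t := by rw [hN, Subgroup.index_comap_of_surjective _ hπ, ht]
    obtain ⟨β, hβ, hβne⟩ : ∃ β : G ⧸ N → ℂ, Cfsg.IsIrrCharacter (G ⧸ N) β ∧ β 1 ≠ 1 := by
      by_contra hno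
      push Not at hno
      obtain ⟨x, rfl⟩ := hπ x₀
      obtain ⟨y, rfl⟩ := hπ y₀
      apply hxy
      rw [← map_commutatorElement]
      show ⁅x, y⁆ ∈ N
      rw [← QuotientGroup.eq_one_iff, ← QuotientGroup.mk'_apply, map_commutatorElement,
        commutatorElement_eq_one_iff_mul_comm]
      exact abelian_iff_degree_one.2 hno _ _
    obtain ⟨f₁, hf₁0, hf₁⟩ := IsIrrCharacter.exists_degree hβ
    obtain ⟨i, -, rfl⟩ : ∃ i ≤ t, f₁ = s ^ i := (Nat.dvd_prime_pow hs).1 (by
      rw [← hNidx, Subgroup.index_eq_card]; exact IsIrrCharacter.degree_dvd_card hβ hf₁)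
    have hi0 : i ≠ 0 := fun h => hβne (by rw [hf₁, h, pow_zero, Nat.cast_one])
    have hinfl := IsIrrCharacter.inflate N hβ
    have hdeg : CfsgLib.Char.inflate N β 1 = ((s ^ i : ℕ) : ℂ) := by
      simpa [CfsgLib.Char.inflate] using hf₁
    -- the other degree
    obtain ⟨g, χ, hχ, hχ1, hcopg, hprod⟩ : ∃ g : ℕ, ∃ χ : G → ℂ, Cfsg.IsIrrCharacter G χ ∧
        χ 1 = g ∧ ¬ s ∣ g ∧ g * s ^ i = a * b := by
      have hsd : s ∣ s ^ i := dvd_pow_self s hi0
      rcases hcd _ hinfl with h | h | h <;> rw [hdeg] at h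
      · exact absurd (Nat.cast_eq_one.1 h) (Nat.one_lt_pow hi0 hs.one_lt).ne'
      · obtain ⟨χ, hχ, hχ1⟩ := hB
        refine ⟨b, χ, hχ, hχ1, fun hd => hs.one_lt.ne' ?_, by rw [Nat.cast_inj.1 h, mul_comm]⟩
        exact Nat.dvd_one.1 (hcop ▸ Nat.dvd_gcd (Nat.cast_inj.1 h ▸ hsd) hd)
      · obtain ⟨χ, hχ, hχ1⟩ := hA
        refine ⟨a, χ, hχ, hχ1, fun hd => hs.one_lt.ne' ?_, by rw [Nat.cast_inj.1 h]⟩
        exact Nat.dvd_one.1 (hcop ▸ Nat.dvd_gcd hd (Nat.cast_inj.1 h ▸ hsd))
    obtain ⟨θ, hθ, hc⟩ := exists_constituent_restrict (N := N) hχ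
    obtain ⟨j, hj, hjd⟩ := exists_degree_ratio hχ hθ hc
    obtain ⟨d, -, hd⟩ := IsIrrCharacter.exists_degree hθ
    rw [hχ1, hd, ← Nat.cast_mul, Nat.cast_inj] at hjd
    rw [hNidx] at hj
    obtain ⟨l, -, rfl⟩ := (Nat.dvd_prime_pow hs).1 hj
    have hl : l = 0 := by
      by_contra hl
      exact hcopg (hjd ▸ Dvd.dvd.mul_right (dvd_pow_self s hl) d)
    rw [hl, pow_zero, one_mul] at hjd
    have hres : (fun n : N => χ n) = θ :=
      IsCharacter.eq_of_constituent (IsCharacter.restrict (IsIrrCharacter.isCharacter hχ) N) hθ hc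
        (by simp only [OneMemClass.coe_one]; rw [hχ1, hd, hjd])
    have hgal := gallagher_one (N := N) hχ (by rw [hres]; exact hθ)
    have hmem := (hgal.mapsTo (show CfsgLib.Char.inflate N β ∈ _ from
      ⟨hinfl, fun n hn => inflate_apply_mem N β hn⟩)).1
    refine hnot _ hmem ?_
    simp only [Pi.mul_apply]
    rw [hdeg, hχ1, ← Nat.cast_mul, ← hprod, mul_comm]
  · -- a Frobenius quotient
    have hfpf : ∀ y ∉ K, ∀ k ∈ K, ⁅y, k⁆ ∈ N → k ∈ N := fun y hy k hk h => by
      rw [hN, Subgroup.mem_comap, map_commutatorElement] at h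
      exact hfpf₀ _ hy _ hk h
    refine ⟨K, by rw [commutator_def, Subgroup.commutator_le]; exact fun x _ y _ => hcomm x y, ?_⟩
    -- `s` does not divide the index
    have hsidx : ¬ s ∣ K.index := by
      intro hdvd
      obtain ⟨P⟩ : Nonempty (Sylow s (G ⧸ N)) := inferInstance
      set Kb := K.map (QuotientGroup.mk' N) with hKb
      haveI : Kb.Normal := Subgroup.Normal.map inferInstance _ (QuotientGroup.mk'_surjective N)
      have hKcard : Nat.card Kb = s ^ e := by
        rw [hKb, ← Subgroup.relIndex_bot_left, ← hidx]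
        have := Subgroup.relIndex_comap (⊥ : Subgroup (G ⧸ N)) (QuotientGroup.mk' N) K
        rw [MonoidHom.comap_bot, QuotientGroup.ker_mk'] at this
        exact this.symm
      have hKp : IsPGroup s Kb := IsPGroup.of_card hKcard
      have hKP : Kb ≤ (P : Subgroup (G ⧸ N)) := by
        obtain ⟨S, hS⟩ := hKp.exists_le_sylow
        obtain ⟨g, rfl⟩ := MulAction.exists_smul_eq (G ⧸ N) S P
        intro x hx
        rw [Sylow.coe_subgroup_smul, Subgroup.mem_pointwise_smul_iff_inv_smul_mem]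
        exact hS (by simpa using Subgroup.Normal.conj_mem inferInstance x hx g⁻¹)
      obtain ⟨y, hyP, hyK⟩ : ∃ y ∈ (P : Subgroup (G ⧸ N)), y ∉ Kb := by
        by_contra hno
        push Not at hno
        have heq : (P : Subgroup (G ⧸ N)) = Kb := le_antisymm hno hKP
        have h1 := P.not_dvd_index
        rw [heq, hKb, Subgroup.index_map, QuotientGroup.ker_mk', sup_eq_left.2 hNK,
          MonoidHom.range_eq_top.2 (QuotientGroup.mk'_surjective N), Subgroup.index_top, mul_one] at h1
        exact h1 hdvd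
      haveI : Group.IsNilpotent (P : Subgroup (G ⧸ N)) := P.isPGroup'.isNilpotent
      obtain ⟨z, hzne, hz⟩ : ∃ z ∈ Kb, z ≠ 1 ∧ ∀ w ∈ (P : Subgroup (G ⧸ N)), w * z = z * w := by
        haveI : (Kb.subgroupOf (P : Subgroup (G ⧸ N))).Normal := Subgroup.Normal.subgroupOf inferInstance _
        obtain ⟨z, hz1, hz⟩ : ∃ z : (P : Subgroup (G ⧸ N)), z ≠ 1 ∧
            z ∈ Kb.subgroupOf (P : Subgroup (G ⧸ N)) ⊓ Subgroup.center _ := by
          have hne1 : Kb.subgroupOf (P : Subgroup (G ⧸ N)) ⊓ Subgroup.center _ ≠ ⊥ := by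
            intro h
            have h2 : Kb.subgroupOf (P : Subgroup (G ⧸ N)) = ⊥ := by
              by_contra h3
              exact (CfsgLib.PGroupBasic.inf_center_ne_bot _ h3) h
            rw [Subgroup.subgroupOf_eq_bot, disjoint_iff, inf_eq_left.2 hKP] at h2
            rw [h2, Subgroup.card_bot] at hKcard
            exact (Nat.one_lt_pow he0 hs.one_lt).ne hKcard
          obtain ⟨z, hz, hz1⟩ := (Subgroup.bot_or_exists_ne_one _).resolve_left hne1
          exact ⟨z, hz1, hz⟩
        refine ⟨(z : G ⧸ N), hz.1, fun h => hz1 (Subtype.ext h), fun w hw => ?_⟩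
        exact congrArg Subtype.val (Subgroup.mem_center_iff.1 hz.2 ⟨w, hw⟩)
      obtain ⟨y, rfl⟩ := QuotientGroup.mk'_surjective N y
      obtain ⟨z', hz', rfl⟩ := hzne
      refine hz.1 ((QuotientGroup.eq_one_iff z').2 (hfpf y (fun h => hyK ⟨y, h, rfl⟩) z' hz' ?_))
      rw [← QuotientGroup.eq_one_iff, ← QuotientGroup.mk'_apply, map_commutatorElement,
        commutatorElement_eq_one_iff_mul_comm]
      exact hz.2 _ hyP
    have hKne : K ≠ ⊤ := fun h => hKtop₀ (by
      rw [← Subgroup.map_comap_eq_self_of_surjective hπ K₀, ← hK, h,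
        Subgroup.map_top_of_surjective π hπ])
    have hf : 1 < K.index := Subgroup.one_lt_index_of_ne_top hKne
    -- the index is a degree
    obtain ⟨χ₀, hχ₀, hχ₀1⟩ := NonabQuot.exists_degree_mul hNK hab hs he0 hidx hfpf hcomm
      (ψ := fun _ : K => (1 : ℂ)) isIrrCharacter_one (m := 1) (by simp) hs.not_dvd_one
    rw [mul_one] at hχ₀1
    obtain ⟨a', b', hcd', hfa, hb', hcop'⟩ : ∃ a' b' : ℕ, Three G a' b' ∧ K.index = a' ∧ 1 < b' ∧
        a'.Coprime b' := by
      rcases hcd χ₀ hχ₀ with h | h | h <;> rw [hχ₀1] at h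
      · exact absurd (Nat.cast_eq_one.1 h) hf.ne'
      · exact ⟨a, b, hcd, Nat.cast_inj.1 h, hb, hcop⟩
      · exact ⟨b, a, fun f hf => (hcd f hf).imp_right Or.symm, Nat.cast_inj.1 h, ha, hcop.symm⟩
    refine two_derived (m := b') fun θ hθ => ?_
    obtain ⟨χ, hχ, hc⟩ := exists_over' K hθ
    obtain ⟨j, hj, hjd⟩ := exists_degree_ratio hχ hθ hc
    obtain ⟨d, hd0, hd⟩ := IsIrrCharacter.exists_degree hθ
    rw [hd, Nat.cast_eq_one, Nat.cast_inj]
    rw [hfa] at hj
    rcases hcd' χ hχ with h | h | h <;> rw [hjd, hd, ← Nat.cast_mul] at h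
    · exact Or.inl (Nat.eq_one_of_mul_eq_one_left (Nat.cast_eq_one.1 h))
    · left
      rw [Nat.cast_inj] at h
      have hda : d ∣ K.index := hfa ▸ h ▸ dvd_mul_left d j
      obtain ⟨χ', hχ', hχ'1⟩ := NonabQuot.exists_degree_mul hNK hab hs he0 hidx hfpf hcomm hθ hd
        fun hsd => hsidx (hsd.trans hda)
      rw [hfa] at hχ'1 hf
      rcases hcd' χ' hχ' with h' | h' | h' <;> rw [hχ'1] at h'
      · exact Nat.eq_one_of_mul_eq_one_left (Nat.cast_eq_one.1 h')
      · exact (Nat.mul_eq_left (by omega)).1 (Nat.cast_inj.1 h')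
      · exact absurd (Nat.eq_one_of_dvd_coprimes hcop' dvd_rfl (Nat.cast_inj.1 h' ▸ dvd_mul_right a' d))
          hf.ne'
    · right
      rw [Nat.cast_inj] at h
      have : j = 1 := Nat.eq_one_of_dvd_coprimes hcop' hj (h ▸ dvd_mul_right j d)
      rw [this, one_mul] at h
      exact h

/-- A group with at most three degrees has trivial third derived subgroup. -/
theorem derived_three (n : ℕ) : ∀ (G : Type u) [Group G] [Finite G], Nat.card G = n →
    ∀ a b : ℕ, Three G a b → derivedSeries G 3 = ⊥ := by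
  induction n using Nat.strong_induction_on with | _ n ih =>
  intro G _ _ hn a b hcd
  classical
  haveI := Fintype.ofFinite G
  subst hn
  by_cases htwo : ∃ m : ℕ, ∀ f : G → ℂ, Cfsg.IsIrrCharacter G f → f 1 = 1 ∨ f 1 = m
  · obtain ⟨m, hm⟩ := htwo
    exact eq_bot_iff.2 ((derivedSeries_antitone G (by norm_num)).trans (two_derived hm).le)
  push Not at htwo
  obtain ⟨f, hf, hf1, hfb⟩ := htwo b
  have hfa : f 1 = a := ((hcd f hf).resolve_left hf1).resolve_right hfb
  obtain ⟨g, hg, hg1, hga⟩ := htwo a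
  have hgb : g 1 = b := ((hcd g hg).resolve_left hg1).resolve_left hga
  have hne : a ≠ b := fun h => hfb (by rw [hfa, h])
  have ha : 1 < a := one_lt_degree hf hfa fun h => hf1 (by rw [hfa, h, Nat.cast_one])
  have hb : 1 < b := one_lt_degree hg hgb fun h => hg1 (by rw [hgb, h, Nat.cast_one])
  clear hfb hga
  wlog hab : a < b generalizing a b f g
  · exact this b a (fun f hf => (hcd f hf).imp_right Or.symm) g hg hg1 hgb f hf hf1 hfa hne.symm
      hb ha (by omega)
  by_cases hcop : a.Coprime b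
  swap
  · obtain ⟨r, hr, hra, hrb⟩ := Nat.Prime.not_coprime_iff_dvd.1 hcop
    haveI := Fact.mk hr
    exact of_common_prime hcd ha hab hra hrb ⟨f, hf, hfa⟩
      fun Q hQ a' b' h => ih _ hQ Q rfl a' b' h
  -- solvability
  haveI hsolv : Group.IsSolvable G := by
    by_contra hns
    haveI : Nontrivial G := by
      by_contra h
      rw [not_nontrivial_iff_subsingleton] at h
      exact hns inferInstance
    have hq : ∀ M : Subgroup G, M.Normal → M ≠ ⊥ → ∀ [M.Normal], Group.IsSolvable (G ⧸ M) := by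
      intro M _ hM _
      haveI := Fintype.ofFinite (G ⧸ M)
      have hlt : Nat.card (G ⧸ M) < Nat.card G := by
        rw [← Subgroup.index_eq_card, ← Subgroup.card_mul_index M]
        exact lt_mul_of_one_lt_left (Nat.pos_of_ne_zero Subgroup.index_ne_zero_of_finite)
          (Subgroup.one_lt_card_iff_ne_bot _ |>.2 hM)
      exact ⟨⟨3, ih _ hlt (G ⧸ M) rfl a b (three_quotient hcd M)⟩⟩
    obtain ⟨N, ⟨hNn, hN0⟩, hmin⟩ := (Set.toFinite {N : Subgroup G | N.Normal ∧ N ≠ ⊥}).exists_minimal
      ⟨⊤, inferInstance, top_ne_bot⟩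
    haveI := hNn
    haveI := hq N hNn hN0
    have hle : ∀ M : Subgroup G, M.Normal → M ≠ ⊥ → N ≤ M := by
      intro M hM hM0
      haveI := hq M hM hM0
      by_contra hcon
      have h0 : N ⊓ M = ⊥ := by
        by_contra h
        exact hcon ((hmin ⟨inferInstance, h⟩ inf_le_left).trans inf_le_right)
      refine hns (Group.isSolvable_of_isSolvable_injective
        (f := (QuotientGroup.mk' N).prod (QuotientGroup.mk' M)) ?_)
      rw [← MonoidHom.ker_eq_bot_iff, MonoidHom.ker_prod, QuotientGroup.ker_mk', QuotientGroup.ker_mk', h0]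
    by_cases hab' : commutator (G ⧸ N) = ⊥
    · refine CoprimeDeg.false_of_faithful ha hab hcop hcd (fun χ hχ hχ1 x hx => ?_) ⟨f, hf, hfa⟩ ⟨g, hg, hgb⟩
      by_contra hx1
      obtain ⟨m, ρ, hρ, rfl⟩ := id hχ
      have hxker : x ∈ ρ.ker := by
        rw [MonoidHom.mem_ker]; exact (character_eq_iff ρ x).1 (by rw [hx, ρ.char_one])
      have hker : ρ.ker ≠ ⊥ := fun h => hx1 (Subgroup.mem_bot.1 (h ▸ hxker))
      refine hχ1 (IsIrrCharacter.apply_one_eq_one_of_commutators hχ fun u v => ?_)
      rw [ρ.char_one]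
      apply (character_eq_iff ρ _).2
      refine MonoidHom.mem_ker.1 (hle ρ.ker inferInstance hker ?_)
      rw [← QuotientGroup.eq_one_iff, ← QuotientGroup.mk'_apply, ← Subgroup.mem_bot, ← hab',
        show u * v * u⁻¹ * v⁻¹ = ⁅u, v⁆ from (commutatorElement_def u v).symm, map_commutatorElement]
      exact Subgroup.commutator_mem_commutator (Subgroup.mem_top _) (Subgroup.mem_top _)
    · obtain ⟨E, hGE, hE⟩ := exists_two_degree_subgroup hcd ha hb hcop ⟨f, hf, hfa⟩ ⟨g, hg, hgb⟩ N hab'
      haveI : Group.IsSolvable E := ⟨⟨2, hE⟩⟩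
      haveI : E.Normal := Subgroup.Normal.of_commutator_le G hGE
      haveI : Group.IsSolvable (G ⧸ E) := by
        refine hq E inferInstance fun h => hns ?_
        have hc : commutator G = ⊥ := le_bot_iff.1 (h ▸ hGE)
        exact ⟨⟨1, by rw [derivedSeries_one, hc]⟩⟩
      exact hns (Group.isSolvable_of_ker_le_range E.subtype (QuotientGroup.mk' E)
        (by rw [QuotientGroup.ker_mk', Subgroup.range_subtype]))
  -- the derived length
  haveI : Group.IsSolvable (G ⧸ (⊥ : Subgroup G)) := inferInstance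
  have hnab : commutator (G ⧸ (⊥ : Subgroup G)) ≠ ⊥ := by
    intro h
    refine hf1 (linear_all h f hf)
  obtain ⟨E, hGE, hE⟩ := exists_two_degree_subgroup hcd ha hb hcop ⟨f, hf, hfa⟩ ⟨g, hg, hgb⟩ ⊥ hnab
  have hge : ∀ i : ℕ, derivedSeries G (i + 1) ≤ (derivedSeries E i).map E.subtype := by
    intro i
    induction i with
    | zero => rw [zero_add, derivedSeries_zero, ← MonoidHom.range_eq_map, Subgroup.range_subtype,
        derivedSeries_one]; exact hGE
    | succ i hi =>
      rw [derivedSeries_succ G, derivedSeries_succ E, Subgroup.map_commutator]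
      exact Subgroup.commutator_mono hi hi
  exact le_bot_iff.1 ((hge 2).trans (le_of_eq (by rw [hE, Subgroup.map_bot])))

end CfsgLib.Char.ThreeDeg
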