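import Cfsg.Agent.Char.ClassProducts
import Cfsg.Agent.Char.Values
import Cfsg.Agent.Char.Generalized
import Cfsg.Agent.Char.AlgInt
import Mathlib.GroupTheory.Sylow

/-!
# Even degrees and defect zero from centralisers of odd order
-/

namespace CfsgLib.Char

open scoped ComplexConjugate

universe u

variable {G : Type u} [Group G] [Finite G]

theorem exists_sq_sum {ι : Type*} (s : Finset ι) (f : ι → ℂ) (hf : ∀ i ∈ s, IsIntegral ℤ (f i)) :
    ∃ R : ℂ, IsIntegral ℤ R ∧ (∑ i ∈ s, f i) ^ 2 = ∑ i ∈ s, f i ^ 2 + 2 * R := by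
  classical
  induction s using Finset.induction_on with
  | empty => exact ⟨0, isIntegral_zero, by simp⟩
  | @insert a s ha ih =>
    obtain ⟨R, hR, h⟩ := ih fun i hi => hf i (Finset.mem_insert_of_mem hi)
    refine ⟨R + f a * ∑ i ∈ s, f i, hR.add ((hf a (Finset.mem_insert_self _ _)).mul
      (IsIntegral.sum _ fun i hi => hf i (Finset.mem_insert_of_mem hi))), ?_⟩
    rw [Finset.sum_insert ha, Finset.sum_insert ha]
    linear_combination h

/-- An element conjugate to its inverse with centraliser of odd order forces an even degree. -/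
theorem exists_even_degree_of_real {g : G} (hg1 : g ≠ 1) (hreal : IsConj g g⁻¹)
    (hodd : Odd (Nat.card (Subgroup.centralizer ({g} : Set G)))) :
    ∃ (χ : G → ℂ) (k : ℕ), Cfsg.IsIrrCharacter G χ ∧ χ 1 = (2 * k : ℕ) := by
  classical
  haveI := Fintype.ofFinite G
  by_contra hno
  have hdeg : ∀ χ ∈ irrFinset G, ∃ k : ℕ, χ 1 = 2 * (k : ℂ) + 1 := by
    intro χ hχ
    rw [mem_irrFinset] at hχ
    obtain ⟨n, -, hn⟩ := IsIrrCharacter.exists_degree hχ
    rcases Nat.even_or_odd n with ⟨k, hk⟩ | ⟨k, hk⟩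
    · exact absurd ⟨χ, k, hχ, by rw [hn, hk]; congr 1; omega⟩ hno
    · exact ⟨k, by rw [hn, hk]; push_cast; ring⟩
  choose! k hk using hdeg
  have hint : ∀ χ ∈ irrFinset G, IsIntegral ℤ (χ g) := fun χ hχ =>
    IsCharacter.isIntegral (IsIrrCharacter.isCharacter (mem_irrFinset.1 hχ)) g
  have hconj : ∀ χ ∈ irrFinset G, conj (χ g) = χ g := fun χ hχ => by
    rw [← IsIrrCharacter.apply_inv (mem_irrFinset.1 hχ), IsClassFunction.apply_eq_of_isConj
      (IsIrrCharacter.isClassFunction (mem_irrFinset.1 hχ)) hreal]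
  have hsq : ∑ χ ∈ irrFinset G, χ g ^ 2 = (Nat.card (Subgroup.centralizer ({g} : Set G)) : ℂ) := by
    have h := sum_irr_mul_conj g g
    rw [if_pos (IsConj.refl g)] at h
    rw [← h]
    exact Finset.sum_congr rfl fun χ hχ => by rw [hconj χ hχ]; ring
  have h0 := sum_degree_mul_apply (G := G) g
  rw [if_neg hg1] at h0
  set w : ℂ := ∑ χ ∈ irrFinset G, (k χ : ℂ) * χ g
  have hsum : ∑ χ ∈ irrFinset G, χ g = -2 * w := by
    rw [Finset.sum_congr rfl fun χ hχ => show χ 1 * χ g = 2 * ((k χ : ℂ) * χ g) + χ g by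
      rw [hk χ hχ]; ring, Finset.sum_add_distrib, ← Finset.mul_sum] at h0
    linear_combination h0
  obtain ⟨R, hR, hR2⟩ := exists_sq_sum _ (fun χ : G → ℂ => χ g) hint
  rw [hsum, hsq] at hR2
  have hw : IsIntegral ℤ w := IsIntegral.sum _ fun χ hχ =>
    (isIntegral_natCast _).mul (hint χ hχ)
  have key : IsIntegral ℤ ((Nat.card (Subgroup.centralizer ({g} : Set G)) : ℂ) / ((2 : ℕ) : ℂ)) := by
    rw [show (Nat.card (Subgroup.centralizer ({g} : Set G)) : ℂ) / ((2 : ℕ) : ℂ) = w * w + w * w - R by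
      push_cast; linear_combination -hR2 / 2]
    exact ((hw.mul hw).add (hw.mul hw)).sub hR
  exact Nat.not_even_iff_odd.2 hodd (even_iff_two_dvd.2 (dvd_of_isIntegral_div two_ne_zero key))

/-- If no non-identity element of a Sylow `p`-subgroup is inverted by an involution `t` and `p` does not divide
the order of the centraliser of `t`, some irreducible character has defect zero. -/
theorem exists_defect_zero_of_not_real {p : ℕ} [Fact p.Prime] (hpG : p ∣ Nat.card G) {t : G} (ht : orderOf t = 2)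
    (hnr : ∀ g : G, g ≠ 1 → (∃ k : ℕ, orderOf g = p ^ k) → ¬ IsConj g g⁻¹)
    (hC : ¬ p ∣ Nat.card (Subgroup.centralizer ({t} : Set G))) :
    ∃ (χ : G → ℂ) (n : ℕ), Cfsg.IsIrrCharacter G χ ∧ χ 1 = n ∧
      n.factorization p = (Nat.card G).factorization p := by
  classical
  haveI := Fintype.ofFinite G
  have hp := (Fact.out : p.Prime)
  set a := (Nat.card G).factorization p with ha
  by_contra hno
  have hGne : Nat.card G ≠ 0 := Nat.card_pos.ne'
  have ha1 : 1 ≤ a := hp.factorization_pos_of_dvd hGne hpG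
  set m := Nat.card G / p ^ a with hm
  set L := p ^ (a - 1) * m with hL
  have hdvd : ∀ χ ∈ irrFinset G, ∃ c : ℕ, (L : ℂ) / χ 1 = c := by
    intro χ hχ
    rw [mem_irrFinset] at hχ
    obtain ⟨n, -, hn⟩ := IsIrrCharacter.exists_degree hχ
    have hnG : n ∣ Nat.card G := IsIrrCharacter.degree_dvd_card hχ hn
    have hn0 : n ≠ 0 := fun h => IsIrrCharacter.apply_one_ne_zero hχ (by rw [hn, h, Nat.cast_zero])
    have hv : n.factorization p ≤ a - 1 := by
      have h1 : n.factorization p ≤ a := (Nat.factorization_le_iff_dvd hn0 hGne).2 hnG p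
      have h2 : n.factorization p ≠ a := fun h => hno ⟨χ, n, hχ, hn, h⟩
      omega
    have hnL : n ∣ L := by
      rw [← Nat.ordProj_mul_ordCompl_eq_self n p, hL, hm, ha]
      exact Nat.mul_dvd_mul (pow_dvd_pow p hv) (Nat.ordCompl_dvd_ordCompl_of_dvd hnG p)
    refine ⟨L / n, ?_⟩
    rw [hn, Nat.cast_div hnL (by exact_mod_cast hn0)]
  choose! c hc using hdvd
  have htt : t * t = 1 := by rw [← pow_two, ← ht, pow_orderOf_eq_one]
  have hti : t⁻¹ = t := inv_eq_of_mul_eq_one_right htt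
  have hconjt : ∀ χ ∈ irrFinset G, conj (χ t) = χ t := fun χ hχ => by
    rw [← IsIrrCharacter.apply_inv (mem_irrFinset.1 hχ), hti]
  set C := Nat.card (Subgroup.centralizer ({t} : Set G))
  let Φ : G → ℂ := fun x => ∑ χ ∈ irrFinset G, (c χ : ℂ) * (χ t * χ t * conj (χ x))
  have hΦ1 : Φ 1 = (L : ℂ) * C := by
    have h := sum_irr_mul_conj t t
    rw [if_pos (IsConj.refl t)] at h
    rw [← h, Finset.mul_sum]
    refine Finset.sum_congr rfl fun χ hχ => ?_
    obtain ⟨n, -, hn⟩ := IsIrrCharacter.exists_degree (mem_irrFinset.1 hχ)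
    have hn0 := IsIrrCharacter.apply_one_ne_zero (mem_irrFinset.1 hχ)
    rw [hconjt χ hχ, ← hc χ hχ, hn, map_natCast, ← hn]
    field_simp
  obtain ⟨P⟩ : Nonempty (Sylow p G) := inferInstance
  have hΦP : ∀ x ∈ (P : Subgroup G), x ≠ 1 → Φ x = 0 := by
    intro x hx hx1
    have hk : ∃ k : ℕ, orderOf x = p ^ k := by
      obtain ⟨k, hk⟩ := P.2 ⟨x, hx⟩
      obtain ⟨i, -, hi⟩ := (Nat.dvd_prime_pow hp).1
        (orderOf_dvd_of_pow_eq_one (congrArg Subtype.val hk : x ^ p ^ k = 1))
      exact ⟨i, hi⟩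
    have h0 : IsEmpty {q : G × G // IsConj t q.1 ∧ IsConj t q.2 ∧ q.1 * q.2 = x} := by
      refine ⟨fun q => hnr x hx1 hk ?_⟩
      obtain ⟨⟨y, z⟩, hy, hz, hyz⟩ := q
      simp only at hy hz hyz
      have sq : ∀ w : G, IsConj t w → w * w = 1 := fun w hw => by
        obtain ⟨e, rfl⟩ := isConj_iff.1 hw
        rw [show e * t * e⁻¹ * (e * t * e⁻¹) = e * (t * t) * e⁻¹ by group, htt]
        group
      refine isConj_iff.2 ⟨y, ?_⟩
      rw [← hyz, mul_inv_rev, inv_eq_of_mul_eq_one_right (sq z hz), inv_eq_of_mul_eq_one_right (sq y hy),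
        show y * (y * z) * y = y * y * z * y by group, sq y hy, one_mul]
    have h := card_class_products t t x
    rw [Nat.card_of_isEmpty, Nat.cast_zero, eq_comm, mul_eq_zero] at h
    have hcl : (Nat.card {z : G // IsConj t z} : ℂ) ≠ 0 := by
      haveI : Nonempty {z : G // IsConj t z} := ⟨⟨t, IsConj.refl t⟩⟩
      exact_mod_cast Nat.card_pos.ne'
    rcases h with h | h
    · exact absurd h (div_ne_zero (mul_ne_zero hcl hcl) (by exact_mod_cast hGne))
    · have e : Φ x = (L : ℂ) * ∑ χ ∈ irrFinset G, χ t * χ t * conj (χ x) / χ 1 := by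
        rw [Finset.mul_sum]
        exact Finset.sum_congr rfl fun χ hχ => by rw [← hc χ hχ]; ring
      rw [e, h, mul_zero]
  have hsum : ∑ x : (P : Subgroup G), Φ x = (L : ℂ) * C := by
    rw [Finset.sum_eq_single (1 : (P : Subgroup G)) (fun x _ hx => hΦP x x.2 (fun h => hx (Subtype.ext h)))
      (fun h => absurd (Finset.mem_univ _) h), OneMemClass.coe_one, hΦ1]
  have hP : ∀ χ ∈ irrFinset G, ∃ k : ℕ,
      ∑ x : (P : Subgroup G), conj (χ x) = (Nat.card (P : Subgroup G) : ℂ) * k := by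
    intro χ hχ
    obtain ⟨k, hk⟩ := IsCharacter.exists_classInner_eq_natCast
      (IsCharacter.restrict (IsIrrCharacter.isCharacter (mem_irrFinset.1 hχ)) (P : Subgroup G))
      (isIrrCharacter_one (G := (P : Subgroup G)))
    refine ⟨k, ?_⟩
    rw [classInner_def, inv_mul_eq_iff_eq_mul₀ (by exact_mod_cast Nat.card_pos.ne')] at hk
    have := congrArg conj hk
    simpa using this
  choose! e he using hP
  have hdec : (L : ℂ) * C / (Nat.card (P : Subgroup G) : ℂ) =
      ∑ χ ∈ irrFinset G, (c χ : ℂ) * (χ t * χ t) * e χ := by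
    rw [div_eq_iff (by exact_mod_cast Nat.card_pos.ne'), ← hsum, Finset.sum_mul, Finset.sum_comm]
    refine Finset.sum_congr rfl fun χ hχ => ?_
    rw [← Finset.mul_sum, ← Finset.mul_sum, he χ hχ]
    ring
  have hdiv : Nat.card (P : Subgroup G) ∣ L * C := by
    refine dvd_of_isIntegral_div Nat.card_pos.ne' ?_
    rw [Nat.cast_mul, hdec]
    refine IsIntegral.sum _ fun χ hχ => ?_
    have ht' := IsCharacter.isIntegral (IsIrrCharacter.isCharacter (mem_irrFinset.1 hχ)) t
    exact ((isIntegral_natCast _).mul (ht'.mul ht')).mul (isIntegral_natCast _)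
  rw [Sylow.card_eq_multiplicity, ← ha, hL, ← Nat.sub_add_cancel ha1, pow_succ, Nat.add_sub_cancel, mul_assoc,
    mul_dvd_mul_iff_left (pow_ne_zero _ hp.ne_zero)] at hdiv
  rcases (Nat.Prime.dvd_mul hp).1 hdiv with h | h
  · exact Nat.not_dvd_ordCompl hp hGne h
  · exact hC h

end CfsgLib.Char
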