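import Cfsg.Prelude.Def_Blocks
import Cfsg.Agent.Char.PPrimeKernel
import Cfsg.Agent.Char.OddIndexReal
import Cfsg.Agent.Char.CliffordCorrespondence
import Cfsg.Agent.Char.NormalSub
import Cfsg.Agent.Char.LinearTwist

/-!
Odd degree characters, possibly required to be real valued: odd normal subgroups are in the kernel
of the real ones, twists, inflation, Clifford correspondence, restriction to a 2-group.
-/

set_option autoImplicit false
set_option linter.unusedSectionVars false
set_option linter.style.haveILetI false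
set_option linter.unusedSimpArgs false
set_option linter.unusedVariables false

namespace CfsgLib.Char.OddReal

open scoped ComplexConjugate

universe u

variable {G : Type u} [Group G]

/-- The reality condition, switched off for `b = true`. -/
def Ok (b : Bool) (χ : G → ℂ) : Prop := b = true ∨ ∀ g, (χ g).im = 0

/-- Irreducible, of odd degree, and subject to the reality condition. -/
def Counted (b : Bool) (χ : G → ℂ) : Prop :=
  Cfsg.IsIrrCharacter G χ ∧ (∃ d : ℕ, Odd d ∧ χ 1 = d) ∧ Ok b χ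

/-- The number of counted characters. -/
noncomputable def cnt (b : Bool) (G : Type u) [Group G] : ℕ :=
  Nat.card {χ : G → ℂ // Counted b χ}

/-- The number of counted characters that are scalar on `W` with eigenvalue `θ`. -/
noncomputable def cntSc (b : Bool) (W : Subgroup G) (θ : G → ℂ) : ℕ :=
  Nat.card {χ : G → ℂ // Counted b χ ∧ ∀ w ∈ W, χ w = χ 1 * θ w}

/-- A character of `W` with values `±1`, as a function on `G`. -/
structure IsSign (W : Subgroup G) (θ : G → ℂ) : Prop where
  mul : ∀ x ∈ W, ∀ y ∈ W, θ (x * y) = θ x * θ y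
  sq : ∀ x ∈ W, θ x * θ x = 1

theorem IsSign.one {W : Subgroup G} {θ : G → ℂ} (h : IsSign W θ) : θ 1 = 1 := by
  have h1 := h.mul 1 W.one_mem 1 W.one_mem
  rw [mul_one, h.sq 1 W.one_mem] at h1
  exact h1

/-- The homomorphism of a sign. -/
noncomputable def IsSign.hom {W : Subgroup G} {θ : G → ℂ} (h : IsSign W θ) : W →* ℂˣ where
  toFun w := ⟨θ w, θ w, h.sq w w.2, h.sq w w.2⟩
  map_one' := Units.ext h.one
  map_mul' x y := Units.ext (h.mul x x.2 y y.2)

theorem IsSign.irr {W : Subgroup G} {θ : G → ℂ} (h : IsSign W θ) :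
    Cfsg.IsIrrCharacter W (fun w : W => θ w) :=
  isIrrCharacter_ofHom h.hom

theorem IsSign.real {W : Subgroup G} {θ : G → ℂ} (h : IsSign W θ) {w : G} (hw : w ∈ W) :
    (θ w).im = 0 := by
  rcases mul_self_eq_one_iff.1 (h.sq w hw) with e | e <;> simp [e]

theorem finite_counted [Finite G] (b : Bool) : Finite {χ : G → ℂ // Counted b χ} :=
  Finite.of_injective (fun χ => (⟨χ.1, χ.2.1⟩ : Cfsg.IrrCharacter G))
    fun χ ψ h => Subtype.ext (congrArg (fun x : Cfsg.IrrCharacter G => (x : G → ℂ)) h)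

theorem Ok.conj_eq {χ : G → ℂ} (h : Ok false χ) : (fun g => conj (χ g)) = χ :=
  funext fun g => Complex.conj_eq_iff_im.2 ((h.resolve_left Bool.false_ne_true) g)

theorem isIrr_conj [Finite G] {χ : G → ℂ} (h : Cfsg.IsIrrCharacter G χ) :
    Cfsg.IsIrrCharacter G (fun g => conj (χ g)) :=
  IsIrrCharacter.map_ringEquiv h (starRingAut : ℂ ≃+* ℂ)

/-- A real irreducible character of odd degree is trivial on normal subgroups of odd order. -/
theorem real_trivial [Finite G] (W : Subgroup G) [W.Normal] (hW : Odd (Nat.card W)) {χ : G → ℂ}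
    (hχ : Counted false χ) : ∀ w ∈ W, χ w = χ 1 := by
  classical
  haveI := Fintype.ofFinite G
  haveI := Fintype.ofFinite W
  obtain ⟨hi, ⟨d, hd, hd1⟩, hr⟩ := hχ
  obtain ⟨θ, hθ, hc⟩ := exists_constituent_restrict (N := W) hi
  obtain ⟨e, he⟩ := IsCharacter.exists_classInner_eq_natCast
    (IsCharacter.restrict (IsIrrCharacter.isCharacter hi) W) hθ
  obtain ⟨t, -, ht⟩ := IsIrrCharacter.exists_degree hθ
  have hdeg := degree_eq_mul hi hθ hc
  rw [hd1, he, ht, ← Nat.cast_mul, ← Nat.cast_mul, Nat.cast_inj] at hdeg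
  have horb : Odd (conjOrbit (G := G) θ).card := by
    rw [card_conjOrbit]
    exact Odd.of_dvd_nat hd ⟨e * t, by rw [hdeg]; ring⟩
  have hstar : ∀ ψ ∈ conjOrbit (G := G) θ, (fun w => conj (ψ w)) ∈ conjOrbit (G := G) θ := by
    intro ψ hψ
    obtain ⟨g, rfl⟩ := mem_conjOrbit.1 hψ
    have hψi := isIrrCharacter_conjOn hθ g
    refine mem_conjOrbit_of_constituent hi hθ (isIrr_conj hψi) hc ?_
    have h1 : (fun w : W => χ w) = fun w : W => conj (χ w) :=
      funext fun w => (congrFun hr.conj_eq w).symm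
    have h2 : Cfsg.classInner (fun w : W => χ w) (fun w => conj (conjOn g θ w)) =
        conj (Cfsg.classInner (fun w : W => χ w) (conjOn g θ)) := by
      conv_lhs => rw [h1]
      simp [classInner_def, map_sum, map_mul, Complex.conj_conj]
    rw [h2, classInner_restrict_conjOn (IsIrrCharacter.isClassFunction hi), Ne, map_eq_zero]
    exact hc
  obtain ⟨ψ, hψ, hψr⟩ : ∃ ψ ∈ conjOrbit (G := G) θ, (fun w => conj (ψ w)) = ψ := by
    by_contra hno
    push Not at hno
    have h0 : ∑ _ψ ∈ conjOrbit (G := G) θ, (1 : ZMod 2) = 0 :=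
      Finset.sum_involution (fun ψ _ => fun w => conj (ψ w)) (fun _ _ => by decide)
        (fun ψ hψ _ => hno ψ hψ) (fun ψ hψ => hstar ψ hψ)
        (fun ψ _ => funext fun w => Complex.conj_conj _)
    rw [Finset.sum_const, nsmul_eq_mul, mul_one] at h0
    rw [ZMod.natCast_eq_zero_iff_even] at h0
    exact (Nat.not_even_iff_odd.2 horb) h0
  obtain ⟨g, rfl⟩ := mem_conjOrbit.1 hψ
  haveI : (⊥ : Subgroup W).Normal := inferInstance
  have h1 : conjOn g θ = fun _ => 1 :=
    OddIndex.eq_one_of_real (N := (⊥ : Subgroup W)) (by rwa [Subgroup.index_bot])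
      (isIrrCharacter_conjOn hθ g) (fun y hy => by rw [Subgroup.mem_bot.1 hy])
      (fun w => Complex.conj_eq_iff_im.1 (congrFun hψr w))
  have hθ1 : θ = fun _ => 1 := by
    rw [← conjOn_one (G := G) θ, ← mul_inv_cancel g, ← conjOn_conjOn, h1]
    rfl
  subst hθ1
  have hI : inertia (G := G) (fun _ : W => (1 : ℂ)) = ⊤ := inertia_one
  intro w hw
  have hres := restrict_eq_smul_of_invariant hi hθ hI hc
  exact (congrFun hres ⟨w, hw⟩).trans (congrFun hres 1).symm

/-- Characters trivial on the kernel of a surjection. -/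
theorem cntSc_one_eq {H : Type u} [Group H] [Finite G] (b : Bool) (f : G →* H)
    (hf : Function.Surjective f) (W : Subgroup G) (hW : f.ker = W) :
    cntSc b W (fun _ => 1) = cnt b H := by
  haveI : Finite H := Finite.of_surjective f hf
  haveI : W.Normal := hW ▸ f.normal_ker
  let g : {χ : H → ℂ // Counted b χ} →
      {χ : G → ℂ // Counted b χ ∧ ∀ w ∈ W, χ w = χ 1 * 1} := fun χ =>
    ⟨fun x => χ.1 (f x), ⟨IsIrrCharacter.comp_surjective χ.2.1 f hf,
      by simpa only [map_one] using χ.2.2.1,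
      χ.2.2.2.imp id fun h x => h (f x)⟩, fun w hw => by
        have : f w = 1 := f.mem_ker.1 (hW ▸ hw)
        simp [this, map_one]⟩
  refine (Nat.card_congr (Equiv.ofBijective g ⟨fun χ ψ h => ?_, fun χ => ?_⟩)).symm
  · refine Subtype.ext (funext fun y => ?_)
    obtain ⟨x, rfl⟩ := hf y
    exact congrFun (congrArg Subtype.val h) x
  · obtain ⟨χ, ⟨hi, hd, hok⟩, hsc⟩ := χ
    obtain ⟨σ, hσ, rfl⟩ := TwoClass.exists_deflate (N := W) hi fun y hy => by
      rw [hsc y hy, mul_one]
    let e : G ⧸ W ≃* H :=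
      (QuotientGroup.quotientMulEquivOfEq hW.symm).trans
        (QuotientGroup.quotientKerEquivOfSurjective f hf)
    have he : ∀ x : G, e (x : G ⧸ W) = f x := fun x => rfl
    refine ⟨⟨fun y => σ (e.symm y), IsIrrCharacter.comp_surjective hσ e.symm.toMonoidHom
      e.symm.surjective, ?_, ?_⟩, Subtype.ext (funext fun x => ?_)⟩
    · obtain ⟨d, hd1, hd2⟩ := hd
      exact ⟨d, hd1, by simp only [map_one]; exact hd2⟩
    · refine hok.imp id fun h y => ?_
      obtain ⟨x, hx⟩ := QuotientGroup.mk_surjective (e.symm y)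
      show (σ (e.symm y)).im = 0
      rw [← hx]; exact h x
    · show σ (e.symm (f x)) = σ x
      rw [← he, MulEquiv.symm_apply_apply]

/-- Transport along an isomorphism. -/
theorem cntSc_congr {H : Type u} [Group H] (b : Bool) (e : G ≃* H) {W : Subgroup G}
    {W' : Subgroup H} (hW : ∀ x, e x ∈ W' ↔ x ∈ W) {θ : G → ℂ} {θ' : H → ℂ}
    (hθ : ∀ x ∈ W, θ' (e x) = θ x) : cntSc b W θ = cntSc b W' θ' := by
  refine Nat.card_congr
    { toFun := fun χ => ⟨fun y => χ.1 (e.symm y), ⟨IsIrrCharacter.comp_surjective χ.2.1.1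
        e.symm.toMonoidHom e.symm.surjective, by simpa only [map_one] using χ.2.1.2.1,
        χ.2.1.2.2.imp id fun h y => h _⟩, fun w hw => ?_⟩
      invFun := fun χ => ⟨fun x => χ.1 (e x), ⟨IsIrrCharacter.comp_surjective χ.2.1.1
        e.toMonoidHom e.surjective, by simpa only [map_one] using χ.2.1.2.1,
        χ.2.1.2.2.imp id fun h y => h _⟩, fun w hw => ?_⟩
      left_inv := fun χ => Subtype.ext (funext fun x => congrArg χ.1 (e.symm_apply_apply x))
      right_inv := fun χ => Subtype.ext (funext fun x => congrArg χ.1 (e.apply_symm_apply x)) }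
  · have h1 : e.symm w ∈ W := (hW _).1 (by rwa [MulEquiv.apply_symm_apply])
    simp only [map_one]
    rw [χ.2.2 _ h1, ← hθ _ h1, MulEquiv.apply_symm_apply]
  · simp only [map_one]
    rw [χ.2.2 _ ((hW w).2 hw), hθ w hw]

/-- Twisting by a linear character. -/
theorem cntSc_twist [Finite G] (b : Bool) {W : Subgroup G} {θ : G → ℂ} (lam : G →* ℂˣ)
    (hb : b = false → ∀ g, lam g ^ 2 = 1) (hlam : ∀ w ∈ W, (lam w : ℂ) = θ w) :
    cntSc b W θ = cntSc b W (fun _ => 1) := by
  haveI := Fintype.ofFinite G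
  have hok : ∀ (μ : G →* ℂˣ), (b = false → ∀ g, μ g ^ 2 = 1) → ∀ χ : G → ℂ, Counted b χ →
      Counted b (χ * fun g => (μ g : ℂ)) := by
    intro μ hμ χ ⟨hi, ⟨d, hd, hd1⟩, hr⟩
    refine ⟨IsIrrCharacter.mul_hom hi μ, ⟨d, hd, by simp [hd1]⟩, ?_⟩
    cases b
    · refine Or.inr fun g => ?_
      have h1 : ((μ g : ℂ)) * (μ g : ℂ) = 1 := by
        rw [← Units.val_mul, ← sq, hμ rfl g, Units.val_one]
      have h2 : ((μ g : ℂ)).im = 0 := by
        rcases mul_self_eq_one_iff.1 h1 with e | e <;> simp [e]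
      simp [Complex.mul_im, h2, hr.resolve_left Bool.false_ne_true g]
    · exact Or.inl rfl
  refine Nat.card_congr
    { toFun := fun χ => ⟨χ.1 * fun g => ((lam⁻¹ g : ℂˣ) : ℂ), hok lam⁻¹ (fun h g => by
        rw [MonoidHom.inv_apply, inv_pow, hb h g, inv_one]) _ χ.2.1, fun w hw => ?_⟩
      invFun := fun χ => ⟨χ.1 * fun g => (lam g : ℂ), hok lam hb _ χ.2.1, fun w hw => ?_⟩
      left_inv := fun χ => Subtype.ext (funext fun g => by simp [mul_assoc])
      right_inv := fun χ => Subtype.ext (funext fun g => by simp [mul_assoc]) }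
  · simp only [Pi.mul_apply, map_one, Units.val_one, mul_one]
    rw [χ.2.2 w hw, ← hlam w hw, MonoidHom.inv_apply, mul_assoc, ← Units.val_mul, mul_inv_cancel,
      Units.val_one, mul_one]
  · simp only [Pi.mul_apply, map_one, Units.val_one, mul_one]
    rw [χ.2.2 w hw, mul_one, hlam w hw]

/-- An odd degree character of a 2-group has a linear constituent, real if the character is. -/
theorem exists_linear [Fintype G] (hG : IsPGroup 2 G) (b : Bool) {φ : G → ℂ}
    (hφ : Cfsg.IsCharacter G φ) {d : ℕ} (hd : Odd d) (hd1 : φ 1 = d) (hok : Ok b φ) :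
    ∃ f : G →* ℂˣ, (b = false → ∀ g, f g ^ 2 = 1) ∧
      Cfsg.classInner φ (fun g => (f g : ℂ)) ≠ 0 := by
  classical
  haveI : Fact (Nat.Prime 2) := ⟨Nat.prime_two⟩
  obtain ⟨k, hk⟩ := hG.exists_card_eq
  choose! a ha using fun (f : G → ℂ) (hf : f ∈ irrFinset G) =>
    IsCharacter.exists_classInner_eq_natCast hφ (mem_irrFinset.1 hf)
  choose! e he0 he using fun (f : G → ℂ) (hf : f ∈ irrFinset G) =>
    IsIrrCharacter.exists_degree (mem_irrFinset.1 hf)
  have h1 := congrFun (eq_sum_irr (IsCharacter.isClassFunction hφ)) 1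
  rw [Finset.sum_apply, Finset.sum_congr rfl fun f hf => by
    rw [Pi.smul_apply, ha f hf, he f hf, smul_eq_mul, ← Nat.cast_mul], ← Nat.cast_sum, hd1,
    Nat.cast_inj] at h1
  have hsum : ∑ f ∈ irrFinset G, ((a f * e f : ℕ) : ZMod 2) = 1 := by
    rw [← Nat.cast_sum, ← h1]
    exact ZMod.natCast_eq_one_iff_odd.2 hd
  obtain ⟨f, hf, hne, hfb⟩ : ∃ f ∈ irrFinset G, ((a f * e f : ℕ) : ZMod 2) ≠ 0 ∧
      (b = false → (fun g => conj (f g)) = f) := by
    cases b with
    | true =>
      obtain ⟨f, hf, hne⟩ := Finset.exists_ne_zero_of_sum_ne_zero (hsum ▸ one_ne_zero)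
      exact ⟨f, hf, hne, fun h => absurd h Bool.false_ne_true.symm⟩
    | false =>
      by_contra hno
      push Not at hno
      refine one_ne_zero (hsum.symm.trans (Finset.sum_involution
        (fun f _ => fun g => conj (f g)) (fun f hf => ?_) (fun f hf h => (hno f hf h).2)
        (fun f hf => mem_irrFinset.2 (isIrr_conj (mem_irrFinset.1 hf)))
        (fun f _ => funext fun g => Complex.conj_conj _)))
      have hf' := mem_irrFinset.2 (isIrr_conj (mem_irrFinset.1 hf))
      have hA : a (fun g => conj (f g)) = a f := by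
        have h2 : Cfsg.classInner φ (fun g => conj (f g)) = conj (Cfsg.classInner φ f) := by
          conv_lhs => rw [← hok.conj_eq]
          simp [classInner_def, map_sum, map_mul, Complex.conj_conj]
        rw [ha _ hf', ha _ hf, Complex.conj_natCast] at h2
        exact_mod_cast h2
      have hE : e (fun g => conj (f g)) = e f := by
        have h2 : ((e (fun g => conj (f g)) : ℕ) : ℂ) = conj ((e f : ℕ) : ℂ) := by
          rw [← he _ hf', ← he _ hf]
        rw [Complex.conj_natCast] at h2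
        exact_mod_cast h2
      rw [hA, hE]
      exact CharTwo.add_self_eq_zero _
  have hodd : Odd (a f * e f) :=
    Nat.not_even_iff_odd.1 fun hev => hne (ZMod.natCast_eq_zero_iff_even.2 hev)
  have he1 : e f = 1 := by
    obtain ⟨i, -, hi⟩ := (Nat.dvd_prime_pow Nat.prime_two).1
      (hk ▸ IsIrrCharacter.degree_dvd_card (mem_irrFinset.1 hf) (he f hf))
    rcases i with _ | i
    · simpa using hi
    · exfalso
      have := Odd.of_dvd_nat hodd (Dvd.intro_left _ rfl : e f ∣ a f * e f)
      rw [hi, Nat.odd_pow_iff (by omega)] at this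
      exact absurd this (by decide)
  obtain ⟨lam, hlam⟩ := IsCharacter.exists_hom (IsIrrCharacter.isCharacter (mem_irrFinset.1 hf))
    (by rw [he f hf, he1, Nat.cast_one])
  subst hlam
  refine ⟨lam, fun hb g => Units.ext ?_, ?_⟩
  · have hr : ((lam g : ℂ)).im = 0 := Complex.conj_eq_iff_im.1 (congrFun (hfb hb) g)
    have hn : (lam g : ℂ) ^ (2 ^ k) = 1 := by
      rw [← hk, ← Units.val_pow_eq_pow_val, ← map_pow, pow_card_eq_one', map_one, Units.val_one]
    have hn' : ‖(lam g : ℂ)‖ = 1 :=
      Complex.norm_eq_one_of_pow_eq_one hn (pow_ne_zero _ two_ne_zero)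
    rw [Units.val_pow_eq_pow_val, Units.val_one]
    have h3 : (lam g : ℂ) = ((lam g : ℂ)).re := Complex.ext rfl (by simp [hr])
    have h4 : |((lam g : ℂ)).re| = 1 := by
      rw [h3, Complex.norm_real] at hn'
      simpa using hn'
    rw [h3, ← Complex.ofReal_pow, ← sq_abs, h4, one_pow, Complex.ofReal_one]
  · rw [ha _ hf, Nat.cast_ne_zero]
    intro h
    rw [h, zero_mul] at hodd
    exact absurd hodd (by decide)

/-- The Clifford correspondence for the counted characters. -/
theorem cnt_over_eq [Fintype G] (b : Bool) {W : Subgroup G} [W.Normal] [Fintype W] {θ : G → ℂ}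
    (hθ : IsSign W θ) {T : Subgroup G} (hT : inertia (fun w : W => θ w) = T)
    (hodd : Odd T.index) :
    Nat.card {χ : G → ℂ // Counted b χ ∧
        Cfsg.classInner (fun w : W => χ w) (fun w : W => θ w) ≠ 0} =
      cntSc b (W.subgroupOf T) (fun x : T => θ x) := by
  classical
  haveI := Fintype.ofFinite T
  have hWT : W ≤ T := hT ▸ le_inertia (IsIrrCharacter.isClassFunction hθ.irr)
  have hθi := hθ.irr
  have hback : ∀ ψ : T → ℂ, Cfsg.IsIrrCharacter T ψ →
      Cfsg.classInner (fun w : W => ψ (Subgroup.inclusion hWT w)) (fun w : W => θ w) ≠ 0 →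
      ∀ x ∈ W.subgroupOf T, ψ x = ψ 1 * θ x := by
    intro ψ hψ hc x hx
    haveI := Fintype.ofFinite (W.subgroupOf T)
    have hI : inertia (G := T) (N := W.subgroupOf T) (pullBack (fun w : W => θ w)) = ⊤ := by
      refine eq_top_iff.2 fun t _ => (mem_inertia _ t).2 (funext fun n => ?_)
      exact congrFun ((mem_inertia (fun w : W => θ w) (t : G)).1 (hT.ge t.2)) ⟨n.1, n.2⟩
    have hr := restrict_eq_smul_of_invariant hψ (isIrrCharacter_pullBack hWT hθi) hI
      (by
        intro h0
        refine hc ?_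
        rw [← classInner_pullBack hWT] ; exact h0)
    have e1 := congrFun hr 1
    have ex := congrFun hr ⟨x, hx⟩
    simp only [Pi.smul_apply, pullBack, smul_eq_mul] at e1 ex
    rw [ex, show ψ 1 = _ from e1]
    simp [hθ.one]
  have hfwd : ∀ ψ : T → ℂ, Cfsg.IsIrrCharacter T ψ → (∀ x ∈ W.subgroupOf T, ψ x = ψ 1 * θ x) →
      Cfsg.classInner (fun w : W => ψ (Subgroup.inclusion hWT w)) (fun w : W => θ w) ≠ 0 := by
    intro ψ hψ hsc
    have : (fun w : W => ψ (Subgroup.inclusion hWT w)) = ψ 1 • fun w : W => θ w :=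
      funext fun w => by
        rw [Pi.smul_apply, smul_eq_mul, hsc _ (show (Subgroup.inclusion hWT w : G) ∈ W from w.2)]
        rfl
    rw [this, classInner_smul_left, IsIrrCharacter.classInner_self hθi, mul_one]
    exact IsIrrCharacter.apply_one_ne_zero hψ
  let g : {ψ : T → ℂ // Counted b ψ ∧ ∀ x ∈ W.subgroupOf T, ψ x = ψ 1 * θ x} →
      {χ : G → ℂ // Counted b χ ∧
        Cfsg.classInner (fun w : W => χ w) (fun w : W => θ w) ≠ 0} := fun ψ =>
    have h := isIrrCharacter_indFun_of_inertia hWT hθi hT ψ.2.1.1 (hfwd _ ψ.2.1.1 ψ.2.2)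
    ⟨Cfsg.indFun T ψ.1, ⟨h.1, by
      obtain ⟨d, hd, hd1⟩ := ψ.2.1.2.1
      exact ⟨T.index * d, hodd.mul hd, by rw [indFun_one, hd1, Nat.cast_mul]⟩,
      ψ.2.1.2.2.imp id fun hr x => by
        rw [indFun_def, Complex.mul_im, Complex.im_sum, Complex.inv_im, Complex.natCast_im,
          neg_zero, zero_div, zero_mul, add_zero]
        refine mul_eq_zero_of_right _ (Finset.sum_eq_zero fun y _ => ?_)
        by_cases hy : y⁻¹ * x * y ∈ T
        · rw [extendByZero_of_mem _ hy]; exact hr _
        · rw [extendByZero_of_not_mem _ hy, Complex.zero_im]⟩,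
      h.2.symm ▸ hfwd _ ψ.2.1.1 ψ.2.2⟩
  refine (Nat.card_congr (Equiv.ofBijective g ⟨fun ψ ψ' h => Subtype.ext ?_, fun χ => ?_⟩)).symm
  · exact indFun_injective_of_inertia hWT hθi hT ψ.2.1.1 ψ'.2.1.1 (hfwd _ ψ.2.1.1 ψ.2.2)
      (hfwd _ ψ'.2.1.1 ψ'.2.2) (congrArg Subtype.val h)
  · obtain ⟨χ, ⟨hi, ⟨d, hd, hd1⟩, hok⟩, hc⟩ := χ
    obtain ⟨ψ, hψ, hind, hmul⟩ := exists_indFun_eq_of_inertia hWT hθi hT hi hc
    have hψc : Cfsg.classInner (fun w : W => ψ (Subgroup.inclusion hWT w)) (fun w : W => θ w) ≠ 0 :=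
      hmul.symm ▸ hc
    refine ⟨⟨ψ, ⟨hψ, ?_, ?_⟩, hback ψ hψ hψc⟩, Subtype.ext hind⟩
    · obtain ⟨m, -, hm⟩ := IsIrrCharacter.exists_degree hψ
      refine ⟨m, ?_, hm⟩
      have h1 := congrFun hind 1
      rw [indFun_one, hm, hd1, ← Nat.cast_mul, Nat.cast_inj] at h1
      exact Odd.of_dvd_nat hd (h1 ▸ dvd_mul_left m T.index)
    · cases b
      · right
        have hreal : (fun t => conj (ψ t)) = ψ := by
          refine indFun_injective_of_inertia hWT hθi hT (isIrr_conj hψ) hψ ?_ hψc ?_
          · have e : (fun w : W => θ w) = fun w : W => conj (θ w) :=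
              funext fun w => (Complex.conj_eq_iff_im.2 (hθ.real w.2)).symm
            rw [e]
            have : Cfsg.classInner (fun w : W => conj (ψ (Subgroup.inclusion hWT w)))
                (fun w : W => conj (θ w)) = conj (Cfsg.classInner
                  (fun w : W => ψ (Subgroup.inclusion hWT w)) (fun w : W => θ w)) := by
              simp [classInner_def, map_sum, map_mul, Complex.conj_conj]
            rw [this, Ne, map_eq_zero]
            exact hψc
          · rw [hind, ← hok.conj_eq, ← hind]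
            funext x
            simp only [indFun_def, map_mul, map_sum, map_inv₀, Complex.conj_natCast]
            refine congrArg _ (Finset.sum_congr rfl fun y _ => ?_)
            by_cases hy : y⁻¹ * x * y ∈ T
            · rw [extendByZero_of_mem _ hy, extendByZero_of_mem _ hy]
            · rw [extendByZero_of_not_mem _ hy, extendByZero_of_not_mem _ hy, map_zero]
        exact fun t => Complex.conj_eq_iff_im.1 (congrFun hreal t)
      · exact Or.inl rfl

end CfsgLib.Char.OddReal
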