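import Cfsg.Agent.Char.OddRealBase
import Cfsg.Agent.Solvable.Basics
import Cfsg.Agent.Solvable.PGroupBasic

/-!
In a solvable group the real odd degree characters are as many as in a Sylow 2-normaliser; so are
all odd degree characters if that normaliser is the Sylow subgroup.
-/

set_option autoImplicit false
set_option linter.unusedSectionVars false
set_option linter.style.haveILetI false
set_option linter.unusedSimpArgs false
set_option linter.unusedVariables false

namespace CfsgLib.Char.OddReal

universe u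

variable {G : Type u} [Group G]

theorem conj_mem_normalizer {H : Subgroup G} {g y : G} (hg : g ∈ Subgroup.normalizer (H : Set G))
    (hy : y ∈ H) : g * y * g⁻¹ ∈ H :=
  (Subgroup.mem_normalizer_iff.1 hg y).1 hy

/-- The normaliser of the image of a Sylow subgroup is the image of the normaliser. -/
theorem normalizer_image [Finite G] {p : ℕ} [Fact p.Prime] (P : Sylow p G) (W : Subgroup G)
    [W.Normal] :
    Subgroup.normalizer (((P : Subgroup G).map (QuotientGroup.mk' W) : Subgroup (G ⧸ W)) : Set (G ⧸ W)) =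
      (Subgroup.normalizer ((P : Subgroup G) : Set G)).map (QuotientGroup.mk' W) := by
  refine le_antisymm (fun x hx => ?_) (Subgroup.le_normalizer_map _)
  obtain ⟨g, rfl⟩ := QuotientGroup.mk'_surjective W x
  set H : Subgroup G := (P : Subgroup G) ⊔ W with hH
  have hcm : ((P : Subgroup G).map (QuotientGroup.mk' W)).comap (QuotientGroup.mk' W) = H := by
    rw [Subgroup.comap_map_eq, QuotientGroup.ker_mk']
  have hgP : ∀ y ∈ (P : Subgroup G), g * y * g⁻¹ ∈ H := fun y hy => by
    rw [← hcm, Subgroup.mem_comap, map_mul, map_mul, map_inv]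
    exact conj_mem_normalizer hx ⟨y, hy, rfl⟩
  have hQ : ((MulAut.conj g • P : Sylow p G) : Subgroup G) ≤ H := by
    rintro _ ⟨y, hy, rfl⟩
    exact hgP y hy
  obtain ⟨h, hh⟩ := MulAction.exists_smul_eq H ((MulAut.conj g • P : Sylow p G).subtype hQ)
    (P.subtype le_sup_left)
  have hhg : (h : G) * g ∈ Subgroup.normalizer ((P : Subgroup G) : Set G) := by
    refine Subgroup.mem_normalizer_iff.2 ?_
    have hsub : ∀ y ∈ (P : Subgroup G), (h : G) * g * y * ((h : G) * g)⁻¹ ∈ (P : Subgroup G) := by
      intro y hy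
      have h1 : (⟨g * y * g⁻¹, hgP y hy⟩ : H) ∈
          (((MulAut.conj g • P : Sylow p G).subtype hQ : Sylow p H) : Subgroup H) :=
        show g * y * g⁻¹ ∈ ((MulAut.conj g • P : Sylow p G) : Subgroup G) from ⟨y, hy, rfl⟩
      have h2 : MulAut.conj h • (⟨g * y * g⁻¹, hgP y hy⟩ : H) ∈
          ((h • (MulAut.conj g • P : Sylow p G).subtype hQ : Sylow p H) : Subgroup H) :=
        Subgroup.smul_mem_pointwise_smul _ (MulAut.conj h) _ h1
      rw [hh] at h2
      have h3 : (h : G) * (g * y * g⁻¹) * (h : G)⁻¹ ∈ (P : Subgroup G) := h2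
      simpa [mul_assoc] using h3
    intro y
    refine ⟨hsub y, fun hy => ?_⟩
    have hle : (P : Subgroup G).map (MulAut.conj ((h : G) * g)).toMonoidHom = (P : Subgroup G) :=
      Subgroup.eq_of_le_of_card_ge (by rintro _ ⟨z, hz, rfl⟩; exact hsub z hz)
        (le_of_eq (Nat.card_congr ((P : Subgroup G).equivMapOfInjective _
          (MulAut.conj ((h : G) * g)).injective).toEquiv))
    obtain ⟨z, hz, hze⟩ := hle.ge hy
    exact (MulAut.conj ((h : G) * g)).injective hze ▸ hz
  obtain ⟨y, hy, w, hw, hyw⟩ := Subgroup.mem_sup_of_normal_right.1 h.2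
  have hhbar : QuotientGroup.mk' W (h : G) ∈
      (Subgroup.normalizer ((P : Subgroup G) : Set G)).map (QuotientGroup.mk' W) :=
    ⟨y, Subgroup.le_normalizer hy, by
      rw [← hyw, map_mul, show QuotientGroup.mk' W w = 1 from (QuotientGroup.eq_one_iff w).2 hw,
        mul_one]⟩
  have hprod : QuotientGroup.mk' W ((h : G) * g) ∈
      (Subgroup.normalizer ((P : Subgroup G) : Set G)).map (QuotientGroup.mk' W) := ⟨_, hhg, rfl⟩
  simpa [map_mul] using mul_mem (inv_mem hhbar) hprod

/-- The counted characters of the Sylow normaliser trivial on `W`. -/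
theorem cnt_quotient_normalizer [Finite G] (b : Bool) (P : Sylow 2 G) (W : Subgroup G) [W.Normal] :
    cntSc b (W.subgroupOf (Subgroup.normalizer ((P : Subgroup G) : Set G))) (fun _ => 1) =
      cnt b (Subgroup.normalizer (((P.mapSurjective (QuotientGroup.mk'_surjective W) :
        Sylow 2 (G ⧸ W)) : Subgroup (G ⧸ W)) : Set (G ⧸ W))) := by
  haveI : Fact (Nat.Prime 2) := ⟨Nat.prime_two⟩
  have e := normalizer_image P W
  rw [← Sylow.coe_mapSurjective (hf := QuotientGroup.mk'_surjective W)] at e
  let f := ((QuotientGroup.mk' W).comp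
    (Subgroup.normalizer ((P : Subgroup G) : Set G)).subtype).codRestrict
      (Subgroup.normalizer (((P.mapSurjective (QuotientGroup.mk'_surjective W) :
        Sylow 2 (G ⧸ W)) : Subgroup (G ⧸ W)) : Set (G ⧸ W))) fun x => e.ge ⟨x, x.2, rfl⟩
  refine cntSc_one_eq b f (fun y => ?_) _ ?_
  · obtain ⟨x, hx, hxy⟩ := e.le y.2
    exact ⟨⟨x, hx⟩, Subtype.ext hxy⟩
  · ext x
    rw [MonoidHom.mem_ker, Subgroup.mem_subgroupOf, ← QuotientGroup.eq_one_iff (N := W)]
    exact Subtype.ext_iff

theorem two_not_dvd_iff {n : ℕ} : ¬ 2 ∣ n ↔ Odd n := by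
  rw [Nat.odd_iff, Nat.dvd_iff_mod_eq_zero]; omega

/-- The equality for an invariant sign on a normal 2-subgroup. -/
theorem cntSc_eq [Finite G] (b : Bool) (P : Sylow 2 G) {W : Subgroup G} [W.Normal]
    (hWP : W ≤ (P : Subgroup G)) {θ : G → ℂ} (hθ : IsSign W θ)
    (hinv : ∀ g : G, ∀ w ∈ W, θ (g * w * g⁻¹) = θ w)
    (hB : cnt b (G ⧸ W) = cnt b (Subgroup.normalizer
      (((P.mapSurjective (QuotientGroup.mk'_surjective W) : Sylow 2 (G ⧸ W)) :
        Subgroup (G ⧸ W)) : Set (G ⧸ W)))) :
    cntSc b W θ = cntSc b (W.subgroupOf (Subgroup.normalizer ((P : Subgroup G) : Set G)))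
      (fun x => θ x) := by
  classical
  haveI : Fact (Nat.Prime 2) := ⟨Nat.prime_two⟩
  haveI := Fintype.ofFinite G
  set N := Subgroup.normalizer ((P : Subgroup G) : Set G) with hN
  have hPN : (P : Subgroup G) ≤ N := Subgroup.le_normalizer
  by_cases hex : ∃ lam : G →* ℂˣ, (b = false → ∀ g, lam g ^ 2 = 1) ∧ ∀ w ∈ W, (lam w : ℂ) = θ w
  · obtain ⟨lam, hl, hlW⟩ := hex
    rw [cntSc_twist b lam hl hlW,
      cntSc_twist b (W := W.subgroupOf N) (θ := fun x : N => θ x) (lam.comp N.subtype) (fun h g => hl h _)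
        (fun w hw => hlW _ hw),
      cntSc_one_eq b (QuotientGroup.mk' W) (QuotientGroup.mk'_surjective W) W (QuotientGroup.ker_mk' W),
      cnt_quotient_normalizer b P W]
    exact hB
  -- a counted character gives an extension of the sign
  have hnone : ∀ φ : ↥(P : Subgroup G) → ℂ, Cfsg.IsCharacter (P : Subgroup G) φ →
      (∃ d : ℕ, Odd d ∧ φ 1 = d) → Ok b φ →
      (∀ x : (P : Subgroup G), (x : G) ∈ W → φ x = φ 1 * θ x) → False := by
    intro φ hφ ⟨d, hd, hd1⟩ hok hsc
    haveI := Fintype.ofFinite (P : Subgroup G)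
    obtain ⟨f, hf2, hfc⟩ := exists_linear P.2 b hφ hd hd1 hok
    haveI := Fintype.ofFinite (W.subgroupOf (P : Subgroup G))
    let θP : W.subgroupOf (P : Subgroup G) →* ℂˣ :=
      hθ.hom.comp (Subgroup.subgroupOfEquivOfLe hWP).toMonoidHom
    have hfW : ∀ x : W.subgroupOf (P : Subgroup G), f x = θP x := by
      have h1 := PPrimeKernel.classInner_restrict_trans (W.subgroupOf (P : Subgroup G)) hφ
        (isIrrCharacter_ofHom f) (isCharacter_ofHom (f.comp (W.subgroupOf (P : Subgroup G)).subtype))
        hfc (by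
          show Cfsg.classInner (fun x => ((f.comp (W.subgroupOf (P : Subgroup G)).subtype) x : ℂ))
            (fun x => ((f.comp (W.subgroupOf (P : Subgroup G)).subtype) x : ℂ)) ≠ 0
          rw [IsIrrCharacter.classInner_self (isIrrCharacter_ofHom _)]
          exact one_ne_zero)
      have e1 : (fun x : W.subgroupOf (P : Subgroup G) => φ x) = φ 1 • fun x => (θP x : ℂ) :=
        funext fun x => hsc _ x.2
      rw [e1, classInner_smul_left] at h1
      intro x
      by_contra hne
      refine h1 (mul_eq_zero_of_right _ ?_)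
      exact IsIrrCharacter.classInner_of_ne (isIrrCharacter_ofHom _) (isIrrCharacter_ofHom _)
        fun h => hne (Units.ext (congrFun h x).symm)
    refine hex ⟨MonoidHom.transfer f,
      fun hb g => transfer_pow_eq_one f (hf2 hb) g, fun w hw => ?_⟩
    have hi : ∀ (γ : G) (c : W), f ⟨γ * c * γ⁻¹, hWP ((inferInstance : W.Normal).conj_mem c c.2 γ)⟩ =
        f ⟨c, hWP c.2⟩ := fun γ c => by
      have h1 := hfW ⟨⟨γ * c * γ⁻¹, hWP ((inferInstance : W.Normal).conj_mem c c.2 γ)⟩,
        (inferInstance : W.Normal).conj_mem c c.2 γ⟩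
      have h2 := hfW ⟨⟨c, hWP c.2⟩, c.2⟩
      rw [show f ⟨γ * c * γ⁻¹, _⟩ = _ from h1, show f ⟨(c : G), _⟩ = _ from h2]
      exact Units.ext (hinv γ c c.2)
    have h3 : f ⟨w, hWP hw⟩ = θP ⟨⟨w, hWP hw⟩, hw⟩ := hfW ⟨⟨w, hWP hw⟩, hw⟩
    have h4 := transfer_apply_of_invariant hWP f hi ⟨w, hw⟩
    obtain ⟨m, hm⟩ := two_not_dvd_iff.1 (P.not_dvd_index (p := 2))
    replace h4 : MonoidHom.transfer f w = f ⟨w, hWP hw⟩ ^ (P : Subgroup G).index := h4
    rw [h4, h3, hm, pow_succ, pow_mul, Units.val_mul, Units.val_pow_eq_pow_val,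
      Units.val_pow_eq_pow_val, sq]
    show (θ w * θ w) ^ m * θ w = θ w
    rw [hθ.sq w hw, one_pow, one_mul]
  have h0 : cntSc b W θ = 0 := by
    rw [cntSc, Nat.card_eq_zero]
    refine Or.inl ⟨fun χ => ?_⟩
    obtain ⟨χ, ⟨hi, ⟨d, hd, hd1⟩, hok⟩, hsc⟩ := χ
    exact hnone (fun x => χ x) (IsCharacter.restrict (IsIrrCharacter.isCharacter hi) _)
      ⟨d, hd, by simpa using hd1⟩ (hok.imp id fun h x => h x) fun x hx => by
        simpa using hsc x hx
  have h1 : cntSc b (W.subgroupOf N) (fun x => θ x) = 0 := by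
    rw [cntSc, Nat.card_eq_zero]
    refine Or.inl ⟨fun χ => ?_⟩
    obtain ⟨χ, ⟨hi, ⟨d, hd, hd1⟩, hok⟩, hsc⟩ := χ
    exact hnone (fun x => χ (Subgroup.inclusion hPN x))
      (IsCharacter.comp (IsIrrCharacter.isCharacter hi) (Subgroup.inclusion hPN))
      ⟨d, hd, by simpa using hd1⟩ (hok.imp id fun h x => h _) fun x hx => by
        simpa using hsc (Subgroup.inclusion hPN x) hx
  rw [h0, h1]

/-- The invariant constituents of odd index, up to conjugation by the normaliser. -/
theorem cnt_fusion [Fintype G] (b : Bool) (P : Sylow 2 G) {W : Subgroup G} [W.Normal] [Fintype W]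
    {θ₁ θ₂ : W → ℂ} (h1 : (P : Subgroup G) ≤ inertia θ₁) (h2 : (P : Subgroup G) ≤ inertia θ₂)
    (hg : ∃ g : G, θ₂ = conjOn g θ₁) :
    ∃ n ∈ Subgroup.normalizer ((P : Subgroup G) : Set G), θ₂ = conjOn n θ₁ := by
  haveI : Fact (Nat.Prime 2) := ⟨Nat.prime_two⟩
  obtain ⟨g, rfl⟩ := hg
  set T := inertia (G := G) θ₁ with hT
  have hQ : ((MulAut.conj g • P : Sylow 2 G) : Subgroup G) ≤ T := by
    rintro _ ⟨y, hy, rfl⟩
    have e : conjOn (g * y) θ₁ = conjOn g θ₁ := by
      rw [← conjOn_conjOn]; exact (mem_inertia _ y).1 (h2 hy)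
    show g * y * g⁻¹ ∈ T
    rw [hT, mem_inertia, ← conjOn_conjOn, e, conjOn_conjOn, mul_inv_cancel, conjOn_one]
  obtain ⟨t, ht⟩ := MulAction.exists_smul_eq T ((MulAut.conj g • P : Sylow 2 G).subtype hQ)
    (P.subtype h1)
  refine ⟨(t : G) * g, ?_, ?_⟩
  · have hsub : ∀ y ∈ (P : Subgroup G), (t : G) * g * y * ((t : G) * g)⁻¹ ∈ (P : Subgroup G) := by
      intro y hy
      have hm : g * y * g⁻¹ ∈ T := hQ ⟨y, hy, rfl⟩
      have h1' : (⟨g * y * g⁻¹, hm⟩ : T) ∈
          (((MulAut.conj g • P : Sylow 2 G).subtype hQ : Sylow 2 T) : Subgroup T) :=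
        show g * y * g⁻¹ ∈ ((MulAut.conj g • P : Sylow 2 G) : Subgroup G) from ⟨y, hy, rfl⟩
      have h2' : MulAut.conj t • (⟨g * y * g⁻¹, hm⟩ : T) ∈
          ((t • (MulAut.conj g • P : Sylow 2 G).subtype hQ : Sylow 2 T) : Subgroup T) :=
        Subgroup.smul_mem_pointwise_smul _ (MulAut.conj t) _ h1'
      rw [ht] at h2'
      have h3 : (t : G) * (g * y * g⁻¹) * (t : G)⁻¹ ∈ (P : Subgroup G) := h2'
      simpa [mul_assoc] using h3
    refine Subgroup.mem_normalizer_iff.2 fun y => ⟨hsub y, fun hy => ?_⟩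
    have hle : (P : Subgroup G).map (MulAut.conj ((t : G) * g)).toMonoidHom = (P : Subgroup G) :=
      Subgroup.eq_of_le_of_card_ge (by rintro _ ⟨z, hz, rfl⟩; exact hsub z hz)
        (le_of_eq (Nat.card_congr ((P : Subgroup G).equivMapOfInjective _
          (MulAut.conj ((t : G) * g)).injective).toEquiv))
    obtain ⟨z, hz, hze⟩ := hle.ge hy
    exact (MulAut.conj ((t : G) * g)).injective hze ▸ hz
  · rw [← conjOn_conjOn, (mem_inertia θ₁ (t : G)).1 t.2]

theorem cnt_congr {H : Type u} [Group H] (b : Bool) (e : G ≃* H) : cnt b G = cnt b H :=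
  Nat.card_congr
    { toFun := fun χ => ⟨fun y => χ.1 (e.symm y), IsIrrCharacter.comp_surjective χ.2.1
        e.symm.toMonoidHom e.symm.surjective, by simpa only [map_one] using χ.2.2.1,
        χ.2.2.2.imp id fun h y => h _⟩
      invFun := fun χ => ⟨fun x => χ.1 (e x), IsIrrCharacter.comp_surjective χ.2.1
        e.toMonoidHom e.surjective, by simpa only [map_one] using χ.2.2.1,
        χ.2.2.2.imp id fun h y => h _⟩
      left_inv := fun χ => Subtype.ext (funext fun x => congrArg χ.1 (e.symm_apply_apply x))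
      right_inv := fun χ => Subtype.ext (funext fun x => congrArg χ.1 (e.apply_symm_apply x)) }

/-- The equality of the counts. -/
theorem cnt_eq [Finite G] [Group.IsSolvable G] (b : Bool) (P : Sylow 2 G)
    (hb : b = true → Subgroup.normalizer ((P : Subgroup G) : Set G) = (P : Subgroup G)) :
    cnt b G = cnt b (Subgroup.normalizer ((P : Subgroup G) : Set G)) := by
  induction hn : Nat.card G using Nat.strong_induction_on generalizing G with
  | _ n ih =>
    subst hn
    classical
    haveI : Fact (Nat.Prime 2) := ⟨Nat.prime_two⟩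
    haveI := Fintype.ofFinite G
    set N := Subgroup.normalizer ((P : Subgroup G) : Set G) with hN
    by_cases hbot : (⊤ : Subgroup G) = ⊥
    · exact cnt_congr b (((Subgroup.topEquiv (G := G)).symm.trans (MulEquiv.subgroupCongr
        (le_antisymm (hbot.trans_le bot_le) le_top : (⊤ : Subgroup G) = N))))
    obtain ⟨W, hWn, hW1, -, hWc, hmin, p, hp, hexp, hWp⟩ :=
      Solvable.exists_normal_elementary_le (G := G) (N := ⊤) hbot inferInstance
    haveI := hWn
    haveI := Fintype.ofFinite W
    have hbQ : b = true → Subgroup.normalizer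
        (((P.mapSurjective (QuotientGroup.mk'_surjective W) : Sylow 2 (G ⧸ W)) : Subgroup (G ⧸ W)) :
          Set (G ⧸ W)) =
        ((P.mapSurjective (QuotientGroup.mk'_surjective W) : Sylow 2 (G ⧸ W)) : Subgroup (G ⧸ W)) :=
      fun h => by rw [Sylow.coe_mapSurjective, normalizer_image, ← hN, hb h]
    have hQ : Nat.card (G ⧸ W) < Nat.card G := by
      rw [Subgroup.card_eq_card_quotient_mul_card_subgroup W]
      exact lt_mul_of_one_lt_right Nat.card_pos (Subgroup.one_lt_card_iff_ne_bot W |>.2 hW1)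
    have hBQ := ih _ hQ (P.mapSurjective (QuotientGroup.mk'_surjective W)) hbQ rfl
    rcases eq_or_ne p 2 with rfl | hp2
    · -- a normal 2-subgroup
      have hWP : W ≤ (P : Subgroup G) := hWp.le_sylow_of_normal P
      have hPN : (P : Subgroup G) ≤ N := Subgroup.le_normalizer
      have hWN : W ≤ N := hWP.trans hPN
      let Θ := {θ : W → ℂ // Cfsg.IsIrrCharacter W θ ∧ (P : Subgroup G) ≤ inertia θ}
      let rel : Θ → Θ → Prop := fun x y => ∃ n ∈ N, y.1 = conjOn n x.1
      let st : Setoid Θ := ⟨rel, fun x => ⟨1, one_mem _, (conjOn_one _).symm⟩,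
        fun {x y} ⟨n, hn, e⟩ => ⟨n⁻¹, inv_mem hn, by
          rw [e, conjOn_conjOn, mul_inv_cancel, conjOn_one]⟩,
        fun {x y z} ⟨n, hn, e⟩ ⟨m, hm, e'⟩ => ⟨n * m, mul_mem hn hm, by rw [e', e, conjOn_conjOn]⟩⟩
      haveI : Finite Θ := Finite.of_injective
        (fun θ => (⟨θ.1, θ.2.1⟩ : Cfsg.IrrCharacter W))
        fun x y h => Subtype.ext (congrArg (fun z : Cfsg.IrrCharacter W => (z : W → ℂ)) h)
      haveI : Finite (Quotient st) := Finite.of_surjective _ Quotient.mk_surjective
      haveI := Fintype.ofFinite (Quotient st)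
      haveI := Fintype.ofFinite N
      have hconst : ∀ {H : Type u} [Group H] [Fintype H] (ι : W →* H) (χ : H → ℂ),
          Cfsg.IsClassFunction H χ → ∀ (g : H) (θ θ' : W → ℂ),
          (∀ w w' : W, g * ι w * g⁻¹ = ι w' → θ' w = θ w') →
          (∀ w : W, ∃ w' : W, g * ι w * g⁻¹ = ι w') → Function.Injective ι →
          Cfsg.classInner (fun w => χ (ι w)) θ' = Cfsg.classInner (fun w => χ (ι w)) θ := by
        intro H _ _ ι χ hχ g θ θ' hθ hex hι
        choose σ hσ using hex
        have hbij : Function.Bijective σ := Finite.injective_iff_bijective.1 fun a c h => hι (by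
          have ha := hσ a
          rw [h, ← hσ c] at ha
          simpa using ha)
        simp only [classInner_def]
        refine congrArg _ (Fintype.sum_bijective σ hbij _ _ fun w => ?_)
        rw [hθ w (σ w) (hσ w), ← hσ w, hχ]
      -- the fibres
      have hfib : cnt b G = ∑ q : Quotient st, Nat.card {χ : G → ℂ // Counted b χ ∧
          Cfsg.classInner (fun w : W => χ w) (Quotient.out q).1 ≠ 0} := by
        haveI := finite_counted (G := G) b
        have hex : ∀ χ : {χ : G → ℂ // Counted b χ}, ∃ θ : Θ,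
            Cfsg.classInner (fun w : W => χ.1 w) θ.1 ≠ 0 := by
          rintro ⟨χ, hi, ⟨d, hd, hd1⟩, -⟩
          obtain ⟨θ, hθ, hc⟩ := exists_constituent_restrict (N := W) hi
          obtain ⟨e, he⟩ := IsCharacter.exists_classInner_eq_natCast
            (IsCharacter.restrict (IsIrrCharacter.isCharacter hi) W) hθ
          obtain ⟨t, -, ht⟩ := IsIrrCharacter.exists_degree hθ
          have hdeg := degree_eq_mul hi hθ hc
          rw [hd1, he, ht, ← Nat.cast_mul, ← Nat.cast_mul, Nat.cast_inj] at hdeg
          obtain ⟨c, hcinv⟩ := PPrimeKernel.exists_conjOn_inv P θ (two_not_dvd_iff.2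
            (Odd.of_dvd_nat hd ⟨e * t, by rw [hdeg]; ring⟩))
          refine ⟨⟨conjOn c θ, isIrrCharacter_conjOn hθ c, fun y hy => (mem_inertia _ y).2
            (funext fun w => hcinv y hy w ⟨y * w * y⁻¹, hWn.conj_mem w w.2 y⟩ rfl)⟩, ?_⟩
          show Cfsg.classInner (fun w : W => χ w) (conjOn c θ) ≠ 0
          rw [classInner_restrict_conjOn (IsIrrCharacter.isClassFunction hi)]
          exact hc
        choose θf hθf using hex
        rw [cnt, ← Nat.card_congr (Equiv.sigmaFiberEquiv fun χ => Quotient.mk st (θf χ)), Nat.card_sigma]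
        refine Finset.sum_congr rfl fun q _ => Nat.card_congr
          { toFun := fun χ => ⟨χ.1.1, χ.1.2, ?_⟩
            invFun := fun χ => ⟨⟨χ.1, χ.2.1⟩, ?_⟩
            left_inv := fun χ => rfl
            right_inv := fun χ => rfl }
        · obtain ⟨n, hn, e⟩ : rel (θf χ.1) (Quotient.out q) :=
            Quotient.exact (χ.2.trans (Quotient.out_eq q).symm)
          rw [e, classInner_restrict_conjOn (IsIrrCharacter.isClassFunction χ.1.2.1)]
          exact hθf _
        · conv_rhs => rw [← Quotient.out_eq q]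
          refine Quotient.sound ?_
          have := hθf ⟨χ.1, χ.2.1⟩
          exact cnt_fusion b P (θf ⟨χ.1, χ.2.1⟩).2.2 (Quotient.out q).2.2
            (mem_conjOrbit.1 (mem_conjOrbit_of_constituent χ.2.1.1 (θf ⟨χ.1, χ.2.1⟩).2.1
              (Quotient.out q).2.1 this χ.2.2))
      have hfibN : cnt b N = ∑ q : Quotient st, Nat.card {χ : N → ℂ // Counted b χ ∧
          Cfsg.classInner (fun w : W => χ (Subgroup.inclusion hWN w)) (Quotient.out q).1 ≠ 0} := by
        haveI := finite_counted (G := N) b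
        haveI := Fintype.ofFinite (W.subgroupOf N)
        have hPnormal : ((P.subtype hPN : Sylow 2 N) : Subgroup N).Normal :=
          Subgroup.normal_subgroupOf_of_le_normalizer le_rfl
        have hex : ∀ χ : {χ : N → ℂ // Counted b χ}, ∃ θ : Θ,
            Cfsg.classInner (fun w : W => χ.1 (Subgroup.inclusion hWN w)) θ.1 ≠ 0 := by
          rintro ⟨χ, hi, ⟨d, hd, hd1⟩, -⟩
          obtain ⟨θ, hθ, hc⟩ := exists_constituent_restrict (N := W.subgroupOf N) hi
          obtain ⟨e, he⟩ := IsCharacter.exists_classInner_eq_natCast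
            (IsCharacter.restrict (IsIrrCharacter.isCharacter hi) (W.subgroupOf N)) hθ
          obtain ⟨t, -, ht⟩ := IsIrrCharacter.exists_degree hθ
          have hdeg := degree_eq_mul hi hθ hc
          rw [hd1, he, ht, ← Nat.cast_mul, ← Nat.cast_mul, Nat.cast_inj] at hdeg
          obtain ⟨c, hcinv⟩ := PPrimeKernel.exists_conjOn_inv (P.subtype hPN) θ (two_not_dvd_iff.2
            (Odd.of_dvd_nat hd ⟨e * t, by rw [hdeg]; ring⟩))
          let η : W → ℂ := fun w => conjOn c θ ⟨Subgroup.inclusion hWN w, w.2⟩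
          have hη : Cfsg.IsIrrCharacter W η :=
            IsIrrCharacter.comp_surjective (isIrrCharacter_conjOn hθ c)
              (Subgroup.subgroupOfEquivOfLe hWN).symm.toMonoidHom
              (Subgroup.subgroupOfEquivOfLe hWN).symm.surjective
          refine ⟨⟨η, hη, fun y hy => (mem_inertia _ y).2 (funext fun w => ?_)⟩, ?_⟩
          · exact hcinv ⟨y, hPN hy⟩ hy ⟨Subgroup.inclusion hWN w, w.2⟩
              ⟨Subgroup.inclusion hWN ⟨y * w * y⁻¹, hWn.conj_mem w w.2 y⟩, hWn.conj_mem w w.2 y⟩
              rfl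
          · show Cfsg.classInner (fun w : W => χ (Subgroup.inclusion hWN w)) η ≠ 0
            rw [← classInner_pullBack hWN]
            show Cfsg.classInner (fun n : W.subgroupOf N => χ n) (conjOn c θ) ≠ 0
            rw [classInner_restrict_conjOn (IsIrrCharacter.isClassFunction hi)]
            exact hc
        choose θf hθf using hex
        rw [cnt, ← Nat.card_congr (Equiv.sigmaFiberEquiv fun χ => Quotient.mk st (θf χ)), Nat.card_sigma]
        refine Finset.sum_congr rfl fun q _ => Nat.card_congr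
          { toFun := fun χ => ⟨χ.1.1, χ.1.2, ?_⟩
            invFun := fun χ => ⟨⟨χ.1, χ.2.1⟩, ?_⟩
            left_inv := fun χ => rfl
            right_inv := fun χ => rfl }
        · obtain ⟨n, hn, e⟩ : rel (θf χ.1) (Quotient.out q) :=
            Quotient.exact (χ.2.trans (Quotient.out_eq q).symm)
          rw [hconst (Subgroup.inclusion hWN) χ.1.1 (IsIrrCharacter.isClassFunction χ.1.2.1)
            ⟨n, hn⟩ (θf χ.1).1 (Quotient.out q).1
            (fun w w' h => by
              rw [e]; exact congrArg (θf χ.1).1 (Subtype.ext (by simpa using congrArg Subtype.val h)))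
            (fun w => ⟨⟨n * w * n⁻¹, hWn.conj_mem w w.2 n⟩, rfl⟩)
            (Subgroup.inclusion_injective hWN)]
          exact hθf _
        · conv_rhs => rw [← Quotient.out_eq q]
          refine Quotient.sound ?_
          have h1 := hθf ⟨χ.1, χ.2.1⟩
          have h2 := χ.2.2
          rw [← classInner_pullBack hWN] at h1 h2
          obtain ⟨g, hg⟩ := mem_conjOrbit.1 (mem_conjOrbit_of_constituent χ.2.1.1
            (isIrrCharacter_pullBack hWN (θf ⟨χ.1, χ.2.1⟩).2.1)
            (isIrrCharacter_pullBack hWN (Quotient.out q).2.1) h1 h2)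
          refine ⟨g, g.2, funext fun w => ?_⟩
          exact congrFun hg ⟨Subgroup.inclusion hWN w, w.2⟩
      rw [hfib, hfibN]
      refine Finset.sum_congr rfl fun q _ => ?_
      generalize Quotient.out q = x
      obtain ⟨θ, hθ, hPT⟩ := x
      show Nat.card {χ : G → ℂ // Counted b χ ∧ Cfsg.classInner (fun w : W => χ w) θ ≠ 0} =
        Nat.card {χ : N → ℂ // Counted b χ ∧
          Cfsg.classInner (fun w : W => χ (Subgroup.inclusion hWN w)) θ ≠ 0}
      -- the sign
      obtain ⟨f, hf⟩ : ∃ f : W →* ℂˣ, θ = fun w => (f w : ℂ) := by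
        haveI : IsMulCommutative W := hWc
        exact IsCharacter.exists_hom (IsIrrCharacter.isCharacter hθ)
          ((abelian_iff_degree_one (G := W)).1 (fun x y => mul_comm' x y) θ hθ)
      let θ' : G → ℂ := fun x => if h : x ∈ W then θ ⟨x, h⟩ else 0
      have hθ'θ : (fun w : W => θ' w) = θ := funext fun w => by simp [θ', w.2]
      have hsign : IsSign W θ' := by
        refine ⟨fun x hx y hy => ?_, fun x hx => ?_⟩
        · simp only [θ', dif_pos hx, dif_pos hy, dif_pos (mul_mem hx hy), hf]
          rw [← Units.val_mul, ← map_mul]; rfl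
        · simp only [θ', dif_pos hx, hf]
          rw [← Units.val_mul, ← map_mul, show (⟨x, hx⟩ * ⟨x, hx⟩ : W) = 1 from
            Subtype.ext (by rw [Subgroup.coe_mul, ← sq, hexp x hx]; rfl), map_one, Units.val_one]
      obtain ⟨T, hT⟩ : ∃ T, inertia (G := G) (fun w : W => θ' w) = T := ⟨_, rfl⟩
      have hWT : W ≤ T := hT ▸ le_inertia (IsIrrCharacter.isClassFunction hsign.irr)
      have hPTT : (P : Subgroup G) ≤ T := by rw [← hT, hθ'θ]; exact hPT
      have hTodd : Odd T.index :=
        Odd.of_dvd_nat (two_not_dvd_iff.1 (P.not_dvd_index (p := 2)))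
          (Subgroup.index_dvd_of_le hPTT)
      have hG := cnt_over_eq b hsign hT hTodd
      rw [hθ'θ] at hG
      rw [hG]
      -- the same in the normaliser
      haveI := Fintype.ofFinite (W.subgroupOf N)
      haveI := Fintype.ofFinite (T.subgroupOf N)
      have hsignN : IsSign (W.subgroupOf N) (fun x : N => θ' x) :=
        ⟨fun x hx y hy => hsign.mul _ hx _ hy, fun x hx => hsign.sq _ hx⟩
      have hTN : inertia (G := N) (fun w : W.subgroupOf N => θ' ((w : N) : G)) = T.subgroupOf N := by
        ext g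
        rw [mem_inertia, Subgroup.mem_subgroupOf, ← hT, mem_inertia]
        constructor
        · intro h
          funext w
          exact congrFun h ⟨Subgroup.inclusion hWN w, w.2⟩
        · intro h
          funext w
          exact congrFun h ⟨((w : N) : G), w.2⟩
      have hTNodd : Odd (T.subgroupOf N).index := by
        haveI : Fact (Nat.Prime 2) := ⟨Nat.prime_two⟩
        refine Odd.of_dvd_nat (two_not_dvd_iff.1 ((P.subtype hPN).not_dvd_index (p := 2)))
          (Subgroup.index_dvd_of_le ?_)
        exact fun y hy => hPTT hy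
      have hN' := cnt_over_eq b hsignN hTN hTNodd
      have hpb : ∀ χ : N → ℂ,
          Cfsg.classInner (fun w : W.subgroupOf N => χ w) (fun w => θ' ((w : N) : G)) =
            Cfsg.classInner (fun w : W => χ (Subgroup.inclusion hWN w)) θ := fun χ => by
        rw [← classInner_pullBack hWN]
        congr 1
        funext w
        simp only [pullBack, ← hθ'θ]
      simp only [hpb] at hN'
      rw [hN']
      -- inside the inertia group
      haveI : (W.subgroupOf T).Normal := inferInstance
      set PT : Sylow 2 T := P.subtype hPTT with hPTdef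
      have hNT : Subgroup.normalizer ((PT : Subgroup T) : Set T) = N.subgroupOf T := by
        ext x
        rw [Subgroup.mem_subgroupOf, Subgroup.mem_normalizer_iff, hN, Subgroup.mem_normalizer_iff]
        constructor
        · intro h y
          refine ⟨fun hy => (h ⟨y, hPTT hy⟩).1 hy, fun hy => ?_⟩
          have hyT : y ∈ T := by
            have := mul_mem (mul_mem (inv_mem x.2) (hPTT hy)) x.2
            simpa [mul_assoc] using this
          exact (h ⟨y, hyT⟩).2 hy
        · intro h y
          exact h y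
      have hlt : Nat.card (T ⧸ W.subgroupOf T) < Nat.card G := by
        refine lt_of_lt_of_le ?_ (Subgroup.card_le_card_group T)
        rw [Subgroup.card_eq_card_quotient_mul_card_subgroup (W.subgroupOf T)]
        refine lt_mul_of_one_lt_right Nat.card_pos ?_
        rw [Nat.card_congr (Subgroup.subgroupOfEquivOfLe hWT).toEquiv]
        exact Subgroup.one_lt_card_iff_ne_bot W |>.2 hW1
      have hbT : b = true → Subgroup.normalizer
          (((PT.mapSurjective (QuotientGroup.mk'_surjective (W.subgroupOf T)) :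
            Sylow 2 (T ⧸ W.subgroupOf T)) : Subgroup (T ⧸ W.subgroupOf T)) : Set (T ⧸ W.subgroupOf T)) =
          ((PT.mapSurjective (QuotientGroup.mk'_surjective (W.subgroupOf T)) :
            Sylow 2 (T ⧸ W.subgroupOf T)) : Subgroup (T ⧸ W.subgroupOf T)) := fun h => by
        rw [Sylow.coe_mapSurjective, normalizer_image, hNT, hb h]
        rfl
      have key := cntSc_eq b PT (W := W.subgroupOf T) (θ := fun x : T => θ' x)
        (fun x hx => hWP hx) ⟨fun x hx y hy => hsign.mul _ hx _ hy, fun x hx => hsign.sq _ hx⟩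
        (fun g w hw => congrFun ((mem_inertia (fun w : W => θ' w) (g : G)).1 (hT.ge g.2)) ⟨w, hw⟩)
        (ih _ hlt _ hbT rfl)
      rw [key]
      let e : ↥(Subgroup.normalizer ((PT : Subgroup T) : Set T)) ≃* ↥(T.subgroupOf N) :=
        { toFun := fun x => ⟨⟨((x : T) : G), hNT.le x.2⟩, (x : T).2⟩
          invFun := fun x => ⟨⟨((x : N) : G), x.2⟩, hNT.ge (x : N).2⟩
          left_inv := fun x => rfl
          right_inv := fun x => rfl
          map_mul' := fun x y => rfl }
      exact cntSc_congr b e (fun x => Iff.rfl) (fun x _ => rfl)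
    · -- a normal subgroup of odd order
      have hWodd : Odd (Nat.card W) := by
        haveI := Fact.mk hp
        obtain ⟨k, hk⟩ := hWp.exists_card_eq
        rw [hk]; exact (hp.odd_of_ne_two hp2).pow
      have hGW : ∀ χ : G → ℂ, Counted b χ → ∀ w ∈ W, χ w = χ 1 * 1 := by
        intro χ hχ w hw
        rw [mul_one]
        cases b with
        | false => exact real_trivial W hWodd hχ w hw
        | true =>
          obtain ⟨d, hd, hd1⟩ := hχ.2.1
          refine PPrimeKernel.le_ker P W ?_ ⟨χ, hχ.1⟩ ?_ w hw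
          · rw [eq_bot_iff]
            intro x ⟨hx1, hx2⟩
            have hxP : x ∈ (P : Subgroup G) := (hb rfl).le (Subgroup.centralizer_le_normalizer _ hx2)
            exact Subgroup.mem_bot.2 (orderOf_eq_one_iff.1 (Nat.eq_one_of_dvd_coprimes
              ((Nat.coprime_two_left.2 hWodd).pow_left _ : Nat.Coprime (2 ^ _) _)
              (P.2.exists_card_eq.choose_spec ▸ Subgroup.orderOf_dvd_natCard _ hxP)
              (Subgroup.orderOf_dvd_natCard _ hx1)))
          · rw [charDegree_eq_natCast hd1]; exact two_not_dvd_iff.2 hd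
      have hNW : ∀ χ : N → ℂ, Counted b χ → ∀ w ∈ W.subgroupOf N, χ w = χ 1 * 1 := by
        intro χ hχ w hw
        rw [mul_one]
        have hodd' : Odd (Nat.card (W.subgroupOf N)) := by
          refine Odd.of_dvd_nat hWodd ?_
          rw [Nat.card_congr ((W.subgroupOf N).equivMapOfInjective _ N.subtype_injective).toEquiv,
            Subgroup.subgroupOf_map_subtype]
          exact Subgroup.card_dvd_of_le inf_le_left
        cases b with
        | false => exact real_trivial _ hodd' hχ w hw
        | true =>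
          have hwP : (w : G) ∈ (P : Subgroup G) := (hb rfl).le w.2
          have h1 : (w : G) = 1 := orderOf_eq_one_iff.1 (Nat.eq_one_of_dvd_coprimes
            ((Nat.coprime_two_left.2 hWodd).pow_left _ : Nat.Coprime (2 ^ _) _)
            (P.2.exists_card_eq.choose_spec ▸ Subgroup.orderOf_dvd_natCard _ hwP)
            (Subgroup.orderOf_dvd_natCard _ hw))
          rw [show w = 1 from Subtype.ext h1]
      have e1 : cnt b G = cntSc b W (fun _ => 1) := Nat.card_congr
        (Equiv.subtypeEquivRight fun χ => ⟨fun h => ⟨h, hGW χ h⟩, And.left⟩)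
      have e2 : cnt b N = cntSc b (W.subgroupOf N) (fun _ => 1) := Nat.card_congr
        (Equiv.subtypeEquivRight fun χ => ⟨fun h => ⟨h, hNW χ h⟩, And.left⟩)
      rw [e1, e2, cntSc_one_eq b (QuotientGroup.mk' W) (QuotientGroup.mk'_surjective W) W
        (QuotientGroup.ker_mk' W), cnt_quotient_normalizer b P W]
      exact hBQ

end CfsgLib.Char.OddReal
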