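import Cfsg.Agent.Char.OddRealCount

/-!
In a solvable group all odd degree characters are real if and only if a Sylow 2-subgroup has
elementary abelianisation and is its own normaliser.
-/

set_option autoImplicit false
set_option linter.unusedSectionVars false
set_option linter.style.haveILetI false
set_option linter.unusedSimpArgs false
set_option linter.unusedVariables false

namespace CfsgLib.Char.OddReal

universe u

variable {G : Type u} [Group G]

theorem counted_iff [Finite G] (b : Bool) (χ : Cfsg.IrrCharacter G) :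
    Counted b (χ : G → ℂ) ↔ Odd (Cfsg.charDegree (χ : G → ℂ)) ∧ Ok b (χ : G → ℂ) := by
  constructor
  · rintro ⟨-, ⟨d, hd, hd1⟩, hok⟩
    exact ⟨by rw [charDegree_eq_natCast hd1]; exact hd, hok⟩
  · rintro ⟨hd, hok⟩
    obtain ⟨m, -, hm⟩ := IsIrrCharacter.exists_degree χ.2
    rw [charDegree_eq_natCast hm] at hd
    exact ⟨χ.2, ⟨m, hd, hm⟩, hok⟩

theorem card_real_odd [Finite G] :
    Nat.card {χ : Cfsg.IrrCharacter G //
      (∀ g : G, ((χ : G → ℂ) g).im = 0) ∧ Odd (Cfsg.charDegree (χ : G → ℂ))} = cnt false G :=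
  Nat.card_congr
    { toFun := fun χ => ⟨χ.1.1, (counted_iff false χ.1).2 ⟨χ.2.2, Or.inr χ.2.1⟩⟩
      invFun := fun χ => ⟨⟨χ.1, χ.2.1⟩, χ.2.2.2.resolve_left Bool.false_ne_true,
        ((counted_iff false ⟨χ.1, χ.2.1⟩).1 χ.2).1⟩
      left_inv := fun χ => rfl
      right_inv := fun χ => rfl }

theorem counted_true_of_false {χ : G → ℂ} (h : Counted false χ) : Counted true χ :=
  ⟨h.1, h.2.1, Or.inl rfl⟩

theorem real_of_cnt_eq [Finite G] (h : cnt true G = cnt false G) {χ : G → ℂ}
    (hχ : Counted true χ) : Counted false χ := by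
  haveI := finite_counted (G := G) true
  haveI := finite_counted (G := G) false
  let i : {χ : G → ℂ // Counted false χ} → {χ : G → ℂ // Counted true χ} := fun x =>
    ⟨x.1, counted_true_of_false x.2⟩
  obtain ⟨x, hx⟩ := ((Function.Injective.bijective_of_nat_card_le (f := i)
    (fun x y hxy => Subtype.ext (congrArg (fun z : {χ : G → ℂ // Counted true χ} => z.1) hxy))
    h.le)).2 ⟨χ, hχ⟩
  have e : x.1 = χ := congrArg Subtype.val hx
  exact e ▸ x.2

theorem cnt_eq_of_all_real (h : ∀ χ : G → ℂ, Counted true χ → Counted false χ) :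
    cnt true G = cnt false G :=
  Nat.card_congr (Equiv.subtypeEquivRight fun χ => ⟨h χ, counted_true_of_false⟩)

/-- If all odd degree characters are real, the Sylow 2-subgroup is its own normaliser. -/
theorem normalizer_eq_of_real [Finite G] [Group.IsSolvable G] (P : Sylow 2 G)
    (h : ∀ χ : G → ℂ, Counted true χ → Counted false χ) :
    Subgroup.normalizer ((P : Subgroup G) : Set G) = (P : Subgroup G) := by
  induction hn : Nat.card G using Nat.strong_induction_on generalizing G with
  | _ n ih =>
    subst hn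
    classical
    haveI : Fact (Nat.Prime 2) := ⟨Nat.prime_two⟩
    haveI := Fintype.ofFinite G
    set N := Subgroup.normalizer ((P : Subgroup G) : Set G) with hN
    by_cases hbot : (⊤ : Subgroup G) = ⊥
    · exact le_antisymm (le_top.trans (hbot.trans_le bot_le)) Subgroup.le_normalizer
    obtain ⟨W, hWn, hW1, -, hWc, hmin, p, hp, hexp, hWp⟩ :=
      Solvable.exists_normal_elementary_le (G := G) (N := ⊤) hbot inferInstance
    haveI := hWn
    haveI := Fintype.ofFinite W
    have hQ : Nat.card (G ⧸ W) < Nat.card G := by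
      rw [Subgroup.card_eq_card_quotient_mul_card_subgroup W]
      exact lt_mul_of_one_lt_right Nat.card_pos (Subgroup.one_lt_card_iff_ne_bot W |>.2 hW1)
    have hQN := ih _ hQ (P.mapSurjective (QuotientGroup.mk'_surjective W)) (fun σ hσ => ?_) rfl
    swap
    · obtain ⟨hi, hd, -⟩ := hσ
      have h1 := h (fun g => σ (g : G ⧸ W))
        ⟨IsIrrCharacter.comp_surjective hi (QuotientGroup.mk' W) (QuotientGroup.mk'_surjective W),
          by simpa using hd, Or.inl rfl⟩
      refine ⟨hi, hd, Or.inr fun q => ?_⟩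
      obtain ⟨g, rfl⟩ := QuotientGroup.mk_surjective q
      exact h1.2.2.resolve_left Bool.false_ne_true g
    rw [Sylow.coe_mapSurjective, normalizer_image, ← hN] at hQN
    have hNPW : N ≤ (P : Subgroup G) ⊔ W := fun x hx => by
      have h1 : QuotientGroup.mk' W x ∈ (P : Subgroup G).map (QuotientGroup.mk' W) :=
        hQN.le ⟨x, hx, rfl⟩
      rw [← Subgroup.mem_comap, Subgroup.comap_map_eq, QuotientGroup.ker_mk'] at h1
      exact h1
    refine le_antisymm ?_ Subgroup.le_normalizer
    rcases eq_or_ne p 2 with rfl | hp2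
    · exact hNPW.trans (sup_le le_rfl (hWp.le_sylow_of_normal P))
    intro x hx
    obtain ⟨y, hy, w, hw, rfl⟩ := Subgroup.mem_sup_of_normal_right.1 (hNPW hx)
    suffices hw1 : w = 1 by rw [hw1, mul_one]; exact hy
    have hwN : w ∈ N := by
      have := mul_mem (inv_mem (Subgroup.le_normalizer hy)) hx
      simpa [hN] using this
    have hcop : Nat.Coprime (Nat.card (P : Subgroup G)) (Nat.card W) := by
      haveI := Fact.mk hp
      obtain ⟨k, hk⟩ := hWp.exists_card_eq
      obtain ⟨l, hl⟩ := P.2.exists_card_eq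
      rw [hk, hl]
      exact Nat.Coprime.pow _ _ ((Nat.coprime_primes Nat.prime_two hp).2 hp2.symm)
    have hone : ∀ z : G, z ∈ (P : Subgroup G) → z ∈ W → z = 1 := fun z hz hzW =>
      orderOf_eq_one_iff.1 (Nat.eq_one_of_dvd_coprimes hcop
        (Subgroup.orderOf_dvd_natCard _ hz) (Subgroup.orderOf_dvd_natCard _ hzW))
    have hcw : ∀ z ∈ (P : Subgroup G), z * w = w * z := by
      intro z hz
      have h1 : z * w * z⁻¹ * w⁻¹ ∈ (P : Subgroup G) := by
        have h2 := mul_mem hz (conj_mem_normalizer hwN (inv_mem hz))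
        simpa [mul_assoc] using h2
      have h3 := hone _ h1 (mul_mem (hWn.conj_mem w hw z) (inv_mem hw))
      calc z * w = z * w * z⁻¹ * w⁻¹ * (w * z) := by group
        _ = w * z := by rw [h3, one_mul]
    by_contra hw1
    -- a `P`-invariant linear character of `W` nontrivial on `w`
    haveI : IsMulCommutative W := hWc
    obtain ⟨ψ, hψ⟩ := exists_hom_ne_one (G := W) (g := ⟨w, hw⟩) fun hc => hw1 (by
      have : commutator W = ⊥ := by
        rw [_root_.commutator_def, Subgroup.commutator_eq_bot_iff_le_centralizer]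
        exact fun a _ => Subgroup.mem_centralizer_iff.2 fun b _ => mul_comm' b a
      rw [this, Subgroup.mem_bot] at hc
      exact congrArg Subtype.val hc)
    haveI := Fintype.ofFinite (P : Subgroup G)
    let cz : ↥(P : Subgroup G) → W →* W := fun z =>
      MonoidHom.mk' (fun v => ⟨(z : G) * v * (z : G)⁻¹, hWn.conj_mem v v.2 z⟩)
        fun a c => Subtype.ext (by push_cast; group)
    let θh : W →* ℂˣ := ∏ z : (P : Subgroup G), ψ.comp (cz z)
    have hθz : ∀ (z : (P : Subgroup G)) (v : W), θh (cz z v) = θh v := by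
      intro z v
      simp only [θh, MonoidHom.finsetProd_apply, MonoidHom.comp_apply]
      refine Fintype.prod_bijective (fun t => t * z) (Group.mulRight_bijective z) _ _ fun t => ?_
      refine congrArg ψ (Subtype.ext ?_)
      simp [cz, mul_assoc]
    have hθw : θh ⟨w, hw⟩ ≠ 1 := by
      simp only [θh, MonoidHom.finsetProd_apply, MonoidHom.comp_apply]
      rw [Finset.prod_congr rfl fun z _ => show ψ (cz z ⟨w, hw⟩) = ψ ⟨w, hw⟩ from
        congrArg ψ (Subtype.ext (show (z : G) * w * (z : G)⁻¹ = w by rw [hcw z z.2, mul_inv_cancel_right])),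
        Finset.prod_const,
        Finset.card_univ, ← Nat.card_eq_fintype_card]
      intro h1
      refine hψ (orderOf_eq_one_iff.1 (Nat.eq_one_of_dvd_coprimes hcop
        (orderOf_dvd_of_pow_eq_one h1) ?_))
      exact (orderOf_map_dvd ψ _).trans (orderOf_dvd_natCard _)
    -- extend it to `W P` and induce
    set H : Subgroup G := W ⊔ (P : Subgroup G) with hH
    haveI := Fintype.ofFinite H
    haveI := Fintype.ofFinite (W.subgroupOf H)
    have hWH : W ≤ H := le_sup_left
    let θH : W.subgroupOf H →* ℂˣ := θh.comp (Subgroup.subgroupOfEquivOfLe hWH).toMonoidHom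
    have hWW : W ≤ inertia (fun v : W => (θh v : ℂ)) :=
      le_inertia (IsIrrCharacter.isClassFunction (isIrrCharacter_ofHom θh))
    have hinH : H ≤ inertia (fun v : W => (θh v : ℂ)) := by
      refine sup_le hWW fun z hz => (mem_inertia _ z).2 (funext fun v => ?_)
      exact congrArg Units.val (hθz ⟨z, hz⟩ v)
    have hidx : Nat.Coprime (W.subgroupOf H).index (orderOf θH) := by
      refine Nat.Coprime.coprime_dvd_left ?_ (Nat.Coprime.coprime_dvd_right ?_ hcop)
      · show W.relIndex H ∣ _
        rw [hH, sup_comm, Subgroup.relIndex_sup_right]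
        exact Subgroup.index_dvd_card _
      · refine orderOf_dvd_of_pow_eq_one (MonoidHom.ext fun v => ?_)
        rw [MonoidHom.pow_apply, ← map_pow]
        have : v ^ Nat.card W = 1 := by
          rw [← Nat.card_congr (Subgroup.subgroupOfEquivOfLe hWH).toEquiv, pow_card_eq_one']
        rw [this, map_one, MonoidHom.one_apply]
    obtain ⟨F, hF, -, -⟩ := exists_canonical_linear_extension θH (fun g v => Units.ext
      (congrFun ((mem_inertia _ (g : G)).1 (hinH g.2)) ⟨((v : H) : G), v.2⟩)) hidx
    have hIc := IsCharacter.indFun (G := G) (isCharacter_ofHom F)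
    have hodd : Odd H.index := Odd.of_dvd_nat (two_not_dvd_iff.1 (P.not_dvd_index (p := 2)))
      (Subgroup.index_dvd_of_le le_sup_right)
    obtain ⟨χ, d, hχ, hd1, hdo, hc⟩ := PPrimeKernel.exists_constituent_not_dvd (p := 2) hIc
      (m := H.index) (by rw [indFun_one, map_one, Units.val_one, mul_one]) (two_not_dvd_iff.2 hodd)
    have hreal := h χ ⟨hχ, ⟨d, two_not_dvd_iff.1 hdo, hd1⟩, Or.inl rfl⟩
    have hWodd : Odd (Nat.card W) := by
      haveI := Fact.mk hp
      obtain ⟨k, hk⟩ := hWp.exists_card_eq
      rw [hk]; exact (hp.odd_of_ne_two hp2).pow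
    have htr := real_trivial W hWodd hreal
    rw [classInner_indFun _ (IsIrrCharacter.isClassFunction hχ)] at hc
    have hc' : Cfsg.classInner (fun x : H => χ x) (fun x : H => (F x : ℂ)) ≠ 0 := fun h0 => hc (by
      rw [← classInner_conj, h0, map_zero])
    have h2 := PPrimeKernel.constituent_apply_eq
      (IsCharacter.restrict (IsIrrCharacter.isCharacter hχ) H) (isIrrCharacter_ofHom F) hc'
      (x := ⟨w, hWH hw⟩) (by simpa using htr w hw)
    simp only [map_one, Units.val_one] at h2
    refine hθw (Units.ext ?_)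
    rw [Units.val_one, ← h2]
    exact congrArg Units.val (hF ⟨⟨w, hWH hw⟩, hw⟩).symm

/-- In a 2-group the odd degree characters are real iff the abelianisation is elementary. -/
theorem twoGroup_real_iff [Finite G] (hG : IsPGroup 2 G) :
    (∀ χ : G → ℂ, Counted true χ → Counted false χ) ↔ commutator G = frattini G := by
  haveI : Fact (Nat.Prime 2) := ⟨Nat.prime_two⟩
  constructor
  · intro h
    refine le_antisymm (PGroupBasic.commutator_pow_le_frattini hG).1 ?_
    refine PGroupBasic.frattini_le_of_elementary (p := 2) _ le_rfl fun x => ?_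
    by_contra hx
    obtain ⟨lam, hlam⟩ := exists_hom_ne_one hx
    have hr := (h _ ⟨isIrrCharacter_ofHom lam, ⟨1, odd_one, by simp⟩, Or.inl rfl⟩).2.2.resolve_left
      Bool.false_ne_true x
    refine hlam (Units.ext ?_)
    rw [map_pow, Units.val_pow_eq_pow_val, Units.val_one]
    obtain ⟨k, hk⟩ := hG.exists_card_eq
    have hn : (lam x : ℂ) ^ (2 ^ k) = 1 := by
      rw [← hk, ← Units.val_pow_eq_pow_val, ← map_pow, pow_card_eq_one', map_one, Units.val_one]
    have hn' : ‖(lam x : ℂ)‖ = 1 :=
      Complex.norm_eq_one_of_pow_eq_one hn (pow_ne_zero _ two_ne_zero)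
    have h3 : (lam x : ℂ) = ((lam x : ℂ)).re := Complex.ext rfl (by simpa using hr)
    have h4 : |((lam x : ℂ)).re| = 1 := by
      rw [h3, Complex.norm_real] at hn'
      simpa using hn'
    rw [h3, ← Complex.ofReal_pow, ← sq_abs, h4, one_pow, Complex.ofReal_one]
  · intro hc χ hχ
    obtain ⟨hi, ⟨d, hd, hd1⟩, -⟩ := hχ
    refine ⟨hi, ⟨d, hd, hd1⟩, Or.inr fun g => ?_⟩
    obtain ⟨k, hk⟩ := hG.exists_card_eq
    obtain ⟨i, -, rfl⟩ := (Nat.dvd_prime_pow Nat.prime_two).1
      (hk ▸ IsIrrCharacter.degree_dvd_card hi hd1)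
    have hi0 : i = 0 := by
      by_contra h0
      rw [Nat.odd_pow_iff h0] at hd
      exact absurd hd (by decide)
    subst hi0
    obtain ⟨lam, rfl⟩ := IsCharacter.exists_hom (IsIrrCharacter.isCharacter hi) (by simpa using hd1)
    have h2 : lam (g ^ 2) = 1 := Abelianization.commutator_subset_ker lam
      (hc.ge ((PGroupBasic.commutator_pow_le_frattini hG).2 g))
    have h3 : (lam g : ℂ) * (lam g : ℂ) = 1 := by
      rw [← Units.val_mul, ← sq, ← map_pow, h2, Units.val_one]
    rcases mul_self_eq_one_iff.1 h3 with e | e <;> simp [e]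

/-- All odd degree characters are real iff the Sylow normaliser is `P` with elementary
abelianisation. -/
theorem all_real_iff [Finite G] [Group.IsSolvable G] (P : Sylow 2 G) :
    (∀ χ : G → ℂ, Counted true χ → Counted false χ) ↔
      commutator (P : Subgroup G) = frattini (P : Subgroup G) ∧
        Subgroup.normalizer ((P : Subgroup G) : Set G) = (P : Subgroup G) := by
  haveI : Fact (Nat.Prime 2) := ⟨Nat.prime_two⟩
  have hcnt : Subgroup.normalizer ((P : Subgroup G) : Set G) = (P : Subgroup G) →
      cnt true G = cnt true (P : Subgroup G) ∧ cnt false G = cnt false (P : Subgroup G) :=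
    fun hN => ⟨(cnt_eq true P fun _ => hN).trans (cnt_congr true (MulEquiv.subgroupCongr hN)),
      (cnt_eq false P fun hb => absurd hb Bool.false_ne_true).trans
        (cnt_congr false (MulEquiv.subgroupCongr hN))⟩
  constructor
  · intro h
    have hN := normalizer_eq_of_real P h
    obtain ⟨h1, h2⟩ := hcnt hN
    refine ⟨(twoGroup_real_iff P.2).1 fun χ hχ => ?_, hN⟩
    exact real_of_cnt_eq (by rw [← h1, ← h2]; exact cnt_eq_of_all_real h) hχ
  · rintro ⟨hc, hN⟩ χ hχ
    obtain ⟨h1, h2⟩ := hcnt hN
    exact real_of_cnt_eq (by rw [h1, h2]; exact cnt_eq_of_all_real ((twoGroup_real_iff P.2).2 hc)) hχ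

end CfsgLib.Char.OddReal
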