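import Cfsg.Agent.GlaubermanCorr.Solvable
import Cfsg.Agent.Char.CoprimeComplement
import Cfsg.Agent.Char.DegreesPrime
import Cfsg.Agent.Char.Inflation
import Cfsg.Agent.Char.Monomial
import Cfsg.Agent.FGSB.PRegClass
import Mathlib.GroupTheory.FiniteAbelian.Duality
import Mathlib.Analysis.Complex.Polynomial.Basic
import Mathlib.RingTheory.RootsOfUnity.AlgebraicallyClosed

/-!
# Characters and classes of degree and size prime to `p` in a group with a normal `p`-complement
-/

set_option autoImplicit false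
set_option linter.style.haveILetI false
set_option linter.unusedSectionVars false

namespace CfsgLib.Char.PComplementCount

open Cfsg Subgroup

universe u

variable {G : Type u} [Group G] [Finite G] {p : ℕ} [Fact p.Prime]

theorem charDegree_spec' {χ : G → ℂ} (hχ : IsIrrCharacter G χ) :
    χ 1 = ((charDegree χ : ℕ) : ℂ) := by
  obtain ⟨d, -, hd⟩ := IsIrrCharacter.exists_degree hχ
  rw [hd, charDegree_eq_natCast hd]

theorem not_dvd_iff_coprime {N : Subgroup G} {k : ℕ} (hidx : N.index = p ^ k) (hk : k ≠ 0) (m : ℕ) :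
    ¬ p ∣ m ↔ m.Coprime N.index := by
  rw [hidx, Nat.coprime_pow_right_iff (Nat.pos_of_ne_zero hk), Nat.coprime_comm,
    (Fact.out : p.Prime).coprime_iff_not_dvd]

/-- If only one irreducible character has degree divisible by `p`, the complement is abelian. -/
theorem quotient_comm {N : Subgroup G} [hN : N.Normal] (hcop : (Nat.card N).Coprime N.index)
    (hidx : ∃ k, N.index = p ^ k) (hN1 : N ≠ ⊥)
    (hone : Nat.card {χ : IrrCharacter G // p ∣ charDegree (χ : G → ℂ)} = 1) :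
    ∀ x y : G, x * y * x⁻¹ * y⁻¹ ∈ N := by
  classical
  haveI := Fintype.ofFinite G
  haveI := Fintype.ofFinite N
  obtain ⟨k, hk⟩ := hidx
  intro x y
  by_contra hxy
  have hp : p.Prime := Fact.out
  -- a nonlinear character of the quotient
  obtain ⟨σ, hσ, hσ1⟩ : ∃ σ, IsIrrCharacter (G ⧸ N) σ ∧ σ 1 ≠ 1 := by
    by_contra hall
    push Not at hall
    refine hxy ((QuotientGroup.eq_one_iff _).1 (isConj_one_right.1
      ((isConj_iff_irr_eq (1 : G ⧸ N) _).2 fun σ hσ => ?_)))
    obtain ⟨l, rfl⟩ := IsCharacter.exists_hom (IsIrrCharacter.isCharacter hσ) (hall σ hσ)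
    simp only [QuotientGroup.mk_mul, QuotientGroup.mk_inv, map_mul, map_inv, map_one]
    congr 1
    rw [mul_comm (l _) (l _), mul_inv_cancel_right, mul_inv_cancel]
  obtain ⟨b, -, hb⟩ := IsIrrCharacter.exists_degree hσ
  have hpb : p ∣ b := by
    obtain ⟨j, -, hj⟩ := (Nat.dvd_prime_pow hp).1 (hk ▸ index_eq_card N ▸
      IsIrrCharacter.degree_dvd_card hσ hb)
    refine hj ▸ dvd_pow_self p fun h0 => hσ1 ?_
    rw [hb, hj, h0, pow_zero, Nat.cast_one]
  set χ₀ : IrrCharacter G := ⟨inflate N σ, IsIrrCharacter.inflate N hσ⟩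
  have hχ₀ : p ∣ charDegree (χ₀ : G → ℂ) := by
    rw [charDegree_eq_natCast (χ := inflate N σ) (n := b) (by rw [← hb]; rfl)]
    exact hpb
  -- a nontrivial character of `N`
  obtain ⟨θ, hθ, hθne⟩ : ∃ θ, IsIrrCharacter N θ ∧ θ ≠ fun _ => 1 := by
    by_contra hall
    push Not at hall
    obtain ⟨a, ha⟩ := Subgroup.ne_bot_iff_exists_ne_one.1 hN1
    refine ha (isConj_one_right.1 ((isConj_iff_irr_eq (1 : N) a).2 fun θ hθ => ?_))
    rw [hall θ hθ]
  obtain ⟨f, hf, hfc⟩ := DegreesPrime.exists_over N hθ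
  have hne : ∀ ψ : IrrCharacter G, p ∣ charDegree (ψ : G → ℂ) →
      classInner (fun n : N => (ψ : G → ℂ) n) θ = 0 := by
    intro ψ hψ
    obtain ⟨⟨u, hu⟩, huniq⟩ := Nat.card_eq_one_iff_exists.1 hone
    have h1 : ψ = χ₀ := congrArg Subtype.val ((huniq ⟨ψ, hψ⟩).trans (huniq ⟨χ₀, hχ₀⟩).symm)
    rw [h1, show (fun n : N => (χ₀ : G → ℂ) n) = (b : ℂ) • fun _ : N => (1 : ℂ) from
      funext fun n => by
        rw [Pi.smul_apply, smul_eq_mul, mul_one, ← hb]
        exact inflate_apply_mem N σ n.2,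
      classInner_smul_left, IsIrrCharacter.classInner_of_ne isIrrCharacter_one hθ (Ne.symm hθne),
      mul_zero]
  -- `θ` is invariant
  have hfdeg : ¬ p ∣ charDegree f := fun h => hfc (hne ⟨f, hf⟩ h)
  have hI : inertia (G := G) θ = ⊤ := by
    rw [← Subgroup.index_eq_one]
    have hd1 : (inertia (G := G) θ).index ∣ N.index :=
      Subgroup.index_dvd_of_le (le_inertia (IsIrrCharacter.isClassFunction hθ))
    obtain ⟨j, -, hj⟩ := (Nat.dvd_prime_pow hp).1 (hk ▸ hd1)
    rcases Nat.eq_zero_or_pos j with rfl | hj0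
    · exact hj
    exfalso
    obtain ⟨e, he⟩ := IsCharacter.exists_classInner_eq_natCast
      (IsCharacter.restrict (IsIrrCharacter.isCharacter hf) N) hθ
    obtain ⟨a, -, ha⟩ := IsIrrCharacter.exists_degree hθ
    refine hfdeg ?_
    rw [charDegree_eq_natCast (χ := f) (n := e * (inertia (G := G) θ).index * a)]
    · rw [hj]
      exact dvd_mul_of_dvd_left (dvd_mul_of_dvd_right (dvd_pow_self p hj0.ne') _) _
    · rw [degree_eq_mul hf hθ hfc, he, ha]
      push_cast
      ring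
  have hinv : ∀ (g : G) (n : N), θ ⟨g * n * g⁻¹, hN.conj_mem (n : G) n.2 g⟩ = θ n := fun g n =>
    (mem_inertia_iff θ g).1 (hI ▸ Subgroup.mem_top g) n
  obtain ⟨E, hE, hEres⟩ := exists_extension_of_coprime hθ hinv hcop
  have hres : IsIrrCharacter N (fun n : N => E n) := by
    rw [show (fun n : N => E n) = θ from funext hEres]; exact hθ
  have hβ : inflate N σ ∈ {β : G → ℂ | IsIrrCharacter G β ∧ ∀ n ∈ N, β n = β 1} :=
    ⟨IsIrrCharacter.inflate N hσ, fun n hn => inflate_apply_mem N σ hn⟩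
  obtain ⟨hirr, hc⟩ := (gallagher_one hE hres).mapsTo hβ
  rw [show (fun n : N => E n) = θ from funext hEres] at hc
  obtain ⟨a, -, ha⟩ := IsIrrCharacter.exists_degree hθ
  refine hc (hne ⟨_, hirr⟩ ?_)
  rw [charDegree_eq_natCast (χ := inflate N σ * E) (n := b * a)]
  · exact hpb.mul_right a
  · rw [Pi.mul_apply, Nat.cast_mul, ← ha, ← hEres 1, ← hb]
    rfl

/-- With an abelian complement, degrees and class sizes prime to `p` are equally many. -/
theorem card_degree_le_card_class {N : Subgroup G} [hN : N.Normal] {P : Sylow p G} {k : ℕ}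
    (hk : k ≠ 0) (hidx : N.index = p ^ k) (hcop : (Nat.card N).Coprime N.index)
    (hC : N.IsComplement' (P : Subgroup G)) (hab : ∀ x y : G, x * y * x⁻¹ * y⁻¹ ∈ N) :
    Nat.card {χ : IrrCharacter G // ¬ p ∣ charDegree (χ : G → ℂ)} =
      Nat.card {c : ConjClasses G // ¬ p ∣ Nat.card c.carrier} := by
  classical
  haveI := Fintype.ofFinite G
  have hp : p.Prime := Fact.out
  obtain ⟨Q, hQ⟩ : ∃ Q : Subgroup G, Q = P := ⟨_, rfl⟩
  rw [← hQ] at hC
  have hsup : N ⊔ Q = ⊤ := hC.sup_eq_top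
  have hinf : N ⊓ Q = ⊥ := hC.disjoint.eq_bot
  have hPc : ∀ u ∈ Q, ∀ v ∈ Q, u * v = v * u := fun u hu v hv => by
    have h1 : u * v * u⁻¹ * v⁻¹ ∈ N ⊓ Q :=
      mem_inf.2 ⟨hab u v, mul_mem (mul_mem (mul_mem hu hv) (inv_mem hu)) (inv_mem hv)⟩
    rw [hinf, mem_bot, mul_inv_eq_one, mul_inv_eq_iff_eq_mul] at h1
    exact h1
  haveI hPcomm : IsMulCommutative Q := ⟨⟨fun u v => Subtype.ext (hPc u u.2 v v.2)⟩⟩
  have hcardP : Nat.card Q = N.index := hC.symm.index_eq_card.symm
  obtain ⟨C, hCdef⟩ : ∃ C, C = N ⊓ centralizer (Q : Set G) := ⟨_, rfl⟩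
  have hCmem : ∀ x, x ∈ C ↔ x ∈ N ∧ ∀ y ∈ Q, y * x = x * y := fun x => by
    rw [hCdef, mem_inf, mem_centralizer_iff]
    rfl
  have hsol : Group.IsSolvable Q :=
    Group.isSolvable_of_comm fun u v => Subtype.ext (hPc u u.2 v v.2)
  have hSK : ∀ y ∈ Q, ∀ n ∈ N, y * n * y⁻¹ ∈ N := fun y _ n hn => hN.conj_mem n hn y
  have hcop' : (Nat.card N).Coprime (Nat.card Q) := hcardP ▸ hcop
  -- characters
  have hchar : Nat.card {χ : IrrCharacter G // ¬ p ∣ charDegree (χ : G → ℂ)} =
      Nat.card (Q × ConjClasses C) := by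
    rw [Nat.card_congr (Equiv.subtypeEquivRight fun χ : IrrCharacter G =>
        not_dvd_iff_coprime hidx hk _),
      card_degree_coprime_index N hcop, card_hom_trivial_eq N Q hsup hinf, Nat.card_prod, mul_comm]
    congr 1
    · letI : CommGroup Q := { (inferInstance : Group Q) with
        mul_comm := fun u v => Subtype.ext (hPc u u.2 v v.2) }
      exact CommGroup.card_monoidHom_of_hasEnoughRootsOfUnity Q ℂ
    · obtain ⟨f, hf, -⟩ := GlaubermanCorr.exists_equivariant hsol hSK hcop' hCmem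
      rw [← card_irr_eq_card_conjClasses (G := C), ← Nat.card_eq_of_bijective f hf]
      refine Nat.card_congr (Equiv.subtypeEquivRight fun θ => ⟨fun h y hy n n' e => ?_, fun h g => ?_⟩)
      · rw [show n' = ⟨y * n * y⁻¹, hN.conj_mem _ n.2 y⟩ from Subtype.ext e]
        exact congrFun (h y) n
      · refine (mem_inertia _ g).1 ?_
        have hle : N ⊔ Q ≤ inertia (G := G) (θ : N → ℂ) :=
          sup_le (le_inertia (IsIrrCharacter.isClassFunction θ.2)) fun y hy =>
            (mem_inertia_iff _ y).2 fun n => h y hy n _ rfl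
        exact hle (hsup ▸ mem_top g)
  rw [hchar]
  -- classes
  obtain ⟨e, he, heq⟩ := GlaubermanCorr.exists_class_equiv hsol hSK hcop' hCmem
  have hconj : ∀ (u : Q) (c c' : C), IsConj c c' → IsConj ((u : G) * c) (u * c') := by
    intro u c c' h
    obtain ⟨w, hw⟩ := isConj_iff.1 h
    refine isConj_iff.2 ⟨w, ?_⟩
    have hw' : (w : G) * c * (w : G)⁻¹ = c' := congrArg Subtype.val hw
    calc (w : G) * (u * c) * (w : G)⁻¹ = ((w : G) * u) * c * (w : G)⁻¹ := by group
      _ = ((u : G) * w) * c * (w : G)⁻¹ := by rw [((hCmem w).1 w.2).2 u u.2]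
      _ = u * ((w : G) * c * (w : G)⁻¹) := by group
      _ = u * c' := by rw [hw']
  have hcard : ∀ g : G, Nat.card (ConjClasses.mk g).carrier =
      (centralizer ({g} : Set G)).index := fun g => by
    rw [Nat.card_coe_set_eq, CfsgLib.PRegClass.ncard_carrier]
  have hgood : ∀ (u : Q) (c : C), ¬ p ∣ (centralizer ({(u : G) * c} : Set G)).index := by
    intro u c hd
    have hle : Q ≤ centralizer ({(u : G) * c} : Set G) := fun v hv => by
      rw [mem_centralizer_singleton_iff, ← mul_assoc, hPc v hv u u.2, mul_assoc,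
        ((hCmem c).1 c.2).2 v hv, mul_assoc]
    exact (hQ ▸ P.not_dvd_index : ¬ p ∣ Q.index) (hd.trans (index_dvd_of_le hle))
  let Φ : Q × ConjClasses C → {c : ConjClasses G // ¬ p ∣ Nat.card c.carrier} := fun x =>
    ⟨Quotient.liftOn x.2 (fun c : C => ConjClasses.mk ((x.1 : G) * c))
      (fun c c' h => ConjClasses.mk_eq_mk_iff_isConj.2 (hconj x.1 c c' h)), by
      obtain ⟨u, q⟩ := x
      induction q using Quotient.inductionOn with | _ c =>
      show ¬ p ∣ Nat.card (ConjClasses.mk ((u : G) * c)).carrier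
      rw [hcard]
      exact hgood u c⟩
  refine Nat.card_eq_of_bijective Φ ⟨?_, ?_⟩
  · rintro ⟨u, q⟩ ⟨u', q'⟩ h
    induction q using Quotient.inductionOn with | _ c =>
    induction q' using Quotient.inductionOn with | _ c' =>
    have h' : IsConj ((u : G) * c) ((u' : G) * c') :=
      ConjClasses.mk_eq_mk_iff_isConj.1 (congrArg Subtype.val h)
    obtain ⟨g, hg⟩ := isConj_iff.1 h'
    have hcN : ∀ x : C, (x : G) ∈ N := fun x => ((hCmem x).1 x.2).1
    have huu : u = u' := by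
      have hmod : ((u : G) : G ⧸ N) = ((u' : G) : G ⧸ N) := by
        have h1 := congrArg (QuotientGroup.mk (s := N)) hg
        simp only [QuotientGroup.mk_mul, QuotientGroup.mk_inv,
          (QuotientGroup.eq_one_iff _).2 (hcN c), (QuotientGroup.eq_one_iff _).2 (hcN c'),
          mul_one] at h1
        have hcom : ((g : G) : G ⧸ N) * ((u : G) : G ⧸ N) = ((u : G) : G ⧸ N) * (g : G ⧸ N) := by
          rw [← QuotientGroup.mk_mul, ← QuotientGroup.mk_mul, QuotientGroup.eq]
          simpa [mul_assoc] using hab ((u : G)⁻¹) (g⁻¹)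
        rw [hcom, mul_inv_cancel_right] at h1
        exact h1
      have h2 : (u : G)⁻¹ * u' ∈ N ⊓ Q :=
        mem_inf.2 ⟨QuotientGroup.eq.1 hmod, mul_mem (inv_mem u.2) u'.2⟩
      rw [hinf, mem_bot, inv_mul_eq_one] at h2
      exact Subtype.ext h2
    subst huu
    obtain ⟨n, hn, v, hv, rfl⟩ := mem_sup_of_normal_left.1 (hsup ▸ mem_top g : g ∈ N ⊔ Q)
    have hvc : v * ((u : G) * c) * v⁻¹ = u * c := by
      rw [← mul_assoc, hPc v hv u u.2, mul_assoc (u : G) v, ((hCmem c).1 c.2).2 v hv]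
      group
    have hn' : n * ((u : G) * c) * n⁻¹ = u * c' := by
      calc n * ((u : G) * c) * n⁻¹ = n * (v * ((u : G) * c) * v⁻¹) * n⁻¹ := by rw [hvc]
        _ = n * v * ((u : G) * c) * (n * v)⁻¹ := by group
        _ = _ := hg
    obtain ⟨m, hm1, hm2⟩ : ∃ m, ((u : G) * c) ^ m = c ∧ ((u : G) * c') ^ m = c' := by
      obtain ⟨m, hm1, hm0⟩ := Nat.chineseRemainder hcop' 1 0
      have key : ∀ x : C, ((u : G) * x) ^ m = x := fun x => by
        have hcomm : Commute (u : G) x := ((hCmem x).1 x.2).2 u u.2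
        rw [hcomm.mul_pow]
        have h1 : (u : G) ^ m = 1 := orderOf_dvd_iff_pow_eq_one.1
          ((Q.orderOf_dvd_natCard u.2).trans (Nat.modEq_zero_iff_dvd.1 hm0))
        rw [h1, one_mul]
        have h2 : (x : G) ^ m = (x : G) ^ 1 := pow_eq_pow_iff_modEq.2
          (hm1.of_dvd (N.orderOf_dvd_natCard (hcN x)))
        rw [h2, pow_one]
      exact ⟨m, key c, key c'⟩
    have hcc : IsConj (⟨(c : G), hcN c⟩ : N) ⟨(c' : G), hcN c'⟩ := by
      refine isConj_iff.2 ⟨⟨n, hn⟩, Subtype.ext ?_⟩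
      show n * (c : G) * n⁻¹ = c'
      rw [← hm1, ← hm2, ← hn', conj_pow]
    refine Prod.ext rfl (he.1 (Subtype.ext ?_))
    exact (heq c).trans ((ConjClasses.mk_eq_mk_iff_isConj.2 hcc).trans (heq c').symm)
  · rintro ⟨q, hq⟩
    obtain ⟨g, rfl⟩ := ConjClasses.mk_surjective q
    rw [hcard] at hq
    obtain ⟨S⟩ : Nonempty (Sylow p (centralizer ({g} : Set G))) := inferInstance
    have hSidx : ¬ p ∣ ((S : Subgroup (centralizer ({g} : Set G))).map
        (centralizer ({g} : Set G)).subtype).index := by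
      rw [index_map_subtype]
      exact fun h => (hp.dvd_mul.1 h).elim S.not_dvd_index hq
    obtain ⟨t, ht⟩ := MulAction.exists_smul_eq G ((S.2.map _).toSylow hSidx) P
    have hcomm : ∀ v ∈ Q, v * (t * g * t⁻¹) = t * g * t⁻¹ * v := by
      intro v hv
      rw [hQ, ← ht, Sylow.coe_subgroup_smul, CfsgLib.SZ.mem_conj_smul] at hv
      have h1 := mem_centralizer_singleton_iff.1 ((map_subtype_le _) hv)
      calc v * (t * g * t⁻¹) = t * ((t⁻¹ * v * t) * g) * t⁻¹ := by group
        _ = t * (g * (t⁻¹ * v * t)) * t⁻¹ := by rw [h1]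
        _ = t * g * t⁻¹ * v := by group
    obtain ⟨n, hn, v, hv, hnv⟩ := mem_sup_of_normal_left.1
      (hsup ▸ mem_top (t * g * t⁻¹) : t * g * t⁻¹ ∈ N ⊔ Q)
    have hnC : n ∈ C := (hCmem n).2 ⟨hn, fun w hw => by
      have h1 := hcomm w hw
      rw [← hnv, ← mul_assoc, mul_assoc n v w, hPc v hv w hw, ← mul_assoc] at h1
      exact mul_right_cancel h1⟩
    refine ⟨⟨⟨v, hv⟩, Quotient.mk _ (⟨n, hnC⟩ : C)⟩, Subtype.ext ?_⟩
    show ConjClasses.mk (v * n) = ConjClasses.mk g
    rw [((hCmem n).1 hnC).2 v hv, hnv, ConjClasses.mk_eq_mk_iff_isConj, isConj_comm]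
    exact isConj_iff.2 ⟨t, rfl⟩

end CfsgLib.Char.PComplementCount
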