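import Cfsg.Agent.S4713
import Cfsg.Agent.Char.CliffordCorrespondence
import Cfsg.Agent.Char.LinearTwist
import Cfsg.Agent.Char.ExtendExp

/-!
# Derived length of a Sylow subgroup and characters of degree divisible by `p`
-/

set_option autoImplicit false

namespace CfsgLib.Char.PDivisibleDerived

open scoped ComplexConjugate

universe u

variable {p : ℕ} [Fact p.Prime]

theorem derivedSeries_eq_bot_of_equiv {A B : Type*} [Group A] [Group B] (e : A ≃* B) {k : ℕ}
    (h : derivedSeries A k = ⊥) : derivedSeries B k = ⊥ := by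
  rw [← map_derivedSeries_eq (f := e.toMonoidHom) e.surjective, h, Subgroup.map_bot]

theorem derivedSeries_succ_eq_bot {A : Type*} [Group A] {k : ℕ} (K : Subgroup A)
    (hK : ∀ a ∈ K, ∀ b ∈ K, a * b = b * a) (h : derivedSeries A k ≤ K) :
    derivedSeries A (k + 1) = ⊥ := by
  rw [derivedSeries_succ, eq_bot_iff, Subgroup.commutator_le]
  intro a ha b hb
  rw [Subgroup.mem_bot, commutatorElement_eq_one_iff_mul_comm]
  exact hK a (h ha) b (h hb)

/-- The derived length of a Sylow subgroup from that of a quotient. -/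
theorem derivedSeries_le_ker {G : Type*} {H : Type*} [Group G] [Finite G] [Group H] [Finite H]
    (f : G →* H) (hf : Function.Surjective f) {k : ℕ}
    (h : ∀ Q : Sylow p H, derivedSeries (Q : Subgroup H) k = ⊥) (P : Sylow p G) :
    derivedSeries (P : Subgroup G) k ≤ f.ker.subgroupOf (P : Subgroup G) := by
  have hbot := h (P.mapSurjective hf)
  intro x hx
  rw [Subgroup.mem_subgroupOf, MonoidHom.mem_ker]
  let φ : (P : Subgroup G) →* ((P.mapSurjective hf : Sylow p H) : Subgroup H) :=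
    f.subgroupMap (P : Subgroup G)
  have h1 : φ x ∈ derivedSeries ((P.mapSurjective hf : Sylow p H) : Subgroup H) k :=
    map_derivedSeries_le_derivedSeries φ k (Subgroup.mem_map_of_mem φ hx)
  rw [hbot, Subgroup.mem_bot] at h1
  exact congrArg Subtype.val h1

/-- All characters over a linear character of an abelian normal `p`-subgroup have degree prime to `p`. -/
theorem exists_sylow_derived_two {G : Type u} [Group G] [Finite G] (hsolv : Cfsg.IsPSolvable p G)
    (N : Subgroup G) [hN : N.Normal] (hNp : IsPGroup p N)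
    (hab : ∀ a ∈ N, ∀ b ∈ N, a * b = b * a) (hN1 : N ≠ ⊥)
    (htriv : ∀ χ : G → ℂ, Cfsg.IsIrrCharacter G χ → ∀ m : ℕ, χ 1 = m → p ∣ m → ∀ n ∈ N, χ n = χ 1) :
    ∃ P : Sylow p G, derivedSeries (P : Subgroup G) 2 = ⊥ := by
  classical
  haveI := Fintype.ofFinite G
  haveI := Fintype.ofFinite N
  have hp := (Fact.out : p.Prime)
  obtain ⟨a, haN, ha1⟩ := (Subgroup.ne_bot_iff_exists_ne_one).1 hN1 |>.elim fun x hx =>
    (⟨(x : G), x.2, fun h => hx (Subtype.ext h)⟩ : ∃ a ∈ N, a ≠ 1)
  obtain ⟨lam, hlam⟩ : ∃ l : N →* ℂˣ, l ⟨a, haN⟩ ≠ 1 := by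
    refine exists_hom_ne_one ?_
    rw [show commutator N = ⊥ by
      rw [commutator_def, Subgroup.commutator_eq_bot_iff_le_centralizer]
      exact fun x _ y _ => Subtype.ext (hab y y.2 x x.2), Subgroup.mem_bot]
    exact fun h => ha1 (congrArg Subtype.val h)
  set θ : N → ℂ := fun n => (lam n : ℂ) with hθdef
  have hθ : Cfsg.IsIrrCharacter N θ := isIrrCharacter_ofHom lam
  have hθ1 : θ 1 = 1 := by simp [hθdef]
  -- characters over `θ` have degree prime to `p`
  have hover : ∀ χ : G → ℂ, Cfsg.IsIrrCharacter G χ →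
      Cfsg.classInner (fun n : N => χ n) θ ≠ 0 → ∀ m : ℕ, χ 1 = m → ¬ p ∣ m := by
    intro χ hχ hc m hm hd
    refine hc ?_
    rw [show (fun n : N => χ n) = χ 1 • (fun _ : N => (1 : ℂ)) from funext fun n => by
        rw [Pi.smul_apply, smul_eq_mul, mul_one, htriv χ hχ m hm hd n n.2],
      classInner_smul_left, IsIrrCharacter.classInner_of_ne isIrrCharacter_one hθ, mul_zero]
    intro h
    refine hlam (Units.ext ?_)
    rw [Units.val_one]
    exact (congrFun h ⟨a, haN⟩).symm
  obtain ⟨f, hf, hfc⟩ := DegreesPrime.exists_over N hθ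
  obtain ⟨T, hT⟩ : ∃ T : Subgroup G, inertia θ = T := ⟨_, rfl⟩
  haveI := Fintype.ofFinite T
  have hNT : N ≤ T := hT ▸ le_inertia (IsIrrCharacter.isClassFunction hθ)
  obtain ⟨ψ, hψ, hind, hmul⟩ := exists_indFun_eq_of_inertia hNT hθ hT hf hfc
  have hc' : Cfsg.classInner (fun n : N => ψ (Subgroup.inclusion hNT n)) θ ≠ 0 := hmul ▸ hfc
  obtain ⟨d, -, hd⟩ := IsIrrCharacter.exists_degree hψ
  have hf1 : f 1 = ((T.index * d : ℕ) : ℂ) := by rw [← hind, indFun_one, hd, Nat.cast_mul]
  have hpd : ¬ p ∣ T.index * d := hover f hf hfc _ hf1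
  have hval : ∀ n : N, ψ (Subgroup.inclusion hNT n) = (d : ℂ) * θ n := by
    have hres := restrict_inertia_eq hNT hθ hT.ge hψ hc'
    have h1 := congrFun hres 1
    simp only [Pi.smul_apply, smul_eq_mul, hθ1, mul_one, map_one, hd] at h1
    intro n
    have h2 := congrFun hres n
    simp only [Pi.smul_apply, smul_eq_mul, ← h1] at h2
    exact h2
  obtain ⟨r, ρ, -, rfl⟩ := id hψ
  have hr : Module.finrank ℂ (Fin r → ℂ) = d := by
    rw [ρ.char_one] at hd; exact_mod_cast hd
  have hd0 : (d : ℂ) ≠ 0 := by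
    intro h; exact hpd (by rw [Nat.cast_eq_zero.1 h, mul_zero]; exact dvd_zero p)
  have hdet : ∀ n : N, detHom ρ (Subgroup.inclusion hNT n) = lam n ^ d := by
    intro n
    obtain ⟨ω, hω⟩ := (norm_character_eq_iff ρ (Subgroup.inclusion hNT n)).1 (by
      rw [hval, norm_mul, hθdef, norm_hom_eq_one, mul_one, Complex.norm_natCast, hr])
    have h1 := hval n
    rw [Representation.character, hω, map_smul, LinearMap.trace_id, hr, smul_eq_mul] at h1
    have hω' : ω = (lam n : ℂ) := mul_right_cancel₀ hd0 (h1.trans (mul_comm _ _))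
    refine Units.ext ?_
    rw [detHom_apply, hω, LinearMap.det_smul, hr, hω', LinearMap.det_id, mul_one,
      Units.val_pow_eq_pow_val]
  -- `θ` extends to its inertia group
  set N' := N.subgroupOf T with hN'
  haveI : N'.Normal := Subgroup.Normal.subgroupOf inferInstance T
  haveI := Fintype.ofFinite N'
  let g : N' →* ℂˣ := lam.comp (Subgroup.subgroupOfEquivOfLe hNT).toMonoidHom
  obtain ⟨E, hE⟩ := exists_extend_of_exponents g fun q hq => by
    by_cases hqp : q = p
    · refine ⟨d, hqp ▸ fun h => hpd (h.mul_left _), detHom ρ, fun c => ?_⟩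
      rw [zpow_natCast]
      exact hdet (Subgroup.subgroupOfEquivOfLe hNT c)
    · obtain ⟨b, hb⟩ := IsPGroup.iff_card.1 hNp
      refine ⟨Nat.card N, fun h => hqp ((Nat.prime_dvd_prime_iff_eq hq hp).1
        (hq.dvd_of_dvd_pow (hb ▸ h))), 1, fun c => ?_⟩
      rw [zpow_natCast, MonoidHom.one_apply]
      show (1 : ℂˣ) = lam (Subgroup.subgroupOfEquivOfLe hNT c) ^ Nat.card N
      rw [← map_pow, pow_card_eq_one', map_one]
  have hQdeg : ∀ β : Cfsg.IrrCharacter (T ⧸ N'), ¬ p ∣ Cfsg.charDegree (β : T ⧸ N' → ℂ) := by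
    intro β
    obtain ⟨b, -, hb⟩ := IsIrrCharacter.exists_degree β.2
    rw [charDegree_eq_natCast hb]
    intro hdvd
    have hinf := IsIrrCharacter.inflate N' β.2
    have hψ' : Cfsg.IsIrrCharacter T (fun t => inflate N' β.1 t * (E t : ℂ)) :=
      IsIrrCharacter.mul_hom hinf E
    have hres' : (fun n : N => inflate N' β.1 (Subgroup.inclusion hNT n) *
        (E (Subgroup.inclusion hNT n) : ℂ)) = (b : ℂ) • θ := by
      funext n
      have hmem : Subgroup.inclusion hNT n ∈ N' := Subgroup.mem_subgroupOf.2 n.2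
      rw [inflate_apply_mem N' _ hmem, Pi.smul_apply, smul_eq_mul]
      have h1 := hE ⟨_, hmem⟩
      have h2 : inflate N' β.1 1 = b := by rw [← hb]; rfl
      rw [h2, hθdef]
      change (b : ℂ) * (E (Subgroup.inclusion hNT n) : ℂ) = (b : ℂ) * (lam n : ℂ)
      rw [h1]
      rfl
    have hb0 : (b : ℂ) ≠ 0 := hb ▸ IsIrrCharacter.apply_one_ne_zero β.2
    have hcψ : Cfsg.classInner (fun n : N => inflate N' β.1 (Subgroup.inclusion hNT n) *
        (E (Subgroup.inclusion hNT n) : ℂ)) θ ≠ 0 := by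
      rw [hres', classInner_smul_left, IsIrrCharacter.classInner_self hθ, mul_one]
      exact hb0
    obtain ⟨hirr, hinner⟩ := isIrrCharacter_indFun_of_inertia hNT hθ hT hψ' hcψ
    refine hover _ hirr (hinner ▸ hcψ) (T.index * b) ?_ (hdvd.mul_left _)
    rw [indFun_one]
    change (T.index : ℂ) * (β.1 ((1 : T) : T ⧸ N') * (E 1 : ℂ)) = _
    rw [QuotientGroup.mk_one, hb, map_one, Units.val_one, mul_one, Nat.cast_mul]
  obtain ⟨S⟩ : Nonempty (Sylow p T) := inferInstance
  have hQ : ∀ Q : Sylow p (T ⧸ N'), derivedSeries (Q : Subgroup (T ⧸ N')) 1 = ⊥ := fun Q => by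
    have h := (Cfsg.Agent.S4713.result p
      (CfsgLib.PConstrained.isPSolvable_map _ (QuotientGroup.mk'_surjective N')
        (CfsgLib.PConstrained.isPSolvable_comap T.subtype T.subtype_injective hsolv)) Q).2 hQdeg
    refine derivedSeries_succ_eq_bot ⊤ (fun a _ b _ => h.2.is_comm.comm a b) le_top
  have hS : derivedSeries (S : Subgroup T) 2 = ⊥ := by
    refine derivedSeries_succ_eq_bot _ ?_
      (derivedSeries_le_ker (QuotientGroup.mk' N') (QuotientGroup.mk'_surjective N') hQ S)
    intro x hx y hy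
    rw [Subgroup.mem_subgroupOf, QuotientGroup.ker_mk', hN', Subgroup.mem_subgroupOf] at hx hy
    exact Subtype.ext (Subtype.ext (hab _ hx _ hy))
  have hidx : ¬ p ∣ ((S : Subgroup T).map T.subtype).index := by
    rw [Subgroup.index_map_subtype]
    intro h
    rcases hp.dvd_mul.1 h with h | h
    · exact S.not_dvd_index h
    · exact hpd (h.mul_right _)
  refine ⟨(S.2.map T.subtype).toSylow hidx, ?_⟩
  exact derivedSeries_eq_bot_of_equiv ((S : Subgroup T).equivMapOfInjective _ T.subtype_injective) hS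

/-- The number of irreducible characters of degree divisible by `p`. -/
noncomputable def divCount (p : ℕ) (G : Type u) [Group G] : ℕ :=
  Nat.card {χ : Cfsg.IrrCharacter G // p ∣ Cfsg.charDegree (χ : G → ℂ)}

theorem finite_irrCharacter (G : Type u) [Group G] [Finite G] : Finite (Cfsg.IrrCharacter G) := by
  classical
  haveI := Fintype.ofFinite G
  exact Finite.of_injective
    (fun χ => (⟨χ.1, mem_irrFinset.2 χ.2⟩ : irrFinset (G := G))) fun a b h => Subtype.ext (congrArg (·.1) h)

/-- The derived length of a Sylow subgroup of a `p`-solvable group. -/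
theorem derivedSeries_sylow (m : ℕ) :
    ∀ (G : Type u) [Group G] [Finite G], Nat.card G = m → Cfsg.IsPSolvable p G →
      ∀ P : Sylow p G, derivedSeries (P : Subgroup G) (divCount p G + 1) = ⊥ := by
  classical
  induction m using Nat.strong_induction_on with | _ m ih => ?_
  intro G _ _ hm hsolv P
  haveI := finite_irrCharacter G
  have hp := (Fact.out : p.Prime)
  rcases Nat.eq_zero_or_pos (divCount p G) with h0 | hpos
  · have h := (Cfsg.Agent.S4713.result p hsolv P).2 fun χ hd => by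
      haveI : Nonempty {χ : Cfsg.IrrCharacter G // p ∣ Cfsg.charDegree (χ : G → ℂ)} := ⟨⟨χ, hd⟩⟩
      exact absurd h0 (Nat.card_pos (α := {χ : Cfsg.IrrCharacter G // p ∣ Cfsg.charDegree (χ : G → ℂ)})).ne'
    rw [h0]
    exact derivedSeries_succ_eq_bot ⊤ (fun a _ b _ => h.2.is_comm.comm a b) le_top
  cases subsingleton_or_nontrivial G with
  | inl h => exact (Subgroup.eq_bot_iff_forall _).2 fun x _ => Subsingleton.elim x 1
  | inr h =>
  -- inflation from a quotient
  have hquot : ∀ (N : Subgroup G) [N.Normal], N ≠ ⊥ →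
      (∀ Q : Sylow p (G ⧸ N), derivedSeries (Q : Subgroup (G ⧸ N)) (divCount p (G ⧸ N) + 1) = ⊥) ∧
      divCount p (G ⧸ N) ≤ divCount p G ∧
      ((∃ χ : G → ℂ, Cfsg.IsIrrCharacter G χ ∧ (∃ m : ℕ, χ 1 = m ∧ p ∣ m) ∧ ∃ n ∈ N, χ n ≠ χ 1) →
        divCount p (G ⧸ N) < divCount p G) := by
    intro N _ hN1
    have hlt : Nat.card (G ⧸ N) < m := by
      rw [← hm, ← Subgroup.index_eq_card, ← N.card_mul_index]
      exact lt_mul_left (Nat.pos_of_ne_zero Subgroup.index_ne_zero_of_finite)
        ((N.one_lt_card_iff_ne_bot).2 hN1)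
    let inf : {χ : Cfsg.IrrCharacter (G ⧸ N) // p ∣ Cfsg.charDegree (χ : G ⧸ N → ℂ)} →
        {χ : Cfsg.IrrCharacter G // p ∣ Cfsg.charDegree (χ : G → ℂ)} := fun χ =>
      ⟨⟨inflate N χ.1.1, IsIrrCharacter.inflate N χ.1.2⟩, χ.2⟩
    have hinj : Function.Injective inf := fun a b hab =>
      Subtype.ext (Subtype.ext (inflate_injective N (congrArg (fun c => c.1.1) hab)))
    refine ⟨ih _ hlt _ rfl (CfsgLib.PConstrained.isPSolvable_map _ (QuotientGroup.mk'_surjective N) hsolv),
      Nat.card_le_card_of_injective inf hinj, ?_⟩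
    rintro ⟨χ, hχ, ⟨k, hk, hpk⟩, n, hn, hne⟩
    refine lt_of_le_of_ne (Nat.card_le_card_of_injective inf hinj) fun he => hne ?_
    obtain ⟨β, hβ⟩ := ((Nat.bijective_iff_injective_and_card inf).2 ⟨hinj, he⟩).2
      ⟨⟨χ, hχ⟩, by rwa [charDegree_eq_natCast hk]⟩
    rw [show χ = inflate N β.1.1 from (congrArg (fun c => c.1.1) hβ).symm]
    exact inflate_apply_mem N _ hn
  by_cases hcore : Cfsg.pPrimeCore p G = ⊥
  · have hO : Cfsg.pCore p G ≠ ⊥ :=
      (CfsgLib.PConstrained.exists_core_ne_bot hsolv).resolve_right (not_not.2 hcore)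
    haveI : (Cfsg.pCore p G).Normal := CfsgLib.Solvable.pCore_normal (G := G) p
    have hOp : IsPGroup p (Cfsg.pCore p G) := CfsgLib.Solvable.isPGroup_pCore p
    set N := (Subgroup.center (Cfsg.pCore p G)).map (Cfsg.pCore p G).subtype with hNdef
    haveI : N.Normal := inferInstance
    have hNp : IsPGroup p N := (hOp.to_subgroup _).map _
    have hN1 : N ≠ ⊥ := by
      haveI : Nontrivial (Cfsg.pCore p G) := (Subgroup.nontrivial_iff_ne_bot _).2 hO
      haveI := hOp.center_nontrivial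
      rw [Ne, Subgroup.map_eq_bot_iff_of_injective _ (Subgroup.subtype_injective _),
        ← Ne, ← Subgroup.nontrivial_iff_ne_bot]
      infer_instance
    have hab : ∀ a ∈ N, ∀ b ∈ N, a * b = b * a := by
      rintro _ ⟨a, ha, rfl⟩ _ ⟨b, hb, rfl⟩
      exact congrArg Subtype.val (Subgroup.mem_center_iff.1 hb a)
    obtain ⟨hq, hle, hlt⟩ := hquot N hN1
    by_cases hex : ∃ χ : G → ℂ, Cfsg.IsIrrCharacter G χ ∧ (∃ m : ℕ, χ 1 = m ∧ p ∣ m) ∧ ∃ n ∈ N, χ n ≠ χ 1
    · refine (eq_bot_iff.2 ?_)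
      refine (derivedSeries_antitone _ (Nat.succ_le_succ (Nat.succ_le_of_lt (hlt hex)))).trans
        (derivedSeries_succ_eq_bot _ ?_
          (derivedSeries_le_ker (QuotientGroup.mk' N) (QuotientGroup.mk'_surjective N) hq P)).le
      intro x hx y hy
      rw [Subgroup.mem_subgroupOf, QuotientGroup.ker_mk'] at hx hy
      exact Subtype.ext (hab _ hx _ hy)
    · push Not at hex
      obtain ⟨P', hP'⟩ := exists_sylow_derived_two hsolv N hNp hab hN1
        fun χ hχ k hk hd n hn => hex χ hχ ⟨k, hk, hd⟩ n hn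
      refine eq_bot_iff.2 ((derivedSeries_antitone _ (show 2 ≤ divCount p G + 1 by omega)).trans ?_)
      exact (derivedSeries_eq_bot_of_equiv (Sylow.equiv P' P) hP').le
  · haveI : (Cfsg.pPrimeCore p G).Normal := CfsgLib.Solvable.pPrimeCore_normal (G := G) p
    obtain ⟨hq, hle, -⟩ := hquot _ hcore
    refine eq_bot_iff.2 ((derivedSeries_antitone _ (Nat.succ_le_succ hle)).trans
      ((derivedSeries_le_ker (QuotientGroup.mk' (Cfsg.pPrimeCore p G))
        (QuotientGroup.mk'_surjective _) hq P).trans ?_))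
    intro x hx
    rw [Subgroup.mem_subgroupOf, QuotientGroup.ker_mk'] at hx
    obtain ⟨k, hk⟩ := P.2 x
    have hk' : (x : G) ^ p ^ k = 1 := congrArg Subtype.val hk
    rw [Subgroup.mem_bot]
    exact Subtype.ext (orderOf_eq_one_iff.1 (Nat.eq_one_of_dvd_coprimes
      ((CfsgLib.Solvable.coprime_card_pPrimeCore p).pow_right k)
      (Subgroup.orderOf_dvd_natCard _ hx) (orderOf_dvd_of_pow_eq_one hk')))

end CfsgLib.Char.PDivisibleDerived
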