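import Cfsg.Agent.Char.DegreeRatio
import Cfsg.Agent.BlocksB.ClassSum

/-!
# Irreducible characters of prime codegree
-/

set_option autoImplicit false
set_option linter.style.haveILetI false

namespace CfsgLib.Char.PrimeCodegree

open scoped ComplexConjugate

universe u

variable {G : Type u} [Group G]

theorem degree_sq_le [Finite G] {χ : G → ℂ} (hχ : Cfsg.IsIrrCharacter G χ) :
    Cfsg.charDegree χ * Cfsg.charDegree χ ≤ Nat.card G := by
  classical
  have h := sum_degree_sq (G := G)
  have e : ∀ ψ ∈ irrFinset G, ψ 1 ^ 2 = ((Cfsg.charDegree ψ * Cfsg.charDegree ψ : ℕ) : ℂ) :=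
    fun ψ hψ => by rw [(BlocksB.charDegree_spec (mem_irrFinset.1 hψ)).1, pow_two, Nat.cast_mul]
  rw [Finset.sum_congr rfl e, ← Nat.cast_sum, Nat.cast_inj] at h
  rw [← h]
  exact Finset.single_le_sum (f := fun ψ => Cfsg.charDegree ψ * Cfsg.charDegree ψ)
    (fun i _ => Nat.zero_le _) (mem_irrFinset.2 hχ)

/-- If `|G| = p χ(1)` with `p` prime, then `G` has a normal self-centralising subgroup of
order `p`, and `p` does not divide `χ(1)`. -/
theorem exists_selfcentralizing [Finite G] {χ : G → ℂ} (hχ : Cfsg.IsIrrCharacter G χ) {p : ℕ}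
    (hp : p.Prime) (hcod : Nat.card G = p * Cfsg.charDegree χ) :
    ∃ P : Subgroup G, P.Normal ∧ Nat.card P = p ∧ P.index = Cfsg.charDegree χ ∧
      Nat.Coprime p P.index ∧ ∀ g : G, (∀ x ∈ P, g * x = x * g) → g ∈ P := by
  classical
  haveI := Fintype.ofFinite G
  haveI := Fact.mk hp
  obtain ⟨hd1, hd0⟩ := BlocksB.charDegree_spec hχ
  obtain ⟨d, hd⟩ : ∃ d, d = Cfsg.charDegree χ := ⟨_, rfl⟩
  rw [← hd] at hcod hd1 hd0 ⊢
  have hle : d * d ≤ p * d := hcod ▸ hd ▸ degree_sq_le hχ
  have hdp : d < p := by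
    refine lt_of_le_of_ne (Nat.le_of_mul_le_mul_right hle hd0) fun he => ?_
    subst he
    haveI := Fintype.ofFinite G
    have hcomm : ∀ a b : G, a * b = b * a :=
      IsPGroup.commutative_of_card_eq_prime_sq (p := d) (by rw [hcod, pow_two])
    have := IsIrrCharacter.apply_one_eq_one hχ hcomm
    rw [hd1, Nat.cast_eq_one] at this
    exact hp.one_lt.ne' this
  have hcop : Nat.Coprime p d :=
    hp.coprime_iff_not_dvd.2 fun h => absurd (Nat.le_of_dvd hd0 h) (by omega)
  obtain ⟨S⟩ : Nonempty (Sylow p G) := inferInstance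
  have hcardS : Nat.card (S : Subgroup G) = p := by
    obtain ⟨a, ha⟩ := IsPGroup.iff_card.1 S.2
    have hpS : p ∣ Nat.card (S : Subgroup G) := S.dvd_card_of_dvd_card (hcod ▸ dvd_mul_right p d)
    have hSG : Nat.card (S : Subgroup G) ∣ p * d := hcod ▸ Subgroup.card_subgroup_dvd_card _
    have : Nat.card (S : Subgroup G) ∣ p := by
      refine (Nat.Coprime.dvd_of_dvd_mul_right ?_ hSG)
      rw [ha]; exact Nat.Coprime.pow_left _ hcop
    exact Nat.dvd_antisymm this hpS
  have hindex : (S : Subgroup G).index = d := by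
    have h := (S : Subgroup G).card_mul_index
    rw [hcardS, hcod] at h
    exact Nat.eq_of_mul_eq_mul_left hp.pos h
  have hn : Nat.card (Sylow p G) = 1 := by
    have h1 : Nat.card (Sylow p G) % p = 1 % p := card_sylow_modEq_one p G
    have h2 : Nat.card (Sylow p G) ≤ d := Nat.le_of_dvd hd0 (hindex ▸ S.card_dvd_index)
    rw [Nat.mod_eq_of_lt (lt_of_le_of_lt h2 hdp), Nat.mod_eq_of_lt hp.one_lt] at h1
    exact h1
  haveI : Subsingleton (Sylow p G) := (Nat.card_eq_one_iff_unique.1 hn).1
  haveI hN : (S : Subgroup G).Normal := S.normal_of_subsingleton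
  refine ⟨(S : Subgroup G), hN, hcardS, hindex, hindex ▸ hcop, ?_⟩
  haveI : Fintype (S : Subgroup G) := Fintype.ofFinite _
  obtain ⟨θ, hθ, hc⟩ := exists_constituent_restrict (N := (S : Subgroup G)) hχ
  have hcyc : IsCyclic (S : Subgroup G) := isCyclic_of_prime_card hcardS
  have hθ1 : θ 1 = 1 := IsIrrCharacter.apply_one_eq_one hθ fun a b => by
    letI := hcyc.commGroup
    exact mul_comm a b
  have hne : Cfsg.classInner (Cfsg.indFun (S : Subgroup G) θ) χ ≠ 0 := by
    rw [classInner_indFun θ (IsIrrCharacter.isClassFunction hχ), ← classInner_conj]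
    simpa using hc
  have hind : Cfsg.indFun (S : Subgroup G) θ = χ :=
    IsCharacter.eq_of_constituent (IsCharacter.indFun (IsIrrCharacter.isCharacter hθ)) hχ hne
      (by rw [indFun_one, hindex, hθ1, mul_one, hd1])
  have hnorm := IsIrrCharacter.classInner_self hχ
  conv_lhs at hnorm => arg 1; rw [← hind]
  rw [classInner_indFun θ (IsIrrCharacter.isClassFunction hχ), ← hind, indFun_restrict,
    classInner_smul_right, classInner_sum_right, Finset.sum_eq_single θ,
    IsIrrCharacter.classInner_self hθ, mul_one] at hnorm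
  rotate_left
  · intro ψ hψ hne'
    obtain ⟨g, rfl⟩ := mem_conjOrbit.1 hψ
    exact IsIrrCharacter.classInner_of_ne hθ (isIrrCharacter_conjOn hθ g) (Ne.symm hne')
  · exact fun h => absurd (self_mem_conjOrbit θ) h
  have hI : Nat.card (inertia θ) = Nat.card (S : Subgroup G) := by
    have h0 : (Nat.card (S : Subgroup G) : ℂ) ≠ 0 := by exact_mod_cast Nat.card_pos.ne'
    rw [map_div₀, Complex.conj_natCast, Complex.conj_natCast, div_eq_one_iff_eq h0] at hnorm
    exact_mod_cast hnorm
  intro g hg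
  have hmem : g ∈ inertia θ := (mem_inertia_iff θ g).2 fun x => by
    congr 1
    ext
    simp [hg x x.2]
  rwa [← Subgroup.eq_of_le_of_card_ge (le_inertia (IsIrrCharacter.isClassFunction hθ))
    hI.le] at hmem

end CfsgLib.Char.PrimeCodegree
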