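import Cfsg.Agent.Char.Generalized
import Cfsg.Agent.Char.AlgInt
import Cfsg.Agent.Char.Central
import Cfsg.Agent.PermSimple.Criteria

/-!
# Lower bounds for the norm of a generalized character from elements of prime order
-/

namespace CfsgLib.PrimeNorm

open Cfsg Finset CfsgLib.Char
open scoped ComplexConjugate

set_option linter.unusedSectionVars false
set_option linter.style.haveILetI false

universe u

variable {G : Type u} [Group G]

/-- Each power outside the identity is conjugate to the element or to its inverse. -/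
def PowClosed (u : G) : Prop := ∀ k : ℕ, ¬ orderOf u ∣ k → IsConj u (u ^ k) ∨ IsConj u⁻¹ (u ^ k)

theorem conj_pow_pow {u y : G} {a : ℕ} (h : y * u * y⁻¹ = u ^ a) :
    ∀ i : ℕ, y ^ i * u * (y ^ i)⁻¹ = u ^ (a ^ i)
  | 0 => by simp
  | i + 1 => by
    calc y ^ (i + 1) * u * (y ^ (i + 1))⁻¹ = y * (y ^ i * u * (y ^ i)⁻¹) * y⁻¹ := by
          rw [pow_succ']; group
      _ = y * u ^ (a ^ i) * y⁻¹ := by rw [conj_pow_pow h i]
      _ = (y * u * y⁻¹) ^ (a ^ i) := by rw [conj_pow]
      _ = u ^ (a ^ (i + 1)) := by rw [h, ← pow_mul, pow_succ']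

/-- A normalizing element whose exponent generates up to sign. -/
theorem powClosed_of_conj {u y : G} {p a : ℕ} (hp : 0 < p) (ho : orderOf u = p) (h : y * u * y⁻¹ = u ^ a)
    (hgen : ∀ k < p, 0 < k → ∃ i < p, a ^ i % p = k ∨ a ^ i % p = p - k) : PowClosed u := by
  intro k hk
  rw [ho] at hk
  have hk0 : 0 < k % p := Nat.pos_of_ne_zero fun e => hk (Nat.dvd_of_mod_eq_zero e)
  have hkm : u ^ k = u ^ (k % p) := by rw [← ho, pow_mod_orderOf]
  obtain ⟨i, -, hi⟩ := hgen (k % p) (Nat.mod_lt _ hp) hk0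
  have hy := conj_pow_pow h i
  have hred : u ^ (a ^ i) = u ^ (a ^ i % p) := by rw [← ho, pow_mod_orderOf]
  rw [hred] at hy
  rcases hi with hi | hi
  · exact Or.inl (isConj_iff.2 ⟨y ^ i, by rw [hy, hi, hkm]⟩)
  · refine Or.inr (isConj_iff.2 ⟨y ^ i, ?_⟩)
    rw [← conj_inv, hy, hi, hkm, inv_eq_iff_mul_eq_one, ← pow_add,
      Nat.sub_add_cancel (Nat.mod_lt _ hp).le, ← ho, pow_orderOf_eq_one]

variable [Finite G]

theorem norm_sq_conj_eq {φ : G → ℂ} (hφ : IsClassFunction G φ) {g h : G} (hc : IsConj g h) :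
    ‖φ g‖ ^ 2 = ‖φ h‖ ^ 2 := by
  obtain ⟨c, rfl⟩ := isConj_iff.1 hc
  rw [hφ g c]

theorem norm_sq_pow {φ : G → ℂ} (hφ : IsGeneralizedCharacter G φ) {u : G} (hu : PowClosed u)
    {k : ℕ} (hk : ¬ orderOf u ∣ k) : ‖φ (u ^ k)‖ ^ 2 = ‖φ u‖ ^ 2 := by
  rcases hu k hk with h | h
  · exact (norm_sq_conj_eq (IsGeneralized.isClassFunction hφ) h).symm
  · rw [← norm_sq_conj_eq (IsGeneralized.isClassFunction hφ) h, IsGeneralized.apply_inv hφ,
      Complex.norm_conj]

/-- The squared absolute value at such an element is an integer congruent to the square of the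
degree. -/
theorem exists_norm_sq {φ : G → ℂ} (hφ : IsGeneralizedCharacter G φ) {d : ℤ} (hd : φ 1 = d)
    {p : ℕ} (hp : p.Prime) {u : G} (ho : orderOf u = p) (hu : PowClosed u)
    {q : ℕ} (hq : 0 < q) (hint : IsIntegral ℤ (φ u / q)) :
    ∃ N : ℕ, ‖φ u‖ ^ 2 = ((q ^ 2 * N : ℕ) : ℝ) ∧ (p : ℤ) ∣ ((q ^ 2 * N : ℕ) : ℤ) - d ^ 2 := by
  classical
  letI := Fintype.ofFinite G
  obtain ⟨m, hm⟩ := IsGeneralized.exists_classInner_eq_int
    (IsGeneralized.restrict hφ (Subgroup.zpowers u)) (IsGeneralized.restrict hφ (Subgroup.zpowers u))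
  rw [CfsgLib.Char.classInner_self] at hm
  have hcardZ : Nat.card (Subgroup.zpowers u) = p := by rw [Nat.card_zpowers, ho]
  set r := ‖φ u‖ ^ 2 with hr
  have hsum : ∑ g : Subgroup.zpowers u, ‖φ g‖ ^ 2 = (d : ℝ) ^ 2 + ((p : ℝ) - 1) * r := by
    rw [← Finset.add_sum_erase _ _ (Finset.mem_univ (1 : Subgroup.zpowers u)), OneMemClass.coe_one, hd,
      Complex.norm_intCast, sq_abs]
    congr 1
    have hc : ∀ g ∈ (Finset.univ : Finset (Subgroup.zpowers u)).erase 1, ‖φ g‖ ^ 2 = r := by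
      rintro ⟨g, hg⟩ hne
      obtain ⟨k, rfl⟩ := mem_powers_iff_mem_zpowers.2 hg
      refine norm_sq_pow hφ hu fun hdvd => (Finset.mem_erase.1 hne).1 (Subtype.ext ?_)
      exact orderOf_dvd_iff_pow_eq_one.1 hdvd
    rw [Finset.sum_congr rfl hc, Finset.sum_const, Finset.card_erase_of_mem (Finset.mem_univ _),
      Finset.card_univ, ← Nat.card_eq_fintype_card, hcardZ, nsmul_eq_mul, Nat.cast_sub hp.one_lt.le,
      Nat.cast_one]
  have hm' : (d : ℝ) ^ 2 + ((p : ℝ) - 1) * r = p * m := by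
    have h1 : ((Nat.card (Subgroup.zpowers u) : ℝ)⁻¹ * ∑ g : Subgroup.zpowers u, ‖φ g‖ ^ 2) = (m : ℝ) := by
      exact_mod_cast hm
    rw [hcardZ, hsum] at h1
    rw [← h1, mul_inv_cancel_left₀ (by exact_mod_cast hp.ne_zero)]
  have hint2 : IsIntegral ℤ (φ u / q * conj (φ u / q)) :=
    hint.mul (hint.map ((starRingEnd ℂ).toIntAlgHom))
  have hval : φ u / q * conj (φ u / q) = ((r / (q : ℝ) ^ 2 : ℝ) : ℂ) := by
    rw [Complex.mul_conj', norm_div, Complex.norm_natCast, ← Complex.ofReal_pow, div_pow, hr]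
  have hp1 : (p : ℝ) - 1 ≠ 0 := by
    have : (2 : ℝ) ≤ p := by exact_mod_cast hp.two_le
    linarith
  have hrq : r / (q : ℝ) ^ 2 = ((((p : ℚ) * m - (d : ℚ) ^ 2) / ((p - 1) * (q : ℚ) ^ 2) : ℚ) : ℝ) := by
    push_cast
    rw [← hm']
    field_simp
    ring
  obtain ⟨N, hN, -⟩ := exists_int_of_isIntegral_rat _ (hval ▸ hint2) (by rw [hrq, Complex.ofReal_ratCast])
  have hN' : r / (q : ℝ) ^ 2 = (N : ℝ) := by exact_mod_cast hN
  have hN0 : 0 ≤ N := by
    have : (0 : ℝ) ≤ (N : ℝ) := hN' ▸ div_nonneg (sq_nonneg _) (sq_nonneg _)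
    exact_mod_cast this
  lift N to ℕ using hN0
  rw [div_eq_iff (by positivity)] at hN'
  refine ⟨N, by rw [hN']; push_cast; ring, ⟨((q ^ 2 * N : ℕ) : ℤ) - m, ?_⟩⟩
  have : ((((q ^ 2 * N : ℕ) : ℤ) - d ^ 2 : ℤ) : ℝ) = (((p : ℤ) * (((q ^ 2 * N : ℕ) : ℤ) - m) : ℤ) : ℝ) := by
    push_cast
    rw [hN'] at hm'
    push_cast at hm'
    linear_combination (-1 : ℝ) * hm'
  exact_mod_cast this

/-- Sum of squared absolute values, for an irreducible character plus a constant. -/
theorem sum_norm_sq_add_const [Fintype G] {χ : G → ℂ} (hχ : IsIrrCharacter G χ) (hne : χ ≠ fun _ => 1)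
    (c : ℤ) : ∑ g : G, ‖χ g + c‖ ^ 2 = (Nat.card G : ℝ) * (1 + (c : ℝ) ^ 2) := by
  have h1 := CfsgLib.Char.classInner_self (fun g => χ g + (c : ℂ))
  have h2 : classInner (fun g => χ g + (c : ℂ)) (fun g => χ g + (c : ℂ)) = ((1 + (c : ℝ) ^ 2 : ℝ) : ℂ) := by
    have e : (fun g => χ g + (c : ℂ)) = χ + (c : ℂ) • (fun _ : G => (1 : ℂ)) := by
      funext g; simp
    rw [e, classInner_add_left, classInner_add_right, classInner_add_right, classInner_smul_left,
      classInner_smul_left, classInner_smul_right, classInner_smul_right,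
      IsIrrCharacter.classInner_self hχ, classInner_one_one,
      IsIrrCharacter.classInner_of_ne hχ CfsgLib.Char.isIrrCharacter_one hne,
      IsIrrCharacter.classInner_of_ne CfsgLib.Char.isIrrCharacter_one hχ (Ne.symm hne),
      map_intCast]
    push_cast
    ring
  rw [h1, Complex.ofReal_inj] at h2
  rw [← h2, mul_inv_cancel_left₀ (by exact_mod_cast Nat.card_pos.ne')]

/-- The degree and elements of given orders bound the norm from below. -/
theorem sum_bound [Fintype G] (f : G → ℝ) (hf : ∀ g, 0 ≤ f g) (P : Finset ℕ) (h1 : 1 ∉ P)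
    (n : ℕ → ℕ) (r : ℕ → ℝ) (hr : ∀ p ∈ P, 0 ≤ r p)
    (hn : ∀ p ∈ P, n p ≤ Nat.card {g : G // orderOf g = p})
    (h : ∀ p ∈ P, ∀ g, orderOf g = p → r p ≤ f g) :
    f 1 + ∑ p ∈ P, (n p : ℝ) * r p ≤ ∑ g : G, f g := by
  classical
  calc f 1 + ∑ p ∈ P, (n p : ℝ) * r p
      ≤ f 1 + ∑ p ∈ P, ∑ g ∈ Finset.univ.filter (fun g : G => orderOf g = p), f g := by
        gcongr with p hp
        calc (n p : ℝ) * r p ≤ (Nat.card {g : G // orderOf g = p} : ℝ) * r p :=
              mul_le_mul_of_nonneg_right (by exact_mod_cast hn p hp) (hr p hp)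
          _ = ((Finset.univ.filter (fun g : G => orderOf g = p)).card : ℝ) * r p := by
              rw [Nat.card_eq_fintype_card, Fintype.card_subtype]
          _ ≤ ∑ g ∈ Finset.univ.filter (fun g : G => orderOf g = p), f g := by
              rw [← nsmul_eq_mul]
              exact Finset.card_nsmul_le_sum _ _ _ fun g hg => h p hp g (Finset.mem_filter.1 hg).2
    _ ≤ ∑ g : G, f g := by
        rw [← Finset.sum_biUnion (fun p _ q _ hpq => Finset.disjoint_filter.2 fun g _ e e' => hpq (e.symm.trans e'))]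
        rw [← Finset.sum_insert (s := P.biUnion _) (a := (1 : G)) (by
          simp only [Finset.mem_biUnion, Finset.mem_filter, orderOf_one, not_exists, not_and]
          rintro p hp - rfl
          exact h1 hp)]
        exact Finset.sum_le_univ_sum_of_nonneg hf

/-- Divisibility of a value by a part of the centralizer order prime to the codegree. -/
theorem isIntegral_div_of_dvd {χ : G → ℂ} (hχ : IsIrrCharacter G χ) {d t q : ℕ} (hd : χ 1 = d)
    (hdt : d * t = Nat.card G) (u : G) (hq : q ∣ Nat.card (Subgroup.centralizer ({u} : Set G)))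
    (hco : Nat.Coprime t q) : IsIntegral ℤ (χ u / q) := by
  have h1 := IsIrrCharacter.isIntegral_class_mul_div hχ u
  obtain ⟨e, he⟩ := hq
  have hci := Subgroup.index_mul_card (Subgroup.centralizer ({u} : Set G))
  have hd0 : (d : ℂ) ≠ 0 := hd ▸ IsIrrCharacter.apply_one_ne_zero hχ
  have hq0 : (q : ℂ) ≠ 0 := by
    rintro h
    rw [Nat.cast_eq_zero] at h
    rw [h, zero_mul] at he
    exact Nat.card_pos.ne' he
  have he0 : (e : ℂ) ≠ 0 := by
    rintro h
    rw [Nat.cast_eq_zero] at h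
    rw [h, mul_zero] at he
    exact Nat.card_pos.ne' he
  have h2 : IsIntegral ℤ (χ u * t / q) := by
    have : χ u * t / q = (((Subgroup.centralizer ({u} : Set G)).index : ℂ) * χ u / χ 1) * e := by
      have hc : ((Subgroup.centralizer ({u} : Set G)).index : ℂ) * ((q : ℂ) * e) = (d : ℂ) * t := by
        rw [he, ← hdt] at hci
        exact_mod_cast hci
      rw [hd]
      field_simp
      linear_combination (-(χ u)) * hc
    rw [this]
    exact h1.mul (isIntegral_algebraMap (x := (e : ℤ)) |> fun h => by simpa using h)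
  obtain ⟨a, b, hab⟩ : IsCoprime (t : ℤ) (q : ℤ) := Int.isCoprime_iff_nat_coprime.2 (by simpa using hco)
  have h3 : χ u / q = (a : ℂ) * (χ u * t / q) + (b : ℂ) * χ u := by
    have : (a : ℂ) * t + (b : ℂ) * q = 1 := by exact_mod_cast hab
    field_simp
    linear_combination (-(χ u)) * this
  rw [h3]
  exact ((show IsIntegral ℤ (a : ℂ) from isIntegral_algebraMap).mul h2).add
    ((show IsIntegral ℤ (b : ℂ) from isIntegral_algebraMap).mul (IsCharacter.isIntegral (IsIrrCharacter.isCharacter hχ) u))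

/-- With a Sylow subgroup of prime order, elements of that order are conjugate to powers. -/
theorem exists_isConj_pow {p : ℕ} [Fact p.Prime] (hG : ¬ p ^ 2 ∣ Nat.card G) {u g : G}
    (hu : orderOf u = p) (hg : orderOf g = p) : ∃ k, ¬ p ∣ k ∧ IsConj (u ^ k) g := by
  have key : ∀ v : G, orderOf v = p → ∀ P : Sylow p G, v ∈ (P : Subgroup G) → (P : Subgroup G) = Subgroup.zpowers v := by
    intro v hv P hvP
    refine (Subgroup.eq_of_le_of_card_ge (Subgroup.zpowers_le.2 hvP) ?_).symm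
    rw [Nat.card_zpowers, hv, P.card_eq_multiplicity]
    have : (Nat.card G).factorization p ≤ 1 := by
      by_contra hlt
      exact hG ((Fact.out : p.Prime).pow_dvd_iff_le_factorization Nat.card_pos.ne' |>.2 (by omega))
    calc p ^ (Nat.card G).factorization p ≤ p ^ 1 := Nat.pow_le_pow_right (Fact.out : p.Prime).pos this
      _ = p := pow_one p
  have hz : ∀ v : G, orderOf v = p → ∃ P : Sylow p G, v ∈ (P : Subgroup G) := by
    intro v hv
    obtain ⟨P, hP⟩ := (IsPGroup.of_card (G := Subgroup.zpowers v) (n := 1)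
      (by rw [Nat.card_zpowers, hv, pow_one])).exists_le_sylow
    exact ⟨P, hP (Subgroup.mem_zpowers v)⟩
  obtain ⟨P, hP⟩ := hz u hu
  obtain ⟨Q, hQ⟩ := hz g hg
  obtain ⟨c, hc⟩ := MulAction.exists_smul_eq G Q P
  have : c * g * c⁻¹ ∈ (P : Subgroup G) := by
    rw [← hc]
    exact ⟨g, hQ, rfl⟩
  rw [key u hu P hP] at this
  obtain ⟨k, hk⟩ := mem_powers_iff_mem_zpowers.2 this
  refine ⟨k, fun hdvd => ?_, isConj_iff.2 ⟨c⁻¹, by rw [show u ^ k = c * g * c⁻¹ from hk]; group⟩⟩
  have h1 : c * g * c⁻¹ = 1 := by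
    rw [← hk]; exact orderOf_dvd_iff_pow_eq_one.1 (hu ▸ hdvd)
  rw [conj_eq_one_iff] at h1
  rw [h1, orderOf_one] at hg
  exact (Fact.out : p.Prime).one_lt.ne hg

/-- Lower bound for the number of elements of prime order. -/
theorem count_prime {p m : ℕ} [Fact p.Prime] (hcard : Nat.card G = p * m) (hpm : ¬ p ∣ m)
    {u : G} (hu : orderOf u = p) (A : List ℕ)
    (hA : ∃ a ∈ A, Nat.card (Subgroup.centralizer ({u} : Set G)) = p * a) (K : ℕ)
    (hK : ∀ a ∈ A, ∀ k < (p - 1) * a + 1, k ∣ (p - 1) * a → k ∣ m → (m / k) % p = 1 → k ≤ K) :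
    (p - 1) * (m / K) ≤ Nat.card {g : G // orderOf g = p} := by
  classical
  have hp : p.Prime := Fact.out
  haveI := Fintype.ofFinite G
  have hm0 : m ≠ 0 := fun h => hpm (h ▸ dvd_zero p)
  have hP1 : ∀ P : Sylow p G, Nat.card (P : Subgroup G) = p := by
    intro P
    rw [P.card_eq_multiplicity, hcard, Nat.factorization_mul hp.ne_zero hm0,
      Finsupp.add_apply, hp.factorization_self, Nat.factorization_eq_zero_of_not_dvd hpm, add_zero, pow_one]
  obtain ⟨P, hP⟩ := (IsPGroup.of_card (G := Subgroup.zpowers u) (n := 1)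
      (by rw [Nat.card_zpowers, hu, pow_one])).exists_le_sylow (p := p)
  have hPu : Subgroup.zpowers u = (P : Subgroup G) :=
    Subgroup.eq_of_le_of_card_ge hP (by rw [hP1 P, Nat.card_zpowers, hu])
  have hC : Subgroup.centralizer ((P : Subgroup G) : Set G) = Subgroup.centralizer ({u} : Set G) := by
    rw [← hPu, Subgroup.zpowers_eq_closure, Subgroup.centralizer_closure]
  obtain ⟨a, haA, ha⟩ := hA
  have hN := PermSimple.normalizer_card_dvd (P : Subgroup G) (hP1 P)
  rw [hC, ha] at hN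
  obtain ⟨k, hk⟩ : p ∣ Nat.card (Subgroup.normalizer ((P : Subgroup G) : Set G)) := by
    have := Subgroup.card_dvd_of_le (Subgroup.le_normalizer (H := (P : Subgroup G)))
    rwa [hP1 P] at this
  have hk1 : k ∣ (p - 1) * a := by
    rw [hk, mul_assoc] at hN
    rw [mul_comm (p - 1) a]
    exact (Nat.mul_dvd_mul_iff_left hp.pos).1 hN
  have hidx := Subgroup.card_mul_index (Subgroup.normalizer ((P : Subgroup G) : Set G))
  rw [hk, hcard, mul_assoc, show (Subgroup.normalizer ((P : Subgroup G) : Set G)).index = Nat.card (Sylow p G) from P.card_eq_index_normalizer.symm] at hidx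
  have hkm : k * Nat.card (Sylow p G) = m := Nat.eq_of_mul_eq_mul_left hp.pos hidx
  have hk0 : 0 < k := Nat.pos_of_ne_zero fun h => hm0 (by rw [← hkm, h, zero_mul])
  have hmod : (m / k) % p = 1 := by
    rw [← hkm, Nat.mul_div_cancel_left _ hk0]
    have := card_sylow_modEq_one p G
    rwa [Nat.ModEq, Nat.one_mod_eq_one.2 hp.one_lt.ne'] at this
  have ha0 : 0 < a := Nat.pos_of_ne_zero fun h => Nat.card_pos.ne' (by rw [ha, h, mul_zero])
  have hkK := hK a haA k (Nat.lt_succ_of_le (Nat.le_of_dvd (Nat.mul_pos (Nat.sub_pos_of_lt hp.one_lt) ha0) hk1))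
    hk1 ⟨_, hkm.symm⟩ hmod
  calc (p - 1) * (m / K) ≤ (p - 1) * Nat.card (Sylow p G) := by
        refine Nat.mul_le_mul_left _ ((Nat.div_le_div_left hkK hk0).trans ?_)
        rw [← hkm, Nat.mul_div_cancel_left _ hk0]
    _ ≤ Nat.card {g : G // orderOf g = p} := by
        have hinj : Function.Injective (fun x : (Σ Q : Sylow p G, {v : (Q : Subgroup G) // v ≠ 1}) =>
            (⟨(x.2.1 : G), by
              have hd : orderOf (x.2.1 : G) ∣ p := (Subgroup.orderOf_dvd_natCard _ x.2.1.2).trans (dvd_of_eq (hP1 x.1))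
              exact ((Nat.dvd_prime hp).1 hd).resolve_left
                fun h => x.2.2 (Subtype.ext (orderOf_eq_one_iff.1 h))⟩ : {g : G // orderOf g = p})) := by
          rintro ⟨Q, v, hv⟩ ⟨R, w, hw⟩ h
          have h' : (v : G) = (w : G) := congrArg Subtype.val h
          have hv' : ∀ S : Sylow p G, (v : G) ∈ (S : Subgroup G) → (S : Subgroup G) = Subgroup.zpowers (v : G) := by
            intro S hS
            refine (Subgroup.eq_of_le_of_card_ge (Subgroup.zpowers_le.2 hS) ?_).symm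
            rw [hP1, Nat.card_zpowers]
            refine Nat.le_of_dvd (orderOf_pos _) ?_
            rcases (Nat.dvd_prime hp).1 (hP1 S ▸ Subgroup.orderOf_dvd_natCard (S : Subgroup G) hS) with h | h
            · exact absurd (Subtype.ext (orderOf_eq_one_iff.1 h)) hv
            · rw [h]
          have hQR : Q = R := Sylow.ext ((hv' Q v.2).trans (hv' R (h' ▸ w.2)).symm)
          subst hQR
          have : v = w := Subtype.ext h'
          subst this
          rfl
        refine le_trans (le_of_eq ?_) (Nat.card_le_card_of_injective _ hinj)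
        rw [Nat.card_eq_fintype_card (α := Σ Q : Sylow p G, {v : (Q : Subgroup G) // v ≠ 1}), Fintype.card_sigma]
        rw [Finset.sum_congr rfl (g := fun _ => p - 1) fun Q _ => by
          rw [Fintype.card_subtype_compl, Fintype.card_subtype_eq, ← Nat.card_eq_fintype_card, hP1],
          Finset.sum_const, smul_eq_mul, Finset.card_univ, ← Nat.card_eq_fintype_card, mul_comm]

end CfsgLib.PrimeNorm
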