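import Cfsg.Agent.Char.QuaternionSylow
import Cfsg.Agent.Char.NormTwo
import Cfsg.Agent.Char.Induction

/-!
# Exceptional characters for a generalized quaternion Sylow subgroup
-/

set_option autoImplicit false
set_option linter.style.haveILetI false
set_option linter.unusedSectionVars false

namespace CfsgLib.Char

open scoped ComplexConjugate

universe u

variable {G : Type u} [Group G] [Fintype G]

/-- A generalized character of norm two with value `-1` at `1` is a difference of two irreducibles. -/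
theorem exists_sub_of_neg_one {τ : G → ℂ} (hτ : Cfsg.IsGeneralizedCharacter G τ)
    (h2 : Cfsg.classInner τ τ = 2) (h1 : τ 1 = -1) :
    ∃ μ ν : G → ℂ, Cfsg.IsIrrCharacter G μ ∧ Cfsg.IsIrrCharacter G ν ∧ μ ≠ ν ∧ τ = μ - ν := by
  classical
  have hτcl := IsGeneralized.isClassFunction hτ
  have hm : ∀ μ ∈ irrFinset G, ∃ n : ℤ, Cfsg.classInner τ μ = n := fun μ hμ =>
    IsGeneralized.exists_classInner_eq_int hτ
      (IsIrrCharacter.isGeneralized (mem_irrFinset.1 hμ))
  choose! n hn using hm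
  have hsum : ∑ μ ∈ irrFinset G, n μ * n μ = 2 := by
    have h3 := classInner_eq_sum_irr hτcl τ
    rw [h2] at h3
    have h4 : ((2 : ℤ) : ℂ) = ((∑ μ ∈ irrFinset G, n μ * n μ : ℤ) : ℂ) := by
      push_cast
      rw [h3]
      exact Finset.sum_congr rfl fun μ hμ => by rw [hn μ hμ]; simp
    exact_mod_cast h4.symm
  have hle1 : ∀ μ ∈ irrFinset G, n μ * n μ ≤ 1 := fun μ hμ => by
    have h := Finset.single_le_sum (fun ν _ => mul_self_nonneg (n ν)) hμ
    rw [hsum] at h
    have h' : n μ ≤ 1 ∧ -1 ≤ n μ := by constructor <;> nlinarith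
    obtain ⟨ha, hb⟩ := h'
    interval_cases h'' : n μ <;> norm_num
  set s := (irrFinset G).filter fun μ => n μ ≠ 0 with hs
  have hcard : s.card = 2 := by
    have h : (s.card : ℤ) = ∑ μ ∈ irrFinset G, n μ * n μ := by
      rw [Finset.card_filter, Nat.cast_sum]
      refine Finset.sum_congr rfl fun μ hμ => ?_
      split_ifs with h0
      · have := mul_self_pos.2 h0
        have := hle1 μ hμ
        push_cast; omega
      · push Not at h0; simp [h0]
    rw [hsum] at h
    exact_mod_cast h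
  obtain ⟨μ, ν, hne, hs2⟩ := Finset.card_eq_two.1 hcard
  have hμ : μ ∈ s := hs2 ▸ Finset.mem_insert_self μ _
  have hν : ν ∈ s := hs2 ▸ Finset.mem_insert_of_mem (Finset.mem_singleton_self ν)
  rw [hs, Finset.mem_filter] at hμ hν
  have hexp : τ = (n μ : ℂ) • μ + (n ν : ℂ) • ν := by
    conv_lhs => rw [eq_sum_irr hτcl]
    rw [Finset.sum_eq_add μ ν hne (fun x hx hxn => ?_) (fun h => absurd hμ.1 h)
      (fun h => absurd hν.1 h), hn μ hμ.1, hn ν hν.1]
    have : n x = 0 := by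
      by_contra h
      have hxs : x ∈ s := Finset.mem_filter.2 ⟨hx, h⟩
      rw [hs2] at hxs
      simp [hxn.1, hxn.2] at hxs
    rw [hn x hx, this, Int.cast_zero, zero_smul]
  have hμi := mem_irrFinset.1 hμ.1
  have hνi := mem_irrFinset.1 hν.1
  obtain ⟨a, ha0, ha⟩ := IsIrrCharacter.exists_degree hμi
  obtain ⟨b, hb0, hb⟩ := IsIrrCharacter.exists_degree hνi
  have hdeg : n μ * a + n ν * b = -1 := by
    have h := congrFun hexp 1
    rw [h1] at h
    simp only [Pi.add_apply, Pi.smul_apply, smul_eq_mul, ha, hb] at h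
    exact_mod_cast h.symm
  have hμ1 : n μ = 1 ∨ n μ = -1 := by
    have h1' := hle1 μ hμ.1
    have h2' := mul_self_pos.2 hμ.2
    exact mul_self_eq_one_iff.1 (by omega)
  have hν1 : n ν = 1 ∨ n ν = -1 := by
    have h1' := hle1 ν hν.1
    have h2' := mul_self_pos.2 hν.2
    exact mul_self_eq_one_iff.1 (by omega)
  rcases hμ1 with h | h <;> rcases hν1 with h' | h' <;> rw [h, h'] at hdeg
  · omega
  · exact ⟨μ, ν, hμi, hνi, hne, by rw [hexp, h, h']; simp [sub_eq_add_neg]⟩
  · exact ⟨ν, μ, hνi, hμi, hne.symm, by rw [hexp, h, h']; simp [sub_eq_add_neg, add_comm]⟩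
  · omega

/-- The exceptional pair of a group with generalized quaternion Sylow 2-subgroups. -/
theorem quaternion_exceptional_pair (S : Sylow 2 G) (n : ℕ)
    (e : (S : Subgroup G) ≃* QuaternionGroup (2 ^ (n + 2))) :
    ∃ χ₁ χ₂ : G → ℂ, Cfsg.IsIrrCharacter G χ₁ ∧ Cfsg.IsIrrCharacter G χ₂ ∧ χ₁ ≠ (fun _ => 1) ∧
      χ₂ ≠ (fun _ => 1) ∧ χ₁ 1 = χ₂ 1 + 1 ∧ ∀ g : G, ¬ 4 ∣ orderOf g → χ₁ g - χ₂ g = 1 := by
  classical
  set D := ⁅(S : Subgroup G), (S : Subgroup G)⁆ with hD
  obtain ⟨K, hKodd, hKC, hKn, hKS, hKP, hidx, -⟩ := CfsgLib.QSylow.exists_complement S e hD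
  obtain ⟨hpow, hTI, hinv⟩ := CfsgLib.QSylow.ti_facts S e hD
  obtain ⟨-, hidxS⟩ := CfsgLib.QSylow.inf_centralizer_cyclic S e
  have hcardD : Nat.card D = 2 ^ (n + 2) := CfsgLib.QSylow.card_commutator S e
  have hDgen : D = Subgroup.zpowers ((e.symm (QuaternionGroup.a 2) : (S : Subgroup G)) : G) :=
    CfsgLib.QSylow.commutator_eq S e
  rw [← hD] at hidxS
  set C := Subgroup.centralizer (D : Set G) with hC
  set N := Subgroup.normalizer (D : Set G) with hN
  set a : G := ((e.symm (QuaternionGroup.a 1) : (S : Subgroup G)) : G) with ha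
  set s : G := ((e.symm (QuaternionGroup.xa 0) : (S : Subgroup G)) : G) with hs
  have hao : orderOf a = 2 ^ (n + 3) := by
    rw [ha, Subgroup.orderOf_coe, e.symm.orderOf_eq, QuaternionGroup.orderOf_a_one, pow_succ' 2 (n + 2)]
  have ha2 : a ^ 2 = ((e.symm (QuaternionGroup.a 2) : (S : Subgroup G)) : G) := by
    rw [ha, ← Subgroup.coe_pow, ← map_pow, QuaternionGroup.a_one_pow]; norm_num
  have haC : a ∈ C := by
    rw [hC, Subgroup.mem_centralizer_iff]
    intro y hy
    rw [SetLike.mem_coe, hDgen, ← ha2] at hy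
    obtain ⟨i, rfl⟩ := Subgroup.mem_zpowers_iff.1 hy
    exact (((Commute.refl a).pow_left 2).zpow_left i).eq
  have hsa : s⁻¹ * a * s = a⁻¹ := by
    have h1 : (QuaternionGroup.a 1 * QuaternionGroup.xa 0 : QuaternionGroup (2 ^ (n + 2))) =
        QuaternionGroup.xa 0 * QuaternionGroup.a (-1) := by
      rw [QuaternionGroup.a_mul_xa, QuaternionGroup.xa_mul_a, zero_sub, zero_add]
    have h2 := congrArg (fun q => ((e.symm q : (S : Subgroup G)) : G)) h1
    simp only [map_mul, Subgroup.coe_mul] at h2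
    rw [show (QuaternionGroup.a (-1) : QuaternionGroup (2 ^ (n + 2))) = (QuaternionGroup.a 1)⁻¹ from rfl,
      map_inv, Subgroup.coe_inv, ← ha, ← hs] at h2
    rw [mul_assoc, h2, inv_mul_cancel_left]
  have hSN : (S : Subgroup G) ≤ N := hKS ▸ le_sup_right
  have hCN : C ≤ N := Subgroup.centralizer_le_normalizer _
  have hsN : s ∈ N := hSN (e.symm (QuaternionGroup.xa 0)).2
  have hsC : s ∉ C := by
    intro h
    have h1 : s⁻¹ * a ^ 2 * s = a ^ 2 := by
      rw [mul_assoc, Subgroup.mem_centralizer_iff.1 h (a ^ 2) (by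
        rw [SetLike.mem_coe, hDgen, ← ha2]; exact Subgroup.mem_zpowers _), inv_mul_cancel_left]
    have h2 : s⁻¹ * a ^ 2 * s = (s⁻¹ * a * s) ^ 2 := by rw [pow_two, pow_two]; group
    rw [h2, hsa, inv_pow, inv_eq_iff_mul_eq_one, ← pow_add] at h1
    have h3 := Nat.le_of_dvd (by norm_num) (hao ▸ orderOf_dvd_of_pow_eq_one h1)
    have : 2 ^ 3 ≤ 2 ^ (n + 3) := Nat.pow_le_pow_right two_pos (by omega)
    omega
  have hCs : ∀ g ∈ N, g ∉ C → s⁻¹ * g ∈ C := fun g hg hgC => by
    have h := (Subgroup.mul_mem_iff_of_index_two hidx (a := (⟨s, hsN⟩ : N)⁻¹) (b := ⟨g, hg⟩)).2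
      (iff_of_false (fun h => hsC (Subgroup.mem_subgroupOf.1 ((Subgroup.inv_mem_iff _).1 h))) hgC)
    exact h
  -- the subgroup `P` is generated by `a`
  set P := (S : Subgroup G) ⊓ C with hP
  have haP : a ∈ P := ⟨(e.symm (QuaternionGroup.a 1)).2, haC⟩
  have hPa : P = Subgroup.zpowers a := by
    refine (Subgroup.eq_of_le_of_card_ge (Subgroup.zpowers_le.2 haP) ?_).symm
    rw [Nat.card_zpowers, hao]
    have h := Subgroup.card_mul_index (C.subgroupOf (S : Subgroup G))
    rw [hidxS, Nat.card_congr e.toEquiv, Nat.card_eq_fintype_card (α := QuaternionGroup _), QuaternionGroup.card,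
      ← Subgroup.inf_subgroupOf_right, Nat.card_congr (Subgroup.subgroupOfEquivOfLe inf_le_right).toEquiv,
      inf_comm, ← hP] at h
    rw [pow_succ' 2 (n + 2)]
    omega
  haveI : (K.subgroupOf C).Normal :=
    (Subgroup.normal_subgroupOf_iff_le_normalizer hKC).2 (hCN.trans hKn)
  let q := QuotientGroup.mk' (K.subgroupOf C)
  have hgen : ∀ y : C ⧸ K.subgroupOf C, y ∈ Subgroup.zpowers (q ⟨a, haC⟩) := by
    intro y
    obtain ⟨⟨x, hx⟩, rfl⟩ := QuotientGroup.mk'_surjective _ y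
    have hx' : x ∈ ((K ⊔ P : Subgroup G) : Set G) := by rw [hP, hKP]; exact hx
    have hPn : P ≤ Subgroup.normalizer (K : Set G) := inf_le_right.trans (hCN.trans hKn)
    rw [Subgroup.coe_mul_of_right_le_normalizer_left K P hPn] at hx'
    obtain ⟨k, hk, p, hp, rfl⟩ := Set.mem_mul.1 hx'
    rw [SetLike.mem_coe, hPa] at hp
    obtain ⟨i, rfl⟩ := Subgroup.mem_zpowers_iff.1 hp
    refine Subgroup.mem_zpowers_iff.2 ⟨i, ?_⟩
    rw [show (⟨k * a ^ i, hx⟩ : C) = ⟨k, hKC hk⟩ * ⟨a, haC⟩ ^ i from Subtype.ext (by simp),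
      map_mul, map_zpow, show q ⟨k, hKC hk⟩ = 1 from (QuotientGroup.eq_one_iff _).2 hk, one_mul]
  have hqo : orderOf (q ⟨a, haC⟩) = 2 ^ (n + 3) := by
    refine (orderOf_eq_prime_pow (fun h => ?_) ?_)
    · rw [← map_pow, QuotientGroup.mk'_apply, QuotientGroup.eq_one_iff, Subgroup.mem_subgroupOf,
        SubmonoidClass.coe_pow] at h
      have h2 : orderOf (a ^ 2 ^ (n + 2)) = 2 := by
        rw [orderOf_pow_of_dvd (by positivity) (hao ▸ pow_dvd_pow 2 (by omega)), hao,
          pow_succ 2 (n + 2), Nat.mul_div_cancel_left _ (by positivity)]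
      have h3 := Subgroup.orderOf_dvd_natCard K h
      rw [h2] at h3
      exact Nat.not_even_iff_odd.2 hKodd (even_iff_two_dvd.2 h3)
    · rw [← map_pow, show (⟨a, haC⟩ : C) ^ 2 ^ (n + 2 + 1) = 1 from
        Subtype.ext (by push_cast; rw [show n + 2 + 1 = n + 3 from rfl, ← hao, pow_orderOf_eq_one]), map_one]
  let I₄ : ℂˣ := ⟨Complex.I, -Complex.I, by simp, by simp⟩
  have hI4 : I₄ ^ 4 = 1 := Units.ext (by simp [I₄])
  have hIo : orderOf I₄ ∣ orderOf (q ⟨a, haC⟩) := by
    rw [hqo]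
    exact (orderOf_dvd_of_pow_eq_one hI4).trans (pow_dvd_pow 2 (show 2 ≤ n + 3 by omega))
  let μ : C →* ℂˣ := (monoidHomOfForallMemZpowers hgen hIo).comp q
  have hμa : μ ⟨a, haC⟩ = I₄ := monoidHomOfForallMemZpowers_apply_gen hgen hIo
  have hμ1 : ∀ x : C, ¬ Nat.card D ∣ orderOf (x : G) → μ x = 1 := by
    intro x hx
    obtain ⟨i, hi⟩ := Subgroup.mem_zpowers_iff.1 (hgen (q x))
    have hμx : μ x = I₄ ^ i := by
      change monoidHomOfForallMemZpowers hgen hIo (q x) = _
      rw [← hi, map_zpow]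
      exact congrArg (· ^ i) hμa
    have hdvd : orderOf (q ⟨a, haC⟩ ^ i) ∣ orderOf (x : G) := by
      rw [hi, Subgroup.orderOf_coe]; exact orderOf_map_dvd q x
    have h4 : (4 : ℤ) ∣ i := by
      by_contra h4
      refine hx ?_
      rw [hcardD]
      refine dvd_trans ?_ hdvd
      obtain ⟨m, hm, hm'⟩ := (Nat.dvd_prime_pow Nat.prime_two).1 (hqo ▸
        orderOf_dvd_of_mem_zpowers (Subgroup.mem_zpowers_iff.2 ⟨i, rfl⟩))
      rw [hm']
      refine pow_dvd_pow 2 ?_
      by_contra hlt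
      have h5 : (q ⟨a, haC⟩ ^ i) ^ (2 ^ (n + 1)) = 1 :=
        orderOf_dvd_iff_pow_eq_one.1 (hm' ▸ pow_dvd_pow 2 (by omega))
      rw [← zpow_natCast, ← zpow_mul, ← orderOf_dvd_iff_zpow_eq_one, hqo] at h5
      refine h4 ?_
      push_cast at h5
      rw [show (2 : ℤ) ^ (n + 3) = 4 * 2 ^ (n + 1) by ring] at h5
      exact Int.dvd_of_mul_dvd_mul_right (by positivity) h5
    obtain ⟨j, rfl⟩ := h4
    rw [hμx, zpow_mul, show I₄ ^ (4 : ℤ) = 1 by exact_mod_cast hI4, one_zpow]
  -- the function and its twist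
  let θ : C → ℂ := fun x => 1 - (μ x : ℂ)
  have hθg : Cfsg.IsGeneralizedCharacter C θ :=
    IsGeneralized.sub isGeneralized_one (IsIrrCharacter.isGeneralized (isIrrCharacter_ofHom μ))
  have hconjC : ∀ x : C, s⁻¹ * (x : G) * s ∈ C := fun x => by
    have hn : (C.subgroupOf N).Normal := Subgroup.normal_of_index_eq_two hidx
    have h := hn.conj_mem ⟨x, hCN x.2⟩ x.2 (⟨s, hsN⟩ : N)⁻¹
    simpa [Subgroup.mem_subgroupOf] using h
  let μ' : C →* ℂˣ := μ.comp
    (MonoidHom.mk' (fun x : C => (⟨s⁻¹ * (x : G) * s, hconjC x⟩ : C)) fun x y => Subtype.ext (by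
      simp [mul_assoc]))
  have hμne : μ ≠ μ' := by
    intro h
    have h1 := DFunLike.congr_fun h (⟨a, haC⟩ : C)
    rw [show μ' ⟨a, haC⟩ = μ ⟨s⁻¹ * a * s, hconjC ⟨a, haC⟩⟩ from rfl,
      show (⟨s⁻¹ * a * s, hconjC ⟨a, haC⟩⟩ : C) = ⟨a, haC⟩⁻¹ from Subtype.ext hsa, map_inv, hμa] at h1
    have h2 := congrArg Units.val h1
    simp [I₄, Complex.ext_iff] at h2
    norm_num at h2
  have hμI : ∀ ν : C →* ℂˣ, ν ⟨a, haC⟩ ≠ 1 → (fun x => (ν x : ℂ)) ≠ fun _ => (1 : ℂ) := fun ν h h' =>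
    h (Units.ext (congrFun h' _))
  have hne1 : (fun x => (μ x : ℂ)) ≠ fun _ => (1 : ℂ) := hμI μ (by
    rw [hμa]; intro h; have := congrArg Units.val h; simp [I₄, Complex.ext_iff] at this)
  have hne1' : (fun x => (μ' x : ℂ)) ≠ fun _ => (1 : ℂ) := hμI μ' (by
    rw [show μ' ⟨a, haC⟩ = μ ⟨s⁻¹ * a * s, hconjC ⟨a, haC⟩⟩ from rfl,
      show (⟨s⁻¹ * a * s, hconjC ⟨a, haC⟩⟩ : C) = ⟨a, haC⟩⁻¹ from Subtype.ext hsa, map_inv, hμa]
    intro h; have := congrArg Units.val h; simp [I₄, Complex.ext_iff] at this)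
  have hne2 : (fun x => (μ x : ℂ)) ≠ fun x => (μ' x : ℂ) := fun h =>
    hμne (MonoidHom.ext fun x => Units.ext (congrFun h x))
  -- the induced function
  set τ := Cfsg.indFun C θ with hτ
  have hsupp : ∀ x : C, θ x ≠ 0 → Nat.card D ∣ orderOf (x : G) := fun x hx => by
    by_contra h
    exact hx (by simp [θ, hμ1 x h])
  have hval : ∀ x : C, θ x ≠ 0 → τ x = θ x + (1 - (μ' x : ℂ)) := by
    intro x hx
    have key : ∀ g : G, Cfsg.extendByZero C θ (g⁻¹ * x * g) =
        (if g ∈ C then θ x else 0) + if g ∈ N ∧ g ∉ C then (1 - (μ' x : ℂ)) else 0 := by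
      intro g
      by_cases hgC : g ∈ C
      · rw [if_pos hgC, if_neg (fun h => h.2 hgC), add_zero,
          extendByZero_of_mem θ (C.mul_mem (C.mul_mem (C.inv_mem hgC) x.2) hgC)]
        simp only [θ]
        rw [show (⟨g⁻¹ * x * g, _⟩ : C) = ⟨g, hgC⟩⁻¹ * x * ⟨g, hgC⟩ from rfl, map_mul, map_mul, map_inv,
          mul_comm, ← mul_assoc, mul_inv_cancel, one_mul]
      by_cases hgN : g ∈ N
      · rw [if_neg hgC, if_pos ⟨hgN, hgC⟩, zero_add]
        have hc := hCs g hgN hgC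
        have he : g⁻¹ * x * g = (s⁻¹ * g)⁻¹ * (s⁻¹ * x * s) * (s⁻¹ * g) := by group
        rw [he, extendByZero_of_mem θ (C.mul_mem (C.mul_mem (C.inv_mem hc) (hconjC x)) hc)]
        simp only [θ]
        rw [show (⟨(s⁻¹ * g)⁻¹ * (s⁻¹ * x * s) * (s⁻¹ * g), _⟩ : C) =
            ⟨_, hc⟩⁻¹ * ⟨s⁻¹ * x * s, hconjC x⟩ * ⟨_, hc⟩ from rfl, map_mul, map_mul, map_inv,
          mul_comm, ← mul_assoc, mul_inv_cancel, one_mul]
        rfl
      · rw [if_neg hgC, if_neg (fun h => hgN h.1), add_zero]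
        refine extendByZero_of_not_mem θ fun hmem => hgN ?_
        exact (Subgroup.inv_mem_iff _).1 (hTI g⁻¹ x x.2 (hsupp x hx) (by rwa [inv_inv]))
    have hcount : (Finset.univ.filter fun g : G => g ∈ N ∧ g ∉ C).card = Nat.card C := by
      rw [← Nat.card_eq_finsetCard]
      exact Nat.card_congr
        ⟨fun g => ⟨s⁻¹ * g.1, hCs _ (Finset.mem_filter.1 g.2).2.1 (Finset.mem_filter.1 g.2).2.2⟩,
        fun c => ⟨s * c, Finset.mem_filter.2 ⟨Finset.mem_univ _, N.mul_mem hsN (hCN c.2),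
          fun h => hsC (by simpa using C.mul_mem h (C.inv_mem c.2))⟩⟩,
        fun g => Subtype.ext (mul_inv_cancel_left s g.1), fun c => Subtype.ext (inv_mul_cancel_left s c.1)⟩
    rw [hτ, indFun_def, Finset.sum_congr rfl fun g _ => key g, Finset.sum_add_distrib, ← Finset.sum_filter,
      ← Finset.sum_filter, Finset.sum_const, Finset.sum_const, hcount,
      show (Finset.univ.filter (· ∈ C)).card = Nat.card C by
        rw [Nat.card_eq_fintype_card, Fintype.card_subtype],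
      nsmul_eq_mul, nsmul_eq_mul, ← mul_add, ← mul_assoc,
      inv_mul_cancel₀ (by exact_mod_cast (Nat.card_pos (α := C)).ne'), one_mul]
  haveI : Fintype C := Fintype.ofFinite C
  have hτcl := isClassFunction_indFun C θ
  have hinner1 : Cfsg.classInner τ (fun _ => 1) = 1 := by
    rw [hτ, classInner_indFun θ (IsIrrCharacter.isClassFunction isIrrCharacter_one)]
    rw [show θ = (fun _ => (1 : ℂ)) - (fun x => (μ x : ℂ)) from rfl, classInner_sub_left,
      IsIrrCharacter.classInner_self isIrrCharacter_one,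
      IsIrrCharacter.classInner_of_ne (isIrrCharacter_ofHom μ) isIrrCharacter_one hne1, sub_zero]
  have hnorm : Cfsg.classInner τ τ = 3 := by
    conv_lhs => arg 1; rw [hτ]
    rw [classInner_indFun θ hτcl]
    have : Cfsg.classInner θ (fun x : C => τ x) =
        Cfsg.classInner θ (θ + ((fun _ => (1 : ℂ)) - fun x => (μ' x : ℂ))) := by
      rw [classInner_def, classInner_def]
      congr 1
      refine Finset.sum_congr rfl fun x _ => ?_
      by_cases hx : θ x = 0
      · rw [hx, zero_mul, zero_mul]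
      · rw [hval x hx]; rfl
    rw [this, show θ = (fun _ => (1 : ℂ)) - (fun x => (μ x : ℂ)) from rfl]
    have i1 := IsIrrCharacter.classInner_self (isIrrCharacter_one (G := C))
    have i2 := IsIrrCharacter.classInner_self (isIrrCharacter_ofHom μ)
    have i3 := IsIrrCharacter.classInner_of_ne (isIrrCharacter_ofHom μ) isIrrCharacter_one hne1
    have i4 := IsIrrCharacter.classInner_of_ne isIrrCharacter_one (isIrrCharacter_ofHom μ) (Ne.symm hne1)
    have i5 := IsIrrCharacter.classInner_of_ne isIrrCharacter_one (isIrrCharacter_ofHom μ') (Ne.symm hne1')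
    have i6 := IsIrrCharacter.classInner_of_ne (isIrrCharacter_ofHom μ) (isIrrCharacter_ofHom μ') hne2
    simp only [classInner_sub_left, classInner_sub_right, classInner_add_right, i1, i2, i3, i4, i5, i6]
    norm_num
  have hτ0 : ∀ g : G, ¬ 4 ∣ orderOf g → τ g = 0 := by
    intro g hg
    rw [hτ, indFun_def, Finset.sum_eq_zero (fun y _ => ?_), mul_zero]
    by_cases hm : y⁻¹ * g * y ∈ C
    · rw [extendByZero_of_mem θ hm]
      by_contra h
      refine hg (dvd_trans ?_ ((hsupp _ h).trans ?_))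
      · rw [hcardD]; exact pow_dvd_pow 2 (show 2 ≤ n + 2 by omega)
      · rw [show orderOf (y⁻¹ * g * y) = orderOf g by
          simpa using (MulAut.conj y⁻¹).orderOf_eq g]
    · exact extendByZero_of_not_mem θ hm
  set σ := τ - fun _ => (1 : ℂ) with hσ
  have hσg : Cfsg.IsGeneralizedCharacter G σ :=
    IsGeneralized.sub (IsGeneralized.indFun hθg) isGeneralized_one
  have h11 := IsIrrCharacter.classInner_self (isIrrCharacter_one (G := G))
  have hσ2 : Cfsg.classInner σ σ = 2 := by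
    rw [hσ, classInner_sub_left, classInner_sub_right, classInner_sub_right, hnorm, hinner1,
      ← classInner_conj τ, hinner1, map_one, h11]
    norm_num
  have hσ1 : σ 1 = -1 := by
    have := hτ0 1 (by simp)
    simp [hσ, this]
  obtain ⟨μ₀, ν₀, hμ₀, hν₀, hne, hστ⟩ := exists_sub_of_neg_one hσg hσ2 hσ1
  have hσt : Cfsg.classInner σ (fun _ => 1) = 0 := by
    rw [hσ, classInner_sub_left, hinner1, h11, sub_self]
  rw [hστ, classInner_sub_left] at hσt
  refine ⟨ν₀, μ₀, hν₀, hμ₀, fun h => ?_, fun h => ?_, ?_, fun g hg => ?_⟩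
  · rw [h, h11, IsIrrCharacter.classInner_of_ne hμ₀ isIrrCharacter_one (fun h' => hne (h'.trans h.symm))] at hσt
    norm_num at hσt
  · rw [h, h11, IsIrrCharacter.classInner_of_ne hν₀ isIrrCharacter_one (fun h' => hne (h.trans h'.symm))] at hσt
    norm_num at hσt
  · have h := congrFun hστ 1
    rw [hσ1, Pi.sub_apply] at h
    linear_combination h
  · have h := congrFun hστ g
    rw [hσ, Pi.sub_apply, hτ0 g hg, Pi.sub_apply] at h
    linear_combination h

end CfsgLib.Char
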