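import Cfsg.Agent.ZStar.RankOneApps
import Cfsg.Agent.Solvable.Basics
import Mathlib

/-!
# Groups with generalized quaternion Sylow 2-subgroups
-/

set_option autoImplicit false

namespace CfsgLib.QSylow

universe u

variable {G : Type u} [Group G] [Finite G]

section

variable (n : ℕ)

/-- Facts in the quaternion group: the derived subgroup is generated by `a 2`. -/
theorem quat_commutator :
    ⁅(⊤ : Subgroup (QuaternionGroup (2 ^ (n + 2)))), (⊤ : Subgroup (QuaternionGroup (2 ^ (n + 2))))⁆ =
      Subgroup.zpowers (QuaternionGroup.a 2) := by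
  have hpow : ∀ k : ℤ, (QuaternionGroup.a 2 : QuaternionGroup (2 ^ (n + 2))) ^ k =
      QuaternionGroup.a (2 * k) := by
    intro k
    induction k using Int.induction_on with
    | zero => rw [zpow_zero, Int.cast_zero, mul_zero, QuaternionGroup.a_zero]
    | succ k ih =>
      rw [zpow_add_one, ih, QuaternionGroup.a_mul_a]; congr 1; push_cast; ring
    | pred k ih =>
      rw [zpow_sub_one, ih, show (QuaternionGroup.a 2 : QuaternionGroup (2 ^ (n + 2)))⁻¹ =
        QuaternionGroup.a (-2) from rfl, QuaternionGroup.a_mul_a]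
      congr 1; push_cast; ring
  apply le_antisymm
  · rw [Subgroup.commutator_le]
    intro x _ y _
    have hmem : ∀ i : ZMod (2 * 2 ^ (n + 2)),
        (QuaternionGroup.a (2 * i) : QuaternionGroup (2 ^ (n + 2))) ∈
          Subgroup.zpowers (QuaternionGroup.a 2) := fun i => by
      rw [← ZMod.intCast_zmod_cast i, ← hpow]
      exact Subgroup.mem_zpowers_iff.2 ⟨_, rfl⟩
    have hN : ((2 ^ (n + 2) : ℕ) : ZMod (2 * 2 ^ (n + 2))) + (2 ^ (n + 2) : ℕ) = 0 := by
      rw [← Nat.cast_add, ← two_mul, ZMod.natCast_self]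
    rw [commutatorElement_def]
    cases x with
    | a i =>
      cases y with
      | a j =>
        rw [show (QuaternionGroup.a i : QuaternionGroup (2 ^ (n + 2)))⁻¹ =
            QuaternionGroup.a (-i) from rfl, show (QuaternionGroup.a j :
            QuaternionGroup (2 ^ (n + 2)))⁻¹ = QuaternionGroup.a (-j) from rfl]
        simp only [QuaternionGroup.a_mul_a]
        convert hmem 0 using 2
        ring
      | xa j =>
        rw [show (QuaternionGroup.a i : QuaternionGroup (2 ^ (n + 2)))⁻¹ =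
            QuaternionGroup.a (-i) from rfl, show (QuaternionGroup.xa j :
            QuaternionGroup (2 ^ (n + 2)))⁻¹ =
              QuaternionGroup.xa (((2 ^ (n + 2) : ℕ) : ZMod (2 * 2 ^ (n + 2))) + j) from rfl]
        simp only [QuaternionGroup.a_mul_xa, QuaternionGroup.xa_mul_a, QuaternionGroup.xa_mul_xa]
        convert hmem i using 2
        linear_combination hN
    | xa i =>
      cases y with
      | a j =>
        rw [show (QuaternionGroup.a j : QuaternionGroup (2 ^ (n + 2)))⁻¹ =
            QuaternionGroup.a (-j) from rfl, show (QuaternionGroup.xa i :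
            QuaternionGroup (2 ^ (n + 2)))⁻¹ =
              QuaternionGroup.xa (((2 ^ (n + 2) : ℕ) : ZMod (2 * 2 ^ (n + 2))) + i) from rfl]
        simp only [QuaternionGroup.xa_mul_a, QuaternionGroup.xa_mul_xa, QuaternionGroup.a_mul_a]
        convert hmem (-j) using 2
        linear_combination hN
      | xa j =>
        rw [show (QuaternionGroup.xa i : QuaternionGroup (2 ^ (n + 2)))⁻¹ =
              QuaternionGroup.xa (((2 ^ (n + 2) : ℕ) : ZMod (2 * 2 ^ (n + 2))) + i) from rfl,
            show (QuaternionGroup.xa j : QuaternionGroup (2 ^ (n + 2)))⁻¹ =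
              QuaternionGroup.xa (((2 ^ (n + 2) : ℕ) : ZMod (2 * 2 ^ (n + 2))) + j) from rfl]
        simp only [QuaternionGroup.xa_mul_xa, QuaternionGroup.a_mul_xa]
        convert hmem (j - i) using 2
        linear_combination hN
  · rw [Subgroup.zpowers_le]
    have h := Subgroup.commutator_mem_commutator (Subgroup.mem_top
      (QuaternionGroup.a 1 : QuaternionGroup (2 ^ (n + 2))))
      (Subgroup.mem_top (QuaternionGroup.xa 0 : QuaternionGroup (2 ^ (n + 2))))
    convert h using 1
    rw [commutatorElement_def]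
    simp only [show (QuaternionGroup.a 1 : QuaternionGroup (2 ^ (n + 2)))⁻¹ =
      QuaternionGroup.a (-1) from rfl, show (QuaternionGroup.xa 0 : QuaternionGroup (2 ^ (n + 2)))⁻¹ =
        QuaternionGroup.xa (((2 ^ (n + 2) : ℕ) : ZMod (2 * 2 ^ (n + 2))) + 0) from rfl, QuaternionGroup.a_mul_xa,
      QuaternionGroup.xa_mul_a, QuaternionGroup.xa_mul_xa]
    congr 1
    have hN : ((2 ^ (n + 2) : ℕ) : ZMod (2 * 2 ^ (n + 2))) + (2 ^ (n + 2) : ℕ) = 0 := by
      rw [← Nat.cast_add, ← two_mul, ZMod.natCast_self]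
    linear_combination -hN

theorem quat_orderOf_a_two :
    orderOf (QuaternionGroup.a 2 : QuaternionGroup (2 ^ (n + 2))) = 2 ^ (n + 2) := by
  rw [show (QuaternionGroup.a 2 : QuaternionGroup (2 ^ (n + 2))) = QuaternionGroup.a 1 ^ 2 by
    rw [QuaternionGroup.a_one_pow]; norm_num, orderOf_pow_of_dvd two_ne_zero (by
      rw [QuaternionGroup.orderOf_a_one]; exact dvd_mul_right 2 _), QuaternionGroup.orderOf_a_one]
  omega

theorem quat_centralizer :
    Subgroup.centralizer
      (↑(Subgroup.zpowers (QuaternionGroup.a 2 : QuaternionGroup (2 ^ (n + 2)))) :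
        Set (QuaternionGroup (2 ^ (n + 2)))) =
      Subgroup.zpowers (QuaternionGroup.a 1) := by
  have h4 : ((4 : ℕ) : ZMod (2 * 2 ^ (n + 2))) ≠ 0 := fun h => by
    rw [ZMod.natCast_eq_zero_iff] at h
    have := Nat.le_of_dvd (by norm_num) h
    have : 2 ^ 2 ≤ 2 ^ (n + 2) := Nat.pow_le_pow_right two_pos (by omega)
    omega
  ext x
  constructor
  · intro hx
    cases x with
    | a i =>
      rw [← ZMod.natCast_zmod_val i, ← QuaternionGroup.a_one_pow]
      exact Subgroup.npow_mem_zpowers _ _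
    | xa i =>
      exfalso
      have h := Subgroup.mem_centralizer_iff.1 hx _ (Subgroup.mem_zpowers (QuaternionGroup.a 2))
      rw [QuaternionGroup.a_mul_xa, QuaternionGroup.xa_mul_a, QuaternionGroup.xa.injEq] at h
      exact h4 (by push_cast; linear_combination -h)
  · intro hx
    rw [Subgroup.mem_centralizer_iff]
    intro y hy
    obtain ⟨k, rfl⟩ := Subgroup.mem_zpowers_iff.1 hy
    obtain ⟨l, rfl⟩ := Subgroup.mem_zpowers_iff.1 hx
    have hc : Commute (QuaternionGroup.a 2 : QuaternionGroup (2 ^ (n + 2))) (QuaternionGroup.a 1) := by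
      change _ = _
      rw [QuaternionGroup.a_mul_a, QuaternionGroup.a_mul_a]; congr 1; ring
    exact (hc.zpow_zpow k l).eq

variable {n} (S : Sylow 2 G) (e : (S : Subgroup G) ≃* QuaternionGroup (2 ^ (n + 2)))

include e

/-- The generator of the derived subgroup. -/
theorem commutator_eq : ⁅(S : Subgroup G), (S : Subgroup G)⁆ =
    Subgroup.zpowers ((e.symm (QuaternionGroup.a 2) : (S : Subgroup G)) : G) := by
  have h1 : ((⊤ : Subgroup (QuaternionGroup (2 ^ (n + 2)))).map e.symm.toMonoidHom).map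
      (S : Subgroup G).subtype = (S : Subgroup G) := by
    rw [Subgroup.map_top_of_surjective _ e.symm.surjective, ← MonoidHom.range_eq_map,
      Subgroup.range_subtype]
  conv_lhs => rw [← h1]
  rw [← Subgroup.map_commutator, ← Subgroup.map_commutator, quat_commutator, MonoidHom.map_zpowers,
    MonoidHom.map_zpowers]
  rfl

theorem card_commutator :
    Nat.card ↥⁅(S : Subgroup G), (S : Subgroup G)⁆ = 2 ^ (n + 2) := by
  rw [commutator_eq S e, Nat.card_zpowers, Subgroup.orderOf_coe, e.symm.orderOf_eq,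
    quat_orderOf_a_two]

theorem four_dvd_card_commutator : 4 ∣ Nat.card ↥⁅(S : Subgroup G), (S : Subgroup G)⁆ := by
  rw [card_commutator S e]
  exact pow_dvd_pow 2 (show 2 ≤ n + 2 by omega)

theorem inf_centralizer_cyclic :
    IsCyclic ↥((S : Subgroup G) ⊓
      Subgroup.centralizer ((⁅(S : Subgroup G), (S : Subgroup G)⁆ : Subgroup G) : Set G)) ∧
    ((Subgroup.centralizer ((⁅(S : Subgroup G), (S : Subgroup G)⁆ : Subgroup G) : Set G)).subgroupOf
      (S : Subgroup G)).index = 2 := by
  set C := Subgroup.centralizer ((⁅(S : Subgroup G), (S : Subgroup G)⁆ : Subgroup G) : Set G)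
  have hC : C.subgroupOf (S : Subgroup G) =
      (Subgroup.zpowers (QuaternionGroup.a 1)).comap e.toMonoidHom := by
    rw [← quat_centralizer n]
    ext x
    rw [Subgroup.mem_subgroupOf, Subgroup.mem_comap, Subgroup.mem_centralizer_iff,
      Subgroup.mem_centralizer_iff, commutator_eq S e]
    constructor
    · intro h y hy
      obtain ⟨k, rfl⟩ := Subgroup.mem_zpowers_iff.1 hy
      have h1 := h _ (Subgroup.mem_zpowers_iff.2 ⟨k, rfl⟩)
      have h2 : e.symm (QuaternionGroup.a 2) ^ k * x = x * e.symm (QuaternionGroup.a 2) ^ k :=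
        Subtype.ext (by push_cast; exact h1)
      simpa using congrArg e h2
    · intro h y hy
      obtain ⟨k, rfl⟩ := Subgroup.mem_zpowers_iff.1 hy
      have h1 := congrArg e.symm (h _ (Subgroup.mem_zpowers_iff.2 ⟨k, rfl⟩))
      rw [map_mul, map_mul, map_zpow] at h1
      simpa using congrArg Subtype.val h1
  have hidx : (Subgroup.zpowers (QuaternionGroup.a 1 : QuaternionGroup (2 ^ (n + 2)))).index = 2 := by
    have h := Subgroup.card_mul_index
      (Subgroup.zpowers (QuaternionGroup.a 1 : QuaternionGroup (2 ^ (n + 2))))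
    rw [Nat.card_zpowers, QuaternionGroup.orderOf_a_one, Nat.card_eq_fintype_card,
      QuaternionGroup.card] at h
    refine Nat.eq_of_mul_eq_mul_left (show 0 < 2 * 2 ^ (n + 2) by positivity) ?_
    rw [h]; ring
  refine ⟨?_, by rw [hC, Subgroup.index_comap_of_surjective _ e.surjective, hidx]⟩
  have hcyc : IsCyclic ↥(C.subgroupOf (S : Subgroup G)) := by
    rw [hC]
    exact isCyclic_of_injective
      (MonoidHom.mk' (fun x => (⟨e x.1, x.2⟩ : Subgroup.zpowers
        (QuaternionGroup.a 1 : QuaternionGroup (2 ^ (n + 2))))) fun a b => Subtype.ext (map_mul e _ _))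
      fun a b h => Subtype.ext (e.injective (congrArg Subtype.val h))
  rw [inf_comm, ← Subgroup.subgroupOf_map_subtype]
  exact isCyclic_of_surjective _
    ((C.subgroupOf (S : Subgroup G)).equivMapOfInjective (S : Subgroup G).subtype
      (S : Subgroup G).subtype_injective).surjective

/-- An isolated involution of a quaternion Sylow subgroup. -/
theorem exists_involution : ∃ z : G, z ∈ (S : Subgroup G) ∧ orderOf z = 2 ∧
    (∀ v ∈ (S : Subgroup G), orderOf v = 2 → v = z) ∧
    ∃ N : Subgroup G, N.Normal ∧ Odd (Nat.card N) ∧ ∀ g : G, z * g * z⁻¹ * g⁻¹ ∈ N := by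
  obtain ⟨-, zq, hzq, huq, -, -⟩ := InvChar.quaternion_facts (n + 2) (by omega)
  have hz : orderOf ((e.symm zq : (S : Subgroup G)) : G) = 2 := by
    rw [Subgroup.orderOf_coe, e.symm.orderOf_eq, hzq]
  have hval : ∀ v ∈ (S : Subgroup G), orderOf v = 2 → v = ((e.symm zq : (S : Subgroup G)) : G) := by
    intro v hv hv2
    have h := huq (e ⟨v, hv⟩) (by rw [e.orderOf_eq, ← Subgroup.orderOf_coe]; exact hv2)
    exact congrArg Subtype.val (e.injective (h.trans (e.apply_symm_apply zq).symm))
  exact ⟨_, (e.symm zq).2, hz, hval, ZStar.zstar (ZStar.isolated_of_commuting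
    (fun _ _ h1 h2 h3 => ZStar.commuting_eq_of_sylow S
      (fun v hv w hw a b => (hval v hv a).trans (hval w hw b).symm) h1 h2 h3) hz)⟩

/-- A normal subgroup with twice odd order containing all involutions. -/
theorem exists_normal_two_odd : ∃ M : Subgroup G, M.Normal ∧
    (∃ k : ℕ, Odd k ∧ Nat.card M = 2 * k) ∧ ∀ v : G, orderOf v = 2 → v ∈ M := by
  obtain ⟨z, hzS, hz, hval, N, hN, hodd, hc⟩ := exists_involution S e
  set M := Subgroup.zpowers z ⊔ N with hM
  have hzN : ∀ g : G, g * z * g⁻¹ ∈ M := fun g => by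
    have h1 : g * z * g⁻¹ = (z * g * z⁻¹ * g⁻¹)⁻¹ * z := by group
    rw [h1]
    exact M.mul_mem (M.inv_mem (le_sup_right (a := Subgroup.zpowers z) (hc g)))
      (le_sup_left (b := N) (Subgroup.mem_zpowers z))
  have hMn : M.Normal := by
    refine ⟨fun x hx g => ?_⟩
    rw [hM, ← SetLike.mem_coe, Subgroup.mul_normal] at hx
    obtain ⟨a, ha, b, hb, rfl⟩ := Set.mem_mul.1 hx
    obtain ⟨i, rfl⟩ := Subgroup.mem_zpowers_iff.1 ha
    rw [← conj_mul, ← conj_zpow]
    exact M.mul_mem (Subgroup.zpow_mem _ (hzN g) i)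
      (le_sup_right (a := Subgroup.zpowers z) (hN.conj_mem b hb g))
  have hdisj : Subgroup.zpowers z ⊓ N = ⊥ := disjoint_iff.1
    (Subgroup.disjoint_of_coprime_natCard (by
      rw [Nat.card_zpowers, hz]
      exact (Nat.coprime_two_left.2 hodd)))
  refine ⟨M, hMn, ⟨Nat.card N, hodd, by
    rw [hM, CfsgLib.Solvable.card_sup_of_disjoint (by rw [Subgroup.normalizer_eq_top]; exact le_top)
      hdisj, Nat.card_zpowers, hz]⟩, fun v hv => ?_⟩
  have : Fact (Nat.Prime 2) := ⟨Nat.prime_two⟩
  obtain ⟨T, hT⟩ := (IsPGroup.of_card (G := Subgroup.zpowers v) (n := 1) (p := 2)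
    (by rw [Nat.card_zpowers, hv, pow_one])).exists_le_sylow
  obtain ⟨t, ht⟩ := MulAction.exists_smul_eq G T S
  have hvS : t * v * t⁻¹ ∈ S := by rw [← ht]; exact ⟨v, hT (Subgroup.mem_zpowers v), rfl⟩
  have h2 := hval _ hvS ((Invol.orderOf_conj_eq t v).trans hv)
  have := hzN t⁻¹
  rwa [← h2, show t⁻¹ * (t * v * t⁻¹) * t⁻¹⁻¹ = v by group] at this

theorem exists_even_normal : ∃ M : Subgroup G, M.Normal ∧ Even (Nat.card M) ∧
    ¬ commutator G ≤ M := by
  obtain ⟨M, hM, ⟨k, hk, hcard⟩, -⟩ := exists_normal_two_odd S e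
  refine ⟨M, hM, ⟨k, by omega⟩, fun hle => ?_⟩
  have h4 : 4 ∣ Nat.card M := (four_dvd_card_commutator S e).trans
    (Subgroup.card_dvd_of_le ((Subgroup.commutator_mono le_top le_top).trans (by
      rwa [commutator_def] at hle)))
  rw [hcard] at h4
  obtain ⟨a, rfl⟩ := hk
  omega

theorem involution_closure_sylow (Q : Sylow 2 ↥(Subgroup.closure {g : G | orderOf g = 2})) :
    IsCyclic Q := by
  have : Fact (Nat.Prime 2) := ⟨Nat.prime_two⟩
  obtain ⟨M, -, ⟨k, hk, hcard⟩, hinv⟩ := exists_normal_two_odd S e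
  obtain ⟨m, hm⟩ := IsPGroup.iff_card.1 Q.isPGroup'
  have hd : Nat.card Q ∣ 2 * k := by
    rw [← hcard]
    exact (Subgroup.card_subgroup_dvd_card Q.toSubgroup).trans
      (Subgroup.card_dvd_of_le ((Subgroup.closure_le M).2 hinv))
  rw [hm] at hd
  have hd2 : 2 ^ m ∣ 2 :=
    (Nat.Coprime.dvd_mul_right (Nat.Coprime.pow_left m (Nat.coprime_two_left.2 hk))).1 hd
  rcases (Nat.dvd_prime Nat.prime_two).1 hd2 with h | h
  · have : Subsingleton Q := (Nat.card_eq_one_iff_unique.1 (hm.trans h)).1
    infer_instance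
  · exact isCyclic_of_prime_card (p := 2) (hm.trans h)

/-- The local structure around the derived subgroup of the Sylow subgroup. -/
theorem exists_complement {D : Subgroup G} (hD : D = ⁅(S : Subgroup G), (S : Subgroup G)⁆) :
    ∃ K : Subgroup G, Odd (Nat.card K) ∧ K ≤ Subgroup.centralizer (D : Set G) ∧
      Subgroup.normalizer (D : Set G) ≤ Subgroup.normalizer (K : Set G) ∧
      K ⊔ (S : Subgroup G) = Subgroup.normalizer (D : Set G) ∧
      K ⊔ ((S : Subgroup G) ⊓ Subgroup.centralizer (D : Set G)) =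
        Subgroup.centralizer (D : Set G) ∧
      ((Subgroup.centralizer (D : Set G)).subgroupOf (Subgroup.normalizer (D : Set G))).index = 2 ∧
      IsCyclic ↥((S : Subgroup G) ⊓ Subgroup.centralizer (D : Set G)) := by
  have : Fact (Nat.Prime 2) := ⟨Nat.prime_two⟩
  obtain ⟨hcyc, hidx⟩ := inf_centralizer_cyclic S e
  rw [← hD] at hcyc hidx
  set C := Subgroup.centralizer (D : Set G) with hC
  set N := Subgroup.normalizer (D : Set G) with hN
  set P := (S : Subgroup G) ⊓ C with hP
  have hSN : (S : Subgroup G) ≤ N := by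
    rw [hD] at hN
    rw [hN, Subgroup.le_set_normalizer_iff]
    intro x hx y hy
    have h1 : (⁅(S : Subgroup G), (S : Subgroup G)⁆).subgroupOf (S : Subgroup G) =
        ⁅(⊤ : Subgroup (S : Subgroup G)), ⊤⁆ := by
      apply Subgroup.map_injective (S : Subgroup G).subtype_injective
      rw [Subgroup.subgroupOf_map_subtype, inf_of_le_left (Subgroup.commutator_le.2 fun a ha b hb =>
        (S : Subgroup G).mul_mem ((S : Subgroup G).mul_mem ((S : Subgroup G).mul_mem ha hb)
          ((S : Subgroup G).inv_mem ha)) ((S : Subgroup G).inv_mem hb)),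
        Subgroup.map_commutator, ← MonoidHom.range_eq_map, Subgroup.range_subtype]
    have hyS : y ∈ (S : Subgroup G) := Subgroup.commutator_le.2 (fun a ha b hb =>
        (S : Subgroup G).mul_mem ((S : Subgroup G).mul_mem ((S : Subgroup G).mul_mem ha hb)
          ((S : Subgroup G).inv_mem ha)) ((S : Subgroup G).inv_mem hb)) hy
    have h2 : (⟨y, hyS⟩ : (S : Subgroup G)) ∈
        (⁅(S : Subgroup G), (S : Subgroup G)⁆).subgroupOf (S : Subgroup G) := hy
    rw [h1] at h2
    have h3 := (inferInstance : Subgroup.Normal ⁅(⊤ : Subgroup (S : Subgroup G)), (⊤ : Subgroup (S : Subgroup G))⁆).conj_mem _ h2 ⟨x, hx⟩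
    rw [← h1] at h3
    exact h3
  have hCN : C ≤ N := Subgroup.centralizer_le_normalizer _
  -- index of C in N
  have hPC : P ≤ C := inf_le_right
  have hPcard : Nat.card P * 2 = Nat.card (S : Subgroup G) := by
    have h := Subgroup.card_mul_index (C.subgroupOf (S : Subgroup G))
    rw [hidx, ← Subgroup.inf_subgroupOf_right,
      Nat.card_congr (Subgroup.subgroupOfEquivOfLe inf_le_right).toEquiv, inf_comm] at h
    exact h
  obtain ⟨s, hs⟩ := IsPGroup.iff_card.1 S.isPGroup'
  have hDS : Nat.card D = 2 ^ (n + 2) := by rw [hD, card_commutator S e]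
  have hcycD : IsCyclic D := by
    rw [hD, commutator_eq S e]; exact Subgroup.isCyclic_zpowers _
  have hNC : ∃ j, C.relIndex N = 2 ^ j := by
    have hker : C.subgroupOf N = (Subgroup.normalizerMonoidHom D).ker := by
      rw [Subgroup.normalizerMonoidHom_ker]
    obtain ⟨φ⟩ : Nonempty (MulAut D ≃* (ZMod (Nat.card D))ˣ) := ⟨IsCyclic.mulAutMulEquiv D⟩
    have hA : Nat.card (MulAut D) = 2 ^ (n + 1) := by
      haveI : NeZero (Nat.card D) := ⟨Nat.card_pos.ne'⟩
      rw [Nat.card_congr φ.toEquiv, Nat.card_eq_fintype_card, ZMod.card_units_eq_totient, hDS,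
        Nat.totient_prime_pow_succ Nat.prime_two]
      norm_num
    have h1 : C.relIndex N ∣ 2 ^ (n + 1) := by
      rw [← hA, show C.relIndex N = (C.subgroupOf N).index from rfl, hker, Subgroup.index_ker]
      exact Subgroup.card_subgroup_dvd_card _
    obtain ⟨j, -, hj⟩ := (Nat.dvd_prime_pow Nat.prime_two).1 h1
    exact ⟨j, hj⟩
  obtain ⟨j, hj⟩ := hNC
  -- P is a Sylow subgroup of C
  have hmul : Nat.card C * C.relIndex N = Nat.card N := by
    rw [← Subgroup.card_mul_index (C.subgroupOf N),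
      Nat.card_congr (Subgroup.subgroupOfEquivOfLe hCN).toEquiv]
    rfl
  have hCn : (C.subgroupOf N).Normal := by
    rw [hC, hN, ← Subgroup.normalizerMonoidHom_ker]; exact MonoidHom.normal_ker _
  have hfull : N ≤ C ⊔ (S : Subgroup G) := by
    have h1 : ((C ⊔ (S : Subgroup G)).subgroupOf N).index ∣ 2 ^ j := hj ▸
      Subgroup.index_dvd_of_le (fun x hx => le_sup_left (b := (S : Subgroup G)) hx)
    have h2 : Nat.Coprime ((C ⊔ (S : Subgroup G)).subgroupOf N).index 2 := by
      refine (Nat.Prime.coprime_iff_not_dvd Nat.prime_two).2 (fun h => S.not_dvd_index ?_) |>.symm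
      refine h.trans ?_
      exact (Subgroup.relIndex_dvd_of_le_left (N) (le_sup_right (a := C))).trans
        (Subgroup.relIndex_dvd_index_of_le hSN)
    have h3 : ((C ⊔ (S : Subgroup G)).subgroupOf N).index = 1 :=
      Nat.eq_one_of_dvd_coprimes (Nat.Coprime.pow_right j h2) dvd_rfl h1
    exact Subgroup.subgroupOf_eq_top.1 (Subgroup.index_eq_one.1 h3)
  have hNeq : C ⊔ (S : Subgroup G) = N := le_antisymm (sup_le hCN hSN) hfull
  have hrel : C.relIndex N = 2 := by
    have hh := CfsgLib.Solvable.card_sup_mul_card_inf (A := (S : Subgroup G)) (K := C)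
      (hSN.trans ((Subgroup.normal_subgroupOf_iff_le_normalizer hCN).1 hCn))
    rw [sup_comm, hNeq, ← hmul, ← hP, mul_right_comm] at hh
    refine Nat.eq_of_mul_eq_mul_left (show 0 < Nat.card C * Nat.card P from
      Nat.mul_pos Nat.card_pos Nat.card_pos) ?_
    rw [hh, mul_assoc, hPcard, mul_comm]
  have hPnd : ¬ 2 ∣ (P.subgroupOf C).index := by
    intro h
    apply S.not_dvd_index
    have h1 : Nat.card C = Nat.card P * (P.subgroupOf C).index := by
      rw [← Subgroup.card_mul_index (P.subgroupOf C),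
        Nat.card_congr (Subgroup.subgroupOfEquivOfLe hPC).toEquiv]
    have h2 : Nat.card N = Nat.card (S : Subgroup G) * (P.subgroupOf C).index := by
      rw [← hmul, hrel, h1, ← hPcard]; ring
    obtain ⟨t, ht⟩ := h
    have h3 := Subgroup.card_subgroup_dvd_card N
    rw [h2, ← (S : Subgroup G).card_mul_index, ht] at h3
    have := Nat.dvd_of_mul_dvd_mul_left Nat.card_pos h3
    exact (dvd_mul_right 2 t).trans this
  have hPp : IsPGroup 2 (P.subgroupOf C) :=
    (S.isPGroup'.to_le inf_le_left).of_equiv (Subgroup.subgroupOfEquivOfLe hPC).symm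
  let Ps : Sylow 2 C := IsPGroup.toSylow hPp hPnd
  have hPscyc : IsCyclic (Ps : Subgroup C) :=
    isCyclic_of_surjective _ (Subgroup.subgroupOfEquivOfLe hPC).symm.surjective
  have hDC : D ≤ C := by
    intro x hx
    rw [hC, Subgroup.mem_centralizer_iff]
    intro y hy
    exact congrArg Subtype.val (mul_comm' (⟨y, hy⟩ : D) ⟨x, hx⟩)
  have hmin : (Nat.card C).minFac = 2 := by
    rw [Nat.minFac_eq_two_iff]
    refine dvd_trans ?_ (Subgroup.card_dvd_of_le hDC)
    rw [hDS]; exact dvd_pow_self 2 (by omega)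
  have hcomp := IsCyclic.isComplement' hmin hPscyc
  set K0 := (MonoidHom.transferSylow Ps (IsCyclic.normalizer_le_centralizer hmin hPscyc)).ker
  set K := K0.map C.subtype with hK
  have hKcard : Nat.card K = (P.subgroupOf C).index := by
    rw [hK, Subgroup.card_map_of_injective C.subtype_injective, ← hcomp.index_eq_card]; rfl
  have hKodd : Odd (Nat.card K) := by
    rw [hKcard, ← Nat.not_even_iff_odd, even_iff_two_dvd]; exact hPnd
  have hKn : K0.Normal := MonoidHom.normal_ker _
  -- odd order elements of C lie in K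
  have hKmem : ∀ x : G, x ∈ K ↔ x ∈ C ∧ Odd (orderOf x) := by
    intro x
    constructor
    · intro hx
      refine ⟨Subgroup.map_subtype_le _ hx, ?_⟩
      exact hKodd.of_dvd_nat (Subgroup.orderOf_dvd_natCard K hx)
    · rintro ⟨hxC, hxo⟩
      refine ⟨⟨x, hxC⟩, ?_, rfl⟩
      rw [SetLike.mem_coe, ← QuotientGroup.eq_one_iff, ← orderOf_eq_one_iff]
      refine Nat.eq_one_of_dvd_coprimes (a := orderOf x) (b := Nat.card (C ⧸ K0)) ?_ ?_
        (orderOf_dvd_natCard _)
      · rw [← Subgroup.index_eq_card, hcomp.symm.index_eq_card]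
        obtain ⟨m, hm⟩ := IsPGroup.iff_card.1 Ps.isPGroup'
        rw [hm]
        exact Nat.Coprime.pow_right m (Nat.coprime_two_right.2 hxo)
      · exact (orderOf_map_dvd (QuotientGroup.mk' K0) (⟨x, hxC⟩ : C)).trans
          (by rw [Subgroup.orderOf_mk])
  have hNC' : ∀ g ∈ N, ∀ x ∈ C, g * x * g⁻¹ ∈ C := fun g hg x hx =>
    (Subgroup.mem_set_normalizer_iff.1
      ((Subgroup.normal_subgroupOf_iff_le_normalizer hCN).1 hCn hg) x).1 hx
  have hsupC : K ⊔ P = C := by
    have h1 := hcomp.sup_eq_top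
    have h2 : (K0 ⊔ (Ps : Subgroup C)).map C.subtype = K ⊔ P := by
      rw [Subgroup.map_sup, ← hK]
      congr 1
      change (P.subgroupOf C).map C.subtype = P
      rw [Subgroup.subgroupOf_map_subtype, inf_of_le_left hPC]
    rw [← h2, h1, ← MonoidHom.range_eq_map, Subgroup.range_subtype]
  refine ⟨K, hKodd, Subgroup.map_subtype_le _, ?_, ?_, hsupC, hrel, hcyc⟩
  · refine Subgroup.le_set_normalizer_iff.2 fun g hg x hx => ?_
    obtain ⟨hxC, hxo⟩ := (hKmem x).1 hx
    exact (hKmem _).2 ⟨hNC' g hg x hxC,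
      by rwa [show g * x * g⁻¹ = MulAut.conj g x from rfl, (MulAut.conj g).orderOf_eq]⟩
  · rw [← hNeq]
    conv_rhs => rw [← hsupC]
    rw [sup_assoc, sup_eq_right.2 (inf_le_left : P ≤ (S : Subgroup G))]

/-- The elements of `C(D)` of order divisible by `|D|`. -/
theorem ti_facts {D : Subgroup G} (hD : D = ⁅(S : Subgroup G), (S : Subgroup G)⁆) :
    (∀ y : G, y ∈ Subgroup.centralizer (D : Set G) → Nat.card D ∣ orderOf y →
      D ≤ Subgroup.zpowers y) ∧
    (∀ g y : G, y ∈ Subgroup.centralizer (D : Set G) → Nat.card D ∣ orderOf y →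
      g * y * g⁻¹ ∈ Subgroup.centralizer (D : Set G) → g ∈ Subgroup.normalizer (D : Set G)) ∧
    (∀ g y : G, g ∈ Subgroup.normalizer (D : Set G) → y ∈ Subgroup.centralizer (D : Set G) →
      Nat.card D ∣ orderOf y → g * y * g⁻¹ ∈ Subgroup.centralizer (D : Set G) ∧
        Nat.card D ∣ orderOf (g * y * g⁻¹)) := by
  have : Fact (Nat.Prime 2) := ⟨Nat.prime_two⟩
  obtain ⟨K, hKodd, hKC, hNK, -, hKP, -, hcyc⟩ := exists_complement S e hD
  set C := Subgroup.centralizer (D : Set G) with hC
  set P := (S : Subgroup G) ⊓ C with hP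
  have hDS : Nat.card D = 2 ^ (n + 2) := by rw [hD, card_commutator S e]
  have hcycD : IsCyclic D := by
    rw [hD, commutator_eq S e]; exact Subgroup.isCyclic_zpowers _
  -- in a cyclic subgroup there is only one subgroup of each order
  have huniq : ∀ (A B E : Subgroup G), IsCyclic E → A ≤ E → B ≤ E →
      Nat.card A = Nat.card B → A = B := by
    intro A B E hE hA hB hAB
    classical
    have := Fintype.ofFinite E
    have key : ∀ X : Subgroup G, X ≤ E → Nat.card X = Nat.card A → ∀ x : E,
        ((x : G) ∈ X ↔ x ^ Nat.card A = 1) := by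
      intro X hX hXA
      have hsub : (Finset.univ.filter fun x : E => (x : G) ∈ X) ⊆
          Finset.univ.filter fun x : E => x ^ Nat.card A = 1 := by
        intro x hx
        simp only [Finset.mem_filter, Finset.mem_univ, true_and] at hx ⊢
        exact Subtype.ext (orderOf_dvd_iff_pow_eq_one.1 (hXA ▸ X.orderOf_dvd_natCard hx))
      have hcard : (Finset.univ.filter fun x : E => (x : G) ∈ X).card = Nat.card A := by
        rw [← Fintype.card_subtype, ← Nat.card_eq_fintype_card, ← hXA]
        exact Nat.card_congr (Subgroup.subgroupOfEquivOfLe hX).toEquiv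
      have he := Finset.eq_of_subset_of_card_le hsub
        (by rw [hcard]; exact IsCyclic.card_pow_eq_one_le Nat.card_pos)
      intro x
      have := Finset.ext_iff.1 he x
      simpa using this
    refine le_antisymm (fun x hx => ?_) (fun x hx => ?_)
    · exact (key B hB hAB.symm ⟨x, hA hx⟩).2 ((key A hA rfl ⟨x, hA hx⟩).1 hx)
    · exact (key A hA rfl ⟨x, hB hx⟩).2 ((key B hB hAB.symm ⟨x, hB hx⟩).1 hx)
  have h1 : ∀ y : G, y ∈ C → Nat.card D ∣ orderOf y → D ≤ Subgroup.zpowers y := by
    intro y hy hdvd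
    obtain ⟨w, hwy, hwo⟩ : ∃ w ∈ Subgroup.zpowers y, orderOf w = Nat.card D :=
      ⟨y ^ (orderOf y / Nat.card D), Subgroup.npow_mem_zpowers _ _,
        orderOf_pow_orderOf_div (orderOf_pos y).ne' hdvd⟩
    have hwC : w ∈ C := (Subgroup.zpowers_le.2 hy) hwy
    have hPle : P ≤ C := inf_le_right
    have hDC : D ≤ C := by
      intro x hx
      rw [hC, Subgroup.mem_centralizer_iff]
      intro y hy
      exact congrArg Subtype.val (mul_comm' (⟨y, hy⟩ : D) ⟨x, hx⟩)
    have hDP : D ≤ P := le_inf (hD ▸ Subgroup.commutator_le.2 fun a ha b hb =>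
      (S : Subgroup G).mul_mem ((S : Subgroup G).mul_mem ((S : Subgroup G).mul_mem ha hb)
        ((S : Subgroup G).inv_mem ha)) ((S : Subgroup G).inv_mem hb)) hDC
    -- conjugate `w` into `P`
    have hKn : C ≤ Subgroup.normalizer (K : Set G) := le_trans (Subgroup.centralizer_le_normalizer _) hNK
    have hindex : ¬ 2 ∣ (P.subgroupOf C).index := by
      intro h
      have e1 : Nat.card C ∣ Nat.card K * Nat.card P := by
        have := CfsgLib.Solvable.card_sup_mul_card_inf (hPle.trans hKn)
        rw [sup_comm, hKP, mul_comm (Nat.card P)] at this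
        exact ⟨_, this.symm⟩
      rw [← Subgroup.card_mul_index (P.subgroupOf C),
        Nat.card_congr (Subgroup.subgroupOfEquivOfLe hPle).toEquiv, mul_comm (Nat.card K)] at e1
      exact Nat.not_even_iff_odd.2 hKodd
        (even_iff_two_dvd.2 (h.trans (Nat.dvd_of_mul_dvd_mul_left Nat.card_pos e1)))
    let Ps : Sylow 2 C := IsPGroup.toSylow
      ((S.isPGroup'.to_le inf_le_left).of_equiv (Subgroup.subgroupOfEquivOfLe hPle).symm) hindex
    have hwp : IsPGroup 2 (Subgroup.zpowers (⟨w, hwC⟩ : C)) :=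
      IsPGroup.of_card (n := n + 2) (by rw [Nat.card_zpowers, Subgroup.orderOf_mk, hwo, hDS])
    obtain ⟨T, hT⟩ := hwp.exists_le_sylow
    obtain ⟨t, ht⟩ := MulAction.exists_smul_eq C T Ps
    have hwP : (t : G) * w * (t : G)⁻¹ ∈ P := by
      have hm : (t * ⟨w, hwC⟩ * t⁻¹ : C) ∈ Ps := by
        rw [← ht]; exact ⟨_, hT (Subgroup.mem_zpowers _), rfl⟩
      exact hm
    have heq : Subgroup.zpowers ((t : G) * w * (t : G)⁻¹) = D := huniq _ _ P hcyc
      (Subgroup.zpowers_le.2 hwP) hDP (by
        rw [Nat.card_zpowers, show (t : G) * w * (t : G)⁻¹ = MulAut.conj (t : G) w from rfl,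
          (MulAut.conj (t : G)).orderOf_eq, hwo])
    intro d hd
    have ht' : d * (t : G) = t * d := Subgroup.mem_centralizer_iff.1 (hC ▸ t.2) d hd
    rw [← heq] at hd
    obtain ⟨i, hi⟩ := Subgroup.mem_zpowers_iff.1 hd
    rw [conj_zpow] at hi
    have : d = w ^ i := by
      calc d = (t : G)⁻¹ * (d * t) := by rw [ht', inv_mul_cancel_left]
        _ = w ^ i := by rw [← hi]; group
    exact this ▸ Subgroup.zpow_mem _ hwy i
  refine ⟨h1, fun g y hy hdvd hgy => ?_, fun g y hg hy hdvd => ⟨?_, ?_⟩⟩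
  · have ho : orderOf (g * y * g⁻¹) = orderOf y := (MulAut.conj g).orderOf_eq y
    have hA : D.map (MulAut.conj g).toMonoidHom = D := by
      refine huniq _ _ (Subgroup.zpowers (g * y * g⁻¹)) (Subgroup.isCyclic_zpowers _) ?_
        (h1 _ hgy (ho.symm ▸ hdvd))
        (Subgroup.card_map_of_injective (f := (MulAut.conj g).toMonoidHom) (MulAut.conj g).injective)
      rw [show g * y * g⁻¹ = (MulAut.conj g).toMonoidHom y from rfl, ← MonoidHom.map_zpowers]
      exact Subgroup.map_mono (h1 y hy hdvd)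
    exact Subgroup.mem_normalizer_iff_map_conj_eq.2 hA
  · have hn : (C.subgroupOf (Subgroup.normalizer (D : Set G))).Normal :=
      Subgroup.normalizerMonoidHom_ker D ▸ MonoidHom.normal_ker _
    exact (Subgroup.mem_set_normalizer_iff.1 ((Subgroup.normal_subgroupOf_iff_le_normalizer
      (Subgroup.centralizer_le_normalizer _)).1 hn hg) y).1 hy
  · rwa [show g * y * g⁻¹ = MulAut.conj g y from rfl, (MulAut.conj g).orderOf_eq]

end

end CfsgLib.QSylow
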