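import Cfsg.Agent.Char.BrauerInduction
import Cfsg.Agent.Char.Equivalence
import Cfsg.Agent.Char.Values
import Cfsg.Agent.Char.Induction
import Cfsg.Agent.Char.Inner
import Mathlib.RepresentationTheory.Maschke
import Mathlib.RingTheory.RootsOfUnity.Complex
import Mathlib.FieldTheory.IntermediateField.Adjoin.Basic
import Mathlib.GroupTheory.Exponent

/-!
# Brauer's splitting field theorem

Characters that are afforded over a subfield `F` of `ℂ`; an irreducible character which is a difference
of two of them is one of them.
-/

set_option autoImplicit false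
set_option linter.style.haveILetI false
set_option linter.unusedSectionVars false

namespace CfsgLib.Char

open Representation Module
open scoped ComplexConjugate

universe u

variable {G : Type u} [Group G] (F : IntermediateField ℚ ℂ)

/-- The values in `ℂ` of the character of a representation over a subfield. -/
noncomputable def subChar {V : Type} [AddCommGroup V] [Module F V] (ρ : Representation F G V) : G → ℂ :=
  fun g => (ρ.character g : ℂ)

/-- The function is afforded by a representation over `F`. -/
def RealizableOver (χ : G → ℂ) : Prop :=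
  ∃ (n : ℕ) (ρ : Representation F G (Fin n → F)), subChar F ρ = χ

theorem realizableOver_subChar {V : Type} [AddCommGroup V] [Module F V] [FiniteDimensional F V]
    (ρ : Representation F G V) : RealizableOver F (subChar F ρ) := by
  let e := (Module.finBasis F V).equivFun
  let σ : Representation F G (Fin (finrank F V) → F) :=
    { toFun := fun g => e.conj (ρ g)
      map_one' := by rw [map_one]; ext x; simp [LinearEquiv.conj_apply]
      map_mul' := fun g h => by rw [map_mul]; ext x; simp [LinearEquiv.conj_apply] }
  refine ⟨_, σ, funext fun g => ?_⟩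
  change ((LinearMap.trace F _ (e.conj (ρ g)) : F) : ℂ) = _
  rw [LinearMap.trace_conj']
  rfl

theorem subChar_prod {V W : Type} [AddCommGroup V] [Module F V] [FiniteDimensional F V] [AddCommGroup W]
    [Module F W] [FiniteDimensional F W] (ρ : Representation F G V) (σ : Representation F G W) :
    subChar F (ρ.prod σ) = subChar F ρ + subChar F σ := by
  funext g
  change ((LinearMap.trace F (V × W) ((ρ g).prodMap (σ g)) : F) : ℂ) = _
  rw [LinearMap.trace_prodMap']
  push_cast
  rfl

theorem realizableOver_zero : RealizableOver F (0 : G → ℂ) :=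
  ⟨0, 1, funext fun g => by
    change ((LinearMap.trace F (Fin 0 → F) 1 : F) : ℂ) = 0
    rw [LinearMap.trace_one]; simp⟩

theorem RealizableOver.add {χ ψ : G → ℂ} (h₁ : RealizableOver F χ) (h₂ : RealizableOver F ψ) :
    RealizableOver F (χ + ψ) := by
  obtain ⟨n, ρ, rfl⟩ := h₁
  obtain ⟨m, σ, rfl⟩ := h₂
  rw [← subChar_prod]
  exact realizableOver_subChar F _

theorem isCharacter_subChar {n : ℕ} (ρ : Representation F G (Fin n → F)) :
    Cfsg.IsCharacter G (subChar F ρ) := by
  classical
  let φ : Matrix (Fin n) (Fin n) F →+* Matrix (Fin n) (Fin n) ℂ := (algebraMap F ℂ).mapMatrix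
  let M : G →* Matrix (Fin n) (Fin n) ℂ :=
    φ.toMonoidHom.comp (((LinearMap.toMatrixAlgEquiv' (R := F) (n := Fin n))).toRingEquiv.toMonoidHom.comp ρ)
  let σ : Representation ℂ G (Fin n → ℂ) :=
    (Matrix.toLinAlgEquiv' (R := ℂ) (n := Fin n)).toRingEquiv.toMonoidHom.comp M
  refine ⟨n, σ, funext fun g => ?_⟩
  change LinearMap.trace ℂ _ (Matrix.toLin' (M g)) = _
  rw [Matrix.trace_toLin'_eq]
  change (φ (LinearMap.toMatrix' (ρ g))).trace = algebraMap F ℂ (LinearMap.trace F _ (ρ g))
  rw [LinearMap.trace_eq_matrix_trace F (Pi.basisFun F (Fin n)), LinearMap.toMatrix_eq_toMatrix']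
  exact (AddMonoidHom.map_trace (algebraMap F ℂ).toAddMonoidHom _).symm

theorem classInner_subChar [Fintype G] {V W : Type} [AddCommGroup V] [Module F V] [FiniteDimensional F V]
    [AddCommGroup W] [Module F W] [FiniteDimensional F W] (ρ : Representation F G V)
    (σ : Representation F G W) :
    Cfsg.classInner (subChar F σ) (subChar F ρ) = (finrank F (IntertwiningMap ρ σ) : ℂ) := by
  haveI : Invertible (Nat.card G : F) :=
    invertibleOfNonzero (by exact_mod_cast (Nat.card_pos (α := G)).ne')
  obtain ⟨n, ρ', hρ'⟩ := realizableOver_subChar F ρ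
  have hc : Cfsg.IsCharacter G (subChar F ρ) := hρ' ▸ isCharacter_subChar F ρ'
  have h := congrArg (algebraMap F ℂ) (card_inv_mul_sum_char_mul_char_eq_finrank ρ σ)
  simp only [map_mul, map_inv₀, map_natCast, map_sum] at h
  rw [classInner_def]
  refine Eq.trans ?_ h
  congr 1
  exact Finset.sum_congr rfl fun g _ => by rw [← IsCharacter.apply_inv hc g]; rfl

/-- Complements of subrepresentations over a subfield. -/
theorem exists_compl_sub [Finite G] {V : Type} [AddCommGroup V] [Module F V]
    {ρ : Representation F G V} (S : Subrepresentation ρ) :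
    ∃ T : Subrepresentation ρ, IsCompl S.toSubmodule T.toSubmodule := by
  haveI : NeZero (Nat.card G : F) := ⟨by exact_mod_cast Nat.card_pos.ne'⟩
  obtain ⟨T, hT⟩ := ComplementedLattice.exists_isCompl S
  refine ⟨T, ?_⟩
  rw [isCompl_iff, disjoint_iff, codisjoint_iff]
  exact ⟨congrArg Subrepresentation.toSubmodule (disjoint_iff.1 hT.disjoint),
    congrArg Subrepresentation.toSubmodule (codisjoint_iff.1 hT.codisjoint)⟩

theorem subChar_compl {V : Type} [AddCommGroup V] [Module F V] [FiniteDimensional F V]
    {ρ : Representation F G V} {S T : Subrepresentation ρ}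
    (hc : IsCompl S.toSubmodule T.toSubmodule) :
    subChar F ρ = subChar F S.toRepresentation + subChar F T.toRepresentation := by
  let e : (S.toRepresentation.prod T.toRepresentation).Equiv ρ :=
    Representation.Equiv.mk (Submodule.prodEquivOfIsCompl _ _ hc) fun g => by
      apply LinearMap.ext
      rintro ⟨x, y⟩
      simp [Subrepresentation.toRepresentation]
  rw [← subChar_prod]
  funext g
  exact congrArg _ (congrFun (char_iso e) g).symm

theorem realizable_of_sub_aux [Fintype G] {χ : G → ℂ} (hχ : Cfsg.IsIrrCharacter G χ) :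
    ∀ (d : ℕ) (V W : Type) [AddCommGroup V] [Module F V] [FiniteDimensional F V] [AddCommGroup W]
      [Module F W] [FiniteDimensional F W] (α : Representation F G V) (β : Representation F G W),
      finrank F W = d → χ = subChar F α - subChar F β → RealizableOver F χ := by
  intro d
  induction d using Nat.strong_induction_on with
  | _ d ih =>
    intro V W _ _ _ _ _ _ α β hd hχd
    by_cases hf : ∃ f : IntertwiningMap β α, f ≠ 0
    · obtain ⟨f, hf⟩ := hf
      let N : Subrepresentation β := f.ker
      obtain ⟨K, hK⟩ := exists_compl_sub F N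
      obtain ⟨C, hC⟩ := exists_compl_sub F f.range
      let l : K.toSubmodule →ₗ[F] f.range.toSubmodule :=
        (f.toLinearMap.comp K.toSubmodule.subtype).codRestrict _ fun x => ⟨(x : W), rfl⟩
      have hl : Function.Bijective l := by
        refine ⟨(injective_iff_map_eq_zero l).2 fun x hx => Subtype.ext ?_, ?_⟩
        · have h1 : (x : W) ∈ N.toSubmodule := LinearMap.mem_ker.2 (congrArg Subtype.val hx)
          exact (Submodule.disjoint_def.1 hK.disjoint) _ h1 x.2
        · rintro ⟨_, w, rfl⟩
          obtain ⟨a, ha, k, hk, rfl⟩ := Submodule.mem_sup.1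
            (hK.sup_eq_top ▸ Submodule.mem_top : w ∈ N.toSubmodule ⊔ K.toSubmodule)
          refine ⟨⟨k, hk⟩, Subtype.ext ?_⟩
          change f.toLinearMap k = f.toLinearMap (a + k)
          rw [map_add, LinearMap.mem_ker.1 ha, zero_add]
      let e : K.toRepresentation.Equiv f.range.toRepresentation :=
        Representation.Equiv.mk (LinearEquiv.ofBijective l hl) fun g => by
          ext x
          exact congrFun (congrArg DFunLike.coe (f.isIntertwining' g)) (x : W)
      have he : subChar F K.toRepresentation = subChar F f.range.toRepresentation :=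
        funext fun g => congrArg _ (congrFun (char_iso e) g)
      have hlt : finrank F N.toSubmodule < d := by
        rw [← hd]
        refine Submodule.finrank_lt fun htop => hf ?_
        exact IntertwiningMap.ext (LinearMap.ext fun w => LinearMap.mem_ker.1 (htop ▸ Submodule.mem_top : w ∈ N.toSubmodule))
      refine ih _ hlt _ _ C.toRepresentation N.toRepresentation rfl ?_
      rw [hχd, subChar_compl F hC, subChar_compl F hK, he]
      abel
    push Not at hf
    haveI : Subsingleton (IntertwiningMap β α) := ⟨fun a b => by rw [hf a, hf b]⟩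
    have h0 : Cfsg.classInner (subChar F α) (subChar F β) = 0 := by
      rw [classInner_subChar, Module.finrank_zero_of_subsingleton, Nat.cast_zero]
    have h0' : Cfsg.classInner (subChar F β) (subChar F α) = 0 := by
      rw [← classInner_conj, h0, map_zero]
    have h1 := IsIrrCharacter.classInner_self hχ
    rw [hχd, classInner_sub_left, classInner_sub_right, classInner_sub_right, h0, h0',
      classInner_subChar, classInner_subChar, sub_zero, zero_sub, sub_neg_eq_add, ← Nat.cast_add,
      Nat.cast_eq_one] at h1
    have hV : 1 ≤ finrank F (IntertwiningMap α α) := by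
      by_contra h
      have h2 : Cfsg.classInner (subChar F α) (subChar F α) = 0 := by
        rw [classInner_subChar, show finrank F (IntertwiningMap α α) = 0 by omega, Nat.cast_zero]
      have h3 : subChar F α 1 = 0 := by rw [classInner_self_eq_zero h2]; rfl
      have h4 : χ 1 = (finrank F V : ℂ) - (finrank F W : ℂ) := by
        rw [hχd]; simp [subChar]
      obtain ⟨k, hk0, hk⟩ := IsIrrCharacter.exists_degree hχ
      simp [subChar] at h3
      rw [h3, Nat.cast_zero, zero_sub, hk] at h4
      have h5 : ((k + finrank F W : ℕ) : ℂ) = 0 := by push_cast; rw [h4]; ring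
      have h6 : k + finrank F W = 0 := by exact_mod_cast h5
      omega
    have hW : Cfsg.classInner (subChar F β) (subChar F β) = 0 := by
      rw [classInner_subChar, show finrank F (IntertwiningMap β β) = 0 by omega, Nat.cast_zero]
    rw [hχd, classInner_self_eq_zero hW, sub_zero]
    exact realizableOver_subChar F α

/-- An irreducible character which is a difference of afforded characters is afforded. -/
theorem realizable_of_sub [Fintype G] {χ : G → ℂ} (hχ : Cfsg.IsIrrCharacter G χ) {a b : G → ℂ}
    (ha : RealizableOver F a) (hb : RealizableOver F b) (h : χ = a - b) : RealizableOver F χ := by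
  obtain ⟨n, α, rfl⟩ := ha
  obtain ⟨m, β, rfl⟩ := hb
  exact realizable_of_sub_aux F hχ _ _ _ α β rfl h

/-- Monomial representations are realised over any field containing the values. -/
theorem realizable_indFun [Fintype G] (H : Subgroup G) (lam : H →* ℂˣ) (hF : ∀ h, (lam h : ℂ) ∈ F) :
    RealizableOver F (Cfsg.indFun H fun h => (lam h : ℂ)) := by
  classical
  let w : H → F := fun h => ⟨lam h, hF h⟩
  have hw : ∀ a b, w (a * b) = w a * w b := fun a b => Subtype.ext (by simp [w])
  let ext0 : G → F := fun x => if hx : x ∈ H then w ⟨x, hx⟩ else 0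
  have hmul : ∀ x y, x ∈ H → ext0 (x * y) = ext0 x * ext0 y := by
    intro x y hx
    by_cases hy : y ∈ H
    · simp only [ext0, dif_pos hx, dif_pos hy, dif_pos (H.mul_mem hx hy)]
      exact hw ⟨x, hx⟩ ⟨y, hy⟩
    · simp only [ext0, dif_neg hy, dif_neg ((H.mul_mem_cancel_left hx).not.2 hy), mul_zero]
  let t : G ⧸ H → G := Quotient.out
  have ht : ∀ q, (t q : G ⧸ H) = q := fun q => Quotient.out_eq q
  let M : G → Matrix (G ⧸ H) (G ⧸ H) F := fun g => Matrix.of fun i j => ext0 ((t i)⁻¹ * g * t j)
  haveI : Fintype (G ⧸ H) := Fintype.ofFinite _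
  have hzero : ∀ g i j, i ≠ ((g * t j : G) : G ⧸ H) → ext0 ((t i)⁻¹ * g * t j) = 0 := by
    intro g i j hij
    refine dif_neg fun hmem => hij ?_
    rw [← ht i, QuotientGroup.eq, ← mul_assoc]
    exact hmem
  have hM1 : M 1 = 1 := by
    ext i j
    by_cases hij : i = j
    · subst hij
      simp only [M, Matrix.of_apply, mul_one, inv_mul_cancel, Matrix.one_apply_eq, ext0, dif_pos H.one_mem]
      exact congrArg Subtype.val (Subtype.ext (by
        change (lam (1 : H) : ℂ) = 1
        rw [map_one, Units.val_one]) : w ⟨1, H.one_mem⟩ = 1)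
    · simp only [M, Matrix.of_apply, Matrix.one_apply_ne hij]
      exact congrArg Subtype.val (hzero 1 i j (by rw [one_mul, ht]; exact hij))
  have hMmul : ∀ g h, M (g * h) = M g * M h := by
    intro g h
    ext i k
    rw [Matrix.mul_apply, Finset.sum_eq_single (((h * t k : G) : G ⧸ H))]
    · simp only [M, Matrix.of_apply]
      refine congrArg Subtype.val ?_
      set j := ((h * t k : G) : G ⧸ H) with hj
      have hmem : (t j)⁻¹ * h * t k ∈ H := by
        rw [mul_assoc]
        exact QuotientGroup.eq.1 (ht j)
      by_cases hi : (t i)⁻¹ * g * t j ∈ H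
      · rw [← hmul _ _ hi]
        congr 1
        group
      · have h1 : (t i)⁻¹ * (g * h) * t k ∉ H := fun h2 => hi (by
          have := H.mul_mem h2 (H.inv_mem hmem)
          simpa [mul_assoc] using this)
        simp only [ext0, dif_neg hi, dif_neg h1, zero_mul]
    · intro j _ hj
      simp only [M, Matrix.of_apply, hzero h j k hj, mul_zero]
    · simp
  let Mh : G →* Matrix (G ⧸ H) (G ⧸ H) F := { toFun := M, map_one' := hM1, map_mul' := hMmul }
  let e₀ := Fintype.equivFin (G ⧸ H)
  let R := (Matrix.reindexAlgEquiv F F e₀).toRingEquiv.toMonoidHom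
  let ρ : Representation F G (Fin (Fintype.card (G ⧸ H)) → F) :=
    (Matrix.toLinAlgEquiv' (R := F) (n := Fin (Fintype.card (G ⧸ H)))).toRingEquiv.toMonoidHom.comp
      (R.comp Mh)
  have hρ : subChar F ρ = Cfsg.indFun H fun h => (lam h : ℂ) := by
    funext g
    have h1 : ρ.character g = ∑ i, ext0 ((t i)⁻¹ * g * t i) := by
      refine (Matrix.trace_toLin'_eq (Matrix.reindex e₀ e₀ (M g))).trans ?_
      exact Equiv.sum_comp e₀.symm fun i => ext0 ((t i)⁻¹ * g * t i)
    have hext : ∀ x, (ext0 x : ℂ) = Cfsg.extendByZero H (fun h => (lam h : ℂ)) x := by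
      intro x
      by_cases hx : x ∈ H
      · rw [extendByZero_of_mem _ hx]; simp [ext0, hx, w]
      · rw [extendByZero_of_not_mem _ hx]; simp [ext0, hx]
    have hconj : ∀ (h : H) (y : G), ext0 ((h : G)⁻¹ * y * h) = ext0 y := by
      intro h y
      rw [mul_assoc, hmul _ _ (H.inv_mem h.2)]
      by_cases hy : y ∈ H
      · rw [hmul y _ hy, mul_comm (ext0 y), ← mul_assoc, ← hmul _ _ (H.inv_mem h.2), inv_mul_cancel]
        simp only [ext0, dif_pos H.one_mem]
        rw [show w ⟨1, H.one_mem⟩ = 1 from Subtype.ext (by change (lam (1 : H) : ℂ) = 1; rw [map_one, Units.val_one]), one_mul]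
      · simp only [ext0, dif_neg hy, dif_neg ((H.mul_mem_cancel_right h.2).not.2 hy), mul_zero]
    change ((ρ.character g : F) : ℂ) = _
    rw [indFun_def, h1]
    let e : (G ⧸ H) × H ≃ G :=
      Equiv.ofBijective (fun p => t p.1 * (p.2 : G)) ⟨fun p q hpq => by
        have h2 : p.1 = q.1 := by
          have := congrArg (fun x : G => (x : G ⧸ H)) hpq
          simpa [ht, QuotientGroup.mk_mul_of_mem _ p.2.2, QuotientGroup.mk_mul_of_mem _ q.2.2] using this
        refine Prod.ext h2 (Subtype.ext (mul_left_cancel (a := t p.1) ?_))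
        conv_rhs => rw [h2]
        exact hpq, fun x => ⟨((x : G ⧸ H), ⟨(t x)⁻¹ * x, QuotientGroup.eq.1 (ht _)⟩), by simp⟩⟩
    have key : ∀ i (h : H), Cfsg.extendByZero H (fun h => (lam h : ℂ)) ((e (i, h))⁻¹ * g * e (i, h)) =
        (ext0 ((t i)⁻¹ * g * t i) : ℂ) := fun i h => by
      rw [← hext, show (e (i, h))⁻¹ * g * e (i, h) = (h : G)⁻¹ * ((t i)⁻¹ * g * t i) * h by
        change (t i * (h : G))⁻¹ * g * (t i * (h : G)) = _
        group, hconj]
    rw [← Equiv.sum_comp e, Fintype.sum_prod_type]
    simp only [key]
    simp only [Finset.sum_const, Finset.card_univ, ← Nat.card_eq_fintype_card, nsmul_eq_mul]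
    rw [← Finset.mul_sum, inv_mul_cancel_left₀ (by exact_mod_cast (Nat.card_pos (α := H)).ne')]
    push_cast
    rfl
  exact hρ ▸ realizableOver_subChar F ρ

theorem realizable_nsmul {χ : G → ℂ} (h : RealizableOver F χ) :
    ∀ k : ℕ, RealizableOver F ((k : ℂ) • χ)
  | 0 => by rw [Nat.cast_zero, zero_smul]; exact realizableOver_zero F
  | k + 1 => by rw [Nat.cast_succ, add_smul, one_smul]; exact (realizable_nsmul h k).add F h

/-- Brauer: every character is afforded over a field containing enough roots of unity. -/
theorem realizable_of_isCharacter [Fintype G] (hF : ∀ z : ℂ, z ^ Monoid.exponent G = 1 → z ∈ F)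
    {χ : G → ℂ} (hχ : Cfsg.IsCharacter G χ) : RealizableOver F χ := by
  classical
  refine IsCharacter.induction_irr (P := RealizableOver F) (realizableOver_zero F)
    (fun a b ha hb => ha.add F hb) (fun ψ hψ => ?_) hχ
  obtain ⟨l, -, hl⟩ := exists_list_of_mem_linSpan (brauer_induction (IsIrrCharacter.isCharacter hψ))
  suffices ∀ l : List ((E : Subgroup G) × ((E →* ℂˣ) × ℤ)), ∃ a b, RealizableOver F a ∧ RealizableOver F b ∧
      (l.map fun t => (t.2.2 : ℂ) • Cfsg.indFun t.1 (fun e => (t.2.1 e : ℂ))).sum = a - b by
    obtain ⟨a, b, ha, hb, hab⟩ := this l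
    exact realizable_of_sub F hψ ha hb (hl.trans hab)
  intro l
  induction l with
  | nil => exact ⟨0, 0, realizableOver_zero F, realizableOver_zero F, by simp⟩
  | cons t l ih =>
    obtain ⟨a, b, ha, hb, hab⟩ := ih
    have ht : RealizableOver F (Cfsg.indFun t.1 fun e => (t.2.1 e : ℂ)) :=
      realizable_indFun F t.1 t.2.1 fun h => hF _ (by
        rw [← Units.val_pow_eq_pow_val, ← map_pow,
          show h ^ Monoid.exponent G = 1 from Subtype.ext (Monoid.pow_exponent_eq_one (h : G)), map_one,
          Units.val_one])
    simp only [List.map_cons, List.sum_cons, hab]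
    rcases Int.eq_nat_or_neg t.2.2 with ⟨k, hk | hk⟩ <;> rw [hk] <;> push_cast
    · exact ⟨_, b, (realizable_nsmul F ht k).add F ha, hb, by abel⟩
    · refine ⟨a, _, ha, (realizable_nsmul F ht k).add F hb, ?_⟩
      rw [neg_smul]; abel

end CfsgLib.Char
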