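import Cfsg.Agent.Char.CliffordCorrespondence
import Cfsg.Agent.Char.NormalSub
import Cfsg.Agent.Char.Monomial
import Cfsg.Agent.Char.Burnside
import Cfsg.Agent.Char.IndSpan
import Cfsg.Agent.Char.RestrictInd
import Mathlib.GroupTheory.Nilpotent
import Mathlib.GroupTheory.Sylow
import Mathlib.GroupTheory.Solvable

/-!
# Monomiality relative to a normal subgroup with abelian Sylow subgroups
-/

set_option autoImplicit false
set_option linter.style.haveILetI false

namespace CfsgLib.Char

open scoped commutatorElement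

universe u v

/-- A finite group of class two with abelian Sylow subgroups is abelian. -/
theorem commute_of_sylow_abelian {A : Type u} [Group A] [Finite A]
    (hc : commutator A ≤ Subgroup.center A)
    (hS : ∀ (p : ℕ) [Fact p.Prime] (P : Sylow p A), ∀ a ∈ P, ∀ b ∈ P, a * b = b * a)
    (a b : A) : a * b = b * a := by
  haveI : Group.IsNilpotent A :=
    Subgroup.isNilpotent_of_ker_le_center (f := Abelianization.of)
      (by rw [Abelianization.ker_of]; exact hc)
  have hnc : NormalizerCondition A := Group.normalizerCondition_of_isNilpotent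
  have hall : ∀ (p : ℕ) [Fact p.Prime] (P : Sylow p A),
      Subgroup.centralizer ((P : Subgroup A) : Set A) = ⊤ := by
    intro p _ P
    have hge : ∀ (q : ℕ) [Fact q.Prime] (Q : Sylow q A),
        (Q : Subgroup A) ≤ Subgroup.centralizer ((P : Subgroup A) : Set A) := by
      intro q _ Q x hx y hy
      by_cases hqp : q = p
      · subst hqp
        have hsub : P = Q := by
          haveI := P.normal_of_normalizerCondition hnc
          obtain ⟨g, rfl⟩ := MulAction.exists_smul_eq A P Q
          exact (Sylow.smul_eq_iff_mem_normalizer.2 (by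
            show g ∈ Subgroup.normalizer ((P : Subgroup A) : Set A)
            rw [Subgroup.normalizer_eq_top]; exact Subgroup.mem_top g)).symm
        subst hsub
        exact hS q P y hy x hx
      · exact Subgroup.commute_of_normal_of_disjoint _ _ (P.normal_of_normalizerCondition hnc)
          (Q.normal_of_normalizerCondition hnc)
          (IsPGroup.disjoint_of_ne _ _ (Ne.symm hqp) _ _ P.isPGroup' Q.isPGroup') y x hy hx
    refine Subgroup.index_eq_one.1 ?_
    by_contra h
    obtain ⟨q, hq, hqd⟩ := Nat.exists_prime_and_dvd h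
    haveI : Fact q.Prime := ⟨hq⟩
    obtain ⟨Q⟩ : Nonempty (Sylow q A) := inferInstance
    exact Q.not_dvd_index (hqd.trans (Subgroup.index_dvd_of_le (hge q Q)))
  have hcen : Subgroup.center A = ⊤ := by
    refine Subgroup.index_eq_one.1 ?_
    by_contra h
    obtain ⟨q, hq, hqd⟩ := Nat.exists_prime_and_dvd h
    haveI : Fact q.Prime := ⟨hq⟩
    obtain ⟨Q⟩ : Nonempty (Sylow q A) := inferInstance
    refine Q.not_dvd_index (hqd.trans (Subgroup.index_dvd_of_le ?_))
    intro x hx
    rw [Subgroup.mem_center_iff]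
    intro g
    have hg : g ∈ Subgroup.centralizer ((Q : Subgroup A) : Set A) :=
      hall q Q ▸ Subgroup.mem_top g
    exact (hg x hx).symm
  exact (Subgroup.mem_center_iff.1 (hcen ▸ Subgroup.mem_top b) a)

/-- An irreducible character restricting irreducibly to a normal subgroup with abelian Sylow
subgroups, in a solvable group, is induced from a linear character. -/
theorem exists_indFun_linear_of_restrict (n : ℕ) : ∀ (U : Type u) [Group U] [Fintype U],
    Nat.card U = n → Group.IsSolvable U → ∀ (M : Subgroup U) [M.Normal],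
    (∀ (p : ℕ) [Fact p.Prime] (P : Subgroup U), P ≤ M → IsPGroup p P →
      ∀ a ∈ P, ∀ b ∈ P, a * b = b * a) →
    ∀ η : U → ℂ, Cfsg.IsIrrCharacter U η → Cfsg.IsIrrCharacter M (fun x : M => η x) →
    ∃ (V : Subgroup U) (lam : V →* ℂˣ), Cfsg.indFun V (fun v => (lam v : ℂ)) = η := by
  induction n using Nat.strong_induction_on with
  | _ n ih =>
  intro U _ _ hn hsolv M hMn hab η hη hηM
  subst hn
  classical
  by_cases hlin : η 1 = 1
  · obtain ⟨lam, hlam⟩ := IsCharacter.exists_hom (IsIrrCharacter.isCharacter hη) hlin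
    refine ⟨⊤, lam.comp (⊤ : Subgroup U).subtype, ?_⟩
    subst hlam
    exact indFun_top (IsCharacter.isClassFunction (isCharacter_ofHom lam))
  obtain ⟨d, σ, hσ, rfl⟩ := id hη
  haveI := hσ
  set Z := M ⊓ scalarSubgroup σ
  have hZn : Z.Normal := inferInstance
  by_cases hMZ : M ≤ scalarSubgroup σ
  · exfalso
    apply hlin
    have h1 := IsIrrCharacter.apply_one_eq_one_of_commutators hηM fun a b => by
      change σ.character ((a : U) * b * (a : U)⁻¹ * (b : U)⁻¹) = σ.character ((1 : M) : U)
      have : σ ((a : U) * b * (a : U)⁻¹ * (b : U)⁻¹) = 1 := by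
        rw [map_mul, map_mul, map_mul, (hMZ a.2 (σ b)).eq, mul_assoc (σ b), ← map_mul,
          mul_inv_cancel, map_one, mul_one, ← map_mul, mul_inv_cancel, map_one]
      simp [Representation.character, this]
    simpa using h1
  have hZM : Z < M := lt_of_le_of_ne inf_le_left fun h => hMZ (h ▸ inf_le_right)
  obtain ⟨A, ⟨hAn, hZA, hAM⟩, hAmin⟩ := (Set.toFinite {A : Subgroup U | A.Normal ∧ Z < A ∧
    A ≤ M}).exists_minimal ⟨M, hMn, hZM, le_rfl⟩
  haveI := hAn
  have hchief : ∀ B : Subgroup U, B.Normal → Z ≤ B → B ≤ A → B = Z ∨ B = A := by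
    intro B hB h1 h2
    rcases h1.lt_or_eq with h | h
    · exact Or.inr (le_antisymm h2 (hAmin ⟨hB, h, h2.trans hAM⟩ h2))
    · exact Or.inl h.symm
  have hcomm : ⁅A, A⁆ ≤ Z := by
    rcases hchief (⁅A, A⁆ ⊔ Z) inferInstance le_sup_right
      (sup_le (Subgroup.commutator_le_left _ _) hZA.le) with h | h
    · exact le_sup_left.trans h.le
    · exfalso
      obtain ⟨j, hj⟩ := (Group.isSolvable_def (U ⧸ Z)).1 inferInstance
      have hq : ∀ i : ℕ, A.map (QuotientGroup.mk' Z) ≤ derivedSeries (U ⧸ Z) i := by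
        intro i
        induction i with
        | zero => simp
        | succ i ih' =>
          calc A.map (QuotientGroup.mk' Z) = (⁅A, A⁆ ⊔ Z).map (QuotientGroup.mk' Z) := by rw [h]
            _ = ⁅A.map (QuotientGroup.mk' Z), A.map (QuotientGroup.mk' Z)⁆ := by
              rw [Subgroup.map_sup, Subgroup.map_commutator, QuotientGroup.map_mk'_self,
                sup_bot_eq]
            _ ≤ _ := Subgroup.commutator_mono ih' ih'
      have h1 := hq j
      rw [hj, le_bot_iff, Subgroup.map_eq_bot_iff, QuotientGroup.ker_mk'] at h1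
      exact hZA.not_ge h1
  -- the image of `A` is abelian
  let f : A →* (Module.End ℂ (Fin d → ℂ))ˣ := (MonoidHom.toHomUnits (G := U) σ).comp A.subtype
  have hAcomm : ∀ a b : A, σ (a : U) * σ (b : U) = σ (b : U) * σ (a : U) := by
    intro a b
    have hcen : commutator f.range ≤ Subgroup.center f.range := by
      rw [commutator_def, Subgroup.commutator_le]
      rintro ⟨_, x, rfl⟩ - ⟨_, y, rfl⟩ -
      rw [Subgroup.mem_center_iff]
      intro z
      refine Subtype.ext (Units.ext ?_)
      have hs := (hcomm (Subgroup.commutator_mem_commutator x.2 y.2)).2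
        ((z : (Module.End ℂ (Fin d → ℂ))ˣ) : Module.End ℂ (Fin d → ℂ))
      simp only [commutatorElement_def, map_mul] at hs
      simp only [commutatorElement_def, f, Subgroup.coe_mul, Subgroup.coe_inv, Units.val_mul,
        MonoidHom.comp_apply, Subgroup.coe_subtype, ← map_inv, MonoidHom.coe_toHomUnits]
      exact hs.eq.symm
    have key := commute_of_sylow_abelian hcen
      (fun p _ P x hx y hy => ?_) ⟨f a, a, rfl⟩ ⟨f b, b, rfl⟩
    · have := congrArg (fun w : f.range => (((w : (Module.End ℂ (Fin d → ℂ))ˣ)) :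
        Module.End ℂ (Fin d → ℂ))) key
      simpa [f] using this
    · obtain ⟨Q, rfl⟩ := Sylow.mapSurjective_surjective f.rangeRestrict_surjective p P
      obtain ⟨x', hx', rfl⟩ := hx
      obtain ⟨y', hy', rfl⟩ := hy
      have := hab p ((Q : Subgroup A).map A.subtype) ((Subgroup.map_subtype_le _).trans hAM)
        (Q.isPGroup'.map _) _ (Subgroup.mem_map_of_mem A.subtype hx') _
        (Subgroup.mem_map_of_mem A.subtype hy')
      rw [← map_mul, ← map_mul]
      exact congrArg _ (Subtype.ext this)
  haveI := Fintype.ofFinite A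
  haveI := Fintype.ofFinite M
  obtain ⟨θ, hθ, hc⟩ := exists_constituent_restrict (N := A) hη
  have hθ1 : θ 1 = 1 := IsIrrCharacter.apply_one_eq_one_of_commutators hθ fun x y =>
    IsCharacter.apply_eq_of_add (IsIrrCharacter.isCharacter hθ)
      (IsCharacter.sub_irr (IsCharacter.restrict (IsIrrCharacter.isCharacter hη) A) hθ hc) (by
        simp only [add_sub_cancel, Subgroup.coe_mul, Subgroup.coe_inv, OneMemClass.coe_one]
        have : σ ((x : U) * y * (x : U)⁻¹ * (y : U)⁻¹) = 1 := by
          rw [map_mul, map_mul, map_mul, hAcomm x y, mul_assoc (σ y), ← map_mul, mul_inv_cancel,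
            map_one, mul_one, ← map_mul, mul_inv_cancel, map_one]
        simp [Representation.character, this])
  have hIne : inertia θ ≠ ⊤ := by
    intro htop
    refine hZA.not_ge fun a ha => ⟨hAM ha, ?_⟩
    have h1 := restrict_eq_smul_of_invariant hη hθ htop hc
    obtain ⟨lam, rfl⟩ := IsCharacter.exists_hom (IsIrrCharacter.isCharacter hθ) hθ1
    obtain ⟨e, he⟩ := IsCharacter.exists_classInner_eq_natCast
      (IsCharacter.restrict (IsIrrCharacter.isCharacter hη) A) hθ
    rw [he] at h1
    have hd' : (Module.finrank ℂ (Fin d → ℂ) : ℂ) = e := by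
      rw [← σ.char_one]
      simpa using congrFun h1 1
    have hn : ‖σ.character a‖ = (Module.finrank ℂ (Fin d → ℂ) : ℝ) := by
      rw [show σ.character a = (e : ℂ) * (lam ⟨a, ha⟩ : ℂ) from congrFun h1 ⟨a, ha⟩, norm_mul,
        norm_hom_eq_one, mul_one, Complex.norm_natCast]
      exact_mod_cast hd'.symm
    obtain ⟨ω, hω⟩ := (norm_character_eq_iff σ a).1 hn
    intro B
    rw [hω]
    exact (Commute.one_left B).smul_left ω
  set T := inertia θ with hT
  have hAT : A ≤ T := le_inertia (IsIrrCharacter.isClassFunction hθ)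
  obtain ⟨ψ, hψ, hψη, -⟩ := exists_indFun_eq_of_inertia hAT hθ rfl hη hc
  have hMT : ∀ g : U, ∃ a ∈ M, ∃ b ∈ T, a * b = g := by
    intro g
    haveI : (A.subgroupOf M).Normal := hAn.subgroupOf M
    haveI := Fintype.ofFinite (A.subgroupOf M)
    have hc' : ∀ φ : A → ℂ, Cfsg.classInner (fun x : A => σ.character x) φ ≠ 0 →
        Cfsg.classInner (fun x : A.subgroupOf M => σ.character ((x : M) : U))
          (pullBack φ) ≠ 0 := by
      intro φ hφ h0
      rw [← classInner_pullBack (T := M) hAM] at hφ
      exact hφ h0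
    have hg : Cfsg.classInner (fun x : A => σ.character x) (conjOn g⁻¹ θ) ≠ 0 := by
      rwa [classInner_restrict_conjOn (IsIrrCharacter.isClassFunction hη)]
    obtain ⟨m, hm⟩ := mem_conjOrbit.1 (mem_conjOrbit_of_constituent hηM
      (isIrrCharacter_pullBack hAM hθ)
      (isIrrCharacter_pullBack hAM (isIrrCharacter_conjOn hθ g⁻¹))
      (hc' θ hc) (hc' _ hg))
    have heq : conjOn g⁻¹ θ = conjOn (m : U) θ := funext fun x =>
      congrFun hm ⟨⟨(x : U), hAM x.2⟩, Subgroup.mem_subgroupOf.2 x.2⟩
    have hmem : g⁻¹ * (m : U)⁻¹ ∈ T := by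
      rw [hT, mem_inertia, ← conjOn_conjOn, heq, conjOn_conjOn, mul_inv_cancel, conjOn_one]
    exact ⟨(m : U)⁻¹, M.inv_mem m.2, (g⁻¹ * (m : U)⁻¹)⁻¹, T.inv_mem hmem, by group⟩
  have hψM : Cfsg.IsIrrCharacter (T.subgroupOf M)
      (fun u : T.subgroupOf M => ψ ⟨((u : M) : U), u.2⟩) := by
    refine isIrr_of_indFun_isIrr (IsCharacter.comp (IsIrrCharacter.isCharacter hψ)
      ({ toFun := fun u => ⟨((u : M) : U), u.2⟩, map_one' := rfl, map_mul' := fun _ _ => rfl } :
        T.subgroupOf M →* T)) ?_
    have h1 := indFun_restrict_of_mul_eq_top M T hMT (IsIrrCharacter.isClassFunction hψ)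
    rw [hψη] at h1
    convert hηM using 1
    exact h1.symm
  have hlt : Nat.card T < Nat.card U :=
    lt_of_le_of_ne T.card_le_card_group fun h => hIne (Subgroup.eq_top_of_card_eq _ h)
  haveI : (M.subgroupOf T).Normal := hMn.subgroupOf T
  have hψM' : Cfsg.IsIrrCharacter (M.subgroupOf T) (fun x : M.subgroupOf T => ψ x) := by
    let e : M.subgroupOf T ≃* T.subgroupOf M :=
      { toFun := fun x => ⟨⟨((x : T) : U), x.2⟩, (x : T).2⟩
        invFun := fun y => ⟨⟨((y : M) : U), y.2⟩, (y : M).2⟩
        left_inv := fun _ => rfl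
        right_inv := fun _ => rfl
        map_mul' := fun _ _ => rfl }
    exact IsIrrCharacter.comp_surjective hψM e.toMonoidHom e.surjective
  obtain ⟨V, lam, hV⟩ := ih _ hlt T rfl inferInstance (M.subgroupOf T)
    (fun p _ P hP hp x hx y hy => Subtype.ext (hab p (P.map T.subtype)
      (by rintro _ ⟨z, hz, rfl⟩; exact hP hz) (hp.map _) _
      (Subgroup.mem_map_of_mem T.subtype hx) _ (Subgroup.mem_map_of_mem T.subtype hy)))
    ψ hψ hψM'
  refine ⟨V.map T.subtype,
    lam.comp (V.equivMapOfInjective T.subtype T.subtype_injective).symm.toMonoidHom, ?_⟩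
  rw [← hψη, ← hV, ← indFun_indFun_map V]
  congr 2
  funext u
  simp only [MonoidHom.comp_apply, MulEquiv.coe_toMonoidHom]
  congr 2
  exact (MulEquiv.symm_apply_eq _).2 (Subtype.ext rfl)

end CfsgLib.Char
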