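import Cfsg.Agent.Char.CliffordCorrespondence
import Cfsg.Agent.Char.Linear
import Cfsg.Agent.Char.Central
import Cfsg.Agent.Char.Kernel
import Cfsg.Agent.Solvable.Basics

/-!
# Characters with roots of unity as values on the `p`-singular elements: the `p`-core
-/

set_option autoImplicit false
set_option linter.style.haveILetI false
set_option linter.unusedSectionVars false

namespace CfsgLib.Char.RootSingular

open Subgroup Cfsg
open scoped ComplexConjugate commutatorElement

universe u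

theorem sum_norm_sq {A : Type u} [Group A] [Fintype A] (f : A → ℂ) :
    ((∑ a, ‖f a‖ ^ 2 : ℝ) : ℂ) = (Nat.card A : ℂ) * classInner f f := by
  rw [← sum_eq_card_mul_classInner, Complex.ofReal_sum]
  exact Finset.sum_congr rfl fun a _ => by rw [Complex.mul_conj', Complex.ofReal_pow]

theorem inner_expansion {A : Type u} [Group A] [Fintype A] (s : Finset (A → ℂ))
    (hs : ∀ f ∈ s, IsIrrCharacter A f) (a : (A → ℂ) → ℂ) :
    classInner (∑ f ∈ s, a f • f) (∑ f ∈ s, a f • f) = ∑ f ∈ s, ((‖a f‖ ^ 2 : ℝ) : ℂ) := by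
  rw [classInner_sum_left]
  refine Finset.sum_congr rfl fun f hf => ?_
  rw [classInner_sum_right, Finset.sum_eq_single f]
  · rw [classInner_smul_left, classInner_smul_right, IsIrrCharacter.classInner_self (hs f hf),
      mul_one, Complex.mul_conj', Complex.ofReal_pow]
  · intro g hg hne
    rw [classInner_smul_left, classInner_smul_right,
      IsIrrCharacter.classInner_of_ne (hs f hf) (hs g hg) (Ne.symm hne), mul_zero, mul_zero]
  · exact fun h => absurd hf h

theorem arith {e t s : ℕ} (he : 0 < e) (ht : 2 ≤ e * t) (hs : 0 < s)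
    (h : e ^ 2 * t * s + 1 = t + s) : e = 1 ∧ s = 1 := by
  have ht0 : 0 < t := Nat.pos_of_ne_zero fun h0 => by rw [h0, mul_zero] at ht; omega
  have h1 : t + s ≤ t * s + 1 := by nlinarith
  have he1 : e = 1 := by
    by_contra hne
    have h2 : 2 ≤ e := by omega
    have h3 : 4 * (t * s) ≤ e ^ 2 * t * s := by
      rw [mul_assoc]
      exact Nat.mul_le_mul_right _ (by nlinarith)
    have : 0 < t * s := Nat.mul_pos ht0 hs
    omega
  subst he1
  rw [one_mul] at ht
  refine ⟨rfl, ?_⟩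
  nlinarith

variable {G : Type u} [Group G] [Finite G] {p : ℕ} [Fact p.Prime] {χ : G → ℂ} {P : Subgroup G}
  [P.Normal]

/-- The hypotheses. -/
structure Hyp (p : ℕ) (χ : G → ℂ) (P : Subgroup G) : Prop where
  irr : IsIrrCharacter G χ
  faith : ∀ g : G, χ g = χ 1 → g = 1
  nl : χ 1 ≠ 1
  root : ∀ g : G, p ∣ orderOf g → ‖χ g‖ = 1
  pgroup : IsPGroup p P
  ne_bot : P ≠ ⊥

omit [P.Normal] in
theorem dvd_orderOf {u : G} (hP : IsPGroup p P) (hu : u ∈ P) (hu1 : u ≠ 1) : p ∣ orderOf u := by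
  obtain ⟨k, hk⟩ := IsPGroup.iff_orderOf.1 hP ⟨u, hu⟩
  rw [orderOf_mk] at hk
  refine hk ▸ dvd_pow_self p fun h0 => hu1 (orderOf_eq_one_iff.1 (by rw [hk, h0, pow_zero]))

/-- The restriction to the `p`-subgroup. -/
theorem exists_data [Fintype G] [Fintype P] (H : Hyp p χ P) :
    ∃ θ : P →* ℂˣ, θ ≠ 1 ∧ (∀ a b : P, a * b = b * a) ∧
      χ 1 = ((Nat.card P - 1 : ℕ) : ℂ) ∧
      (inertia (G := G) fun n : P => (θ n : ℂ)).index + 1 = Nat.card P ∧
      classInner (fun n : P => χ n) (fun n : P => (θ n : ℂ)) = 1 ∧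
      ∀ l : P →* ℂˣ, l ≠ 1 → (fun n : P => (l n : ℂ)) ∈ conjOrbit (G := G) fun n : P => (θ n : ℂ) := by
  classical
  have hp : p.Prime := Fact.out
  obtain ⟨θ, hθ, hc⟩ := exists_constituent_restrict (N := P) H.irr
  obtain ⟨e, he⟩ := IsCharacter.exists_classInner_eq_natCast
    (IsCharacter.restrict (IsIrrCharacter.isCharacter H.irr) P) hθ
  obtain ⟨a, ha0, ha⟩ := IsIrrCharacter.exists_degree hθ
  obtain ⟨t, ht⟩ : ∃ t, t = (inertia (G := G) θ).index := ⟨_, rfl⟩
  have hdeg : χ 1 = ((e * t * a : ℕ) : ℂ) := by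
    rw [degree_eq_mul H.irr hθ hc, he, ← ht, ha]; push_cast; ring
  have hres := restrict_eq_smul_sum H.irr hθ hc
  have hnorm : classInner (fun n : P => χ n) (fun n : P => χ n) = ((e ^ 2 * t : ℕ) : ℂ) := by
    rw [hres, Finset.smul_sum, inner_expansion (conjOrbit θ)
      (fun f hf => by obtain ⟨g, rfl⟩ := mem_conjOrbit.1 hf; exact isIrrCharacter_conjOn hθ g)
      (fun _ => classInner (fun n : P => χ n) θ), Finset.sum_const, he, Complex.norm_natCast,
      card_conjOrbit, ← ht, nsmul_eq_mul]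
    push_cast
    ring
  have hsum := sum_norm_sq fun n : P => χ n
  rw [hnorm, ← Finset.add_sum_erase _ _ (Finset.mem_univ (1 : P)),
    Finset.sum_congr rfl (g := fun _ => (1 : ℝ)) fun u hu => by
      rw [H.root _ (dvd_orderOf H.pgroup u.2 fun h => Finset.ne_of_mem_erase hu (Subtype.ext h)),
        one_pow],
    Finset.sum_const, Finset.card_erase_of_mem (Finset.mem_univ _), Finset.card_univ,
    ← Nat.card_eq_fintype_card, nsmul_eq_mul, mul_one, OneMemClass.coe_one, hdeg,
    Complex.norm_natCast] at hsum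
  have heq : (e * t * a) ^ 2 + (Nat.card P - 1) = Nat.card P * (e ^ 2 * t) := by
    have := hsum
    exact_mod_cast this
  obtain ⟨k, hk⟩ := IsPGroup.iff_card.1 H.pgroup
  have hk0 : k ≠ 0 := fun h => H.ne_bot (card_eq_one.1 (by rw [hk, h, pow_zero]))
  have hpa : ¬ p ∣ e * t * a := by
    intro hd
    have h1 : p ∣ (e * t * a) ^ 2 + (Nat.card P - 1) :=
      heq ▸ dvd_mul_of_dvd_left (hk ▸ dvd_pow_self p hk0) _
    have h2 : p ∣ Nat.card P - 1 := (Nat.dvd_add_right (dvd_pow hd two_ne_zero)).1 h1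
    have h3 := Nat.dvd_sub (hk ▸ dvd_pow_self p hk0 : p ∣ Nat.card P) h2
    rw [Nat.sub_sub_self Nat.card_pos] at h3
    exact hp.not_dvd_one h3
  have ha1 : a = 1 := by
    obtain ⟨j, -, hj⟩ := (Nat.dvd_prime_pow hp).1 (hk ▸ IsIrrCharacter.degree_dvd_card hθ ha)
    rcases Nat.eq_zero_or_pos j with rfl | hj0
    · exact hj
    · exact absurd (dvd_mul_of_dvd_right (hj ▸ dvd_pow_self p hj0.ne') _) hpa
  subst ha1
  obtain ⟨l₀, rfl⟩ := IsCharacter.exists_hom (IsIrrCharacter.isCharacter hθ)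
    (by rw [ha, Nat.cast_one])
  have hlin : ∀ f ∈ conjOrbit (G := G) (fun n : P => (l₀ n : ℂ)),
      ∃ l : P →* ℂˣ, f = fun n : P => (l n : ℂ) := by
    intro f hf
    obtain ⟨g, rfl⟩ := mem_conjOrbit.1 hf
    exact ⟨l₀.comp (MulAut.conjNormal g).toMonoidHom, conjOn_eq_comp g _⟩
  have hab : ∀ x y : P, x * y = y * x := by
    intro x y
    rw [← commutatorElement_eq_one_iff_mul_comm]
    refine Subtype.ext (H.faith _ ?_)
    have h1 := congrFun hres ⁅x, y⁆
    have h2 := congrFun hres 1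
    simp only [Pi.smul_apply, Finset.sum_apply, OneMemClass.coe_one] at h1 h2
    rw [h1, h2]
    congr 1
    refine Finset.sum_congr rfl fun f hf => ?_
    obtain ⟨l, rfl⟩ := hlin f hf
    simp [commutatorElement_def, mul_comm]
  letI : CommGroup P := { (inferInstance : Group P) with mul_comm := hab }
  obtain ⟨S, hS⟩ : ∃ S, S = ((Set.finite_range fun l : P →* ℂˣ => fun n : P => (l n : ℂ)).toFinset.erase
      (fun _ : P => (1 : ℂ))) := ⟨_, rfl⟩
  have hinj : Function.Injective fun l : P →* ℂˣ => fun n : P => (l n : ℂ) := fun l l' h =>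
    MonoidHom.ext fun n => Units.ext (congrFun h n)
  have hScard : S.card + 1 = Nat.card P := by
    have hmem : (fun _ : P => (1 : ℂ)) ∈
        (Set.finite_range fun l : P →* ℂˣ => fun n : P => (l n : ℂ)).toFinset :=
      (Set.Finite.mem_toFinset _).2 ⟨1, funext fun n => by simp⟩
    rw [hS, Finset.card_erase_add_one hmem, ← Set.ncard_eq_toFinset_card _,
      Set.ncard_range_of_injective hinj]
    exact CommGroup.card_monoidHom_of_hasEnoughRootsOfUnity P ℂ
  have hne1 : (fun n : P => (l₀ n : ℂ)) ≠ fun _ => 1 := by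
    intro h1
    refine H.ne_bot ((eq_bot_iff_forall _).2 fun u hu => H.faith u ?_)
    have h2 := congrFun hres ⟨u, hu⟩
    have h3 := congrFun hres 1
    have h4 : conjOrbit (G := G) (fun n : P => (l₀ n : ℂ)) = {fun _ => 1} := by
      rw [Finset.eq_singleton_iff_unique_mem]
      refine ⟨h1 ▸ self_mem_conjOrbit _, fun f hf => ?_⟩
      obtain ⟨g, rfl⟩ := mem_conjOrbit.1 hf
      funext n
      rw [conjOn_apply]
      exact congrFun h1 _
    rw [h4, Finset.sum_singleton] at h2 h3
    simp only [Pi.smul_apply, OneMemClass.coe_one] at h2 h3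
    exact h2.trans h3.symm
  have hsub : conjOrbit (G := G) (fun n : P => (l₀ n : ℂ)) ⊆ S := by
    intro f hf
    obtain ⟨g, rfl⟩ := mem_conjOrbit.1 hf
    obtain ⟨l, hl⟩ := hlin _ hf
    rw [hS, Finset.mem_erase]
    refine ⟨fun h1 => hne1 ?_, (Set.Finite.mem_toFinset _).2 ⟨l, hl.symm⟩⟩
    have := congrArg (conjOn g⁻¹) h1
    rw [conjOn_conjOn, mul_inv_cancel, conjOn_one] at this
    rw [this]
    rfl
  have htS := Finset.card_le_card hsub
  rw [card_conjOrbit, ← ht] at htS
  obtain ⟨s, hs⟩ : ∃ s, Nat.card P = t + s := ⟨Nat.card P - t, by omega⟩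
  have het : 2 ≤ e * t := by
    rcases Nat.lt_or_ge (e * t) 2 with h | h
    · exfalso
      interval_cases h2 : e * t
      · exact IsIrrCharacter.apply_one_ne_zero H.irr (by rw [hdeg]; simp [h2])
      · exact H.nl (by rw [hdeg]; simp [h2])
    · exact h
  rw [mul_one, hs] at heq
  have harith : e ^ 2 * t * s + 1 = t + s := by
    have h1 : 1 ≤ t + s := by omega
    have h2 : (e * t) ^ 2 + (t + s) = (t + s) * (e ^ 2 * t) + 1 := by omega
    nlinarith
  obtain ⟨he1, hs1⟩ := arith (Nat.pos_of_ne_zero fun h => by rw [h, zero_mul] at het; omega) het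
    (by omega) harith
  refine ⟨l₀, fun h => hne1 (by rw [h]; simp), hab, ?_, by rw [← ht, hs, hs1], by
    rw [he, he1, Nat.cast_one], fun l hl => ?_⟩
  · rw [hdeg, hs, hs1, he1]; simp
  · rw [Finset.eq_of_subset_of_card_le hsub (by rw [card_conjOrbit, ← ht]; omega), hS, Finset.mem_erase]
    exact ⟨fun h => hl (hinj (h.trans (funext fun n => by simp))), (Set.Finite.mem_toFinset _).2 ⟨l, rfl⟩⟩

theorem exponent_eq [Fintype G] [Fintype P] (H : Hyp p χ P) {u : P} : u ^ p = 1 := by
  classical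
  obtain ⟨θ, hθ, hab, -, -, -, htrans⟩ := exists_data H
  letI : CommGroup P := { (inferInstance : Group P) with mul_comm := hab }
  by_contra hu
  -- a homomorphism of order `p` has all its conjugates of order `p`
  haveI : Finite (P →* ℂˣ) := Nat.finite_of_card_ne_zero (by
    rw [CommGroup.card_monoidHom_of_hasEnoughRootsOfUnity P ℂ]; exact Nat.card_pos.ne')
  obtain ⟨k, hk⟩ := IsPGroup.iff_card.1 H.pgroup
  have hk0 : k ≠ 0 := fun h => H.ne_bot (card_eq_one.1 (by rw [hk, h, pow_zero]))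
  obtain ⟨l₁, hl₁⟩ := exists_prime_orderOf_dvd_card' (G := P →* ℂˣ) p (by
    rw [CommGroup.card_monoidHom_of_hasEnoughRootsOfUnity P ℂ, hk]; exact dvd_pow_self p hk0)
  obtain ⟨l, hl⟩ := CommGroup.exists_apply_ne_one_of_hasEnoughRootsOfUnity P ℂ hu
  obtain ⟨a, ha⟩ := mem_conjOrbit.1 (htrans l₁ fun h => by
    rw [h, orderOf_one] at hl₁; exact (Fact.out : p.Prime).one_lt.ne hl₁)
  obtain ⟨b, hb⟩ := mem_conjOrbit.1 (htrans l fun h => hl (by rw [h]; rfl))
  have h1 : l = l₁.comp ((MulAut.conjNormal (H := P) (a⁻¹ * b)).toMonoidHom) := by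
    refine MonoidHom.ext fun n => Units.ext ?_
    have h2 := congrFun hb n
    have h3 := congrFun ha (MulAut.conjNormal (H := P) (a⁻¹ * b) n)
    rw [h2]
    refine Eq.trans ?_ h3.symm
    simp only [conjOn_eq_comp, map_mul, MulAut.mul_apply, map_inv, MulAut.apply_inv_self]
  apply hl
  rw [h1, MonoidHom.comp_apply, map_pow, map_pow, ← hl₁]
  exact DFunLike.congr_fun (pow_orderOf_eq_one l₁) _

/-- The centraliser of the `p`-subgroup. -/
theorem centralizer_eq [Fintype G] [Fintype P] (H : Hyp p χ P)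
    (hmax : ∀ K : Subgroup G, K.Normal → IsPGroup p K → K ≤ P) :
    centralizer (P : Set G) = P ⊔ center G ∧ P ⊓ center G = ⊥ := by
  classical
  have hp : p.Prime := Fact.out
  obtain ⟨θ, hθ1, hab, hdeg, hidx, hmul, -⟩ := exists_data H
  obtain ⟨θf, hθf⟩ : ∃ f : P → ℂ, f = fun n : P => (θ n : ℂ) := ⟨_, rfl⟩
  rw [← hθf] at hidx hmul
  have hθi : IsIrrCharacter P θf := hθf ▸ isIrrCharacter_ofHom θ
  obtain ⟨k, hk⟩ := IsPGroup.iff_card.1 H.pgroup
  have hk0 : k ≠ 0 := fun h => H.ne_bot (card_eq_one.1 (by rw [hk, h, pow_zero]))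
  have hdeg2 : χ 1 ≠ 0 := IsIrrCharacter.apply_one_ne_zero H.irr
  -- central elements
  have hcen : ∀ z ∈ center G, z ≠ 1 → ¬ p ∣ orderOf z := by
    intro z hz hz1 hd
    obtain ⟨n, ρ, hρ, hρχ⟩ := H.irr
    haveI := hρ
    obtain ⟨ω, hω⟩ : ∃ ω : ℂ, ρ z = ω • LinearMap.id := by
      have hsc := eq_smul_one_of_commute ρ (ρ z) fun g => by
        rw [← map_mul, ← map_mul, mem_center_iff.1 hz g]
      exact ⟨_, hsc⟩
    have h1 := (norm_character_eq_iff ρ z).2 ⟨ω, hω⟩
    rw [hρχ, H.root z hd] at h1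
    refine H.nl ?_
    rw [← hρχ, ρ.char_one]
    exact_mod_cast congrArg (fun r : ℝ => (r : ℂ)) h1.symm
  have hPZ : P ⊓ center G = ⊥ := (eq_bot_iff_forall _).2 fun z hz => by
    by_contra hz1
    exact hcen z hz.2 hz1 (dvd_orderOf H.pgroup hz.1 hz1)
  refine ⟨le_antisymm ?_ (sup_le ?_ (Subgroup.center_le_centralizer _)), hPZ⟩
  swap
  · intro a ha
    exact mem_centralizer_iff.2 fun b hb => congrArg Subtype.val (hab ⟨b, hb⟩ ⟨a, ha⟩)
  -- the inertia group and its linear character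
  obtain ⟨T, hT⟩ : ∃ T : Subgroup G, inertia (G := G) θf = T := ⟨_, rfl⟩
  haveI := Fintype.ofFinite T
  have hPT : P ≤ T := hT ▸ le_inertia (IsIrrCharacter.isClassFunction hθi)
  obtain ⟨ψ, hψ, hind, -⟩ := exists_indFun_eq_of_inertia hPT hθi hT H.irr (by
    rw [hmul]; exact one_ne_zero)
  have hψ1 : ψ 1 = 1 := by
    have h1 : χ 1 = (T.index : ℂ) * ψ 1 := by rw [← hind, indFun_one]
    rw [hdeg, show Nat.card P - 1 = T.index by rw [← hT]; omega] at h1
    exact (mul_eq_left₀ (Nat.cast_ne_zero.2 index_ne_zero_of_finite)).1 h1.symm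
  obtain ⟨lψ, hlψ⟩ := IsCharacter.exists_hom (IsIrrCharacter.isCharacter hψ) hψ1
  obtain ⟨C, hC⟩ : ∃ C, C = centralizer (P : Set G) := ⟨_, rfl⟩
  rw [← hC]
  haveI hCn : C.Normal := hC ▸ inferInstance
  haveI := Fintype.ofFinite C
  have hCT : C ≤ T := fun c hc => by
    rw [← hT, mem_inertia_iff]
    intro n
    congr 1
    refine Subtype.ext ?_
    rw [hC] at hc
    show c * (n : G) * c⁻¹ = (n : G)
    rw [← mem_centralizer_iff.1 hc n n.2, mul_inv_cancel_right]
  -- `C` is abelian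
  have hCab : ∀ c ∈ C, ∀ d ∈ C, c * d = d * c := by
    intro c hc d hd
    rw [← commutatorElement_eq_one_iff_mul_comm]
    refine H.faith _ ?_
    rw [← hind, indFun_one, hψ1, mul_one, indFun_def]
    rw [Finset.sum_congr rfl (g := fun _ => (1 : ℂ)) fun x _ => ?_]
    · rw [Finset.sum_const, Finset.card_univ, nsmul_eq_mul, mul_one, ← Nat.card_eq_fintype_card,
        ← T.card_mul_index, Nat.cast_mul, ← mul_assoc,
        inv_mul_cancel₀ (Nat.cast_ne_zero.2 Nat.card_pos.ne'), one_mul]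
    · have hc' := hCT (hCn.conj_mem' c hc x)
      have hd' := hCT (hCn.conj_mem' d hd x)
      have hkey : x⁻¹ * ⁅c, d⁆ * x = (⁅(⟨_, hc'⟩ : T), ⟨_, hd'⟩⁆ : T) := by
        simp [commutatorElement_def, mul_assoc]
      rw [extendByZero_of_mem _ (hkey ▸ SetLike.coe_mem _), hlψ]
      simp only
      rw [show (⟨x⁻¹ * ⁅c, d⁆ * x, _⟩ : T) = ⁅(⟨_, hc'⟩ : T), ⟨_, hd'⟩⁆ from Subtype.ext hkey,
        map_commutatorElement, commutatorElement_eq_one_iff_mul_comm.2 (mul_comm _ _), Units.val_one]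
  -- the constituents on `C`
  have hPC : P ≤ C := fun a ha => hC ▸ mem_centralizer_iff.2 fun b hb =>
    congrArg Subtype.val (hab ⟨b, hb⟩ ⟨a, ha⟩)
  obtain ⟨φ, hφ, hφc⟩ := exists_constituent_restrict (N := C) H.irr
  have hφ1 : φ 1 = 1 := IsIrrCharacter.apply_one_eq_one hφ fun a b =>
    Subtype.ext (hCab a a.2 b b.2)
  obtain ⟨e, he⟩ := IsCharacter.exists_classInner_eq_natCast
    (IsCharacter.restrict (IsIrrCharacter.isCharacter H.irr) C) hφ
  have hresC := restrict_eq_smul_sum H.irr hφ hφc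
  obtain ⟨r, hr⟩ : ∃ r : (C → ℂ) → (P → ℂ), r = fun f => fun n : P => f ⟨n, hPC n.2⟩ := ⟨_, rfl⟩
  have hrirr : ∀ f ∈ conjOrbit (G := G) φ, IsIrrCharacter P (r f) ∧ f 1 = 1 ∧
      ∀ a b, f (a * b) = f a * f b := by
    intro f hf
    obtain ⟨g, rfl⟩ := mem_conjOrbit.1 hf
    have h1 : conjOn g φ 1 = 1 := by rw [conjOn_apply_one, hφ1]
    obtain ⟨l, hl⟩ := IsCharacter.exists_hom
      (IsIrrCharacter.isCharacter (isIrrCharacter_conjOn hφ g)) h1
    rw [hl]
    exact ⟨hr ▸ isIrrCharacter_ofHom (l.comp (Subgroup.inclusion hPC)), by simp, fun a b => by simp⟩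
  have hresP : (fun n : P => χ n) = ∑ f ∈ conjOrbit (G := G) φ, (e : ℂ) • r f := by
    funext n
    have := congrFun hresC ⟨n, hPC n.2⟩
    simp only [Pi.smul_apply, Finset.sum_apply, he, Finset.mul_sum, smul_eq_mul] at this
    simpa [Finset.sum_apply, hr] using this
  have hcardφ : (e : ℕ) * (conjOrbit (G := G) φ).card = Nat.card P - 1 := by
    have := degree_eq_mul H.irr hφ hφc
    rw [he, hφ1, mul_one, hdeg, ← card_conjOrbit] at this
    exact_mod_cast this.symm
  -- multiplicity one: the restrictions to `P` are distinct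
  have hinjr : ∀ f ∈ conjOrbit (G := G) φ, ∀ g ∈ conjOrbit (G := G) φ, r f = r g → f = g := by
    intro f hf g hg hfg
    by_contra hne
    obtain ⟨hi, -⟩ := hrirr f hf
    have hco : classInner (fun n : P => χ n) (r f) = 0 ∨ classInner (fun n : P => χ n) (r f) = 1 := by
      by_cases h : r f ∈ conjOrbit (G := G) θf
      · right
        obtain ⟨a, ha⟩ := mem_conjOrbit.1 h
        rw [ha, classInner_restrict_conjOn (IsIrrCharacter.isClassFunction H.irr), hmul]
      · left
        by_contra h0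
        exact h (mem_conjOrbit_of_constituent H.irr hθi hi (by rw [hmul]; exact one_ne_zero) h0)
    have hge : (2 * e : ℝ) ≤ (classInner (fun n : P => χ n) (r f)).re := by
      rw [hresP, classInner_sum_left, Complex.re_sum]
      refine le_trans ?_ (Finset.sum_le_sum_of_subset_of_nonneg
        (s := {f, g}) (Finset.insert_subset hf (Finset.singleton_subset_iff.2 hg)) fun i hi' _ => ?_)
      · rw [Finset.sum_pair hne, classInner_smul_left, classInner_smul_left, ← hfg,
          IsIrrCharacter.classInner_self hi, mul_one, Complex.natCast_re]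
        linarith
      · obtain ⟨hii, -⟩ := hrirr i hi'
        rw [classInner_smul_left]
        by_cases h : r i = r f
        · rw [h, IsIrrCharacter.classInner_self hi, mul_one, Complex.natCast_re]; positivity
        · rw [IsIrrCharacter.classInner_of_ne hii hi h, mul_zero, Complex.zero_re]
    have he0 : e ≠ 0 := fun h => hφc (by rw [he, h, Nat.cast_zero])
    have : (1 : ℝ) ≤ e := by exact_mod_cast Nat.one_le_iff_ne_zero.2 he0
    rcases hco with h | h <;> rw [h] at hge <;> simp at hge <;> linarith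
  have he1 : e = 1 := by
    obtain ⟨f, hf⟩ : ∃ f, f ∈ conjOrbit (G := G) φ := ⟨φ, self_mem_conjOrbit _⟩
    obtain ⟨hi, -⟩ := hrirr f hf
    have h1 : classInner (fun n : P => χ n) (r f) = (e : ℂ) := by
      rw [hresP, classInner_sum_left, Finset.sum_eq_single f]
      · rw [classInner_smul_left, IsIrrCharacter.classInner_self hi, mul_one]
      · intro g hg hne
        rw [classInner_smul_left, IsIrrCharacter.classInner_of_ne (hrirr g hg).1 hi
          (fun h => hne (hinjr g hg f hf h)), mul_zero]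
      · exact fun h => absurd hf h
    have he0 : e ≠ 0 := fun h => hφc (by rw [he, h, Nat.cast_zero])
    have h2 : r f ∈ conjOrbit (G := G) θf := mem_conjOrbit_of_constituent H.irr hθi hi
      (by rw [hmul]; exact one_ne_zero) (by rw [h1]; exact_mod_cast he0)
    obtain ⟨a, ha⟩ := mem_conjOrbit.1 h2
    rw [ha, classInner_restrict_conjOn (IsIrrCharacter.isClassFunction H.irr), hmul] at h1
    exact_mod_cast h1.symm
  rw [he1, one_mul] at hcardφ
  -- elements of order prime to `p` in `C` are central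
  have hW : ∀ w ∈ C, ¬ p ∣ orderOf w → w ∈ center G := by
    intro w hw hwp
    have hval : ∀ u : P, χ (w * u) = ∑ f ∈ conjOrbit (G := G) φ, f ⟨w, hw⟩ * r f u := by
      intro u
      have := congrFun hresC (⟨w, hw⟩ * ⟨u, hPC u.2⟩ : C)
      simp only [Pi.smul_apply, Finset.sum_apply, he, he1, Nat.cast_one, one_smul, coe_mul] at this
      rw [this]
      exact Finset.sum_congr rfl fun f hf => by rw [(hrirr f hf).2.2, hr]
    have hF : (fun u : P => χ (w * u)) = ∑ f ∈ (conjOrbit (G := G) φ).image r,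
        (classInner (fun u : P => χ (w * u)) f) • f := by
      conv_lhs => rw [show (fun u : P => χ (w * u)) =
        ∑ f ∈ conjOrbit (G := G) φ, f ⟨w, hw⟩ • r f from funext fun u => by
          simp [hval u, Finset.sum_apply]]
      rw [Finset.sum_image hinjr]
      refine Finset.sum_congr rfl fun f hf => ?_
      congr 1
      rw [show (fun u : P => χ (w * u)) =
        ∑ f ∈ conjOrbit (G := G) φ, f ⟨w, hw⟩ • r f from funext fun u => by
          simp [hval u, Finset.sum_apply], classInner_sum_left, Finset.sum_eq_single f]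
      · rw [classInner_smul_left, IsIrrCharacter.classInner_self (hrirr f hf).1, mul_one]
      · intro g hg hne
        rw [classInner_smul_left, IsIrrCharacter.classInner_of_ne (hrirr g hg).1 (hrirr f hf).1
          (fun h => hne (hinjr g hg f hf h)), mul_zero]
      · exact fun h => absurd hf h
    have hn : classInner (fun u : P => χ (w * u)) (fun u : P => χ (w * u)) =
        ((Nat.card P - 1 : ℕ) : ℂ) := by
      rw [show (fun u : P => χ (w * u)) = ∑ g ∈ (conjOrbit (G := G) φ).image r,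
          (classInner (fun u : P => χ (w * u)) g) • g from hF,
        inner_expansion _ (fun g hg => by
          obtain ⟨f, hf, rfl⟩ := Finset.mem_image.1 hg; exact (hrirr f hf).1)
          (fun g => classInner (fun u : P => χ (w * u)) g), Finset.sum_image hinjr,
        Finset.sum_congr rfl (g := fun _ => (1 : ℂ)) fun f hf => ?_, Finset.sum_const, hcardφ,
        nsmul_eq_mul, mul_one]
      rw [show classInner (fun u : P => χ (w * u)) (r f) = f ⟨w, hw⟩ by
        rw [show (fun u : P => χ (w * u)) =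
          ∑ f ∈ conjOrbit (G := G) φ, f ⟨w, hw⟩ • r f from funext fun u => by
            simp [hval u, Finset.sum_apply], classInner_sum_left, Finset.sum_eq_single f]
        · rw [classInner_smul_left, IsIrrCharacter.classInner_self (hrirr f hf).1, mul_one]
        · intro g hg hne
          rw [classInner_smul_left, IsIrrCharacter.classInner_of_ne (hrirr g hg).1 (hrirr f hf).1
            (fun h => hne (hinjr g hg f hf h)), mul_zero]
        · exact fun h => absurd hf h]
      obtain ⟨g, rfl⟩ := mem_conjOrbit.1 hf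
      obtain ⟨l, hl⟩ := IsCharacter.exists_hom
        (IsIrrCharacter.isCharacter (isIrrCharacter_conjOn hφ g)) (by rw [conjOn_apply_one, hφ1])
      rw [hl, norm_hom_eq_one, one_pow, Complex.ofReal_one]
    have hsum := sum_norm_sq fun u : P => χ (w * u)
    rw [hn, ← Finset.add_sum_erase _ _ (Finset.mem_univ (1 : P)),
      Finset.sum_congr rfl (g := fun _ => (1 : ℝ)) fun u hu => ?_,
      Finset.sum_const, Finset.card_erase_of_mem (Finset.mem_univ _), Finset.card_univ,
      ← Nat.card_eq_fintype_card, nsmul_eq_mul, mul_one, OneMemClass.coe_one, mul_one] at hsum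
    · have hn1 : ‖χ w‖ ^ 2 = ((Nat.card P - 1 : ℕ) : ℝ) ^ 2 := by
        have h1 : 1 ≤ Nat.card P := Nat.card_pos
        have h2 : ‖χ w‖ ^ 2 + ((Nat.card P - 1 : ℕ) : ℝ) =
            (Nat.card P : ℝ) * ((Nat.card P - 1 : ℕ) : ℝ) := by exact_mod_cast hsum
        push_cast [Nat.cast_sub h1] at h2 ⊢
        linarith
      have hnw : ‖χ w‖ = ((Nat.card P - 1 : ℕ) : ℝ) :=
        (sq_eq_sq₀ (norm_nonneg _) (by positivity)).1 hn1
      obtain ⟨n, ρ, hρ, hρχ⟩ := H.irr
      obtain ⟨ω, hω⟩ := (norm_character_eq_iff ρ w).1 (by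
        rw [hρχ, hnw]
        have := hdeg
        rw [← hρχ, ρ.char_one] at this
        exact_mod_cast this.symm)
      refine mem_center_iff.2 fun g => ?_
      have hk1 : ρ (g * w * g⁻¹ * w⁻¹) = 1 := by
        have hgw : ρ g * ρ w = ρ w * ρ g := by
          rw [hω]; ext v; simp
        rw [map_mul, map_mul, map_mul, hgw, mul_assoc (ρ w), ← map_mul, mul_inv_cancel, map_one,
          mul_one, ← map_mul, mul_inv_cancel, map_one]
      have h3 := H.faith (g * w * g⁻¹ * w⁻¹) (by
        rw [← hρχ, (character_eq_iff ρ _).2 hk1, ρ.char_one])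
      rwa [mul_inv_eq_one, mul_inv_eq_iff_eq_mul] at h3
    · have hu1 : ((u : G)) ≠ 1 := fun h => Finset.ne_of_mem_erase hu (Subtype.ext h)
      refine (congrArg (· ^ 2) (H.root _ ?_)).trans (one_pow 2)
      have hcm : Commute w (u : G) := hCab w hw u (hPC u.2)
      obtain ⟨j, hj⟩ := IsPGroup.iff_orderOf.1 H.pgroup u
      rw [← orderOf_coe] at hj
      rw [hcm.orderOf_mul_eq_mul_orderOf_of_coprime
        (hj ▸ ((hp.coprime_iff_not_dvd.2 hwp).pow_left j).symm)]
      exact dvd_mul_of_dvd_right (dvd_orderOf H.pgroup u.2 hu1) _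
  -- decomposition
  intro c hc
  obtain ⟨i, m, hm, ho⟩ := Nat.exists_eq_pow_mul_and_not_dvd (orderOf_pos c).ne' p hp.ne_one
  obtain ⟨S, hS⟩ : ∃ S : Subgroup G, ∀ x, x ∈ S ↔ x ∈ C ∧ ∃ j, x ^ p ^ j = 1 :=
    ⟨{ carrier := {x | x ∈ C ∧ ∃ j, x ^ p ^ j = 1}
       one_mem' := ⟨one_mem _, 0, one_pow _⟩
       mul_mem' := fun {a b} ⟨ha, j, hj⟩ ⟨hb, j', hj'⟩ => ⟨mul_mem ha hb, j + j', by
         rw [(show Commute a b from hCab a ha b hb).mul_pow, pow_add, pow_mul, hj, one_pow,
           mul_comm (p ^ j), pow_mul, hj', one_pow, mul_one]⟩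
       inv_mem' := fun {a} ⟨ha, j, hj⟩ => ⟨inv_mem ha, j, by rw [inv_pow, hj, inv_one]⟩ },
      fun _ => Iff.rfl⟩
  have hSP : S ≤ P := by
    refine hmax S ⟨fun x hx g => ?_⟩ fun x => ?_
    · obtain ⟨hxC, j, hj⟩ := (hS x).1 hx
      exact (hS _).2 ⟨hCn.conj_mem x hxC g, j, by rw [conj_pow, hj, mul_one, mul_inv_cancel]⟩
    · obtain ⟨-, j, hj⟩ := (hS x).1 x.2
      exact ⟨j, Subtype.ext (by simpa using hj)⟩
  have hcop : (p ^ i).Coprime m := (hp.coprime_iff_not_dvd.2 hm).pow_left i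
  obtain ⟨a, ha1, ha0⟩ := Nat.chineseRemainder hcop 1 0
  obtain ⟨b, hb1, hb0⟩ := Nat.chineseRemainder hcop 0 1
  have hab' : c ^ a * c ^ b = c := by
    rw [← pow_add]
    conv_rhs => rw [← pow_one c]
    rw [pow_eq_pow_iff_modEq, ho, ← Nat.modEq_and_modEq_iff_modEq_mul hcop]
    exact ⟨ha1.add hb1, ha0.add hb0⟩
  have h1 : c ^ a ∈ P := hSP ((hS _).2 ⟨pow_mem hc a, i, by
    rw [← pow_mul, ← orderOf_dvd_iff_pow_eq_one, ho, mul_comm a]
    exact Nat.mul_dvd_mul_left _ (Nat.modEq_zero_iff_dvd.1 ha0)⟩)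
  have h2 : c ^ b ∈ center G := by
    refine hW _ (pow_mem hc b) fun hd => ?_
    have : orderOf (c ^ b) ∣ m := orderOf_dvd_iff_pow_eq_one.2 (by
      rw [← pow_mul, ← orderOf_dvd_iff_pow_eq_one, ho]
      exact Nat.mul_dvd_mul_right (Nat.modEq_zero_iff_dvd.1 hb1) _)
    exact hm (hd.trans this)
  rw [← hab']
  exact mul_mem (mem_sup_left h1) (mem_sup_right h2)

end CfsgLib.Char.RootSingular
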