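import Cfsg.Agent.Char.RootSingular
import Cfsg.Agent.GlaubermanCorr.Perm
import Cfsg.Agent.Solvable.Basics
import Mathlib.Algebra.Group.ConjFinite
import Mathlib.Data.Finite.Perm
import Mathlib.GroupTheory.IndexNormal

/-!
# Characters with roots of unity as values on the `p`-singular elements: a larger Sylow subgroup
-/

set_option autoImplicit false
set_option linter.style.haveILetI false
set_option linter.unusedSectionVars false

namespace CfsgLib.Char.RootSingular

open Subgroup Cfsg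
open scoped ComplexConjugate

universe u

variable {G : Type u} [Group G] [Finite G] {p : ℕ} [Fact p.Prime] {χ : G → ℂ} {P : Subgroup G}
  [P.Normal]

/-- A `p`-element outside `P` fixes exactly one nontrivial element of `P`, and `p = 2`. -/
theorem fixed_card [Fintype G] [Fintype P] (H : Hyp p χ P) (S : Sylow p G) (hPS : P ≤ (S : Subgroup G))
    {y : G} (hy : y ∈ (S : Subgroup G)) (hyP : y ∉ P) :
    p = 2 ∧ Nat.card {u : P // y * (u : G) * y⁻¹ = u} = 2 := by
  classical
  have hp : p.Prime := Fact.out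
  obtain ⟨θ, hθ1, hab, hdeg, hidx, hmul, htrans⟩ := exists_data H
  obtain ⟨θf, hθf⟩ : ∃ f : P → ℂ, f = fun n : P => (θ n : ℂ) := ⟨_, rfl⟩
  rw [← hθf] at hidx hmul htrans
  have hθi : IsIrrCharacter P θf := hθf ▸ isIrrCharacter_ofHom θ
  obtain ⟨T, hT⟩ : ∃ T : Subgroup G, inertia (G := G) θf = T := ⟨_, rfl⟩
  haveI := Fintype.ofFinite T
  have hPT : P ≤ T := hT ▸ le_inertia (IsIrrCharacter.isClassFunction hθi)
  obtain ⟨ψ, hψ, hind, hψc⟩ := exists_indFun_eq_of_inertia hPT hθi hT H.irr (by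
    rw [hmul]; exact one_ne_zero)
  have hψ1 : ψ 1 = 1 := by
    have h1 : χ 1 = (T.index : ℂ) * ψ 1 := by rw [← hind, indFun_one]
    rw [hdeg, show Nat.card P - 1 = T.index by rw [← hT]; omega] at h1
    exact (mul_eq_left₀ (Nat.cast_ne_zero.2 index_ne_zero_of_finite)).1 h1.symm
  obtain ⟨lψ, hlψ⟩ := IsCharacter.exists_hom (IsIrrCharacter.isCharacter hψ) hψ1
  have hψθ : ∀ n : P, ψ (Subgroup.inclusion hPT n) = θf n := by
    have h1 : IsIrrCharacter P (fun n : P => ψ (Subgroup.inclusion hPT n)) := by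
      rw [hlψ]; exact isIrrCharacter_ofHom (lψ.comp (Subgroup.inclusion hPT))
    intro n
    by_contra hne
    rw [IsIrrCharacter.classInner_of_ne h1 hθi (fun e => hne (congrFun e n)), hmul] at hψc
    exact zero_ne_one hψc
  have hTmem : ∀ x : G, ∀ t ∈ T, ∀ v, v ∈ T → t⁻¹ * v * t ∈ T := fun _ t ht v hv =>
    mul_mem (mul_mem (inv_mem ht) hv) ht
  -- the expansion of `u ↦ χ (y u)`
  obtain ⟨lam, hlam⟩ : ∃ lam : G → (P → ℂ), lam = fun x => conjOn x⁻¹ θf := ⟨_, rfl⟩
  obtain ⟨a, ha⟩ : ∃ a : (P → ℂ) → ℂ, a = fun f =>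
      (Nat.card T : ℂ)⁻¹ * ∑ x ∈ Finset.univ.filter (fun x => lam x = f),
        extendByZero T ψ (x⁻¹ * y * x) := ⟨_, rfl⟩
  have hexp : (fun u : P => χ (y * u)) = ∑ f ∈ conjOrbit (G := G) θf, a f • f := by
    funext u
    rw [← hind, indFun_def, Finset.sum_apply]
    simp only [ha, Pi.smul_apply, smul_eq_mul, mul_assoc, ← Finset.mul_sum, Finset.sum_mul]
    congr 1
    rw [← Finset.sum_fiberwise_of_maps_to (t := conjOrbit (G := G) θf) (g := lam)
      (fun x _ => hlam ▸ mem_conjOrbit.2 ⟨x⁻¹, rfl⟩)]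
    refine Finset.sum_congr rfl fun f _ => Finset.sum_congr rfl fun x hx => ?_
    rw [Finset.mem_filter] at hx
    rw [← hx.2, hlam]
    simp only [conjOn_apply, inv_inv]
    have hu : x⁻¹ * (u : G) * x ∈ P := by simpa using Normal.conj_mem ‹P.Normal› _ u.2 x⁻¹
    have hsplit : x⁻¹ * (y * u) * x = x⁻¹ * y * x * (x⁻¹ * u * x) := by group
    have hassoc : x⁻¹ * (y * (u * x)) = x⁻¹ * (y * u) * x := by group
    have hassoc2 : x⁻¹ * (y * x) = x⁻¹ * y * x := by group
    rw [hassoc, hassoc2]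
    by_cases h : x⁻¹ * y * x ∈ T
    · have h2 : x⁻¹ * (y * u) * x ∈ T := hsplit ▸ mul_mem h (hPT hu)
      rw [extendByZero_of_mem _ h2, extendByZero_of_mem _ h, ← hψθ, hlψ]
      simp only
      rw [← Units.val_mul, ← map_mul]
      exact congrArg (fun t => ((lψ t : ℂˣ) : ℂ)) (Subtype.ext (by simp [mul_assoc]))
    · have h2 : x⁻¹ * (y * u) * x ∉ T := fun h2 => h (by
        have h3 := mul_mem h2 (inv_mem (hPT hu))
        rwa [hsplit, mul_inv_cancel_right] at h3)
      rw [extendByZero_of_not_mem _ h2, extendByZero_of_not_mem _ h, zero_mul]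
  -- the coefficients
  have hnorm : ∀ f ∈ conjOrbit (G := G) θf, ((‖a f‖ ^ 2 : ℝ) : ℂ) =
      if conjOn y f = f then 1 else 0 := by
    intro f hf
    obtain ⟨g, rfl⟩ := mem_conjOrbit.1 hf
    have hfib : ∀ x, lam x = conjOn g θf →
        extendByZero T ψ (x⁻¹ * y * x) = extendByZero T ψ (g * y * g⁻¹) := by
      intro x hx
      rw [hlam] at hx
      have ht : g * x ∈ T := by
        rw [← hT, mem_inertia, ← conjOn_conjOn, ← hx, conjOn_conjOn, inv_mul_cancel, conjOn_one]
      have he : x⁻¹ * y * x = (g * x)⁻¹ * (g * y * g⁻¹) * (g * x) := by group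
      rw [he]
      by_cases h : g * y * g⁻¹ ∈ T
      · rw [extendByZero_of_mem _ h, extendByZero_of_mem _ (hTmem x _ ht _ h), hlψ]
        simp only
        congr 1
        rw [show (⟨(g * x)⁻¹ * (g * y * g⁻¹) * (g * x), hTmem x _ ht _ h⟩ : T) =
          (⟨g * x, ht⟩ : T)⁻¹ * ⟨g * y * g⁻¹, h⟩ * ⟨g * x, ht⟩ from rfl, map_mul, map_mul, map_inv,
          mul_comm (lψ ⟨g * x, ht⟩)⁻¹, inv_mul_cancel_right]
      · rw [extendByZero_of_not_mem _ h, extendByZero_of_not_mem _ fun h2 => h (by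
          have h3 := mul_mem (mul_mem ht h2) (inv_mem ht)
          rwa [show g * x * ((g * x)⁻¹ * (g * y * g⁻¹) * (g * x)) * (g * x)⁻¹ = g * y * g⁻¹ by
            group] at h3)]
    have hcard : (Finset.univ.filter fun x => lam x = conjOn g θf).card = Nat.card T := by
      rw [← hT, ← card_fiber_conjOn θf g]
      refine Finset.card_bij' (fun x _ => x⁻¹) (fun x _ => x⁻¹) ?_ ?_ (fun x _ => inv_inv x)
        (fun x _ => inv_inv x) <;> intro x hx <;>
        simp only [Finset.mem_filter, Finset.mem_univ, true_and, hlam, inv_inv] at hx ⊢ <;> exact hx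
    have hval : a (conjOn g θf) = extendByZero T ψ (g * y * g⁻¹) := by
      simp only [ha]
      rw [Finset.sum_congr rfl (g := fun _ => extendByZero T ψ (g * y * g⁻¹))
        fun x hx => hfib x (Finset.mem_filter.1 hx).2, Finset.sum_const, hcard, nsmul_eq_mul,
        inv_mul_cancel_left₀ (Nat.cast_ne_zero.2 Nat.card_pos.ne')]
    have hiff : g * y * g⁻¹ ∈ T ↔ conjOn y (conjOn g θf) = conjOn g θf := by
      rw [← hT, mem_inertia, conjOn_conjOn]
      constructor
      · intro h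
        rw [show g * y = g * y * g⁻¹ * g by group, ← conjOn_conjOn, h]
      · intro h
        rw [← conjOn_conjOn, h, conjOn_conjOn, mul_inv_cancel, conjOn_one]
    rw [hval]
    by_cases h : g * y * g⁻¹ ∈ T
    · rw [if_pos (hiff.1 h), extendByZero_of_mem _ h, hlψ, norm_hom_eq_one, one_pow, Complex.ofReal_one]
    · rw [if_neg (hiff.not.1 h), extendByZero_of_not_mem _ h]; simp
  -- exactly one fixed nontrivial character
  have hsum := sum_norm_sq fun u : P => χ (y * u)
  rw [Finset.sum_congr rfl (g := fun _ => (1 : ℝ)) fun u _ => ?_] at hsum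
  swap
  · rw [H.root _ (dvd_orderOf S.2 (mul_mem hy (hPS u.2)) fun h => hyP ?_), one_pow]
    rw [eq_inv_of_mul_eq_one_left h]
    exact inv_mem u.2
  rw [hexp, inner_expansion _ (fun f hf => by
      obtain ⟨g, rfl⟩ := mem_conjOrbit.1 hf; exact isIrrCharacter_conjOn hθi g) a,
    Finset.sum_congr rfl hnorm, Finset.sum_boole, Finset.sum_const, Finset.card_univ, nsmul_eq_mul,
    mul_one, Complex.ofReal_natCast, ← Nat.card_eq_fintype_card,
    eq_comm, mul_eq_left₀ (Nat.cast_ne_zero.2 Nat.card_pos.ne'), Nat.cast_eq_one,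
    Finset.card_eq_one] at hsum
  obtain ⟨f₀, hf₀⟩ := hsum
  have hf₀' := hf₀.ge (Finset.mem_singleton_self f₀)
  rw [Finset.mem_filter] at hf₀'
  obtain ⟨g₀, hg₀⟩ := mem_conjOrbit.1 hf₀'.1
  obtain ⟨l₀, hl₀⟩ : ∃ l : P →* ℂˣ, f₀ = fun n : P => (l n : ℂ) :=
    ⟨θ.comp (MulAut.conjNormal g₀).toMonoidHom, by rw [hg₀, conjOn_eq_comp, hθf]; rfl⟩
  have huniq : ∀ l : P →* ℂˣ, l ≠ 1 → conjOn y (fun n : P => (l n : ℂ)) = (fun n : P => (l n : ℂ)) →
      l = l₀ := by
    intro l hl hfix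
    have h := hf₀.le (Finset.mem_filter.2 ⟨htrans l hl, hfix⟩)
    rw [Finset.mem_singleton, hl₀] at h
    exact MonoidHom.ext fun n => Units.ext (congrFun h n)
  have hl₀1 : l₀ ≠ 1 := by
    intro h
    refine hθ1 (MonoidHom.ext fun n => Units.ext ?_)
    have h2 := congrArg (conjOn g₀⁻¹) hg₀
    rw [conjOn_conjOn, mul_inv_cancel, conjOn_one, hθf] at h2
    rw [← congrFun h2 n, conjOn_apply, hl₀, h]
    rfl
  have hsq : l₀ * l₀ = 1 := by
    by_contra hne
    have h := huniq _ hne (funext fun n => by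
      have h1 := congrFun hf₀'.2 n
      rw [hl₀, conjOn_apply] at h1
      rw [conjOn_apply]
      simp only [MonoidHom.mul_apply, Units.val_mul]
      rw [h1])
    exact hl₀1 (MonoidHom.ext fun n => mul_eq_left.1 (DFunLike.congr_fun h n))
  have hp2 : p = 2 := by
    obtain ⟨u, hu⟩ : ∃ u, l₀ u ≠ 1 := by
      by_contra hall
      push Not at hall
      exact hl₀1 (MonoidHom.ext hall)
    have h2 : l₀ u ^ 2 = 1 := by rw [pow_two, ← MonoidHom.mul_apply, hsq, MonoidHom.one_apply]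
    have hpow : l₀ u ^ p = 1 := by rw [← map_pow, exponent_eq H, map_one]
    have h3 := orderOf_dvd_of_pow_eq_one hpow
    rw [orderOf_eq_prime h2 hu] at h3
    exact ((Nat.prime_dvd_prime_iff_eq Nat.prime_two hp).1 h3).symm
  refine ⟨hp2, ?_⟩
  -- count fixed points
  letI : CommGroup P := { (inferInstance : Group P) with mul_comm := hab }
  let F : IrrCharacter P → IrrCharacter P := fun f => ⟨conjOn y f.1, isIrrCharacter_conjOn f.2 y⟩
  have h := CfsgLib.GlaubermanCorr.card_fixed_irr F (MulAut.conjNormal (H := P) y)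
    (fun a b hab => (MulAut.conjNormal (H := P) y).toMonoidHom.map_isConj hab)
    (fun f n => congrFun (conjOn_eq_comp y f.1) n)
  have h1 : Nat.card {f : IrrCharacter P // F f = f} = 2 := by
    rw [Nat.card_eq_two_iff]
    refine ⟨⟨⟨_, isIrrCharacter_one⟩, Subtype.ext (funext fun n => rfl)⟩,
      ⟨⟨f₀, hl₀ ▸ isIrrCharacter_ofHom l₀⟩, Subtype.ext hf₀'.2⟩, fun e => hl₀1 ?_, ?_⟩
    · have e' : (fun _ : P => (1 : ℂ)) = f₀ := congrArg (fun f => (f.1 : IrrCharacter P).1) e
      exact MonoidHom.ext fun n => Units.ext ((congrFun (e'.trans hl₀) n).symm)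
    · refine Set.eq_univ_of_forall fun ⟨⟨f, hf⟩, hfix⟩ => ?_
      obtain ⟨l, rfl⟩ := IsCharacter.exists_hom (IsIrrCharacter.isCharacter hf)
        (IsIrrCharacter.apply_one_eq_one hf hab)
      rcases eq_or_ne l 1 with rfl | hl
      · exact Or.inl (Subtype.ext (Subtype.ext (funext fun n => by simp)))
      · refine Or.inr (Set.mem_singleton_iff.2 (Subtype.ext (Subtype.ext ?_)))
        show (fun n : P => (l n : ℂ)) = f₀
        rw [huniq l hl (congrArg (fun f : IrrCharacter P => f.1) hfix), hl₀]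
  rw [h1] at h
  rw [h]
  refine Nat.card_congr
    { toFun := fun u => ⟨ConjClasses.mk u.1, fun g hg => ?_⟩
      invFun := fun c => ⟨c.1.out, ?_⟩
      left_inv := fun u => Subtype.ext (isConj_iff_eq.1
        (ConjClasses.mk_eq_mk_iff_isConj.1 (Quotient.out_eq (ConjClasses.mk u.1))))
      right_inv := fun c => Subtype.ext (Quotient.out_eq c.1) }
  · rw [isConj_iff_eq.1 (ConjClasses.mk_eq_mk_iff_isConj.1 hg)]
    exact isConj_iff_eq.2 (Subtype.ext u.2)
  · exact congrArg Subtype.val (isConj_iff_eq.1 (c.2 c.1.out (Quotient.out_eq c.1)))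

/-- A larger Sylow subgroup forces the symmetric group of degree four. -/
theorem sylow_dichotomy [Fintype G] [Fintype P] (H : Hyp p χ P)
    (hmax : ∀ K : Subgroup G, K.Normal → IsPGroup p K → K ≤ P) (S : Sylow p G)
    (hPS : P ≤ (S : Subgroup G)) (hne : (S : Subgroup G) ≠ P) :
    p = 2 ∧ Odd (Nat.card (center G)) ∧ ∃ K : Subgroup G,
      Nonempty (K ≃* Equiv.Perm (Fin 4)) ∧ K ⊓ center G = ⊥ ∧ K ⊔ center G = ⊤ := by
  classical
  have hp : p.Prime := Fact.out
  obtain ⟨y₀, hy₀, hy₀P⟩ : ∃ y ∈ (S : Subgroup G), y ∉ P := by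
    by_contra hall
    push Not at hall
    exact hne (le_antisymm hall hPS)
  -- an element of order `p` modulo `P`
  obtain ⟨y, hyS, hyP, hyp⟩ : ∃ y ∈ (S : Subgroup G), y ∉ P ∧ y ^ p ∈ P := by
    have hex : ∃ j, y₀ ^ p ^ j ∈ P := by
      obtain ⟨j, hj⟩ := IsPGroup.iff_orderOf.1 S.2 ⟨y₀, hy₀⟩
      rw [orderOf_mk] at hj
      exact ⟨j, by rw [← hj, pow_orderOf_eq_one]; exact one_mem _⟩
    have h0 : Nat.find hex ≠ 0 := fun e => hy₀P (by simpa [e] using Nat.find_spec hex)
    refine ⟨y₀ ^ p ^ (Nat.find hex - 1), pow_mem hy₀ _, Nat.find_min hex (by omega), ?_⟩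
    rw [← pow_mul, ← pow_succ, Nat.sub_add_cancel (Nat.pos_of_ne_zero h0)]
    exact Nat.find_spec hex
  obtain ⟨hp2, hfix⟩ := fixed_card H S hPS hyS hyP
  subst hp2
  obtain ⟨θ, hθ1, hab, hdeg, hidx, -, htrans⟩ := exists_data H
  obtain ⟨hCeq, hPZ⟩ := centralizer_eq H hmax
  have hexp : ∀ u : P, u * u = 1 := fun u => by rw [← pow_two]; exact exponent_eq H
  have hcP : ∀ a ∈ P, ∀ b ∈ P, a * b = b * a := fun a ha b hb =>
    congrArg Subtype.val (hab ⟨a, ha⟩ ⟨b, hb⟩)
  -- `P` has order four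
  have hP4 : Nat.card P = 4 := by
    let σ : MulAut P := MulAut.conjNormal y
    let f : P →* P := MonoidHom.mk' (fun u => u * σ u) fun u v => by
      rw [map_mul, mul_assoc, mul_assoc, ← mul_assoc v, hab v (σ u), mul_assoc]
    have hσ2 : ∀ u : P, σ (σ u) = u := fun u => by
      apply Subtype.ext
      simp only [σ, MulAut.conjNormal_apply]
      calc y * (y * (u : G) * y⁻¹) * y⁻¹ = y * y * (u : G) * (y * y)⁻¹ := by group
        _ = (u : G) := by rw [← pow_two, hcP _ hyp _ u.2, mul_inv_cancel_right]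
    have hfixiff : ∀ u : P, σ u = u ↔ y * (u : G) * y⁻¹ = u := fun u => by
      rw [Subtype.ext_iff]; exact Iff.rfl
    have hker : Nat.card f.ker = 2 := by
      rw [← hfix]
      refine Nat.card_congr (Equiv.subtypeEquivRight fun u => ?_)
      rw [← hfixiff, MonoidHom.mem_ker]
      show u * σ u = 1 ↔ σ u = u
      rw [mul_eq_one_iff_inv_eq, inv_eq_of_mul_eq_one_left (hexp u)]
      exact eq_comm
    have hran : Nat.card f.range ≤ 2 := by
      rw [← hker]
      refine card_le_of_le ?_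
      rintro _ ⟨u, rfl⟩
      rw [MonoidHom.mem_ker]
      show u * σ u * σ (u * σ u) = 1
      rw [map_mul, hσ2, hab (σ u) u, hexp]
    have h1 : Nat.card P ≤ 4 := by
      have h := f.ker.card_mul_index
      rw [Subgroup.index_ker, hker] at h
      omega
    obtain ⟨k, hk⟩ := IsPGroup.iff_card.1 H.pgroup
    have h3 : 3 ≤ Nat.card P := by
      by_contra hlt
      have h2 : Nat.card P - 1 ≤ 1 := by omega
      interval_cases h4 : Nat.card P - 1
      · exact IsIrrCharacter.apply_one_ne_zero H.irr (by rw [hdeg, Nat.cast_zero])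
      · exact H.nl (by rw [hdeg, Nat.cast_one])
    have : Nat.card P ≠ 3 := fun h => by
      have h2 : 2 ∣ Nat.card P := by
        refine hk ▸ dvd_pow_self 2 fun h0 => ?_
        rw [h0, pow_zero] at hk
        omega
      omega
    omega
  -- the fixed element
  obtain ⟨u₀, hu₀, hu₀y, huniq⟩ : ∃ u₀ : P, u₀ ≠ 1 ∧ y * (u₀ : G) * y⁻¹ = u₀ ∧
      ∀ u : P, y * (u : G) * y⁻¹ = u → u ≠ 1 → u = u₀ := by
    obtain ⟨⟨u₀, h₀⟩, hne₀, hu⟩ := (Nat.card_eq_two_iff' (⟨1, by simp⟩ :
      {u : P // y * (u : G) * y⁻¹ = u})).1 hfix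
    exact ⟨u₀, fun e => hne₀ (Subtype.ext e), h₀, fun u h h1 =>
      congrArg Subtype.val (hu ⟨u, h⟩ fun e => h1 (congrArg Subtype.val e))⟩
  obtain ⟨C, hC⟩ : ∃ C, C = centralizer (P : Set G) := ⟨_, rfl⟩
  haveI hCn : C.Normal := hC ▸ inferInstance
  have hPC : P ≤ C := hC ▸ fun a ha => mem_centralizer_iff.2 fun b hb => hcP b hb a ha
  have hZC : center G ≤ C := hC ▸ Subgroup.center_le_centralizer _
  have hyC : y ∉ C := fun hy => by
    have h : Nat.card {u : P // y * (u : G) * y⁻¹ = u} = Nat.card P :=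
      Nat.card_congr (Equiv.subtypeUnivEquiv fun u => by
        have h' : y ∈ centralizer (P : Set G) := hC ▸ hy
        rw [← mem_centralizer_iff.1 h' u u.2, mul_inv_cancel_right])
    omega
  -- the index of the centraliser
  let c : G →* MulAut P := MulAut.conjNormal
  have hcker : c.ker = C := by
    ext g
    rw [MonoidHom.mem_ker, hC, mem_centralizer_iff]
    constructor
    · intro h u hu
      have h1 := congrArg Subtype.val (DFunLike.congr_fun h ⟨u, hu⟩)
      simp only [c, MulAut.conjNormal_apply, MulAut.one_apply] at h1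
      exact (mul_inv_eq_iff_eq_mul.1 h1).symm
    · intro h
      ext u
      simp only [c, MulAut.conjNormal_apply, MulAut.one_apply]
      rw [← h u u.2, mul_inv_cancel_right]
  let π : MulAut P →* Equiv.Perm {u : P // u ≠ 1} := MonoidHom.mk'
    (fun e => e.toEquiv.subtypeEquiv fun u => (not_congr (map_eq_one_iff e e.injective)).symm)
    fun e e' => Equiv.ext fun u => Subtype.ext rfl
  have hπ : Function.Injective π := fun e e' h => MulEquiv.ext fun u => by
    by_cases hu : u = 1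
    · simp [hu]
    exact congrArg Subtype.val (DFunLike.congr_fun h ⟨u, hu⟩)
  have hC6 : C.index ∣ 6 := by
    rw [← hcker, Subgroup.index_ker]
    refine (card_subgroup_dvd_card _).trans ((card_dvd_of_injective π hπ).trans (dvd_of_eq ?_))
    haveI : Fintype {u : P // u ≠ 1} := Fintype.ofFinite _
    rw [Nat.card_perm, Nat.card_eq_fintype_card, Fintype.card_subtype_compl,
      Fintype.card_subtype_eq, ← Nat.card_eq_fintype_card, hP4]
    rfl
  have hyQ : (y : G ⧸ C) ^ 2 = 1 := by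
    rw [← QuotientGroup.mk_pow, QuotientGroup.eq_one_iff]; exact hPC hyp
  have h2C : 2 ∣ C.index := by
    rw [index_eq_card, ← orderOf_eq_prime hyQ fun h => hyC ((QuotientGroup.eq_one_iff _).1 h)]
    exact orderOf_dvd_natCard _
  have h3C : 3 ∣ C.index := by
    have h : (inertia (G := G) fun n : P => (θ n : ℂ)).index = 3 := by omega
    rw [← h]
    refine index_dvd_of_le fun g hg => (mem_inertia_iff _ g).2 fun n => ?_
    congr 2
    refine Subtype.ext ?_
    show g * (n : G) * g⁻¹ = n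
    have h' : g ∈ centralizer (P : Set G) := hC ▸ hg
    rw [← mem_centralizer_iff.1 h' n n.2, mul_inv_cancel_right]
  have hC6' : C.index = 6 :=
    Nat.dvd_antisymm hC6 (Nat.Coprime.mul_dvd_of_dvd_of_dvd (by norm_num : Nat.Coprime 2 3) h2C h3C)
  -- the centre
  have hZodd : Odd (Nat.card (center G)) := by
    by_contra he
    rw [Nat.not_odd_iff_even, even_iff_two_dvd] at he
    obtain ⟨⟨z, hz⟩, hzo⟩ := exists_prime_orderOf_dvd_card' 2 he
    rw [orderOf_mk] at hzo
    haveI : (zpowers z).Normal := ⟨fun n hn g => by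
      rw [mem_center_iff.1 (zpowers_le.2 hz hn) g, mul_inv_cancel_right]; exact hn⟩
    have hzP := hmax _ inferInstance (IsPGroup.of_card (n := 1) (by rw [Nat.card_zpowers, hzo, pow_one]))
      (mem_zpowers z)
    have : z = 1 := mem_bot.1 (hPZ.le (mem_inf.2 ⟨hzP, hz⟩))
    rw [this, orderOf_one] at hzo
    omega
  have hcardG : Nat.card G = 24 * Nat.card (center G) := by
    have h1 := card_mul_index C
    have h2 := CfsgLib.Solvable.card_sup_mul_card_inf (A := P) (K := center G) le_normalizer_of_normal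
    rw [hPZ, card_bot, mul_one, ← hCeq, ← hC, hP4] at h2
    rw [hC6', h2] at h1
    omega
  -- modulo `P`
  obtain ⟨ab, hab'⟩ := exists_prime_orderOf_dvd_card' (G := G ⧸ C) 3 (index_eq_card C ▸ h3C)
  obtain ⟨a, rfl⟩ := QuotientGroup.mk_surjective ab
  have ha3 : a ^ 3 ∈ C := by
    rw [← QuotientGroup.eq_one_iff, QuotientGroup.mk_pow, ← hab', pow_orderOf_eq_one]
  have hcenQ : ∀ d ∈ C, ∀ q : G ⧸ P, (d : G ⧸ P) * q = q * d := by
    intro d hd q
    obtain ⟨g, rfl⟩ := QuotientGroup.mk_surjective q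
    rw [hC, hCeq] at hd
    obtain ⟨u, hu, z, hz, rfl⟩ := mem_sup_of_normal_right.1 hd
    rw [QuotientGroup.mk_mul, (QuotientGroup.eq_one_iff u).2 hu, one_mul, ← QuotientGroup.mk_mul,
      ← QuotientGroup.mk_mul, mem_center_iff.1 hz g]
  have hy2 : (y : G ⧸ P) * y = 1 := by
    rw [← QuotientGroup.mk_mul, QuotientGroup.eq_one_iff, ← pow_two]; exact hyp
  -- conjugation by `y` inside `⟨a⟩ C`
  have hconj : Commute ((y : G ⧸ P) * a * y) (a : G ⧸ P) := by
    haveI : (zpowers ((a : G ⧸ C))).Normal := by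
      refine normal_of_index_eq_two ?_
      have h1 := card_mul_index (zpowers ((a : G ⧸ C)))
      rw [Nat.card_zpowers, hab', ← index_eq_card, hC6'] at h1
      omega
    obtain ⟨i, hi⟩ := mem_zpowers_iff.1
      (Normal.conj_mem inferInstance _ (mem_zpowers (a : G ⧸ C)) (y : G ⧸ C))
    obtain ⟨d, hd, hd'⟩ : ∃ d ∈ C, y * a * y⁻¹ = a ^ i * d := by
      refine ⟨(a ^ i)⁻¹ * (y * a * y⁻¹), QuotientGroup.eq.1 ?_, by group⟩
      rw [QuotientGroup.mk_zpow, QuotientGroup.mk_mul, QuotientGroup.mk_mul, QuotientGroup.mk_inv, hi]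
    have h1 : (y : G ⧸ P) * a * y = (a : G ⧸ P) ^ i * d := by
      rw [← QuotientGroup.mk_zpow P, ← QuotientGroup.mk_mul P _ d, ← hd', QuotientGroup.mk_mul,
        QuotientGroup.mk_mul, QuotientGroup.mk_inv, inv_eq_of_mul_eq_one_left hy2]
    rw [h1]
    exact ((Commute.refl (a : G ⧸ P)).zpow_left i).mul_left (hcenQ d hd _)
  obtain ⟨x, hx⟩ : ∃ x, x = (y : G ⧸ P) * a * y * (a : G ⧸ P)⁻¹ := ⟨_, rfl⟩
  have hx3 : x ^ 3 = 1 := by
    rw [hx, hconj.inv_right.mul_pow, inv_pow, mul_inv_eq_one]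
    have h1 : ((y : G ⧸ P) * a * y) ^ 3 = (y : G ⧸ P) * (a : G ⧸ P) ^ 3 * y := by
      have := conj_pow (i := 3) (a := (y : G ⧸ P)) (b := (a : G ⧸ P))
      rwa [inv_eq_of_mul_eq_one_left hy2] at this
    rw [h1, ← QuotientGroup.mk_pow, ← hcenQ _ ha3 (y : G ⧸ P), mul_assoc, hy2,
      mul_one]
  have hyx : (y : G ⧸ P) * x * y = x⁻¹ := by
    rw [hx, mul_inv_rev, inv_inv]
    calc (y : G ⧸ P) * ((y : G ⧸ P) * a * y * (a : G ⧸ P)⁻¹) * y
        = ((y : G ⧸ P) * y) * (a * ((y : G ⧸ P) * (a : G ⧸ P)⁻¹ * y)) := by group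
      _ = a * ((y : G ⧸ P) * (a : G ⧸ P)⁻¹ * y) := by rw [hy2, one_mul]
      _ = _ := by
        rw [mul_inv_rev, mul_inv_rev, inv_eq_of_mul_eq_one_left hy2, mul_assoc (y : G ⧸ P)]
  have hx1 : x ≠ 1 := by
    intro h
    rw [hx, mul_inv_eq_one] at h
    -- `a` then fixes the fixed element of `y`
    have hmem : (y * a * y⁻¹ * a⁻¹) ∈ P := by
      rw [← QuotientGroup.eq_one_iff, QuotientGroup.mk_mul, QuotientGroup.mk_mul,
        QuotientGroup.mk_mul, QuotientGroup.mk_inv, QuotientGroup.mk_inv,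
        inv_eq_of_mul_eq_one_left hy2, h, mul_inv_cancel]
    have hu1 : a * (u₀ : G) * a⁻¹ ∈ P := Normal.conj_mem inferInstance _ u₀.2 a
    have ha0 : a * (u₀ : G) * a⁻¹ = u₀ := by
      have h1 : y * (a * (u₀ : G) * a⁻¹) * y⁻¹ = a * u₀ * a⁻¹ := by
        calc y * (a * (u₀ : G) * a⁻¹) * y⁻¹
            = (y * a * y⁻¹ * a⁻¹) * (a * (y * u₀ * y⁻¹) * a⁻¹) * (y * a * y⁻¹ * a⁻¹)⁻¹ := by group
          _ = (y * a * y⁻¹ * a⁻¹) * (a * u₀ * a⁻¹) * (y * a * y⁻¹ * a⁻¹)⁻¹ := by rw [hu₀y]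
          _ = _ := by rw [hcP _ hmem _ hu1, mul_inv_cancel_right]
      have := huniq ⟨_, hu1⟩ h1 fun e => hu₀ (Subtype.ext (conj_eq_one_iff.1 (congrArg Subtype.val e)))
      exact congrArg Subtype.val this
    -- so the element is central
    have hCle : C ≤ centralizer ({(u₀ : G)} : Set G) := fun g hg =>
      mem_centralizer_singleton_iff.2
      (mem_centralizer_iff.1 (show g ∈ centralizer (P : Set G) from hC ▸ hg) u₀ u₀.2).symm
    have hidx1 : (centralizer ({(u₀ : G)} : Set G)).index = 1 := by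
      have hd : (centralizer ({(u₀ : G)} : Set G)).index ∣ 6 := hC6' ▸ index_dvd_of_le hCle
      have key : ∀ (g : G) (q : ℕ), q.Prime → orderOf (g : G ⧸ C) = q →
          g * (u₀ : G) * g⁻¹ = u₀ → q ∣ 6 →
          q * (centralizer ({(u₀ : G)} : Set G)).index ∣ 6 := by
        intro g q hq ho hg _
        have hsub : zpowers (g : G ⧸ C) ≤
            (centralizer ({(u₀ : G)} : Set G)).map (QuotientGroup.mk' C) :=
          zpowers_le.2 ⟨g, mem_centralizer_singleton_iff.2 (mul_inv_eq_iff_eq_mul.1 hg), rfl⟩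
        have h1 := card_dvd_of_le hsub
        rw [Nat.card_zpowers, ho] at h1
        have h2 := card_mul_index ((centralizer ({(u₀ : G)} : Set G)).map (QuotientGroup.mk' C))
        rw [index_map_eq _ (QuotientGroup.mk'_surjective C) (by rwa [QuotientGroup.ker_mk']),
          ← index_eq_card, hC6'] at h2
        exact h2 ▸ Nat.mul_dvd_mul_right h1 _
      have h2 := key y 2 Nat.prime_two
        (orderOf_eq_prime hyQ fun h => hyC ((QuotientGroup.eq_one_iff _).1 h)) hu₀y (by norm_num)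
      have h3 := key a 3 Nat.prime_three hab' ha0 (by norm_num)
      have h4 : (centralizer ({(u₀ : G)} : Set G)).index ∣ 3 :=
        Nat.dvd_of_mul_dvd_mul_left (by norm_num) (h2 : 2 * _ ∣ 2 * 3)
      have h5 : (centralizer ({(u₀ : G)} : Set G)).index ∣ 2 :=
        Nat.dvd_of_mul_dvd_mul_left (by norm_num) (h3 : 3 * _ ∣ 3 * 2)
      exact Nat.eq_one_of_dvd_coprimes (by norm_num : Nat.Coprime 3 2) h4 h5
    refine hu₀ (Subtype.ext (mem_bot.1 (hPZ.le (mem_inf.2 ⟨u₀.2, mem_center_iff.2 fun g => ?_⟩))))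
    have hg : g ∈ centralizer ({(u₀ : G)} : Set G) := by
      rw [index_eq_one.1 hidx1]; exact mem_top g
    exact mem_centralizer_singleton_iff.1 hg
  have hxord : orderOf x = 3 := orderOf_eq_prime hx3 hx1
  have hyord : orderOf (y : G ⧸ P) = 2 := by
    refine orderOf_eq_prime (by rw [pow_two]; exact hy2) fun h => hyP ((QuotientGroup.eq_one_iff _).1 h)
  -- the subgroup of order six modulo `P`
  have hnorm : zpowers (y : G ⧸ P) ≤ normalizer (zpowers x : Set (G ⧸ P)) := by
    rw [zpowers_le]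
    refine mem_normalizer_fintype fun n hn => ?_
    obtain ⟨i, rfl⟩ := mem_zpowers_iff.1 hn
    rw [← conj_zpow, inv_eq_of_mul_eq_one_left hy2, hyx]
    exact zpow_mem (inv_mem (mem_zpowers x)) i
  have hdisj : zpowers (y : G ⧸ P) ⊓ zpowers x = ⊥ := disjoint_iff.1
    (disjoint_of_coprime_natCard (by rw [Nat.card_zpowers, Nat.card_zpowers, hxord, hyord]; norm_num))
  obtain ⟨W, hW⟩ : ∃ W, W = zpowers (y : G ⧸ P) ⊔ zpowers x := ⟨_, rfl⟩
  have hW6 : Nat.card W = 6 := by
    rw [hW, CfsgLib.Solvable.card_sup_of_disjoint hnorm hdisj, Nat.card_zpowers, Nat.card_zpowers,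
      hxord, hyord]
  obtain ⟨K, hK⟩ : ∃ K, K = W.comap (QuotientGroup.mk' P) := ⟨_, rfl⟩
  have hPK : P ≤ K := hK ▸ fun u hu => by
    rw [mem_comap, QuotientGroup.mk'_apply, (QuotientGroup.eq_one_iff u).2 hu]; exact one_mem _
  have hK24 : Nat.card K = 24 := by
    have h1 : W.index = K.index :=
      (hK ▸ (index_comap_of_surjective W (QuotientGroup.mk'_surjective P)).symm)
    have h2 := card_mul_index W
    have h3 := card_mul_index K
    have h4 := Subgroup.card_eq_card_quotient_mul_card_subgroup P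
    rw [hW6, h1] at h2
    rw [hP4, ← h2, ← h3] at h4
    have h5 : K.index ≠ 0 := index_ne_zero_of_finite
    refine Nat.eq_of_mul_eq_mul_right (Nat.pos_of_ne_zero h5) (h4.trans ?_)
    ring
  have hKZ : K ⊓ center G = ⊥ := by
    refine (eq_bot_iff_forall _).2 fun z hz => ?_
    obtain ⟨hzK, hzc⟩ := mem_inf.1 hz
    rw [hK, mem_comap, QuotientGroup.mk'_apply, hW,
      CfsgLib.Solvable.mem_sup_of_le_normalizer hnorm] at hzK
    obtain ⟨v, hv, w, hw, hvw⟩ := hzK
    have hzn : (z : G ⧸ P) ^ Nat.card (center G) = 1 := by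
      have h1 : (⟨z, hzc⟩ : center G) ^ Nat.card (center G) = 1 := pow_card_eq_one'
      rw [← QuotientGroup.mk_pow, show z ^ Nat.card (center G) = 1 from congrArg Subtype.val h1,
        QuotientGroup.mk_one]
    have hzq : ∀ q : G ⧸ P, (z : G ⧸ P) * q = q * (z : G ⧸ P) := hcenQ z (hZC hzc)
    obtain ⟨i, rfl⟩ := mem_zpowers_iff.1 hw
    have hv1 : v = 1 := by
      have h1 : v = (z : G ⧸ P) * (x ^ i)⁻¹ := by rw [← hvw]; group
      have h2 : v ^ (Nat.card (center G) * 3) = 1 := by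
        rw [h1, (show Commute (z : G ⧸ P) ((x ^ i)⁻¹) from hzq _).mul_pow, pow_mul, hzn, one_pow,
          one_mul, inv_pow, inv_eq_one, mul_comm (Nat.card (center G)), pow_mul,
          show (x ^ i) ^ 3 = 1 by rw [← zpow_natCast, ← zpow_mul, mul_comm, zpow_mul, zpow_natCast, hx3, one_zpow],
          one_pow]
      refine orderOf_eq_one_iff.1 (Nat.eq_one_of_dvd_coprimes
        (Nat.coprime_two_left.2 (hZodd.mul (by decide : Odd 3)))
        ?_ (orderOf_dvd_of_pow_eq_one h2))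
      have h5 := Subgroup.orderOf_dvd_natCard _ hv
      rwa [Nat.card_zpowers, hyord] at h5
    rw [hv1, one_mul] at hvw
    have h3 : x ^ i = (x ^ i)⁻¹ := by
      conv_lhs => rw [hvw, ← mul_one (z : G ⧸ P), ← hy2, ← mul_assoc, hzq, ← hvw]
      have := conj_zpow (i := i) (a := (y : G ⧸ P)) (b := x)
      rw [inv_eq_of_mul_eq_one_left hy2, hyx] at this
      rw [← this, inv_zpow]
    have h4 : x ^ i = 1 := by
      have h5 : (x ^ i) ^ 2 = 1 := by rw [pow_two]; nth_rw 2 [h3]; exact mul_inv_cancel _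
      have h6 : (x ^ i) ^ 3 = 1 := by
        rw [← zpow_natCast, ← zpow_mul, mul_comm, zpow_mul, zpow_natCast, hx3, one_zpow]
      calc x ^ i = (x ^ i) ^ 3 * ((x ^ i) ^ 2)⁻¹ := by group
        _ = 1 := by rw [h5, h6, inv_one, one_mul]
    rw [h4, eq_comm, QuotientGroup.eq_one_iff] at hvw
    exact mem_bot.1 (hPZ.le (mem_inf.2 ⟨hvw, hzc⟩))
  have hKtop : K ⊔ center G = ⊤ := by
    refine eq_top_of_card_eq _ ?_
    have h := CfsgLib.Solvable.card_sup_mul_card_inf (A := K) (K := center G) le_normalizer_of_normal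
    rw [hKZ, card_bot, mul_one, hK24, ← hcardG] at h
    exact h
  refine ⟨rfl, hZodd, K, ?_, hKZ, hKtop⟩
  -- the four Sylow three-subgroups
  have hCK : ∀ g ∈ K, g ∈ C → g ∈ P := by
    intro g hgK hgC
    rw [hC, hCeq] at hgC
    obtain ⟨u, hu, z, hz, rfl⟩ := mem_sup_of_normal_right.1 hgC
    have hzK : z ∈ K := by simpa using mul_mem (inv_mem (hPK hu)) hgK
    rw [mem_bot.1 (hKZ.le (mem_inf.2 ⟨hzK, hz⟩)), mul_one]
    exact hu
  haveI : Fact (Nat.Prime 3) := ⟨Nat.prime_three⟩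
  have hQcard : ∀ Q : Sylow 3 K, Nat.card (Q : Subgroup K) = 3 := by
    intro Q
    rw [Q.card_eq_multiplicity, hK24, show (24 : ℕ) = 2 ^ 3 * 3 ^ 1 by norm_num,
      Nat.factorization_mul (by norm_num) (by norm_num), Finsupp.add_apply,
      Nat.prime_two.factorization_pow, Nat.prime_three.factorization_pow]
    simp
  -- no nontrivial element of `P` normalises a Sylow three-subgroup
  have hfree : ∀ (Q : Sylow 3 K) (u : K), (u : G) ∈ P → u ∈ normalizer ((Q : Subgroup K) : Set K) →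
      u = 1 := by
    intro Q u hu hun
    by_contra hu1
    have huP : (⟨(u : G), hu⟩ : P) ≠ 1 := fun e => hu1 (Subtype.ext (congrArg (fun t : P => (t : G)) e))
    have hcomm : ∀ q ∈ (Q : Subgroup K), u * q = q * u := by
      intro q hq
      have h1 : u * q * u⁻¹ * q⁻¹ ∈ (Q : Subgroup K) :=
        mul_mem ((mem_normalizer_iff.1 hun q).1 hq) (inv_mem hq)
      have h2 : ((u * q * u⁻¹ * q⁻¹ : K) : G) ∈ P := by
        push_cast
        rw [mul_assoc (u : G), mul_assoc (u : G)]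
        exact mul_mem hu (Normal.conj_mem inferInstance _ (inv_mem hu) (q : G))
      rw [← mul_inv_eq_iff_eq_mul, ← mul_inv_eq_one, ← orderOf_eq_one_iff]
      refine Nat.eq_one_of_dvd_coprimes (show Nat.Coprime 3 4 by norm_num)
        (hQcard Q ▸ Subgroup.orderOf_dvd_natCard _ h1) ?_
      rw [← orderOf_coe, ← hP4]
      exact Subgroup.orderOf_dvd_natCard _ h2
    obtain ⟨q, hq1⟩ : ∃ q : (Q : Subgroup K), q ≠ 1 := by
      haveI : Nontrivial (Q : Subgroup K) := Finite.one_lt_card_iff_nontrivial.1 (by rw [hQcard]; norm_num)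
      exact exists_ne 1
    have hqord : orderOf ((q : K) : G) = 3 := by
      rw [orderOf_coe, orderOf_coe]
      have hd := orderOf_dvd_natCard q
      rw [hQcard] at hd
      refine ((Nat.dvd_prime Nat.prime_three).1 hd).resolve_left ?_
      exact fun e => hq1 (orderOf_eq_one_iff.1 e)
    let σ : Equiv.Perm {v : P // v ≠ 1} := π (c ((q : K) : G))
    have hσ3 : σ ^ 3 = 1 := by
      have hq3 : ((q : K) : G) ^ 3 = 1 := by
        have h5 := pow_orderOf_eq_one ((q : K) : G)
        rwa [hqord] at h5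
      rw [← map_pow, ← map_pow, hq3, map_one, map_one]
    have hσu : σ ⟨⟨u, hu⟩, huP⟩ = ⟨⟨u, hu⟩, huP⟩ := by
      refine Subtype.ext (Subtype.ext ?_)
      show ((q : K) : G) * (u : G) * ((q : K) : G)⁻¹ = (u : G)
      have := congrArg Subtype.val (hcomm q q.2)
      push_cast at this
      rw [← this, mul_inv_cancel_right]
    have hσ1 : σ = 1 := by
      haveI : Fintype {v : P // v ≠ 1} := Fintype.ofFinite _
      by_contra hne
      have h1 := orderOf_eq_prime hσ3 hne
      have hcard3 : Fintype.card {v : P // v ≠ 1} = 3 := by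
        rw [Fintype.card_subtype_compl, Fintype.card_subtype_eq, ← Nat.card_eq_fintype_card, hP4]
      have h2 : σ.support.card = 3 := by
        obtain ⟨n, hn⟩ := Equiv.Perm.cycleType_prime_order (h1.symm ▸ Nat.prime_three)
        have h3 := Equiv.Perm.sum_cycleType σ
        rw [hn, Multiset.sum_replicate, h1, smul_eq_mul] at h3
        have h4 := Finset.card_le_univ σ.support
        rw [hcard3] at h4
        omega
      have h5 : σ.support = Finset.univ := Finset.eq_univ_of_card _ (h2.trans hcard3.symm)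
      exact (Equiv.Perm.mem_support.1 (h5 ▸ Finset.mem_univ _)) hσu
    have hqC : ((q : K) : G) ∈ C := by
      rw [← hcker, MonoidHom.mem_ker]
      exact hπ (hσ1.trans (map_one π).symm)
    have hqP := Subgroup.orderOf_dvd_natCard _ (hCK _ (q : K).2 hqC)
    rw [hqord, hP4] at hqP
    norm_num at hqP
  let act : K →* Equiv.Perm (Sylow 3 K) := MulAction.toPermHom K (Sylow 3 K)
  have hkerP : ∀ u ∈ act.ker, (u : G) ∈ P → u = 1 := by
    intro u hu huP
    obtain ⟨Q⟩ : Nonempty (Sylow 3 K) := inferInstance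
    refine hfree Q u huP (Sylow.smul_eq_iff_mem_normalizer.1 ?_)
    exact DFunLike.congr_fun (MonoidHom.mem_ker.1 hu) Q
  have hinj : Function.Injective act := by
    refine (injective_iff_map_eq_one act).2 fun k hk => hkerP k (MonoidHom.mem_ker.2 hk) (hCK k k.2 ?_)
    rw [hC, mem_centralizer_iff]
    intro u hu
    have h1 : (⟨u, hPK hu⟩ : K) * k * (⟨u, hPK hu⟩ : K)⁻¹ * k⁻¹ ∈ act.ker :=
      mul_mem (Normal.conj_mem inferInstance _ (MonoidHom.mem_ker.2 hk) _)
        (inv_mem (MonoidHom.mem_ker.2 hk))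
    have h2 := hkerP _ h1 (by
      push_cast
      rw [mul_assoc, mul_assoc]
      exact mul_mem hu (by simpa [mul_assoc] using Normal.conj_mem inferInstance _ (inv_mem hu) (k : G)))
    have h3 := congrArg Subtype.val (mul_inv_eq_iff_eq_mul.1 (mul_inv_eq_one.1 h2))
    exact h3
  obtain ⟨Q⟩ : Nonempty (Sylow 3 K) := inferInstance
  have hn3 : Nat.card (Sylow 3 K) = 4 := by
    have h1 : Nat.card (Sylow 3 K) ∣ (Q : Subgroup K).index := Q.card_dvd_index
    have h2 := (Q : Subgroup K).card_mul_index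
    rw [hQcard, hK24] at h2
    have h8 : (Q : Subgroup K).index = 8 := by omega
    rw [h8] at h1
    have h3 : Nat.card (Sylow 3 K) ≡ 1 [MOD 3] := card_sylow_modEq_one 3 K
    have h4 : Nat.card (Sylow 3 K) ≠ 1 := by
      intro h
      haveI := (Nat.card_eq_one_iff_unique.1 h).1
      obtain ⟨⟨u, hu⟩, hu1⟩ : ∃ u : P, u ≠ 1 := ⟨u₀, hu₀⟩
      refine hu1 (Subtype.ext ?_)
      exact congrArg (fun t : K => (t : G)) (hfree Q ⟨u, hPK hu⟩ hu
        (Sylow.smul_eq_iff_mem_normalizer.1 (Subsingleton.elim _ _)))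
    have := Nat.le_of_dvd (by norm_num) h1
    unfold Nat.ModEq at h3
    interval_cases Nat.card (Sylow 3 K) <;> omega
  haveI : Fintype (Sylow 3 K) := Fintype.ofFinite _
  have e4 : Sylow 3 K ≃ Fin 4 := Fintype.equivFinOfCardEq (by rw [← Nat.card_eq_fintype_card, hn3])
  have hbij : Function.Bijective act := hinj.bijective_of_nat_card_le (by
    rw [Nat.card_perm, hn3, hK24]; rfl)
  exact ⟨(MulEquiv.ofBijective act hbij).trans e4.permCongrHom⟩

end CfsgLib.Char.RootSingular
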