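import Cfsg.Agent.Char.OddFrobeniusCoherence
import Mathlib.GroupTheory.FixedPointFree

/-!
# Sibley's coherence theorem for a nilpotent TI kernel
-/

set_option autoImplicit false
set_option linter.style.haveILetI false
set_option maxHeartbeats 800000

namespace CfsgLib.Char

open scoped ComplexConjugate commutatorElement

universe u

section Frobenius

variable {L : Type u} [Group L] [Fintype L] {K : Subgroup L} [hK : K.Normal]

/-- A Frobenius kernel with one more element than its index is elementary abelian and carries a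
single relevant character. -/
theorem frob_minimal_kernel (hK1 : K ≠ ⊥) (hC : ∀ a ∈ K, a ≠ 1 → Subgroup.centralizer ({a} : Set L) ≤ K)
    (he : Nat.card K = K.index + 1) :
    Nat.card {χ : L → ℂ // Cfsg.IsIrrCharacter L χ ∧ ∃ k ∈ K, χ k ≠ χ 1} = 1 ∧
      IsMulCommutative K ∧ ∃ p : ℕ, p.Prime ∧ ∀ a ∈ K, a ^ p = 1 := by
  classical
  haveI : Nontrivial K := (Subgroup.nontrivial_iff_ne_bot K).2 hK1
  -- one class of non-identity elements
  have horb : ∀ a ∈ K, a ≠ 1 →
      (∀ b ∈ K, b ≠ 1 → ∃ g : L, g * a * g⁻¹ = b) ∧ ∀ b ∈ K, a * b = b * a := by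
    intro a ha ha1
    have hle : MulAction.orbit (ConjAct L) a ⊆ {b | b ∈ K ∧ b ≠ 1} := by
      rintro _ ⟨g, rfl⟩
      change (ConjAct.ofConjAct g * a * (ConjAct.ofConjAct g)⁻¹) ∈ {b | b ∈ K ∧ b ≠ 1}
      exact ⟨hK.conj_mem a ha _, fun h => ha1 (conj_eq_one_iff.1 h)⟩
    have hcard : {b : L | b ∈ K ∧ b ≠ 1}.ncard = K.index := by
      have h1 : {b : L | b ∈ K ∧ b ≠ 1} = (K : Set L) \ {1} := rfl
      rw [h1, Set.ncard_sdiff_singleton_of_mem K.one_mem,
        show (K : Set L).ncard = Nat.card K from (Nat.card_coe_set_eq _).symm, he, Nat.add_sub_cancel]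
    set C := Subgroup.centralizer ({a} : Set L) with hCdef
    have horbC : (MulAction.orbit (ConjAct L) a).ncard = C.index := by
      rw [← MulAction.index_stabilizer, ← Subgroup.index_comap_of_surjective (MulAction.stabilizer (ConjAct L) a)
        (f := (ConjAct.toConjAct (G := L)).toMonoidHom) (MulEquiv.surjective _)]
      congr 1
      ext x
      simp only [Subgroup.mem_comap, MulAction.mem_stabilizer_iff, hCdef,
        Subgroup.mem_centralizer_singleton_iff, MulEquiv.coe_toMonoidHom]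
      change x * a * x⁻¹ = a ↔ _
      rw [mul_inv_eq_iff_eq_mul]
    have h2 : C.index ≤ K.index := by
      rw [← horbC, ← hcard]
      exact Set.ncard_le_ncard hle (Set.toFinite _)
    have hCK : C = K := Subgroup.eq_of_le_of_card_ge (hC a ha ha1) (by
      have h3 := C.card_mul_index
      have h4 := K.card_mul_index
      have h5 : 0 < C.index := Nat.pos_of_ne_zero C.index_ne_zero_of_finite
      by_contra h6
      rw [not_le] at h6
      have : Nat.card C * C.index < Nat.card K * K.index :=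
        lt_of_lt_of_le (Nat.mul_lt_mul_of_pos_right h6 h5) (Nat.mul_le_mul_left _ h2)
      omega)
    refine ⟨fun b hb hb1 => ?_, fun b hb => ?_⟩
    · have heq := Set.eq_of_subset_of_ncard_le hle (by rw [horbC, hCK, hcard]) (Set.toFinite _)
      obtain ⟨g, hg⟩ : b ∈ MulAction.orbit (ConjAct L) a := heq ▸ ⟨hb, hb1⟩
      exact ⟨ConjAct.ofConjAct g, hg⟩
    · rw [← hCK] at hb
      exact (Subgroup.mem_centralizer_singleton_iff.1 hb).symm
  refine ⟨?_, ⟨⟨fun a b => Subtype.ext ?_⟩⟩, ?_⟩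
  · rw [Nat.card_eq_one_iff_unique]
    have hirr : ∀ θ : K → ℂ, Cfsg.IsIrrCharacter K θ → θ ≠ (fun _ => 1) →
        conjOrbit (G := L) θ = (irrFinset K).erase fun _ => 1 := by
      intro θ hθ h1
      refine Finset.eq_of_subset_of_card_le (fun η hη => ?_) ?_
      · obtain ⟨g, rfl⟩ := mem_conjOrbit.1 hη
        refine Finset.mem_erase.2 ⟨fun h => h1 ?_, mem_irrFinset.2 (isIrrCharacter_conjOn hθ g)⟩
        rw [← conjOn_one (N := K) θ, ← mul_inv_cancel g, ← conjOn_conjOn, h]
        rfl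
      · rw [frob_card_conjOrbit hC hθ h1, Finset.card_erase_of_mem (mem_irrFinset.2 isIrrCharacter_one)]
        have h2 : (irrFinset K).card ≤ Nat.card K := by
          rw [← sum_cdeg_sq (G := K), Finset.card_eq_sum_ones]
          exact Finset.sum_le_sum fun φ hφ => Nat.one_le_pow _ _ (cdeg_pos (mem_irrFinset.1 hφ))
        omega
    refine ⟨⟨fun χ χ' => Subtype.ext ?_⟩, ?_⟩
    · obtain ⟨θ, hθ, h1, e1⟩ := exists_indFun_eq_of_centralizer_le hC χ.2.1 χ.2.2
      obtain ⟨θ', hθ', h1', e2⟩ := exists_indFun_eq_of_centralizer_le hC χ'.2.1 χ'.2.2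
      have hmem : θ' ∈ conjOrbit (G := L) θ := by
        rw [hirr θ hθ h1]; exact Finset.mem_erase.2 ⟨h1', mem_irrFinset.2 hθ'⟩
      obtain ⟨g, rfl⟩ := mem_conjOrbit.1 hmem
      rw [e1, e2, indFun_conjOn]
    · obtain ⟨θ, hθ⟩ : ∃ θ, θ ∈ (irrFinset K).erase fun _ => 1 := by
        refine Finset.card_pos.1 ?_
        rw [Finset.card_erase_of_mem (mem_irrFinset.2 isIrrCharacter_one)]
        by_contra h
        have h2 : irrFinset K = {fun _ => 1} := (Finset.eq_singleton_iff_unique_mem.2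
          ⟨mem_irrFinset.2 isIrrCharacter_one, fun φ hφ => Finset.card_le_one.1 (by omega) φ hφ _
            (mem_irrFinset.2 isIrrCharacter_one)⟩)
        have h3 := sum_cdeg_sq (G := K)
        rw [h2, Finset.sum_singleton] at h3
        have h4 := Finite.one_lt_card (α := K)
        rw [show cdeg (fun _ : K => (1 : ℂ)) = 1 by simp [cdeg], one_pow] at h3
        omega
      obtain ⟨h1, h2⟩ := Finset.mem_erase.1 hθ
      exact ⟨⟨Cfsg.indFun K θ, isIrrCharacter_indFun_of_centralizer_le hC (mem_irrFinset.1 h2) h1,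
        frob_indFun_relevant hC (mem_irrFinset.1 h2) h1⟩⟩
  · by_cases ha : (a : L) = 1
    · simp [ha]
    · exact (horb a a.2 ha).2 b b.2
  · obtain ⟨p, hp, hpd⟩ := Nat.exists_prime_and_dvd (n := Nat.card K) (Finite.one_lt_card).ne'
    haveI := Fact.mk hp
    obtain ⟨z, hz⟩ := exists_prime_orderOf_dvd_card' p hpd
    refine ⟨p, hp, fun a ha => ?_⟩
    by_cases ha1 : a = 1
    · simp [ha1]
    have hz1 : (z : L) ≠ 1 := fun h => hp.one_lt.ne' (by
      rw [← hz, ← Subgroup.orderOf_coe, h, orderOf_one])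
    obtain ⟨g, rfl⟩ := (horb z z.2 hz1).1 a ha ha1
    rw [conj_pow, show (z : L) ^ p = 1 by rw [← hz, ← Subgroup.orderOf_coe, pow_orderOf_eq_one],
      mul_one, mul_inv_cancel]

/-- The complement of a non-abelian Frobenius kernel has odd order. -/
theorem frob_odd_index (hC : ∀ a ∈ K, a ≠ 1 → Subgroup.centralizer ({a} : Set L) ≤ K)
    (hna : ¬ IsMulCommutative K) : Odd K.index := by
  classical
  by_contra h
  rw [Nat.not_odd_iff_even, even_iff_two_dvd] at h
  obtain ⟨x, hx⟩ := exists_prime_orderOf_dvd_card' 2 (h.trans (Subgroup.index_dvd_card K))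
  have hxK : x ∉ K := fun hxK => two_ne_zero (α := ℕ) (by
    have h1 : 2 ∣ Nat.card K := hx ▸ K.orderOf_dvd_natCard hxK
    have := Nat.eq_one_of_dvd_coprimes (frob_card_coprime_index hC).2 h1 h
    omega)
  refine hna ⟨⟨fun a b => ?_⟩⟩
  refine MonoidHom.FixedPointFree.commute_all_of_involutive
    (φ := (MulAut.conjNormal x : K ≃* K).toMonoidHom) (fun k hk => ?_) (fun k => Subtype.ext ?_) a b
  · by_contra hk1
    refine hxK (hC k k.2 (fun e => hk1 (Subtype.ext e)) (Subgroup.mem_centralizer_singleton_iff.2 ?_))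
    have := congrArg Subtype.val hk
    change x * (k : L) * x⁻¹ = k at this
    exact mul_inv_eq_iff_eq_mul.1 this
  · change x * (x * (k : L) * x⁻¹) * x⁻¹ = k
    have h2 : x * x = 1 := by rw [← pow_two, ← hx, pow_orderOf_eq_one]
    rw [show x * (x * (k : L) * x⁻¹) * x⁻¹ = (x * x) * k * (x * x)⁻¹ by group, h2]
    simp

end Frobenius

theorem index_commutator_of_mulEquiv {A B : Type u} [Group A] [Group B] (e : A ≃* B) :
    (commutator B).index = (commutator A).index := by
  have h : commutator B = (commutator A).map e.toMonoidHom := by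
    rw [commutator_def, commutator_def, Subgroup.map_commutator,
      Subgroup.map_top_of_surjective _ e.surjective]
  rw [h]
  exact Subgroup.index_map_equiv _ e

variable {G : Type u} [Group G] [Fintype G] {H L : Subgroup G} [Fintype L]

/-- The theorem of Feit and Sibley. -/
theorem feit_sibley (hH1 : H ≠ ⊥) (hnil : Group.IsNilpotent H) (hTI : Cfsg.IsTISubset (H : Set G))
    (hN : Subgroup.normalizer (H : Set G) = L) (hlt : H < L)
    (hC : ∀ k ∈ H, k ≠ 1 → Subgroup.centralizer ({k} : Set G) ≤ H) :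
    (Nat.card {χ : L → ℂ // Cfsg.IsIrrCharacter L χ ∧ ∃ k : L, (k : G) ∈ H ∧ χ k ≠ χ 1} = 1 ∧
      Nat.card H = (H.subgroupOf L).index + 1 ∧
      IsMulCommutative H ∧ ∃ p : ℕ, p.Prime ∧ ∀ a ∈ H, a ^ p = 1) ∨
    (Nat.card H = 2 ^ (Nat.card G).factorization 2 ∧
      (⁅H, H⁆.subgroupOf H).index < 4 * (H.subgroupOf L).index ^ 2 ∧ ¬ IsMulCommutative H) ∨
    Cfsg.IsCoherent {χ : L → ℂ | Cfsg.IsIrrCharacter L χ ∧ ∃ k : L, (k : G) ∈ H ∧ χ k ≠ χ 1} {1}ᶜ
      (fun α : L → ℂ => Cfsg.indFun L α) := by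
  classical
  set K := H.subgroupOf L with hKdef
  have hHn : ∀ x ∈ L, ∀ h ∈ H, x * h * x⁻¹ ∈ H := fun x hx h hh =>
    (Subgroup.mem_normalizer_iff.1 (hN.symm ▸ hx) h).1 hh
  haveI hKn : K.Normal := ⟨fun a ha g => by
    rw [hKdef, Subgroup.mem_subgroupOf] at ha ⊢
    simpa using hHn g g.2 _ ha⟩
  have hCK : ∀ a ∈ K, a ≠ 1 → Subgroup.centralizer ({a} : Set L) ≤ K := fun a ha ha1 x hx =>
    hC a ha (fun h => ha1 (Subtype.ext h)) (Subgroup.mem_centralizer_singleton_iff.2
      (congrArg Subtype.val (Subgroup.mem_centralizer_singleton_iff.1 hx)))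
  have hKtop : K ≠ ⊤ := fun h => hlt.not_ge (Subgroup.subgroupOf_eq_top.1 h)
  have hcardK : Nat.card K = Nat.card H :=
    Nat.card_congr (Subgroup.subgroupOfEquivOfLe hlt.le).toEquiv
  have hK1 : K ≠ ⊥ := fun h => hH1 (by
    rw [← Subgroup.map_subgroupOf_eq_of_le hlt.le, ← hKdef, h, Subgroup.map_bot])
  have hcomm : IsMulCommutative K → IsMulCommutative H := fun h => ⟨⟨fun a b => by
    obtain ⟨a, rfl⟩ := (Subgroup.subgroupOfEquivOfLe hlt.le).surjective a
    obtain ⟨b, rfl⟩ := (Subgroup.subgroupOfEquivOfLe hlt.le).surjective b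
    rw [← map_mul, ← map_mul, h.is_comm.comm a b]⟩⟩
  have hset : {χ : L → ℂ | Cfsg.IsIrrCharacter L χ ∧ ∃ k : L, (k : G) ∈ H ∧ χ k ≠ χ 1} =
      {χ : L → ℂ | Cfsg.IsIrrCharacter L χ ∧ ∃ k ∈ K, χ k ≠ χ 1} := rfl
  by_cases he : Nat.card K = K.index + 1
  · obtain ⟨h1, h2, p, hp, h3⟩ := frob_minimal_kernel hK1 hCK he
    refine Or.inl ⟨h1, hcardK ▸ he, hcomm h2, p, hp, fun a ha => ?_⟩
    exact congrArg Subtype.val (h3 ⟨a, hlt.le ha⟩ ha)
  obtain ⟨hτ, hτ1⟩ := indFun_TI_isometry (H := H) (L := L) fun g hg => hTI g (by rw [hN]; exact hg)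
  rw [inducedIrrAbove_bot_eq hCK] at hτ hτ1
  rcases feit_coherence hK1 hKtop hCK he _ hτ hτ1 with hcoh | ⟨p, hp, ⟨m, hm⟩, hna, hle⟩
  · exact Or.inr (Or.inr hcoh)
  have hoddi := frob_odd_index hCK hna
  by_cases hp2 : p = 2
  swap
  · have hoddL : Odd (Nat.card L) := by
      rw [← K.card_mul_index, hm]
      exact ((hp.odd_of_ne_two hp2).pow).mul hoddi
    have h := coherent_odd_frobenius_TI hoddL hlt hH1 hnil hHn
      (fun a ha ha1 => inf_le_right.trans (hC a ha ha1)) hTI hN
    rw [← hKdef, inducedIrrAbove_bot_eq hCK] at h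
    exact Or.inr (Or.inr h)
  subst hp2
  haveI : Fact (Nat.Prime 2) := ⟨hp⟩
  have hm0 : m ≠ 0 := fun h => hK1 (Subgroup.eq_bot_of_card_eq K (by rw [hm, h, pow_zero]))
  have hcardH : Nat.card H = 2 ^ m := hcardK ▸ hm
  have hnd : ¬ 2 ∣ H.index := by
    intro hd
    have h1 : 2 ^ (m + 1) ∣ Nat.card G := by
      rw [← H.card_mul_index, hcardH, pow_succ]
      exact mul_dvd_mul_left _ hd
    have h2 := Sylow.prime_dvd_card_quotient_normalizer h1 hcardH
    rw [← Subgroup.index_eq_card] at h2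
    have h3 : 2 ∣ H.relIndex (Subgroup.normalizer (H : Set G)) := h2
    rw [hN] at h3
    exact Nat.not_even_iff_odd.2 hoddi (even_iff_two_dvd.2 h3)
  refine Or.inr (Or.inl ⟨?_, ?_, fun h => hna ⟨⟨fun a b => ?_⟩⟩⟩)
  · rw [hcardH]
    congr 1
    rw [← H.card_mul_index, hcardH, Nat.factorization_mul (pow_ne_zero _ hp.ne_zero)
      H.index_ne_zero_of_finite, Finsupp.add_apply, Nat.factorization_eq_zero_of_not_dvd hnd, add_zero,
      hp.factorization_pow, Finsupp.single_eq_same]
  · have hidx : (⁅H, H⁆.subgroupOf H).index = (commutator K).index := by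
      have e1 : ⁅H, H⁆.subgroupOf H = commutator H := by
        rw [Subgroup.subgroupOf, show ⁅H, H⁆ = (commutator H).map H.subtype by
          rw [commutator_def, Subgroup.map_commutator, ← MonoidHom.range_eq_map, Subgroup.range_subtype],
          Subgroup.comap_map_eq_self_of_injective (Subgroup.subtype_injective H)]
      rw [e1]
      exact index_commutator_of_mulEquiv (Subgroup.subgroupOfEquivOfLe hlt.le)
    rw [hidx]
    have hdv : (commutator K).index ∣ 2 ^ m := by
      rw [← hm]; exact Subgroup.index_dvd_card _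
    obtain ⟨i, -, hi⟩ := (Nat.dvd_prime_pow hp).1 hdv
    have he1 : K.index ≠ 1 := fun h => hKtop (Subgroup.index_eq_one.1 h)
    rw [hi] at hle ⊢
    refine lt_of_le_of_ne ?_ fun heq => ?_
    · refine Nat.lt_succ_iff.1 (lt_of_le_of_ne hle fun heq => ?_)
      rcases i with _ | i
      · have := hoddi.pos
        simp at heq
        omega
      · exact Nat.not_even_iff_odd.2 ⟨2 * K.index ^ 2, by simp only [Nat.succ_eq_add_one]; ring⟩
          (heq ▸ (even_two.pow_of_ne_zero i.succ_ne_zero))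
    · have h1 : K.index ∣ 2 ^ i := ⟨4 * K.index, by rw [heq]; ring⟩
      obtain ⟨j, -, hj⟩ := (Nat.dvd_prime_pow hp).1 h1
      rcases j with _ | j
      · exact he1 (by rw [hj, pow_zero])
      · exact Nat.not_even_iff_odd.2 hoddi (hj ▸ even_two.pow_of_ne_zero j.succ_ne_zero)
  · refine (Subgroup.subgroupOfEquivOfLe hlt.le).injective ?_
    rw [map_mul, map_mul]
    exact h.is_comm.comm _ _

end CfsgLib.Char
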