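import Cfsg.Agent.GlaubermanCorr.InvariantOver
import Cfsg.Agent.Char.NormalSub
import Cfsg.Agent.Char.LinearTwist
import Cfsg.Agent.Char.Monomial

/-!
# Invariant constituents above an invariant character, solvable lower layer

Averaging over coprime operators on an abelian layer, then induction along a chief series.
-/

set_option autoImplicit false
set_option linter.style.haveILetI false
set_option linter.unusedSectionVars false

namespace CfsgLib.Char.Layer

open Cfsg Finset CfsgLib.GlaubermanCorr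

universe u

variable {G : Type u} [Group G] [Fintype G]

/-- The characters above `θ` differ by linear characters of an abelian quotient. -/
theorem exists_linear_twist {H : Type u} [Group H] [Fintype H] (M : Subgroup H) [M.Normal]
    [Fintype M] (hab : ∀ a b : H, a * b * a⁻¹ * b⁻¹ ∈ M) {θ : M → ℂ}
    (hθ : IsIrrCharacter M θ) {ψ ψ' : H → ℂ} (hψ : IsIrrCharacter H ψ) (hψ' : IsIrrCharacter H ψ')
    (h : classInner (fun m : M => ψ m) θ ≠ 0) (h' : classInner (fun m : M => ψ' m) θ ≠ 0) :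
    ∃ l : H →* ℂˣ, (∀ m ∈ M, l m = 1) ∧ ψ' = ψ * fun g => (l g : ℂ) := by
  classical
  have hne : classInner (indFun M fun m : M => ψ m) ψ' ≠ 0 := by
    rw [classInner_indFun _ (IsIrrCharacter.isClassFunction hψ'),
      restrict_eq_smul_sum hψ' hθ h', classInner_smul_right, classInner_sum_right]
    refine mul_ne_zero ((map_ne_zero _).2 h') ?_
    rw [sum_congr rfl fun φ hφ => ?_, sum_const, nsmul_eq_mul]
    rotate_left
    · exact classInner (fun m : M => ψ m) θ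
    · obtain ⟨g, rfl⟩ := mem_conjOrbit.1 hφ
      exact classInner_restrict_conjOn (IsIrrCharacter.isClassFunction hψ) θ g
    exact mul_ne_zero (Nat.cast_ne_zero.2 (card_ne_zero.2 ⟨θ, self_mem_conjOrbit θ⟩)) h
  have hind : (indFun M fun m : M => ψ m) =
      ∑ β ∈ irrFinset H, classInner (indFun M fun _ : M => (1 : ℂ)) β • (β * ψ) := by
    rw [show (fun m : M => ψ m) = (fun _ : M => (1 : ℂ)) * fun m : M => ψ m from
      funext fun m => (one_mul _).symm, indFun_mul_restrict _ (IsIrrCharacter.isClassFunction hψ)]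
    conv_lhs => rw [eq_sum_irr (isClassFunction_indFun M fun _ : M => (1 : ℂ))]
    rw [Finset.sum_mul]
    exact sum_congr rfl fun β _ => smul_mul_assoc _ _ _
  rw [hind, classInner_sum_left] at hne
  obtain ⟨β, hβ, hne⟩ := exists_ne_zero_of_sum_ne_zero hne
  rw [classInner_smul_left] at hne
  have hβi := mem_irrFinset.1 hβ
  have hker := (classInner_indFun_one_ne_zero_iff hβi).1 (left_ne_zero_of_mul hne)
  have hβ1 := IsIrrCharacter.apply_one_eq_one_of_commutators hβi fun a b => hker _ (hab a b)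
  obtain ⟨l, hl⟩ := IsCharacter.exists_hom (IsIrrCharacter.isCharacter hβi) hβ1
  refine ⟨l, fun m hm => Units.ext ?_, ?_⟩
  · have h3 := hker m hm
    rw [hβ1, hl] at h3
    simpa using h3
  · have heq : β * ψ = ψ * fun g => (l g : ℂ) := by rw [hl, mul_comm]
    have h4 := right_ne_zero_of_mul hne
    rw [heq, IsIrrCharacter.classInner_eq (IsIrrCharacter.mul_hom hψ l) hψ'] at h4
    by_contra h5
    exact h4 (if_neg (Ne.symm h5))

theorem pow_pow_eq_self {X : Type*} [Group X] {x : X →* ℂˣ} {n j k : ℕ} (hx : x ^ k = 1)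
    (h : n * j % k = 1) : (x ^ n) ^ j = x := MonoidHom.ext fun g => by
  rw [MonoidHom.pow_apply, MonoidHom.pow_apply, ← pow_mul, ← Nat.mod_add_div (n * j) k, h, pow_add,
    pow_one, pow_mul, ← MonoidHom.pow_apply x k g, hx, MonoidHom.one_apply, one_pow, mul_one]

theorem prod_inv_mul_const {X : Type*} [Group X] {Q : Type*} [Fintype Q] (f g : Q → X →* ℂˣ)
    (x : X →* ℂˣ) :
    ∏ r : Q, (f r)⁻¹ * (x * g r) = (∏ r, f r)⁻¹ * (x ^ Nat.card Q * ∏ r, g r) := by
  ext1 a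
  simp only [MonoidHom.finsetProd_apply, MonoidHom.mul_apply, MonoidHom.inv_apply,
    MonoidHom.pow_apply, prod_mul_distrib, prod_inv_distrib, prod_const, card_univ,
    Nat.card_eq_fintype_card]

theorem inv_mul_pow_eq {X : Type*} [Group X] (b c d : X →* ℂˣ) (n j : ℕ) :
    (b⁻¹ * (c ^ n * d)) ^ j = (b ^ j)⁻¹ * ((c ^ n) ^ j * d ^ j) := by
  ext1 a
  simp only [MonoidHom.mul_apply, MonoidHom.inv_apply, MonoidHom.pow_apply, mul_pow, inv_pow]

/-- An abelian layer has an invariant character over an invariant one for coprime operators. -/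
theorem exists_invariant_abelian (L N U : Subgroup G) [hL : L.Normal] [hN : N.Normal]
    [Fintype L] [Fintype N]
    (hNL : N ≤ L) (hab : ⁅L, L⁆ ≤ N) (hUL : U ⊓ L ≤ N)
    (hcop : (N.relIndex U).Coprime (N.relIndex L)) (θ : IrrCharacter N)
    (hθ : Inv N U (θ : N → ℂ)) :
    ∃ ψ : IrrCharacter L, classInner (fun n : N => (ψ : L → ℂ) ⟨n, hNL n.2⟩) (θ : N → ℂ) ≠ 0 ∧
      Inv L U (ψ : L → ℂ) := by
  classical
  have hULn : U ≤ Subgroup.normalizer (L : Set G) :=
    le_normalizer_of_conj fun y _ k hk => hL.conj_mem k hk y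
  have hUNn : U ≤ Subgroup.normalizer (N : Set G) :=
    le_normalizer_of_conj fun y _ k hk => hN.conj_mem k hk y
  obtain ⟨ψ₀, hψ₀⟩ := exists_constituent_over hNL θ
  haveI := Fintype.ofFinite (N.subgroupOf L)
  have habL : ∀ a b : L, a * b * a⁻¹ * b⁻¹ ∈ N.subgroupOf L := fun a b =>
    Subgroup.mem_subgroupOf.2 (hab (Subgroup.commutator_mem_commutator a.2 b.2))
  let cj : U → L ≃* L := fun u => conjSub hULn u
  have hcj : ∀ (u : U) (l : L), ((cj u l : L) : G) = u * l * (u : G)⁻¹ := fun u l => rfl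
  -- the linear characters of the layer
  let Lam : Subgroup (L →* ℂˣ) :=
    { carrier := {l | ∀ m ∈ N.subgroupOf L, l m = 1}
      one_mem' := fun m _ => rfl
      mul_mem' := fun {a b} ha hb m hm => by rw [MonoidHom.mul_apply, ha m hm, hb m hm, one_mul]
      inv_mem' := fun {a} ha m hm => by rw [MonoidHom.inv_apply, ha m hm, inv_one] }
  have hexp : ∀ l ∈ Lam, l ^ N.relIndex L = 1 := fun l hl => MonoidHom.ext fun g => by
    rw [MonoidHom.pow_apply, ← map_pow]
    exact hl _ (Subgroup.pow_index_mem (N.subgroupOf L) g)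
  -- translation of `ψ₀` by the operators
  have hc : ∀ u : U, ∃ l ∈ Lam, ∀ g : L,
      (ψ₀ : L → ℂ) (cj u⁻¹ g) = (ψ₀ : L → ℂ) g * (l g : ℂ) := by
    intro u
    have hover : ∀ ξ : IrrCharacter L,
        classInner (fun n : N => (ξ : L → ℂ) ⟨n, hNL n.2⟩) (θ : N → ℂ) ≠ 0 →
        classInner (fun x : N.subgroupOf L => (ξ : L → ℂ) x) (pullBack (θ : N → ℂ)) ≠ 0 := by
      intro ξ h
      rw [← classInner_pullBack hNL (fun n : N => (ξ : L → ℂ) ⟨n, hNL n.2⟩)] at h
      exact h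
    have hψu : classInner (fun n : N =>
        (((charAction hULn).smul u ψ₀ : IrrCharacter L) : L → ℂ) ⟨n, hNL n.2⟩) (θ : N → ℂ) ≠ 0 := by
      have h1 := classInner_charAction hNL hULn hUNn u ψ₀ θ
      rw [show (charAction hUNn).smul u θ = θ from (charAction_fixed hUNn θ).mpr hθ u] at h1
      rw [h1]; exact hψ₀
    obtain ⟨l, hl, he⟩ := exists_linear_twist (N.subgroupOf L) habL
      (isIrrCharacter_pullBack hNL θ.2) ψ₀.2 ((charAction hULn).smul u ψ₀).2 (hover _ hψ₀)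
      (hover _ hψu)
    exact ⟨l, hl, fun g => congrFun he g⟩
  choose c hcL hcψ using hc
  -- the operators on linear characters, through a transversal of `U ⊓ N`
  haveI : (N.subgroupOf U).Normal := Subgroup.normal_subgroupOf
  haveI := Fintype.ofFinite (U ⧸ N.subgroupOf U)
  obtain ⟨o, ho⟩ : ∃ o : U ⧸ N.subgroupOf U → U, ∀ q, ((o q : U) : U ⧸ N.subgroupOf U) = q :=
    ⟨Quotient.out, QuotientGroup.out_eq'⟩
  let act : U → (L →* ℂˣ) → (L →* ℂˣ) := fun u l => l.comp (cj u⁻¹).toMonoidHom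
  have hactL : ∀ u, ∀ l ∈ Lam, act u l ∈ Lam := fun u l hl m hm =>
    hl _ (Subgroup.mem_subgroupOf.2 (by
      show ((cj u⁻¹ m : L) : G) ∈ N
      rw [hcj]; exact hN.conj_mem _ (Subgroup.mem_subgroupOf.1 hm) _))
  have hfix : ∀ w : U, w ∈ N.subgroupOf U → ∀ g : L, (ψ₀ : L → ℂ) (cj w g) = (ψ₀ : L → ℂ) g := by
    intro w hw g
    refine Eq.trans (congrArg (ψ₀ : L → ℂ) (Subtype.ext ?_))
      (IsIrrCharacter.isClassFunction ψ₀.2 g ⟨w, hNL hw⟩)
    rfl
  have hcjmul : ∀ u v : U, ∀ g, cj (u * v) g = cj u (cj v g) := fun u v g => Subtype.ext (by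
    simp only [hcj, Subgroup.coe_mul]; group)
  -- congruence modulo the stabilizer of `ψ₀`
  have hmul : ∀ q r : U ⧸ N.subgroupOf U, ∀ g : L, (ψ₀ : L → ℂ) g * (c (o (q * r)) g : ℂ) =
      (ψ₀ : L → ℂ) g * ((c (o q) * act (o q) (c (o r)) : L →* ℂˣ) g : ℂ) := by
    intro q r g
    rw [← hcψ, MonoidHom.mul_apply, Units.val_mul, ← mul_assoc, ← hcψ]
    show _ = (ψ₀ : L → ℂ) (cj (o q)⁻¹ g) * (c (o r) (cj (o q)⁻¹ g) : ℂ)
    rw [← hcψ, ← hcjmul, ← mul_inv_rev]
    obtain ⟨w, hw, he⟩ : ∃ w ∈ N.subgroupOf U, o (q * r) = o q * o r * w :=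
      ⟨(o q * o r)⁻¹ * o (q * r), QuotientGroup.eq.1 (by rw [QuotientGroup.mk_mul, ho, ho, ho]),
        by group⟩
    rw [he, mul_inv_rev, hcjmul]
    exact hfix _ (inv_mem hw) _
  let A0 : Subgroup (L →* ℂˣ) :=
    { carrier := {l | ∀ g : L, (ψ₀ : L → ℂ) g * (l g : ℂ) = (ψ₀ : L → ℂ) g}
      one_mem' := fun g => by simp
      mul_mem' := fun {a b} ha hb g => by
        rw [MonoidHom.mul_apply, Units.val_mul, ← mul_assoc, ha, hb]
      inv_mem' := fun {a} ha g => by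
        conv_lhs => rw [← ha g]
        rw [MonoidHom.inv_apply, mul_assoc, ← Units.val_mul, mul_inv_cancel, Units.val_one,
          mul_one] }
  have hA0 : ∀ a b : L →* ℂˣ, (∀ g : L, (ψ₀ : L → ℂ) g * (a g : ℂ) = (ψ₀ : L → ℂ) g * (b g : ℂ)) →
      a⁻¹ * b ∈ A0 := fun a b h g => by
    rw [MonoidHom.mul_apply, MonoidHom.inv_apply, Units.val_mul, mul_left_comm, ← h, mul_left_comm,
      ← Units.val_mul, inv_mul_cancel, Units.val_one, mul_one]
  -- averaging
  obtain ⟨b, hbdef⟩ : ∃ b, ∏ r : U ⧸ N.subgroupOf U, c (o r) = b := ⟨_, rfl⟩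
  obtain ⟨j, hj⟩ : ∃ j : ℕ, ∀ l ∈ Lam, (l ^ N.relIndex U) ^ j = l := by
    rcases Nat.lt_or_ge 1 (N.relIndex L) with h1 | h1
    · obtain ⟨j, hj⟩ := Nat.exists_mul_mod_eq_gcd (n := N.relIndex U) (k := N.relIndex L)
        (by rw [hcop.gcd_eq_one]; exact h1)
      refine ⟨j, fun l hl => pow_pow_eq_self (hexp l hl) ?_⟩
      rw [hj.2, hcop.gcd_eq_one]
    · refine ⟨0, fun l hl => ?_⟩
      have h2 : N.relIndex L = 1 :=
        le_antisymm h1 (Nat.pos_of_ne_zero Subgroup.index_ne_zero_of_finite)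
      have h3 := hexp l hl
      rw [h2] at h3
      exact MonoidHom.ext fun g => by
        have h4 := congrArg (fun f : L →* ℂˣ => f g) h3
        simp only [MonoidHom.pow_apply, pow_one, MonoidHom.one_apply] at h4 ⊢
        rw [pow_zero, h4]
  have hbq : ∀ q : U ⧸ N.subgroupOf U,
      b⁻¹ * (c (o q) ^ N.relIndex U * act (o q) b) ∈ A0 := by
    intro q
    have h1 := Subgroup.prod_mem A0 (t := univ) fun r _ => hA0 _ _ (hmul q r)
    rw [show ∏ r : U ⧸ N.subgroupOf U, (c (o (q * r)))⁻¹ * (c (o q) * act (o q) (c (o r))) = _ from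
      prod_inv_mul_const _ _ _, ← Subgroup.index_eq_card,
      show ∏ r, c (o (q * r)) = b from hbdef ▸ Fintype.prod_equiv (Equiv.mulLeft q) _ _
        (fun r => rfl)] at h1
    have e : ∏ r, act (o q) (c (o r)) = act (o q) b := by
      rw [← hbdef]
      refine MonoidHom.ext fun g => ?_
      simp only [act, MonoidHom.comp_apply, MonoidHom.finsetProd_apply]
    exact e ▸ h1
  refine ⟨⟨(ψ₀ : L → ℂ) * fun g => ((b ^ j) g : ℂ), IsIrrCharacter.mul_hom ψ₀.2 _⟩, ?_, ?_⟩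
  · intro h0
    refine hψ₀ ?_
    rw [← h0]
    congr 1
    funext n
    have hb1 : b ∈ Lam := hbdef ▸ Subgroup.prod_mem Lam fun r _ => hcL _
    show _ = (ψ₀ : L → ℂ) _ * (((b ^ j) _ : ℂˣ) : ℂ)
    rw [(Lam.pow_mem hb1 j) _ (Subgroup.mem_subgroupOf.2 n.2), Units.val_one, mul_one]
  · intro u hu k k' hk
    show (ψ₀ : L → ℂ) k' * ((b ^ j) k' : ℂ) = (ψ₀ : L → ℂ) k * ((b ^ j) k : ℂ)
    obtain ⟨w, hw, he⟩ : ∃ w ∈ N.subgroupOf U, (⟨u, hu⟩ : U) = o (⟨u, hu⟩ : U) * w :=
      ⟨(o (⟨u, hu⟩ : U))⁻¹ * ⟨u, hu⟩, QuotientGroup.eq.1 (ho _), by group⟩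
    obtain ⟨q, hq⟩ : ∃ q, o (⟨u, hu⟩ : U) = o q := ⟨_, rfl⟩
    rw [hq] at he
    have hk' : k' = cj (o q) (cj w k) := by
      rw [← hcjmul, ← he]; exact Subtype.ext hk
    have hback : cj (o q)⁻¹ k' = cj w k := by
      rw [hk', ← hcjmul, inv_mul_cancel]; exact Subtype.ext (by simp [hcj])
    have hbw : (b ^ j) (cj w k) = (b ^ j) k := by
      have e : cj w k = ⟨w, hNL hw⟩ * k * (⟨w, hNL hw⟩ : L)⁻¹ := Subtype.ext rfl
      rw [e, map_mul, map_mul, map_inv, mul_comm ((b ^ j) ⟨w, hNL hw⟩), mul_inv_cancel_right]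
    rw [← hfix w hw k, ← hbw, ← hback]
    show _ = (ψ₀ : L → ℂ) (cj (o q)⁻¹ k') * ((act (o q) (b ^ j)) k' : ℂ)
    rw [hcψ, mul_assoc, ← Units.val_mul, ← MonoidHom.mul_apply]
    have hA := A0.pow_mem (hbq q) j
    rw [show _ = _ from inv_mul_pow_eq b (c (o q)) (act (o q) b) (N.relIndex U) j, hj _ (hcL _), show act (o q) b ^ j = act (o q) (b ^ j) from rfl]
      at hA
    conv_lhs => rw [← hA k']
    rw [MonoidHom.mul_apply, MonoidHom.inv_apply, mul_assoc, ← Units.val_mul,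
      mul_comm ((b ^ j) k')⁻¹, inv_mul_cancel_right]

theorem exists_invariant_solvable_aux (e : ℕ) : ∀ (K N U : Subgroup G) (hK : K.Normal)
    (hN : N.Normal) [Fintype K] [Fintype N] (hNK : N ≤ K),
    N.relIndex K = e → Group.IsSolvable (K ⧸ N.subgroupOf K) → U ⊓ K ≤ N →
    (N.relIndex U).Coprime (N.relIndex K) → ∀ θ : IrrCharacter N, Inv N U (θ : N → ℂ) →
    ∃ χ : IrrCharacter K, classInner (fun n : N => (χ : K → ℂ) ⟨n, hNK n.2⟩) (θ : N → ℂ) ≠ 0 ∧
      Inv K U (χ : K → ℂ) := by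
  classical
  induction e using Nat.strong_induction_on with
  | _ e ih =>
  intro K N U hK hN _ _ hNK he hsol hUK hcop θ hθ
  by_cases hKN : K ≤ N
  · obtain rfl := le_antisymm hKN hNK
    refine ⟨θ, ?_, hθ⟩
    have h : classInner (fun n : K => (θ : K → ℂ) ⟨n, hNK n.2⟩) (θ : K → ℂ) = 1 :=
      IsIrrCharacter.classInner_self θ.2
    intro h0
    exact one_ne_zero (h.symm.trans (by convert h0))
  obtain ⟨A, hA⟩ := exists_minimal_of_wellFoundedLT
    (fun A : Subgroup G => A.Normal ∧ A ≤ K ∧ ¬ A ≤ N) ⟨K, hK, le_rfl, hKN⟩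
  obtain ⟨hAn, hAK, hAN⟩ := hA.1
  haveI := hAn
  haveI := hN
  haveI := hK
  have hcommA : ⁅A, A⁆ ≤ N := by
    by_contra hne
    have hle : ⁅A, A⁆ ≤ A := Subgroup.commutator_le.mpr fun a ha b hb =>
      A.mul_mem (A.mul_mem (A.mul_mem ha hb) (A.inv_mem ha)) (A.inv_mem hb)
    have heq : ⁅A, A⁆ = A := le_antisymm hle
      (hA.2 ⟨Subgroup.commutator_normal A A, hle.trans hAK, hne⟩ hle)
    obtain ⟨B, hB⟩ : ∃ B, (A.subgroupOf K).map (QuotientGroup.mk' (N.subgroupOf K)) = B := ⟨_, rfl⟩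
    have hBB : B ≤ ⁅B, B⁆ := by
      rw [← hB, ← Subgroup.map_commutator]
      refine Subgroup.map_mono fun x hx => ?_
      have h1 : (x : G) ∈ (⁅A.subgroupOf K, A.subgroupOf K⁆).map K.subtype := by
        rw [Subgroup.map_commutator, Subgroup.map_subgroupOf_eq_of_le hAK, heq]
        exact Subgroup.mem_subgroupOf.1 hx
      obtain ⟨y, hy, hyx⟩ := h1
      rwa [Subtype.ext hyx] at hy
    obtain ⟨n, hn⟩ := hsol
    have hle : ∀ k, B ≤ derivedSeries (K ⧸ N.subgroupOf K) k := by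
      intro k
      induction k with
      | zero => exact le_top
      | succ k ihk => exact hBB.trans (Subgroup.commutator_mono ihk ihk)
    refine hAN fun a ha => ?_
    have h1 : QuotientGroup.mk' (N.subgroupOf K) ⟨a, hAK ha⟩ = 1 := by
      rw [← Subgroup.mem_bot, ← hn]
      exact hle n (hB ▸ ⟨⟨a, hAK ha⟩, Subgroup.mem_subgroupOf.2 ha, rfl⟩)
    exact Subgroup.mem_subgroupOf.1 ((QuotientGroup.eq_one_iff _).1 h1)
  obtain ⟨L, hLdef⟩ : ∃ L, A ⊔ N = L := ⟨_, rfl⟩
  haveI hLn : L.Normal := hLdef ▸ Subgroup.sup_normal A N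
  have hNL : N ≤ L := hLdef ▸ le_sup_right
  have hLK : L ≤ K := hLdef ▸ sup_le hAK hNK
  haveI := Fintype.ofFinite L
  have hab : ⁅L, L⁆ ≤ N := by
    intro x hx
    have h1 : QuotientGroup.mk' N x ∈ (⁅L, L⁆).map (QuotientGroup.mk' N) := ⟨x, hx, rfl⟩
    rw [Subgroup.map_commutator, ← hLdef, Subgroup.map_sup,
      (Subgroup.map_eq_bot_iff N).2 (QuotientGroup.ker_mk' N).ge, sup_bot_eq,
      ← Subgroup.map_commutator, (Subgroup.map_eq_bot_iff ⁅A, A⁆).2
        (hcommA.trans (QuotientGroup.ker_mk' N).ge), Subgroup.mem_bot, QuotientGroup.mk'_apply,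
      QuotientGroup.eq_one_iff] at h1
    exact h1
  have hmulidx : N.relIndex L * L.relIndex K = N.relIndex K :=
    Subgroup.relIndex_mul_relIndex N L K hNL hLK
  have hUL : U ⊓ L ≤ N := (inf_le_inf_left U hLK).trans hUK
  obtain ⟨ψ, hψ, hψU⟩ := exists_invariant_abelian L N U hNL hab hUL
    (hcop.coprime_dvd_right (hmulidx ▸ dvd_mul_right _ _)) θ hθ
  have hsub : L.subgroupOf U = N.subgroupOf U := Subgroup.ext fun x => by
    rw [Subgroup.mem_subgroupOf, Subgroup.mem_subgroupOf]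
    exact ⟨fun h => hUL ⟨x.2, h⟩, fun h => hNL h⟩
  have hlt : L.relIndex K < e := by
    rw [← he, ← hmulidx]
    have h0 : 0 < L.relIndex K := Nat.pos_of_ne_zero Subgroup.index_ne_zero_of_finite
    refine lt_mul_left h0 ?_
    have h1 : N.relIndex L ≠ 1 := fun h =>
      hAN ((hLdef ▸ le_sup_left : A ≤ L).trans (Subgroup.relIndex_eq_one.1 h))
    have h2 : N.relIndex L ≠ 0 := Subgroup.index_ne_zero_of_finite
    omega
  haveI : Group.IsSolvable (K ⧸ N.subgroupOf K) := hsol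
  have hsol' : Group.IsSolvable (K ⧸ L.subgroupOf K) :=
    Group.isSolvable_of_surjective (f := QuotientGroup.map (N.subgroupOf K) (L.subgroupOf K)
      (MonoidHom.id K) fun x hx => hNL hx) fun y => by
      obtain ⟨k, rfl⟩ := QuotientGroup.mk_surjective y
      exact ⟨QuotientGroup.mk k, rfl⟩
  obtain ⟨χ, hχ, hχU⟩ := ih _ hlt K L U hK hLn hLK rfl hsol'
    (hUK.trans hNL)
    (by
      rw [show L.relIndex U = N.relIndex U by
        unfold Subgroup.relIndex; rw [hsub]]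
      exact hcop.coprime_dvd_right (hmulidx ▸ dvd_mul_left _ _)) ψ hψU
  refine ⟨χ, ?_, hχU⟩
  haveI := Fintype.ofFinite (IrrCharacter L)
  have hcχ := IsIrrCharacter.isCharacter χ.2
  choose a ha using fun φ : IrrCharacter L =>
    IsCharacter.exists_classInner_eq_natCast (IsCharacter.comp hcχ (Subgroup.inclusion hLK)) φ.2
  choose b hb using fun φ : IrrCharacter L => IsCharacter.exists_classInner_eq_natCast
    (IsCharacter.comp (IsIrrCharacter.isCharacter φ.2) (Subgroup.inclusion hNL)) θ.2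
  intro h0
  have h1 : ((∑ φ : IrrCharacter L, a φ * b φ : ℕ) : ℂ) = 0 := by
    push_cast
    simp only [← ha, ← hb]
    exact (classInner_trans hLK hNL hcχ _).symm.trans h0
  rw [Nat.cast_eq_zero] at h1
  rcases Nat.mul_eq_zero.1 (sum_eq_zero_iff.1 h1 ψ (mem_univ _)) with e' | e'
  · exact hχ ((ha ψ).trans (by rw [e', Nat.cast_zero]))
  · exact hψ ((hb ψ).trans (by rw [e', Nat.cast_zero]))

end CfsgLib.Char.Layer
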