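import Cfsg.Agent.Char.SplitTensor

/-!
# The parity correspondence over an invariant character

`G = K C`, `H = L C` with `K / L` abelian, `C` fixed by a coprime operator group which fixes no
nontrivial linear character of `K / L`.  For an invariant character `θ` of `K`, every irreducible
character of `G` over `θ` has exactly one constituent of odd multiplicity on `H` over the fixed
constituent `φ` of `θ` on `L`, and this gives a bijection.
-/

set_option autoImplicit false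
set_option linter.style.haveILetI false
set_option linter.unusedSectionVars false

namespace CfsgLib.Char.SplitCorr

open Module Representation Matrix CfsgLib.Char.SplitInv
open scoped Kronecker ComplexConjugate

universe u v

/-- The restriction of operators to an invariant subgroup. -/
def subAut {G : Type u} [Group G] {S : Type v} [Group S] (α : S →* MulAut G) (M : Subgroup G)
    (hM : ∀ s, ∀ x ∈ M, α s x ∈ M) : S →* MulAut M where
  toFun s :=
    { toFun := fun x => ⟨α s x, hM s x x.2⟩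
      invFun := fun x => ⟨α s⁻¹ x, hM s⁻¹ x x.2⟩
      left_inv := fun x => Subtype.ext (by simp)
      right_inv := fun x => Subtype.ext (by simp)
      map_mul' := fun x y => Subtype.ext (map_mul (α s) (x : G) y) }
  map_one' := MulEquiv.ext fun x => Subtype.ext (by simp)
  map_mul' s t := MulEquiv.ext fun x => Subtype.ext (by simp)

theorem subAut_coe {G : Type u} [Group G] {S : Type v} [Group S] (α : S →* MulAut G) (M : Subgroup G)
    (hM : ∀ s, ∀ x ∈ M, α s x ∈ M) (s : S) (x : M) : ((subAut α M hM s x : M) : G) = α s x := rfl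

/-- The configuration. -/
structure Ctx (G : Type u) [Group G] (S : Type v) [Group S] where
  K : Subgroup G
  L : Subgroup G
  H : Subgroup G
  C : Subgroup G
  act : S →* MulAut G
  normK : K.Normal
  normL : L.Normal
  le : L ≤ K
  comm : ∀ a ∈ K, ∀ b ∈ K, a * b * a⁻¹ * b⁻¹ ∈ L
  prod : ∀ g : G, ∃ k ∈ K, ∃ c ∈ C, k * c = g
  memH : ∀ h : G, h ∈ H ↔ ∃ l ∈ L, ∃ c ∈ C, l * c = h
  inter : ∀ h ∈ H, h ∈ K → h ∈ L
  fixC : ∀ s, ∀ c ∈ C, act s c = c
  invK : ∀ s, ∀ k ∈ K, act s k ∈ K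
  invL : ∀ s, ∀ l ∈ L, act s l ∈ L
  fixDual : ∀ lam : K →* ℂˣ, (∀ l : K, (l : G) ∈ L → lam l = 1) →
    (∀ s, ∀ k : K, lam (subAut act K invK s k) = lam k) → lam = 1
  odd : Odd (Nat.card G)
  coprime : (Nat.card G).Coprime (Nat.card S)

variable {G : Type u} [Group G] {S : Type v} [Group S] (X : Ctx G S)

instance : X.K.Normal := X.normK
instance : X.L.Normal := X.normL

theorem Ctx.L_le_H : X.L ≤ X.H := fun l hl =>
  (X.memH l).2 ⟨l, hl, 1, one_mem _, mul_one l⟩

theorem Ctx.C_le_H : X.C ≤ X.H := fun c hc =>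
  (X.memH c).2 ⟨1, one_mem _, c, hc, one_mul c⟩

theorem Ctx.invH (s : S) (h : G) (hh : h ∈ X.H) : X.act s h ∈ X.H := by
  obtain ⟨l, hl, c, hc, rfl⟩ := (X.memH h).1 hh
  rw [map_mul, X.fixC s c hc]
  exact (X.memH _).2 ⟨_, X.invL s l hl, c, hc, rfl⟩

/-- The operators on `L`. -/
def Ctx.actL : S →* MulAut X.L := subAut X.act X.L X.invL

/-- The operators on `K`. -/
def Ctx.actK : S →* MulAut X.K := subAut X.act X.K X.invK

/-- The operators on `H`. -/
def Ctx.actH : S →* MulAut X.H := subAut X.act X.H X.invH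

/-- The restriction to `H`. -/
def Ctx.resH (χ : G → ℂ) : X.H → ℂ := fun h => χ h

/-- The restriction of a function on `H` to `L`. -/
def Ctx.resHL (ψ : X.H → ℂ) : X.L → ℂ := fun l => ψ ⟨l, X.L_le_H l.2⟩

/-- The restriction of a function on `K` to `L`. -/
def Ctx.resKL (θ : X.K → ℂ) : X.L → ℂ := fun l => θ ⟨l, X.le l.2⟩

/-- Odd multiplicity of `ψ` in the restriction of `χ`. -/
def Ctx.OddMult [Fintype X.H] (χ : G → ℂ) (ψ : X.H → ℂ) : Prop :=
  ∃ m : ℕ, Cfsg.classInner (X.resH χ) ψ = (m : ℂ) ∧ Odd m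

variable [Fintype G] [Fintype X.H] [Fintype X.L] [Fintype X.K] [Fintype S]

theorem sum_left_average {H : Type u} [Group H] [Fintype H] {M : Subgroup H} [Fintype M] (F : H → ℂ) :
    ∑ h, F h = (Nat.card M : ℂ)⁻¹ * ∑ h, ∑ l : M, F (l * h) := by
  have e : ∀ l : M, ∑ h, F ((l : H) * h) = ∑ h, F h := fun l =>
    Fintype.sum_equiv (Equiv.mulLeft (l : H)) _ _ fun h => rfl
  rw [Finset.sum_comm, Finset.sum_congr rfl fun l _ => e l, Finset.sum_const, Finset.card_univ,
    nsmul_eq_mul, ← Nat.card_eq_fintype_card, ← mul_assoc,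
    inv_mul_cancel₀ (Nat.cast_ne_zero.2 Nat.card_pos.ne'), one_mul]

theorem Ctx.sum_LH (F : X.H → ℂ) :
    ∑ h, F h = (Nat.card X.L : ℂ)⁻¹ * ∑ h : X.H, ∑ l : X.L, F (⟨l, X.L_le_H l.2⟩ * h) := by
  classical
  haveI := Fintype.ofFinite (X.L.subgroupOf X.H)
  rw [sum_left_average (M := X.L.subgroupOf X.H) F,
    Nat.card_congr (Subgroup.subgroupOfEquivOfLe X.L_le_H).toEquiv]
  congr 1
  refine Finset.sum_congr rfl fun h _ => ?_
  exact Fintype.sum_equiv (Subgroup.subgroupOfEquivOfLe X.L_le_H).toEquiv _ _ fun l => rfl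

/-- The data attached to a character over `θ`. -/
theorem Ctx.exists_data {d : ℕ} (σ : Representation ℂ X.K (Fin d → ℂ)) [σ.IsIrreducible]
    [Fintype (X.L.subgroupOf X.K)] (sp : Splitting σ (X.L.subgroupOf X.K) S X.actK)
    (I : G → (Mat d)ˣ) (hI : ∀ g, Intertw σ (MulAut.conjNormal g) (I g))
    (hIJ : ∀ h ∈ X.H, (I h : Mat d) * sp.J = sp.J * I h)
    {χ : G → ℂ} (hχ : Cfsg.IsIrrCharacter G χ) (m : ℕ)
    (hres : ∀ k : X.K, χ k = (m : ℂ) * σ.character k) :
    ∃ (A B : G → ℂ) (P M R : X.H → ℂ), Cfsg.IsCharacter X.H P ∧ Cfsg.IsCharacter X.H M ∧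
      Cfsg.IsCharacter X.H R ∧ (∀ h : X.H, χ h = P h + M h + R h) ∧
      (∀ (g : G) (k : X.K), χ (k * g) = A g * (matRep σ k * I g).trace ∧
        χ ((k : G) * g)⁻¹ = B g * ((((I g)⁻¹ : (Mat d)ˣ) : Mat d) * matRep σ k⁻¹).trace) ∧
      (∀ (h : X.H) (k : X.L),
        (P (⟨k, X.L_le_H k.2⟩ * h) - M (⟨k, X.L_le_H k.2⟩ * h) =
          A h * (sp.J * matRep σ ⟨k, X.le k.2⟩ * I (h : G)).trace) ∧
        (P (⟨k, X.L_le_H k.2⟩ * h)⁻¹ - M (⟨k, X.L_le_H k.2⟩ * h)⁻¹ =
          B h * ((((I (h : G))⁻¹ : (Mat d)ˣ) : Mat d) * matRep σ (⟨k, X.le k.2⟩ : X.K)⁻¹ * sp.J).trace)) ∧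
      (∀ l : X.L, P ⟨l, X.L_le_H l.2⟩ - M ⟨l, X.L_le_H l.2⟩ =
          (m : ℂ) * (sp.J * matRep σ ⟨l, X.le l.2⟩).trace ∧
        P ⟨l, X.L_le_H l.2⟩ + M ⟨l, X.L_le_H l.2⟩ = (m : ℂ) * (sp.e * matRep σ ⟨l, X.le l.2⟩).trace ∧
        R ⟨l, X.L_le_H l.2⟩ = (m : ℂ) * ((1 - sp.e) * matRep σ ⟨l, X.le l.2⟩).trace) := by
  classical
  obtain ⟨π, A, B, htr, hπK, hA, hB⟩ :=
    exists_factorisation σ I hI (IsIrrCharacter.isCharacter hχ) m hres
  let J : Matrix (Fin m × Fin d) (Fin m × Fin d) ℂ := (1 : Mat m) ⊗ₖ sp.J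
  let E : Matrix (Fin m × Fin d) (Fin m × Fin d) ℂ := (1 : Mat m) ⊗ₖ sp.e
  have hJJ : J * J = E := by simp only [J, E, ← Matrix.mul_kronecker_mul, one_mul, sp.J_sq]
  have hEJ : E * J = J := by simp only [J, E, ← Matrix.mul_kronecker_mul, one_mul, sp.e_J]
  have hJE : J * E = J := by simp only [J, E, ← Matrix.mul_kronecker_mul, one_mul, sp.J_e]
  have hEE : E * E = E := by simp only [E, ← Matrix.mul_kronecker_mul, one_mul, sp.e_sq]
  have hJc : ∀ h : X.H, J * π h = π h * J := fun h => by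
    simp only [J]
    rw [hA, ← Matrix.mul_kronecker_mul, ← Matrix.mul_kronecker_mul, hIJ h h.2, one_mul, mul_one]
  have hEc : ∀ h : X.H, E * π h = π h * E := fun h => by
    rw [← hJJ, mul_assoc, hJc, ← mul_assoc, hJc, mul_assoc]
  have hπL : ∀ l : X.L, π l = (1 : Mat m) ⊗ₖ matRep σ ⟨l, X.le l.2⟩ := fun l => hπK ⟨l, X.le l.2⟩
  have hπLinv : ∀ l : X.L, π (l : G)⁻¹ = (1 : Mat m) ⊗ₖ matRep σ (⟨l, X.le l.2⟩ : X.K)⁻¹ :=
    fun l => hπK (⟨l, X.le l.2⟩ : X.K)⁻¹
  let πH : X.H →* Matrix (Fin m × Fin d) (Fin m × Fin d) ℂ := π.comp X.H.subtype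
  have hP : ((2 : ℂ)⁻¹ • (E + J)) * ((2 : ℂ)⁻¹ • (E + J)) = (2 : ℂ)⁻¹ • (E + J) := by
    simp only [smul_mul_assoc, mul_smul_comm, smul_smul, add_mul, mul_add, hEE, hEJ, hJE, hJJ]
    module
  have hM : ((2 : ℂ)⁻¹ • (E - J)) * ((2 : ℂ)⁻¹ • (E - J)) = (2 : ℂ)⁻¹ • (E - J) := by
    simp only [smul_mul_assoc, mul_smul_comm, smul_smul, sub_mul, mul_sub, hEE, hEJ, hJE, hJJ]
    module
  have hR : (1 - E) * (1 - E) = 1 - E := by
    rw [sub_mul, one_mul, mul_sub, mul_one, hEE, sub_self, sub_zero]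
  have hR1 : (1 : Matrix (Fin m × Fin d) (Fin m × Fin d) ℂ) - E = (1 : Mat m) ⊗ₖ (1 - sp.e) := by
    rw [sub_eq_iff_eq_add]
    simp only [E]
    rw [← Matrix.kronecker_add, sub_add_cancel, Matrix.one_kronecker_one]
  have hdiff : ∀ h : X.H, ((2 : ℂ)⁻¹ • (E + J) * πH h).trace - ((2 : ℂ)⁻¹ • (E - J) * πH h).trace =
      (J * π h).trace := fun h => by
    rw [← Matrix.trace_sub, ← sub_mul]
    congr 2
    module
  have hsum : ∀ h : X.H, ((2 : ℂ)⁻¹ • (E + J) * πH h).trace + ((2 : ℂ)⁻¹ • (E - J) * πH h).trace =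
      (E * π h).trace := fun h => by
    rw [← Matrix.trace_add, ← add_mul]
    congr 2
    module
  refine ⟨fun g => (A g).trace, fun g => (B g).trace,
    fun h => ((2 : ℂ)⁻¹ • (E + J) * πH h).trace, fun h => ((2 : ℂ)⁻¹ • (E - J) * πH h).trace,
    fun h => ((1 - E) * πH h).trace,
    isCharacter_trace_idem πH _ hP fun h => ?_, isCharacter_trace_idem πH _ hM fun h => ?_,
    isCharacter_trace_idem πH _ hR fun h => ?_, fun h => ?_, fun g k => ⟨?_, ?_⟩,
    fun h k => ⟨?_, ?_⟩, fun l => ⟨?_, ?_, ?_⟩⟩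
  · simp only [πH, MonoidHom.comp_apply, Subgroup.coe_subtype, smul_mul_assoc, mul_smul_comm, add_mul,
      mul_add, hEc h, hJc h]
  · simp only [πH, MonoidHom.comp_apply, Subgroup.coe_subtype, smul_mul_assoc, mul_smul_comm, sub_mul,
      mul_sub, hEc h, hJc h]
  · simp only [πH, MonoidHom.comp_apply, Subgroup.coe_subtype, sub_mul, mul_sub, one_mul, mul_one,
      hEc h]
  · simp only [← htr]
    rw [hsum]
    simp only [πH, MonoidHom.comp_apply, Subgroup.coe_subtype]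
    rw [← Matrix.trace_add, ← add_mul, add_sub_cancel, one_mul]
  · rw [← htr, map_mul, hπK, hA, ← Matrix.mul_kronecker_mul, one_mul, Matrix.trace_kronecker]
  · rw [← htr, _root_.mul_inv_rev, map_mul, hB, ← X.K.coe_inv, hπK, ← Matrix.mul_kronecker_mul,
      mul_one, Matrix.trace_kronecker]
  · rw [hdiff]
    simp only [J, Subgroup.coe_mul]
    rw [map_mul, hπL, hA,
      ← Matrix.mul_kronecker_mul, ← Matrix.mul_kronecker_mul, one_mul, one_mul,
      Matrix.trace_kronecker, mul_assoc]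
  · rw [hdiff]
    simp only [J, Subgroup.coe_mul, _root_.mul_inv_rev, Subgroup.coe_inv]
    rw [map_mul, hB, hπLinv,
      ← Matrix.mul_kronecker_mul, ← Matrix.mul_kronecker_mul, one_mul, mul_one,
      Matrix.trace_kronecker, Matrix.trace_mul_comm sp.J]
  · rw [hdiff]
    simp only [J]
    rw [hπL, ← Matrix.mul_kronecker_mul,
      one_mul, trace_one_kronecker]
  · rw [hsum]
    simp only [E]
    rw [hπL, ← Matrix.mul_kronecker_mul,
      one_mul, trace_one_kronecker]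
  · simp only [πH, MonoidHom.comp_apply, Subgroup.coe_subtype, hR1]
    rw [hπL, ← Matrix.mul_kronecker_mul,
      one_mul, trace_one_kronecker]

/-- The correspondence over an invariant character. -/
theorem Ctx.core {θ : X.K → ℂ} (hθ : Cfsg.IsIrrCharacter X.K θ)
    (hθS : ∀ s k, θ (X.actK s k) = θ k) (hθG : ∀ g : G, conjOn g θ = θ) :
    ∃ φ : X.L → ℂ, Cfsg.IsIrrCharacter X.L φ ∧ (∀ s l, φ (X.actL s l) = φ l) ∧
      Cfsg.classInner (X.resKL θ) φ ≠ 0 ∧
      (∀ χ, Cfsg.IsIrrCharacter G χ → Cfsg.classInner (fun k : X.K => χ k) θ ≠ 0 →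
        ∃ ψ, Cfsg.IsIrrCharacter X.H ψ ∧ Cfsg.classInner (X.resHL ψ) φ ≠ 0 ∧ X.OddMult χ ψ ∧
          ∀ ψ', Cfsg.IsIrrCharacter X.H ψ' → Cfsg.classInner (X.resHL ψ') φ ≠ 0 →
            X.OddMult χ ψ' → ψ' = ψ) ∧
      (∀ χ χ', Cfsg.IsIrrCharacter G χ → Cfsg.IsIrrCharacter G χ' →
        Cfsg.classInner (fun k : X.K => χ k) θ ≠ 0 → Cfsg.classInner (fun k : X.K => χ' k) θ ≠ 0 →
        ∀ ψ, Cfsg.IsIrrCharacter X.H ψ → Cfsg.classInner (X.resHL ψ) φ ≠ 0 →
          X.OddMult χ ψ → X.OddMult χ' ψ → χ = χ') ∧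
      (∀ ψ, Cfsg.IsIrrCharacter X.H ψ → Cfsg.classInner (X.resHL ψ) φ ≠ 0 →
        ∃ χ, Cfsg.IsIrrCharacter G χ ∧ Cfsg.classInner (fun k : X.K => χ k) θ ≠ 0 ∧ X.OddMult χ ψ) := by
  classical
  obtain ⟨d, σ, hσ, rfl⟩ := hθ
  haveI := hσ
  haveI : NeZero d := neZero_dim σ
  letI := Fintype.ofFinite (X.L.subgroupOf X.K)
  have hG : (0 : ℕ) < Nat.card G := Nat.card_pos
  have hKdvd : Nat.card X.K ∣ Nat.card G := Subgroup.card_subgroup_dvd_card _
  have hdd : d ∣ Nat.card X.K := IsIrrCharacter.degree_dvd_card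
    (isIrrCharacter_character σ) (by rw [σ.char_one, Module.finrank_fin_fun])
  obtain ⟨sp⟩ := exists_splitting (σ := σ) (L := X.L.subgroupOf X.K) (S := S)
    (fun a b => Subgroup.mem_subgroupOf.2 (by simpa using X.comm a a.2 b b.2))
    (X.odd.of_dvd_nat hKdvd) (X.coprime.coprime_dvd_left hKdvd) hdd X.actK
    (fun s l hl => Subgroup.mem_subgroupOf.2 (X.invL s l (Subgroup.mem_subgroupOf.1 hl)))
    (fun s => exists_intertw σ _ (hθS s))
    (fun lam hlam hinv => X.fixDual lam (fun l hl => hlam l (Subgroup.mem_subgroupOf.2 hl)) hinv)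
  -- intertwiners of the inner automorphisms
  choose I hI using fun g : G => exists_intertw σ (MulAut.conjNormal g) fun k => by
    have h := congrFun (hθG g) k
    rw [conjOn_eq_comp] at h
    exact h
  have hLc : ∀ (g : G) (l : X.K), l ∈ X.L.subgroupOf X.K →
      (MulAut.conjNormal g).symm l ∈ X.L.subgroupOf X.K ∧ MulAut.conjNormal g l ∈ X.L.subgroupOf X.K := by
    intro g l hl
    constructor <;> refine Subgroup.mem_subgroupOf.2 ?_
    · rw [MulAut.conjNormal_symm_apply]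
      simpa using X.normL.conj_mem _ (Subgroup.mem_subgroupOf.1 hl) g⁻¹
    · rw [MulAut.conjNormal_apply]
      exact X.normL.conj_mem _ (Subgroup.mem_subgroupOf.1 hl) g
  have hIJ : ∀ h ∈ X.H, (I h : Mat d) * sp.J = sp.J * I h := by
    intro h hh
    obtain ⟨l, hl, c, hc, rfl⟩ := (X.memH h).1 hh
    have hc1 : (I c : Mat d) * sp.J = sp.J * I c :=
      sp.commSym _ _ (hI c) (fun k hk => (hLc c k hk).1) fun s => MulEquiv.ext fun k => Subtype.ext (by
        change ((MulAut.conjNormal c (X.actK s k) : X.K) : G) =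
          X.act s ((MulAut.conjNormal c k : X.K) : G)
        rw [MulAut.conjNormal_apply, MulAut.conjNormal_apply, map_mul, map_mul, map_inv, X.fixC s c hc]
        rfl)
    have hlint : Intertw σ (MulAut.conjNormal (l * c)) (uRep σ ⟨l, X.le hl⟩ * I c) := by
      rw [map_mul]
      refine Intertw.mul (fun k => ?_) (hI c)
      rw [← map_mul, ← map_mul]
      congr 1
      exact Subtype.ext (by simp [MulAut.conjNormal_apply, mul_assoc])
    obtain ⟨z, hz⟩ := hlint.unique (hI (l * c))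
    rw [hz, scal_mul_val, Units.val_mul, uRep_val, smul_mul_assoc, mul_smul_comm, mul_assoc, hc1,
      ← mul_assoc, ← mul_assoc, sp.commL _ (Subgroup.mem_subgroupOf.2 hl)]
  -- the norm on a coset of `L`
  have hnorm : ∀ h : X.H, ∑ l : X.L, (sp.J * matRep σ ⟨l, X.le l.2⟩ * I (h : G)).trace *
      ((((I (h : G))⁻¹ : (Mat d)ˣ) : Mat d) * matRep σ (⟨l, X.le l.2⟩ : X.K)⁻¹ * sp.J).trace =
        (Nat.card X.L : ℂ) := by
    intro h
    rw [← Nat.card_congr (Subgroup.subgroupOfEquivOfLe X.le).toEquiv]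
    rw [← sp.norm _ _ (hI h) (fun k hk => (hLc h k hk).1) (fun k hk => (hLc h k hk).2) (hIJ h h.2)
      ⟨orderOf (h : G), X.odd.of_dvd_nat (orderOf_dvd_natCard _), by
        rw [← map_pow, pow_orderOf_eq_one, map_one]⟩]
    exact (Fintype.sum_equiv (Subgroup.subgroupOfEquivOfLe X.le).toEquiv _ _ fun l => rfl).symm
  let LK : X.L →* X.K := Subgroup.inclusion X.le
  let jp : X.L → ℂ := fun l => (((2 : ℂ)⁻¹ • (sp.e + sp.J)) * matRep σ (LK l)).trace
  let jm : X.L → ℂ := fun l => (((2 : ℂ)⁻¹ • (sp.e - sp.J)) * matRep σ (LK l)).trace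
  let f1 : X.L → ℂ := fun l => ((1 - sp.e) * matRep σ (LK l)).trace
  have heL : ∀ l : X.L, sp.e * matRep σ (LK l) = matRep σ (LK l) * sp.e := fun l => by
    have hl : LK l ∈ X.L.subgroupOf X.K := Subgroup.mem_subgroupOf.2 l.2
    rw [← sp.J_sq, mul_assoc, sp.commL _ hl, ← mul_assoc, sp.commL _ hl, mul_assoc]
  have hJL : ∀ l : X.L, sp.J * matRep σ (LK l) = matRep σ (LK l) * sp.J := fun l =>
    sp.commL _ (Subgroup.mem_subgroupOf.2 l.2)
  have hjp : Cfsg.IsCharacter X.L jp := isCharacter_trace_idem ((matRep σ).comp LK) _ (by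
      simp only [smul_mul_assoc, mul_smul_comm, smul_smul, add_mul, mul_add, sp.e_sq, sp.e_J,
        sp.J_e, sp.J_sq]
      module) fun l => by
    simp only [MonoidHom.comp_apply, smul_mul_assoc, mul_smul_comm, add_mul, mul_add, heL, hJL]
  have hjm : Cfsg.IsCharacter X.L jm := isCharacter_trace_idem ((matRep σ).comp LK) _ (by
      simp only [smul_mul_assoc, mul_smul_comm, smul_smul, sub_mul, mul_sub, sp.e_sq, sp.e_J,
        sp.J_e, sp.J_sq]
      module) fun l => by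
    simp only [MonoidHom.comp_apply, smul_mul_assoc, mul_smul_comm, sub_mul, mul_sub, heL, hJL]
  have hf1 : Cfsg.IsCharacter X.L f1 := isCharacter_trace_idem ((matRep σ).comp LK) _ (by
      rw [sub_mul, one_mul, mul_sub, mul_one, sp.e_sq, sub_self, sub_zero]) fun l => by
    simp only [MonoidHom.comp_apply, sub_mul, mul_sub, one_mul, mul_one, heL]
  let j : X.L → ℂ := fun l => (sp.J * matRep σ (LK l)).trace
  let f0 : X.L → ℂ := fun l => (sp.e * matRep σ (LK l)).trace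
  have hj : j = jp - jm := funext fun l => by
    simp only [j, jp, jm, Pi.sub_apply, ← Matrix.trace_sub, ← sub_mul]
    congr 2
    module
  have hf0 : f0 = jp + jm := funext fun l => by
    simp only [f0, jp, jm, Pi.add_apply, ← Matrix.trace_add, ← add_mul]
    congr 2
    module
  have hjgen : Cfsg.IsGeneralizedCharacter X.L j := ⟨jp, jm, hjp, hjm, hj⟩
  have hj1 : Cfsg.classInner j j = 1 := by
    rw [classInner_def, inv_mul_eq_one₀ (Nat.cast_ne_zero.2 Nat.card_pos.ne')]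
    have h1 := sp.norm 1 1 (fun k => by simp) (fun l hl => hl) (fun l hl => hl) (by simp)
      ⟨1, odd_one, one_pow 1⟩
    rw [Nat.card_congr (Subgroup.subgroupOfEquivOfLe X.le).toEquiv] at h1
    rw [← h1]
    refine (Fintype.sum_equiv (Subgroup.subgroupOfEquivOfLe X.le).symm.toEquiv _ _ fun l => ?_).symm
    rw [← IsGeneralized.apply_inv hjgen l]
    simp only [j, Units.val_one, inv_one, one_mul, mul_one, map_inv]
    congr 1
    rw [Matrix.trace_mul_comm]
    rfl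
  obtain ⟨φ, hφ, ε, hε, hjφ⟩ : ∃ φ, Cfsg.IsIrrCharacter X.L φ ∧
      ∃ ε : ℂ, (ε = 1 ∨ ε = -1) ∧ j = ε • φ := by
    rcases IsGeneralized.isIrr_or_neg hjgen hj1 with h | h
    · exact ⟨j, h, 1, Or.inl rfl, (one_smul ℂ j).symm⟩
    · exact ⟨-j, h, -1, Or.inr rfl, by rw [neg_smul, one_smul, neg_neg]⟩
  have hε0 : ε ≠ 0 := by rcases hε with rfl | rfl <;> norm_num
  have hεc : conj ε = ε := by rcases hε with rfl | rfl <;> simp
  have hjφ1 : Cfsg.classInner j φ = ε := by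
    rw [hjφ, classInner_smul_left, IsIrrCharacter.classInner_self hφ, mul_one]
  have hφS : ∀ s l, φ (X.actL s l) = φ l := by
    intro s l
    obtain ⟨Is, hIs⟩ := exists_intertw σ (X.actK s) (hθS s)
    have h1 : (Is : Mat d) * matRep σ (LK l) = matRep σ (LK (X.actL s l)) * Is :=
      congrArg Units.val (hIs (LK l))
    have h2 : j (X.actL s l) = j l := by
      simp only [j]
      have h3 : matRep σ (LK (X.actL s l)) =
          (Is : Mat d) * matRep σ (LK l) * ((Is⁻¹ : (Mat d)ˣ) : Mat d) := by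
        rw [h1, mul_assoc, Units.mul_inv, mul_one]
      rw [h3, ← mul_assoc, ← mul_assoc, ← sp.commOps s Is hIs, Matrix.trace_mul_comm, ← mul_assoc,
        ← mul_assoc, Units.inv_mul, one_mul]
    rw [hjφ] at h2
    exact mul_left_cancel₀ hε0 h2
  have hf0φ : Cfsg.classInner f0 φ ≠ 0 := by
    obtain ⟨a, ha⟩ := IsCharacter.exists_classInner_eq_natCast hjp hφ
    obtain ⟨b, hb⟩ := IsCharacter.exists_classInner_eq_natCast hjm hφ
    rw [hj, classInner_sub_left, ha, hb] at hjφ1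
    rw [hf0, classInner_add_left, ha, hb, ← Nat.cast_add, Nat.cast_ne_zero]
    intro h
    obtain ⟨rfl, rfl⟩ := Nat.add_eq_zero_iff.1 h
    exact hε0 (by rw [← hjφ1]; simp)
  have horth : Cfsg.classInner f0 f1 = 0 := by
    rw [classInner_def, mul_eq_zero]
    right
    rw [← sp.orth]
    refine Fintype.sum_equiv (Subgroup.subgroupOfEquivOfLe X.le).symm.toEquiv _ _ fun l => ?_
    rw [← IsCharacter.apply_inv hf1 l]
    simp only [f0, f1, map_inv]
    rfl
  have hf1φ : Cfsg.classInner f1 φ = 0 := by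
    by_contra h
    exact IsCharacter.classInner_ne_zero_of_common (hf0 ▸ IsCharacter.add hjp hjm) hf1 hφ hf0φ h horth
  have hθφ : Cfsg.classInner (X.resKL σ.character) φ ≠ 0 := by
    have h : X.resKL σ.character = f0 + f1 := funext fun l => by
      simp only [f0, f1, Pi.add_apply, ← Matrix.trace_add, ← add_mul, add_sub_cancel, one_mul,
        trace_matRep]
      rfl
    rw [h, classInner_add_left, hf1φ, add_zero]
    exact hf0φ
  -- the virtual character of a character over `θ`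
  let Over : (G → ℂ) → Prop := fun χ =>
    Cfsg.IsIrrCharacter G χ ∧ Cfsg.classInner (fun k : X.K => χ k) σ.character ≠ 0
  have hdata : ∀ χ, Over χ → ∃ (m : ℕ) (A B : G → ℂ) (D : X.H → ℂ),
      Cfsg.classInner (fun k : X.K => χ k) σ.character = m ∧
      (∀ k : X.K, χ k = (m : ℂ) * σ.character k) ∧
      (∀ (g : G) (k : X.K), χ (k * g) = A g * (matRep σ k * I g).trace ∧
        χ ((k : G) * g)⁻¹ = B g * ((((I g)⁻¹ : (Mat d)ˣ) : Mat d) * matRep σ k⁻¹).trace) ∧
      Cfsg.IsGeneralizedCharacter X.H D ∧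
      (∀ (h : X.H) (k : X.L),
        D (⟨k, X.L_le_H k.2⟩ * h) = A h * (sp.J * matRep σ ⟨k, X.le k.2⟩ * I (h : G)).trace ∧
        D (⟨k, X.L_le_H k.2⟩ * h)⁻¹ =
          B h * ((((I (h : G))⁻¹ : (Mat d)ˣ) : Mat d) * matRep σ (⟨k, X.le k.2⟩ : X.K)⁻¹ * sp.J).trace) ∧
      (∀ l : X.L, D ⟨l, X.L_le_H l.2⟩ = (m : ℂ) * j l) ∧
      (∀ ψ, Cfsg.IsIrrCharacter X.H ψ → Cfsg.classInner (X.resHL ψ) φ ≠ 0 →
        ∃ (a : ℕ) (b : ℤ), Cfsg.classInner (X.resH χ) ψ = a ∧ Cfsg.classInner D ψ = b ∧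
          (2 : ℤ) ∣ (a : ℤ) - b) := by
    rintro χ ⟨hχ, hne⟩
    obtain ⟨m, hm⟩ := IsCharacter.exists_classInner_eq_natCast
      (IsCharacter.restrict (IsIrrCharacter.isCharacter hχ) X.K) (isIrrCharacter_character σ)
    have hres : ∀ k : X.K, χ k = (m : ℂ) * σ.character k := fun k => by
      have h := congrFun (restrict_eq_smul_sum hχ (isIrrCharacter_character σ) hne) k
      have hsing : conjOrbit σ.character = {σ.character} := by
        ext ψ
        rw [mem_conjOrbit, Finset.mem_singleton]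
        exact ⟨fun ⟨g, hg⟩ => hg.trans (hθG g), fun hψ => ⟨1, by rw [hψ, conjOn_one]⟩⟩
      rw [hsing, Finset.sum_singleton, hm] at h
      exact h
    obtain ⟨A, B, P, M, R, hP, hM, hR, hsum, hK, hD, hL⟩ := X.exists_data σ sp I hI hIJ hχ m hres
    refine ⟨m, A, B, P - M, hm, hres, hK, ⟨P, M, hP, hM, rfl⟩, fun h k => hD h k, fun l => (hL l).1,
      fun ψ hψ hψφ => ?_⟩
    have hR0 : Cfsg.classInner R ψ = 0 := by
      by_contra h0
      haveI := Fintype.ofFinite (X.L.subgroupOf X.H)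
      let φ' : X.L.subgroupOf X.H → ℂ := pullBack φ
      have hφ' : Cfsg.IsIrrCharacter _ φ' := isIrrCharacter_pullBack X.L_le_H hφ
      have hpb : ∀ f : X.H → ℂ, Cfsg.IsClassFunction X.H f →
          Cfsg.classInner f (Cfsg.indFun (X.L.subgroupOf X.H) φ') = Cfsg.classInner (X.resHL f) φ :=
        fun f hf => by
          rw [classInner_indFun_right hf]
          exact classInner_comp_mulEquiv (Subgroup.subgroupOfEquivOfLe X.L_le_H) (X.resHL f) φ
      have h1 : Cfsg.classInner (Cfsg.indFun (X.L.subgroupOf X.H) φ') ψ ≠ 0 := fun h => hψφ (by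
        rw [← hpb ψ (IsIrrCharacter.isClassFunction hψ), ← classInner_conj, h, map_zero])
      have h2 := IsCharacter.classInner_ne_zero_of_common hR
        (IsCharacter.indFun (IsIrrCharacter.isCharacter hφ')) hψ h0 h1
      rw [hpb R (IsCharacter.isClassFunction hR)] at h2
      have hRL : X.resHL R = (m : ℂ) • f1 := funext fun l => (hL l).2.2
      rw [hRL, classInner_smul_left, hf1φ, mul_zero] at h2
      exact h2 rfl
    obtain ⟨p, hp⟩ := IsCharacter.exists_classInner_eq_natCast hP hψ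
    obtain ⟨q, hq⟩ := IsCharacter.exists_classInner_eq_natCast hM hψ
    refine ⟨p + q, (p : ℤ) - q, ?_, ?_, ⟨(q : ℤ), by push_cast; ring⟩⟩
    · rw [show X.resH χ = P + M + R from funext hsum, classInner_add_left, classInner_add_left,
        hR0, hp, hq, add_zero, Nat.cast_add]
    · rw [classInner_sub_left, hp, hq]
      push_cast
      rfl
  choose! m A B D hm hres hK hDgen hDH hDL hpar using hdata
  -- inner products
  have hcross : ∀ χ χ', Over χ → Over χ' →
      Cfsg.classInner (D χ) (D χ') = Cfsg.classInner χ χ' := by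
    intro χ χ' hχ hχ'
    have e1 : ∀ h : X.H, ∑ l : X.L, D χ (⟨l, X.L_le_H l.2⟩ * h) *
        D χ' (⟨l, X.L_le_H l.2⟩ * h)⁻¹ = (Nat.card X.L : ℂ) * (A χ h * B χ' h) := fun h => by
      rw [Finset.sum_congr rfl fun l _ => by
        rw [(hDH χ hχ h l).1, (hDH χ' hχ' h l).2, mul_mul_mul_comm]]
      rw [← Finset.mul_sum, hnorm, mul_comm]
    have e2 : ∀ g : G, ∑ k : X.K, χ ((k : G) * g) * χ' ((k : G) * g)⁻¹ =
        (Nat.card X.K : ℂ) * (A χ g * B χ' g) := fun g => by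
      rw [Finset.sum_congr rfl fun k _ => by rw [(hK χ hχ g k).1, (hK χ' hχ' g k).2, mul_mul_mul_comm]]
      rw [← Finset.mul_sum, sum_trace_whole, mul_comm]
    have hq : ∀ (k0 : X.K) (g : G), A χ (k0 * g) * B χ' (k0 * g) = A χ g * B χ' g := fun k0 g => by
      refine mul_left_cancel₀ (Nat.cast_ne_zero.2 (Nat.card_pos (α := X.K)).ne' : (Nat.card X.K : ℂ) ≠ 0) ?_
      rw [← e2, ← e2]
      exact Fintype.sum_equiv (Equiv.mulRight k0) _ _ fun k => by simp [mul_assoc]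
    let F : G ⧸ X.K → ℂ := fun q => A χ q.out * B χ' q.out
    have hF : ∀ g : G, F g = A χ g * B χ' g := fun g => by
      obtain ⟨k, hk⟩ := QuotientGroup.mk_out_eq_mul X.K g
      simp only [F]
      rw [hk, show g * (k : G) = ((⟨g * k * g⁻¹, X.normK.conj_mem k k.2 g⟩ : X.K) : G) * g by simp, hq]
    haveI := Fintype.ofFinite (G ⧸ X.K)
    have hsurj : Function.Surjective ((QuotientGroup.mk' X.K).comp X.H.subtype) := fun q => by
      obtain ⟨g, rfl⟩ := QuotientGroup.mk'_surjective X.K q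
      obtain ⟨k, hk, c, hc, rfl⟩ := X.prod g
      exact ⟨⟨c, X.C_le_H hc⟩, by simp [(QuotientGroup.eq_one_iff k).2 hk]⟩
    calc Cfsg.classInner (D χ) (D χ')
        = (Nat.card X.H : ℂ)⁻¹ * ∑ h : X.H, F ((QuotientGroup.mk' X.K).comp X.H.subtype h) := by
          rw [classInner_def, X.sum_LH]
          congr 1
          rw [Finset.mul_sum]
          refine Finset.sum_congr rfl fun h _ => ?_
          simp only [← IsGeneralized.apply_inv (hDgen χ' hχ')]
          rw [e1, ← mul_assoc, inv_mul_cancel₀ (Nat.cast_ne_zero.2 Nat.card_pos.ne'), one_mul,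
            MonoidHom.comp_apply, QuotientGroup.mk'_apply, hF]
          rfl
      _ = (Nat.card G : ℂ)⁻¹ * ∑ g : G, F (QuotientGroup.mk' X.K g) := by
          rw [sum_comp_surjective _ hsurj F,
            sum_comp_surjective _ (QuotientGroup.mk'_surjective X.K) F]
      _ = Cfsg.classInner χ χ' := by
          rw [classInner_def, sum_left_average (M := X.K) (fun g => χ g * conj (χ' g))]
          congr 1
          rw [Finset.mul_sum]
          refine Finset.sum_congr rfl fun g _ => ?_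
          simp only [← IsIrrCharacter.apply_inv hχ'.1]
          rw [e2, QuotientGroup.mk'_apply, hF, ← mul_assoc,
            inv_mul_cancel₀ (Nat.cast_ne_zero.2 Nat.card_pos.ne'), one_mul]
  have hmpos : ∀ χ, Over χ → m χ ≠ 0 := fun χ hχ h => hχ.2 (by rw [hm χ hχ, h, Nat.cast_zero])
  have hirr : ∀ χ, Over χ → ∃ ψ, Cfsg.IsIrrCharacter X.H ψ ∧ Cfsg.classInner (X.resHL ψ) φ ≠ 0 ∧
      ∃ δ : ℤ, (δ = 1 ∨ δ = -1) ∧ D χ = (δ : ℂ) • ψ := by
    intro χ hχ
    have h1 : Cfsg.classInner (D χ) (D χ) = 1 := by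
      rw [hcross χ χ hχ hχ, IsIrrCharacter.classInner_self hχ.1]
    obtain ⟨ψ, hψ, δ, hδ, hD⟩ : ∃ ψ, Cfsg.IsIrrCharacter X.H ψ ∧
        ∃ δ : ℤ, (δ = 1 ∨ δ = -1) ∧ D χ = (δ : ℂ) • ψ := by
      rcases IsGeneralized.isIrr_or_neg (hDgen χ hχ) h1 with h | h
      · exact ⟨_, h, 1, Or.inl rfl, by simp⟩
      · exact ⟨_, h, -1, Or.inr rfl, by simp⟩
    refine ⟨ψ, hψ, fun h0 => ?_, δ, hδ, hD⟩
    have h2 : X.resHL (D χ) = ((m χ : ℂ) * ε) • φ := funext fun l => by
      change D χ ⟨l, X.L_le_H l.2⟩ = _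
      rw [hDL χ hχ l, hjφ]
      simp [mul_assoc]
    have h3 : X.resHL (D χ) = (δ : ℂ) • X.resHL ψ := by rw [hD]; rfl
    have h4 := congrArg (fun f => Cfsg.classInner f φ) (h2.symm.trans h3)
    simp only [classInner_smul_left, IsIrrCharacter.classInner_self hφ, mul_one, h0, mul_zero] at h4
    exact mul_ne_zero (Nat.cast_ne_zero.2 (hmpos χ hχ)) hε0 h4
  have hodd_iff : ∀ χ, Over χ → ∀ ψ, Cfsg.IsIrrCharacter X.H ψ →
      Cfsg.classInner (X.resHL ψ) φ ≠ 0 → (X.OddMult χ ψ ↔ Cfsg.classInner (D χ) ψ ≠ 0) := by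
    intro χ hχ ψ hψ hψφ
    obtain ⟨a, b, ha, hb, hab⟩ := hpar χ hχ ψ hψ hψφ
    obtain ⟨ψ0, hψ0, -, δ, hδ, hD⟩ := hirr χ hχ
    have hb' : b = 0 ∨ b = 1 ∨ b = -1 := by
      rw [hD, classInner_smul_left, IsIrrCharacter.classInner_eq hψ0 hψ] at hb
      split_ifs at hb
      · rw [mul_one, Int.cast_inj] at hb
        rcases hδ with h | h <;> omega
      · rw [mul_zero, eq_comm, Int.cast_eq_zero] at hb
        exact Or.inl hb
    constructor
    · rintro ⟨n, hn, hodd⟩ h0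
      rw [ha, Nat.cast_inj] at hn
      rw [hb, Int.cast_eq_zero] at h0
      obtain ⟨t, ht⟩ := hodd
      omega
    · intro h0
      rw [hb, Int.cast_ne_zero] at h0
      exact ⟨a, ha, Nat.odd_iff.2 (by omega)⟩
  have huniq : ∀ χ, Over χ → ∀ ψ, Cfsg.IsIrrCharacter X.H ψ →
      Cfsg.classInner (X.resHL ψ) φ ≠ 0 → X.OddMult χ ψ →
      ∀ ψ0 δ, Cfsg.IsIrrCharacter X.H ψ0 → D χ = (δ : ℂ) • ψ0 → ψ = ψ0 := by
    intro χ hχ ψ hψ hψφ hodd ψ0 δ hψ0 hD
    have h := (hodd_iff χ hχ ψ hψ hψφ).1 hodd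
    rw [hD, classInner_smul_left, IsIrrCharacter.classInner_eq hψ0 hψ] at h
    by_contra hne
    exact h (by rw [if_neg (Ne.symm hne), mul_zero])
  refine ⟨φ, hφ, hφS, hθφ, fun χ hχ hne => ?_, fun χ χ' hχ hχ' hne hne' ψ hψ hψφ hod hod' => ?_,
    fun ψ hψ hψφ => ?_⟩
  · obtain ⟨ψ, hψ, hψφ, δ, hδ, hD⟩ := hirr χ ⟨hχ, hne⟩
    refine ⟨ψ, hψ, hψφ, (hodd_iff χ ⟨hχ, hne⟩ ψ hψ hψφ).2 ?_, fun ψ' hψ' h' ho =>
      huniq χ ⟨hχ, hne⟩ ψ' hψ' h' ho ψ δ hψ hD⟩
    rw [hD, classInner_smul_left, IsIrrCharacter.classInner_self hψ, mul_one, Int.cast_ne_zero]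
    rcases hδ with h | h <;> omega
  · obtain ⟨ψ1, hψ1, -, δ, hδ, hD⟩ := hirr χ ⟨hχ, hne⟩
    obtain ⟨ψ2, hψ2, -, δ', hδ', hD'⟩ := hirr χ' ⟨hχ', hne'⟩
    have e1 := huniq χ ⟨hχ, hne⟩ ψ hψ hψφ hod ψ1 δ hψ1 hD
    have e2 := huniq χ' ⟨hχ', hne'⟩ ψ hψ hψφ hod' ψ2 δ' hψ2 hD'
    by_contra hcc
    have h := hcross χ χ' ⟨hχ, hne⟩ ⟨hχ', hne'⟩
    rw [IsIrrCharacter.classInner_of_ne hχ hχ' hcc, hD, hD', ← e1, ← e2, classInner_smul_left,
      classInner_smul_right, IsIrrCharacter.classInner_self hψ, mul_one, map_intCast,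
      ← Int.cast_mul, Int.cast_eq_zero] at h
    rcases hδ with rfl | rfl <;> rcases hδ' with rfl | rfl <;> simp at h
  · -- every character over `φ` arises
    let Φ : Finset (G → ℂ) := (irrFinset G).filter fun χ =>
      Cfsg.classInner (fun k : X.K => χ k) σ.character ≠ 0
    have hΦ : ∀ χ ∈ Φ, Over χ := fun χ h =>
      ⟨mem_irrFinset.1 (Finset.mem_filter.1 h).1, (Finset.mem_filter.1 h).2⟩
    have hind : Cfsg.indFun X.K σ.character = ∑ χ ∈ Φ, (m χ : ℂ) • χ := by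
      rw [eq_sum_irr (isClassFunction_indFun X.K σ.character)]
      rw [Finset.sum_congr rfl (g := fun χ => conj (Cfsg.classInner (fun k : X.K => χ k) σ.character) • χ)
        fun χ hχ => by
          rw [classInner_indFun _ (IsIrrCharacter.isClassFunction (mem_irrFinset.1 hχ)),
            classInner_conj]]
      rw [← Finset.sum_subset (Finset.filter_subset _ _ : Φ ⊆ irrFinset G) fun χ hχ hn => ?_]
      · exact Finset.sum_congr rfl fun χ hχ => by rw [hm χ (hΦ χ hχ), Complex.conj_natCast]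
      · have h0 : Cfsg.classInner (fun k : X.K => χ k) σ.character = 0 := by
          by_contra h0
          exact hn (Finset.mem_filter.2 ⟨hχ, h0⟩)
        rw [h0, map_zero, zero_smul]
    have hout : ∀ h : X.H, (h : G) ∉ X.K → ∑ χ ∈ Φ, (m χ : ℂ) * D χ h = 0 := by
      intro h hh
      have h1 : ∀ k : X.K, (∑ χ ∈ Φ, (m χ : ℂ) * A χ h) * (matRep σ k * I (h : G)).trace = 0 := fun k => by
        have h2 := congrFun hind ((k : G) * h)
        rw [indFun_eq_zero_of_normal _ (fun hk => hh (by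
          simpa using X.K.mul_mem (X.K.inv_mem k.2) hk)), Finset.sum_apply] at h2
        rw [h2, Finset.sum_mul]
        exact Finset.sum_congr rfl fun χ hχ => by
          rw [Pi.smul_apply, smul_eq_mul, (hK χ (hΦ χ hχ) h k).1, mul_assoc]
      obtain ⟨k, hk⟩ : ∃ k : X.K, (matRep σ k * I (h : G)).trace ≠ 0 := by
        by_contra! hall
        have h3 := sum_trace_whole σ (I (h : G))
        simp only [hall, zero_mul, Finset.sum_const_zero] at h3
        exact Nat.card_pos.ne' (Nat.cast_eq_zero.1 h3.symm)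
      have h4 : ∑ χ ∈ Φ, (m χ : ℂ) * A χ h = 0 := (mul_eq_zero.1 (h1 k)).resolve_right hk
      have h5 : ∀ χ ∈ Φ, D χ h = A χ h * (sp.J * I (h : G)).trace := fun χ hχ => by
        have h6 := (hDH χ (hΦ χ hχ) h 1).1
        have e : (⟨((1 : X.L) : G), X.L_le_H (1 : X.L).2⟩ : X.H) = 1 := rfl
        rw [e, one_mul, show (⟨((1 : X.L) : G), X.le (1 : X.L).2⟩ : X.K) = 1 from rfl, map_one,
          mul_one] at h6
        exact h6
      rw [Finset.sum_congr rfl fun χ hχ => by rw [h5 χ hχ, ← mul_assoc], ← Finset.sum_mul, h4, zero_mul]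
    let c : ℂ := ∑ χ ∈ Φ, (m χ : ℂ) * m χ
    have hin : ∀ l : X.L, ∑ χ ∈ Φ, (m χ : ℂ) * D χ ⟨l, X.L_le_H l.2⟩ = c * j l := fun l => by
      simp only [c, Finset.sum_mul]
      exact Finset.sum_congr rfl fun χ hχ => by rw [hDL χ (hΦ χ hχ), mul_assoc]
    have hc : c ≠ 0 := by
      have hne : Φ.Nonempty := by
        by_contra he
        rw [Finset.not_nonempty_iff_eq_empty] at he
        rw [he, Finset.sum_empty] at hind
        have := congrFun hind 1
        rw [indFun_one, σ.char_one, Pi.zero_apply, mul_eq_zero, Nat.cast_eq_zero, Nat.cast_eq_zero,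
          Module.finrank_fin_fun] at this
        rcases this with h | h
        · exact X.K.index_ne_zero_of_finite h
        · exact NeZero.ne d h
      obtain ⟨χ0, hχ0⟩ := hne
      simp only [c, ← Nat.cast_mul, ← Nat.cast_sum, Nat.cast_ne_zero]
      intro h0
      exact hmpos χ0 (hΦ χ0 hχ0) (mul_self_eq_zero.1 ((Finset.sum_eq_zero_iff.1 h0) χ0 hχ0))
    have htot : Cfsg.classInner (∑ χ ∈ Φ, (m χ : ℂ) • D χ) ψ =
        (Nat.card X.H : ℂ)⁻¹ * ((Nat.card X.L : ℂ) * (c * Cfsg.classInner j (X.resHL ψ))) := by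
      rw [classInner_def, classInner_def, ← mul_assoc c, mul_comm c, mul_assoc (_⁻¹) c,
        ← mul_assoc (Nat.card X.L : ℂ), mul_inv_cancel₀ (Nat.cast_ne_zero.2 Nat.card_pos.ne'), one_mul]
      congr 1
      rw [Finset.mul_sum]
      have hkey : ∀ h : X.H, (∑ χ ∈ Φ, (m χ : ℂ) • D χ) h * conj (ψ h) =
          if hh : (h : G) ∈ X.L then c * (j ⟨h, hh⟩ * conj (X.resHL ψ ⟨h, hh⟩)) else 0 := by
        intro h
        simp only [Finset.sum_apply, Pi.smul_apply, smul_eq_mul]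
        split_ifs with hh
        · rw [← mul_assoc, ← hin ⟨h, hh⟩]
          rfl
        · rw [hout h fun hk => hh (X.inter h h.2 hk), zero_mul]
      rw [Finset.sum_congr rfl fun h _ => hkey h]
      symm
      refine Finset.sum_bij_ne_zero (fun l _ _ => (⟨l, X.L_le_H l.2⟩ : X.H))
        (fun _ _ _ => Finset.mem_univ _) (fun a _ _ b _ _ hab => Subtype.ext (congrArg (fun x : X.H => (x : G)) hab))
        (fun h _ hne => ?_) (fun l _ _ => by rw [dif_pos l.2])
      by_cases hh : (h : G) ∈ X.L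
      · rw [dif_pos hh] at hne
        exact ⟨⟨h, hh⟩, Finset.mem_univ _, hne, rfl⟩
      · rw [dif_neg hh] at hne
        exact absurd rfl hne
    have hne : Cfsg.classInner (∑ χ ∈ Φ, (m χ : ℂ) • D χ) ψ ≠ 0 := by
      rw [htot, hjφ, classInner_smul_left]
      refine mul_ne_zero (inv_ne_zero (Nat.cast_ne_zero.2 Nat.card_pos.ne'))
        (mul_ne_zero (Nat.cast_ne_zero.2 Nat.card_pos.ne') (mul_ne_zero hc (mul_ne_zero hε0 ?_)))
      rw [← classInner_conj]
      exact fun h => hψφ ((map_eq_zero _).1 h)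
    rw [classInner_sum_left] at hne
    obtain ⟨χ, hχ, hne'⟩ := Finset.exists_ne_zero_of_sum_ne_zero hne
    rw [classInner_smul_left] at hne'
    exact ⟨χ, (hΦ χ hχ).1, (hΦ χ hχ).2,
      (hodd_iff χ (hΦ χ hχ) ψ hψ hψφ).2 (right_ne_zero_of_mul hne')⟩

end CfsgLib.Char.SplitCorr
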