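import Cfsg.Agent.Char.SplitCore
import Cfsg.Agent.Char.LinearTwist

/-!
# Fixed constituents in the split configuration
-/

set_option autoImplicit false
set_option linter.style.haveILetI false
set_option linter.unusedSectionVars false

namespace CfsgLib.Char.SplitCorr

open CfsgLib.Char.SplitInv
open scoped ComplexConjugate

universe u v

theorem pow_card_pow_totient {M : Type*} [Monoid M] (x : M) {a b : ℕ} (hab : a.Coprime b)
    (hx : x ^ b = 1) : x ^ (a ^ Nat.totient b) = x := by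
  rw [pow_eq_pow_mod _ hx, show a ^ Nat.totient b % b = 1 % b from Nat.ModEq.pow_totient hab,
    ← pow_eq_pow_mod _ hx, pow_one]

variable {G : Type u} [Group G] {S : Type v} [Group S] (X : Ctx G S)

/-- Iterating the operators on an invariant subgroup. -/
theorem Ctx.eq_of_conj [Finite G] [Finite S] (N : Subgroup G) [N.Normal]
    (hN : ∀ s, ∀ n ∈ N, X.act s n ∈ N) (F : N → ℂ) (s : S) {c : G} (hc : c ∈ X.C)
    (h : ∀ n, F (subAut X.act N hN s n) = conjOn c F n) :
    ∀ n, F (subAut X.act N hN s n) = F n := by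
  have hit : ∀ (j : ℕ) (n : N), F (subAut X.act N hN (s ^ j) n) = conjOn (c ^ j) F n := by
    intro j
    induction j with
    | zero => intro n; rw [pow_zero, pow_zero, map_one, conjOn_one]; rfl
    | succ j ih =>
      intro n
      rw [pow_succ, map_mul, MulAut.mul_apply, ih]
      rw [conjOn_apply, conjOn_apply]
      have e : (⟨c ^ j * (subAut X.act N hN s n : G) * (c ^ j)⁻¹,
          (inferInstance : N.Normal).conj_mem _ (subAut X.act N hN s n).2 (c ^ j)⟩ : N) =
          subAut X.act N hN s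
            ⟨c ^ j * (n : G) * (c ^ j)⁻¹, (inferInstance : N.Normal).conj_mem n n.2 (c ^ j)⟩ :=
        Subtype.ext (by
          simp only [subAut_coe, map_mul, map_inv, X.fixC s _ (X.C.pow_mem hc j)])
      rw [e, h, conjOn_apply]
      congr 1
      ext
      simp [pow_succ', mul_assoc]
  intro n
  have h1 := hit (Nat.card G ^ Nat.totient (Nat.card S)) n
  rw [pow_card_pow_totient s X.coprime pow_card_eq_one'] at h1
  obtain ⟨j, hj⟩ : Nat.card G ∣ Nat.card G ^ Nat.totient (Nat.card S) :=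
    dvd_pow_self _ (Nat.totient_pos.2 Nat.card_pos).ne'
  rw [hj, pow_mul, pow_card_eq_one', one_pow, conjOn_one] at h1
  exact h1

theorem Ctx.conjOn_eq_of_fixed (N : Subgroup G) [N.Normal] (hN : ∀ s, ∀ n ∈ N, X.act s n ∈ N)
    {F : N → ℂ} (hF : ∀ s n, F (subAut X.act N hN s n) = F n) {c : G} (hc : c ∈ X.C) (s : S) (n : N) :
    conjOn c F (subAut X.act N hN s n) = conjOn c F n := by
  rw [conjOn_apply, conjOn_apply, ← hF s ⟨c * (n : G) * c⁻¹, (inferInstance : N.Normal).conj_mem n n.2 c⟩]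
  congr 1
  exact Subtype.ext (by simp [subAut_coe, X.fixC s c hc])

theorem Ctx.conjOn_of_prod {θ : X.K → ℂ} (hθ : Cfsg.IsClassFunction X.K θ) (g : G) :
    ∃ c ∈ X.C, conjOn g θ = conjOn c θ := by
  obtain ⟨k, hk, c, hc, rfl⟩ := X.prod g
  refine ⟨c, hc, ?_⟩
  rw [← conjOn_conjOn]
  congr 1
  exact funext fun n => hθ n ⟨k, hk⟩

theorem Ctx.K_le_inertia {θ : X.K → ℂ} (hθ : Cfsg.IsClassFunction X.K θ) : X.K ≤ inertia θ :=
  le_inertia hθ

section Finite

variable [Fintype G] [Fintype X.K] [Fintype X.L] [Fintype X.H] [Fintype S]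

theorem classInner_comp_aut {N : Type u} [Group N] [Fintype N] (e : MulAut N) (f f' : N → ℂ) :
    Cfsg.classInner (fun n => f (e n)) (fun n => f' (e n)) = Cfsg.classInner f f' :=
  classInner_comp_mulEquiv e f f'

theorem isIrr_comp_aut {N : Type u} [Group N] (e : MulAut N) {f : N → ℂ}
    (hf : Cfsg.IsIrrCharacter N f) : Cfsg.IsIrrCharacter N fun n => f (e n) :=
  IsIrrCharacter.comp_surjective hf e.toMonoidHom e.surjective

/-- Constituents of a fixed character are fixed. -/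
theorem Ctx.fixed_constituent_K {χ : G → ℂ} (hχ : Cfsg.IsIrrCharacter G χ)
    (hχS : ∀ s g, χ (X.act s g) = χ g) {θ : X.K → ℂ} (hθ : Cfsg.IsIrrCharacter X.K θ)
    (h : Cfsg.classInner (fun k : X.K => χ k) θ ≠ 0) : ∀ s k, θ (X.actK s k) = θ k := by
  intro s
  have h' : Cfsg.classInner (fun k : X.K => χ k) (fun k => θ (X.actK s k)) ≠ 0 := by
    rw [show (fun k : X.K => χ k) = fun k => (fun k : X.K => χ k) (X.actK s k) from
      funext fun k => (hχS s k).symm]
    exact (classInner_comp_aut (X.actK s) (fun k : X.K => χ k) θ).trans_ne h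
  obtain ⟨g, hg⟩ := mem_conjOrbit.1
    (mem_conjOrbit_of_constituent hχ hθ (isIrr_comp_aut (X.actK s) hθ) h h')
  obtain ⟨c, hc, hgc⟩ := X.conjOn_of_prod (IsIrrCharacter.isClassFunction hθ) g
  exact X.eq_of_conj X.K X.invK θ s hc fun n => congrFun (hg.trans hgc) n

theorem Ctx.resHL_conjOn {ψ : X.H → ℂ} (hψ : Cfsg.IsIrrCharacter X.H ψ) {c : G} (hc : c ∈ X.C) :
    conjOn c (X.resHL ψ) = X.resHL ψ := funext fun l =>
  IsIrrCharacter.isClassFunction hψ ⟨l, X.L_le_H l.2⟩ ⟨c, X.C_le_H hc⟩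

/-- The constituents on `L` of a character of `H` are conjugate under `C`. -/
theorem Ctx.orbit_L {ψ : X.H → ℂ} (hψ : Cfsg.IsIrrCharacter X.H ψ) {φ φ' : X.L → ℂ}
    (hφ : Cfsg.IsIrrCharacter X.L φ) (hφ' : Cfsg.IsIrrCharacter X.L φ')
    (h : Cfsg.classInner (X.resHL ψ) φ ≠ 0) (h' : Cfsg.classInner (X.resHL ψ) φ' ≠ 0) :
    ∃ c ∈ X.C, φ' = conjOn c φ := by
  classical
  haveI := Fintype.ofFinite (X.L.subgroupOf X.H)
  have hres : ∀ f : X.L → ℂ, Cfsg.classInner (fun x : X.L.subgroupOf X.H => ψ x) (pullBack f) =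
      Cfsg.classInner (X.resHL ψ) f := fun f => by
    rw [← classInner_pullBack X.L_le_H (X.resHL ψ) f]; rfl
  obtain ⟨x, hx⟩ := mem_conjOrbit.1 (mem_conjOrbit_of_constituent hψ
    (isIrrCharacter_pullBack X.L_le_H hφ) (isIrrCharacter_pullBack X.L_le_H hφ')
    (by rw [hres]; exact h) (by rw [hres]; exact h'))
  obtain ⟨l, hl, c, hc, hlc⟩ := (X.memH (x : G)).1 x.2
  refine ⟨c, hc, funext fun n => ?_⟩
  have h1 := congrFun hx ⟨⟨n, X.L_le_H n.2⟩, Subgroup.mem_subgroupOf.2 n.2⟩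
  simp only [pullBack, conjOn_apply] at h1
  rw [Subtype.coe_eta] at h1
  rw [h1, conjOn_apply]
  have h2 := IsIrrCharacter.isClassFunction hφ ⟨c * (n : G) * c⁻¹, X.normL.conj_mem n n.2 c⟩ ⟨l, hl⟩
  rw [← h2]
  congr 1
  ext
  simp [← hlc, mul_assoc]

/-- Constituents on `L` of a fixed character of `H` are fixed. -/
theorem Ctx.fixed_constituent_L {ψ : X.H → ℂ} (hψ : Cfsg.IsIrrCharacter X.H ψ)
    (hψS : ∀ s h, ψ (X.actH s h) = ψ h) {φ : X.L → ℂ} (hφ : Cfsg.IsIrrCharacter X.L φ)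
    (h : Cfsg.classInner (X.resHL ψ) φ ≠ 0) : ∀ s l, φ (X.actL s l) = φ l := by
  intro s
  have h' : Cfsg.classInner (X.resHL ψ) (fun l => φ (X.actL s l)) ≠ 0 := by
    rw [show X.resHL ψ = fun l => X.resHL ψ (X.actL s l) from
      funext fun l => (hψS s ⟨l, X.L_le_H l.2⟩).symm, classInner_comp_aut (X.actL s)]
    exact h
  obtain ⟨c, hc, hcφ⟩ := X.orbit_L hψ hφ (isIrr_comp_aut (X.actL s) hφ) h h'
  exact X.eq_of_conj X.L X.invL φ s hc fun n => congrFun hcφ n

/-- The linear characters of `K / L`. -/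
abbrev Ctx.Dual : Subgroup (X.K →* ℂˣ) := dual (X.L.subgroupOf X.K)

theorem Ctx.hab : ∀ a b : X.K, a * b * a⁻¹ * b⁻¹ ∈ X.L.subgroupOf X.K := fun a b =>
  Subgroup.mem_subgroupOf.2 (by simpa using X.comm a a.2 b b.2)

theorem Ctx.dual_pow {lam : X.K →* ℂˣ} : lam ^ Nat.card X.K = 1 :=
  MonoidHom.ext fun k => by rw [MonoidHom.pow_apply, ← map_pow, pow_card_eq_one', map_one]; rfl

theorem Ctx.coprimeK : (Nat.card S).Coprime (Nat.card X.K) :=
  (X.coprime.coprime_dvd_left (Subgroup.card_subgroup_dvd_card _)).symm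

/-- Twist by a linear character. -/
def twistBy {K : Type u} [Group K] (θ : K → ℂ) (lam : K →* ℂˣ) : K → ℂ := fun k => θ k * (lam k : ℂ)

theorem twistBy_twistBy {K : Type u} [Group K] (θ : K → ℂ) (a b : K →* ℂˣ) :
    twistBy (twistBy θ a) b = twistBy θ (a * b) := funext fun k => by
  simp [twistBy, mul_assoc]

theorem twistBy_one {K : Type u} [Group K] (θ : K → ℂ) : twistBy θ 1 = θ := funext fun k => by
  simp [twistBy]

theorem isIrr_twistBy {K : Type u} [Group K] [Fintype K] {θ : K → ℂ}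
    (hθ : Cfsg.IsIrrCharacter K θ) (lam : K →* ℂˣ) : Cfsg.IsIrrCharacter K (twistBy θ lam) :=
  IsIrrCharacter.mul_hom hθ lam

/-- The twists fixing a function. -/
def fixTwist {K : Type u} [Group K] (θ : K → ℂ) : Subgroup (K →* ℂˣ) where
  carrier := {lam | twistBy θ lam = θ}
  one_mem' := twistBy_one θ
  mul_mem' {a b} ha hb := by
    change twistBy θ (a * b) = θ
    rw [← twistBy_twistBy, show twistBy θ a = θ from ha]
    exact hb
  inv_mem' {a} ha := by
    change twistBy θ a⁻¹ = θ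
    conv_lhs => rw [← show twistBy θ a = θ from ha]
    rw [twistBy_twistBy, mul_inv_cancel a, twistBy_one]

theorem mem_fixTwist {K : Type u} [Group K] {θ : K → ℂ} {lam : K →* ℂˣ} :
    lam ∈ fixTwist θ ↔ twistBy θ lam = θ := Iff.rfl

theorem twistBy_eq_iff {K : Type u} [Group K] {θ : K → ℂ} {a b : K →* ℂˣ} :
    twistBy θ a = twistBy θ b ↔ a⁻¹ * b ∈ fixTwist θ := by
  rw [mem_fixTwist]
  constructor
  · intro h
    rw [mul_comm a⁻¹ b, ← twistBy_twistBy, ← h, twistBy_twistBy, mul_inv_cancel a, twistBy_one]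
  · intro h
    conv_lhs => rw [← h, twistBy_twistBy, mul_comm (a⁻¹ * b) a, mul_inv_cancel_left a b]

theorem Ctx.twist_comp (θ : X.K → ℂ) (lam : X.K →* ℂˣ) (s : S) (k : X.K) :
    twistBy θ lam (X.actK s k) =
      twistBy (fun j => θ (X.actK s j)) (lam.comp (X.actK s).toMonoidHom) k := rfl

theorem Ctx.comp_mem_dual {lam : X.K →* ℂˣ} (h : lam ∈ X.Dual) (s : S) :
    lam.comp (X.actK s).toMonoidHom ∈ X.Dual := fun l hl =>
  h _ (Subgroup.mem_subgroupOf.2 (X.invL s l (Subgroup.mem_subgroupOf.1 hl)))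

theorem Ctx.prod_comp_eq_one {lam : X.K →* ℂˣ} (h : lam ∈ X.Dual) :
    ∏ s : S, lam.comp (X.actK s).toMonoidHom = 1 := by
  refine X.fixDual _ (fun l hl => Subgroup.prod_mem _ (fun s _ => X.comp_mem_dual h s) l
    (Subgroup.mem_subgroupOf.2 hl)) fun s k => ?_
  rw [MonoidHom.finsetProd_apply, MonoidHom.finsetProd_apply]
  refine Fintype.prod_equiv (Equiv.mulRight s) _ _ fun t => ?_
  change lam (X.actK t (X.actK s k)) = lam (X.actK (t * s) k)
  rw [map_mul]
  rfl

/-- Two characters of `K` with a common constituent on `L` differ by a linear character. -/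
theorem Ctx.exists_twist {θ θ' : X.K → ℂ} (hθ : Cfsg.IsIrrCharacter X.K θ)
    (hθ' : Cfsg.IsIrrCharacter X.K θ') {φ : X.L → ℂ} (hφ : Cfsg.IsIrrCharacter X.L φ)
    (h : Cfsg.classInner (X.resKL θ) φ ≠ 0) (h' : Cfsg.classInner (X.resKL θ') φ ≠ 0) :
    ∃ lam ∈ X.Dual, twistBy θ lam = θ' := by
  classical
  by_contra hne
  push Not at hne
  have hab := X.hab
  haveI := finite_dual (X.L.subgroupOf X.K) hab
  letI := Fintype.ofFinite X.Dual
  have hL : Cfsg.classInner (X.resKL θ) (X.resKL θ') ≠ 0 :=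
    IsCharacter.classInner_ne_zero_of_common
      (IsCharacter.comp (IsIrrCharacter.isCharacter hθ) (Subgroup.inclusion X.le))
      (IsCharacter.comp (IsIrrCharacter.isCharacter hθ') (Subgroup.inclusion X.le)) hφ h h'
  have hzero : ∑ lam : X.Dual, Cfsg.classInner (twistBy θ (lam : X.K →* ℂˣ)) θ' = 0 :=
    Finset.sum_eq_zero fun lam _ =>
      IsIrrCharacter.classInner_of_ne (isIrr_twistBy hθ _) hθ' (hne lam lam.2)
  have hsum : ∀ k : X.K, ∑ lam : X.Dual, ((lam : X.K →* ℂˣ) k : ℂ) =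
      if (k : G) ∈ X.L then (Nat.card X.Dual : ℂ) else 0 := fun k => by
    split_ifs with hk
    · rw [Finset.sum_congr rfl (g := fun _ => (1 : ℂ)) fun lam _ => by
        rw [lam.2 k (Subgroup.mem_subgroupOf.2 hk), Units.val_one]]
      simp [Nat.card_eq_fintype_card]
    · obtain ⟨l₀, hl₀, hl1⟩ := (card_dual _ hab).2 k fun h => hk (Subgroup.mem_subgroupOf.1 h)
      exact sum_hom_eq_zero ((MonoidHom.eval k).comp X.Dual.subtype) (a := ⟨l₀, hl₀⟩) hl1
  apply hL
  rw [classInner_def, mul_eq_zero]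
  right
  have h1 : ∑ lam : X.Dual, Cfsg.classInner (twistBy θ (lam : X.K →* ℂˣ)) θ' =
      (Nat.card X.K : ℂ)⁻¹ * ((Nat.card X.Dual : ℂ) * ∑ l : X.L, X.resKL θ l * conj (X.resKL θ' l)) := by
    simp only [classInner_def, twistBy, ← Finset.mul_sum]
    congr 1
    rw [Finset.sum_comm]
    have h2 : ∀ k : X.K, ∑ lam : X.Dual, θ k * ((lam : X.K →* ℂˣ) k : ℂ) * conj (θ' k) =
        if hk : (k : G) ∈ X.L then
          (Nat.card X.Dual : ℂ) * (X.resKL θ ⟨k, hk⟩ * conj (X.resKL θ' ⟨k, hk⟩)) else 0 := fun k => by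
      rw [← Finset.sum_mul, ← Finset.mul_sum, hsum]
      split_ifs with hk
      · simp only [Ctx.resKL]
        rw [Subtype.coe_eta]
        ring
      · ring
    rw [Finset.sum_congr rfl fun k _ => h2 k, Finset.mul_sum]
    symm
    refine Finset.sum_bij_ne_zero (fun l _ _ => (⟨l, X.le l.2⟩ : X.K))
      (fun _ _ _ => Finset.mem_univ _)
      (fun a _ _ b _ _ hab' => Subtype.ext (congrArg (fun x : X.K => (x : G)) hab'))
      (fun k _ hk => ?_) (fun l _ _ => by rw [dif_pos l.2])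
    by_cases hkL : (k : G) ∈ X.L
    · rw [dif_pos hkL] at hk
      exact ⟨⟨k, hkL⟩, Finset.mem_univ _, hk, rfl⟩
    · rw [dif_neg hkL] at hk
      exact absurd rfl hk
  rw [hzero, eq_comm, mul_eq_zero, inv_eq_zero, mul_eq_zero] at h1
  rcases h1 with h1 | h1 | h1
  · exact absurd h1 (Nat.cast_ne_zero.2 Nat.card_pos.ne')
  · exact absurd h1 (Nat.cast_ne_zero.2 Nat.card_pos.ne')
  · exact h1

/-- Fixed characters of `K` with a common constituent on `L` are equal. -/
theorem Ctx.eq_of_common {θ θ' : X.K → ℂ} (hθ : Cfsg.IsIrrCharacter X.K θ)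
    (hθS : ∀ s k, θ (X.actK s k) = θ k) (hθ' : Cfsg.IsIrrCharacter X.K θ')
    (hθS' : ∀ s k, θ' (X.actK s k) = θ' k) {φ : X.L → ℂ} (hφ : Cfsg.IsIrrCharacter X.L φ)
    (h : Cfsg.classInner (X.resKL θ) φ ≠ 0) (h' : Cfsg.classInner (X.resKL θ') φ ≠ 0) : θ = θ' := by
  obtain ⟨lam, hlam, hl⟩ := X.exists_twist hθ hθ' hφ h h'
  have hs : ∀ s : S, (lam.comp (X.actK s).toMonoidHom)⁻¹ * lam ∈ fixTwist θ := fun s =>
    twistBy_eq_iff.1 (funext fun k => by
      have h1 : twistBy θ lam (X.actK s k) = twistBy θ lam k := by rw [hl]; exact hθS' s k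
      rw [X.twist_comp θ lam s k, show (fun j => θ (X.actK s j)) = θ from funext (hθS s)] at h1
      exact h1)
  have hp : lam ^ Nat.card S ∈ fixTwist θ := by
    have h1 := Subgroup.prod_mem (fixTwist θ) (t := (Finset.univ : Finset S)) (fun s _ => hs s)
    rw [Finset.prod_mul_distrib, Finset.prod_inv_distrib (fun s : S => lam.comp (X.actK s).toMonoidHom), X.prod_comp_eq_one hlam] at h1
    have e : (∏ _x : S, lam) ∈ fixTwist θ := by
      convert h1 using 1
      exact MonoidHom.ext fun _ => by simp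
    rwa [Finset.prod_const, Finset.card_univ, ← Nat.card_eq_fintype_card] at e
  have h2 : lam ∈ fixTwist θ := by
    obtain ⟨j, hj⟩ : Nat.card S ∣ Nat.card S ^ Nat.totient (Nat.card X.K) :=
      dvd_pow_self _ (Nat.totient_pos.2 Nat.card_pos).ne'
    rw [← pow_card_pow_totient lam X.coprimeK X.dual_pow, hj, pow_mul]
    exact Subgroup.pow_mem _ hp j
  rw [← hl]
  exact (mem_fixTwist.1 h2).symm

/-- A fixed character of `K` has only one fixed constituent on `L`. -/
theorem Ctx.eq_of_fixed {θ : X.K → ℂ} (hθ : Cfsg.IsIrrCharacter X.K θ) {φ φ' : X.L → ℂ}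
    (hφ : Cfsg.IsIrrCharacter X.L φ) (hφS : ∀ s l, φ (X.actL s l) = φ l)
    (hφ' : Cfsg.IsIrrCharacter X.L φ') (hφS' : ∀ s l, φ' (X.actL s l) = φ' l)
    (h : Cfsg.classInner (X.resKL θ) φ ≠ 0) (h' : Cfsg.classInner (X.resKL θ) φ' ≠ 0) : φ = φ' := by
  classical
  haveI := Fintype.ofFinite (X.L.subgroupOf X.K)
  have hres : ∀ f : X.L → ℂ, Cfsg.classInner (fun x : X.L.subgroupOf X.K => θ x) (pullBack f) =
      Cfsg.classInner (X.resKL θ) f := fun f => by
    rw [← classInner_pullBack X.le (X.resKL θ) f]; rfl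
  obtain ⟨x, hx⟩ := mem_conjOrbit.1 (mem_conjOrbit_of_constituent hθ
    (isIrrCharacter_pullBack X.le hφ) (isIrrCharacter_pullBack X.le hφ')
    (by rw [hres]; exact h) (by rw [hres]; exact h'))
  have hφ'x : φ' = conjOn (x : G) φ := funext fun n => by
    have h1 := congrFun hx ⟨⟨n, X.le n.2⟩, Subgroup.mem_subgroupOf.2 n.2⟩
    simp only [pullBack, conjOn_apply] at h1
    rw [Subtype.coe_eta] at h1
    rw [h1, conjOn_apply]
    rfl
  let Stab : Subgroup X.K := (inertia φ).subgroupOf X.K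
  have hLS : X.L.subgroupOf X.K ≤ Stab := fun l hl =>
    Subgroup.mem_subgroupOf.2 (le_inertia (IsIrrCharacter.isClassFunction hφ) hl)
  have hab : ∀ a b : X.K, a * b * a⁻¹ * b⁻¹ ∈ Stab := fun a b => hLS (X.hab a b)
  haveI hSn : Stab.Normal := ⟨fun n hn g => by
    have h1 := Stab.mul_mem (hab g n) hn
    simpa [mul_assoc] using h1⟩
  suffices hx' : x ∈ Stab by
    rw [hφ'x, (mem_inertia φ (x : G)).1 (Subgroup.mem_subgroupOf.1 hx')]
  by_contra hxS
  obtain ⟨lam, hlam, hne⟩ := (card_dual Stab hab).2 x hxS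
  have hlamL : lam ∈ X.Dual := fun l hl => hlam l (hLS hl)
  have hinv : ∀ s : S, lam (X.actK s x) = lam x := fun s => by
    have hmem : X.actK s x * x⁻¹ ∈ Stab := by
      refine Subgroup.mem_subgroupOf.2 ((mem_inertia φ _).2 ?_)
      have hc : conjOn ((X.actK s x : X.K) : G) φ = φ' := funext fun n => by
        obtain ⟨n₀, rfl⟩ := (X.actL s).surjective n
        rw [hφS', hφ'x, conjOn_apply, conjOn_apply,
          ← hφS s ⟨(x : G) * n₀ * (x : G)⁻¹, X.normL.conj_mem n₀ n₀.2 x⟩]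
        congr 1
        exact Subtype.ext (by simp [Ctx.actL, Ctx.actK, subAut_coe])
      rw [Subgroup.coe_mul, Subgroup.coe_inv, ← conjOn_conjOn, hc, hφ'x, conjOn_conjOn,
        mul_inv_cancel, conjOn_one]
    have h1 := hlam _ hmem
    rwa [map_mul, map_inv, mul_inv_eq_one] at h1
  have hp := DFunLike.congr_fun (X.prod_comp_eq_one hlamL) x
  rw [MonoidHom.finsetProd_apply] at hp
  simp only [MonoidHom.comp_apply, MulEquiv.coe_toMonoidHom, hinv] at hp
  rw [
    Finset.prod_const, Finset.card_univ, ← Nat.card_eq_fintype_card, MonoidHom.one_apply] at hp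
  have h3 : lam x ^ Nat.card X.K = 1 := by rw [← map_pow, pow_card_eq_one', map_one]
  exact hne (orderOf_eq_one_iff.1 (Nat.eq_one_of_dvd_coprimes X.coprimeK
    (orderOf_dvd_of_pow_eq_one hp) (orderOf_dvd_of_pow_eq_one h3)))

/-- Every fixed character of `L` lies below a fixed character of `K`. -/
theorem Ctx.exists_fixed_over {φ : X.L → ℂ} (hφ : Cfsg.IsIrrCharacter X.L φ)
    (hφS : ∀ s l, φ (X.actL s l) = φ l) :
    ∃ θ : X.K → ℂ, Cfsg.IsIrrCharacter X.K θ ∧ (∀ s k, θ (X.actK s k) = θ k) ∧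
      Cfsg.classInner (X.resKL θ) φ ≠ 0 := by
  classical
  haveI := Fintype.ofFinite (X.L.subgroupOf X.K)
  have hpb : ∀ f : X.K → ℂ, Cfsg.IsClassFunction X.K f →
      Cfsg.classInner f (Cfsg.indFun (X.L.subgroupOf X.K) (pullBack φ)) =
        Cfsg.classInner (X.resKL f) φ := fun f hf => by
    rw [classInner_indFun_right hf, ← classInner_pullBack X.le (X.resKL f) φ]
    rfl
  have hI := IsCharacter.indFun (G := X.K) (IsIrrCharacter.isCharacter (isIrrCharacter_pullBack X.le hφ))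
  obtain ⟨θ, hθ, hne⟩ := IsCharacter.exists_constituent hI fun h0 => by
    have h1 := congrFun h0 1
    rw [indFun_one, Pi.zero_apply, mul_eq_zero] at h1
    exact h1.elim (by exact_mod_cast (X.L.subgroupOf X.K).index_ne_zero_of_finite)
      (IsIrrCharacter.apply_one_ne_zero (isIrrCharacter_pullBack X.le hφ))
  have hθφ : Cfsg.classInner (X.resKL θ) φ ≠ 0 := fun h => hne (by
    rw [← classInner_conj, hpb θ (IsIrrCharacter.isClassFunction hθ), h, map_zero])
  have htw : ∀ s : S, ∃ lam ∈ X.Dual, twistBy θ lam = fun k => θ (X.actK s k) := fun s => by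
    refine X.exists_twist hθ (isIrr_comp_aut (X.actK s) hθ) hφ hθφ ?_
    have e : φ = fun l => φ (X.actL s l) := funext fun l => (hφS s l).symm
    rw [show X.resKL (fun k => θ (X.actK s k)) = fun l => X.resKL θ (X.actL s l) from rfl, e,
      classInner_comp_aut (X.actL s)]
    exact hθφ
  choose lam hlam hlamθ using htw
  let m := Nat.card S ^ (Nat.totient (Nat.card X.K) - 1)
  let P : X.K →* ℂˣ := ∏ t : S, lam t
  have hmu : P ^ m ∈ X.Dual := Subgroup.pow_mem _ (Subgroup.prod_mem _ fun t _ => hlam t) m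
  refine ⟨twistBy θ (P ^ m), isIrr_twistBy hθ _, fun s k => ?_, ?_⟩
  · have hrel : ∀ t : S, (lam (t * s))⁻¹ * (lam s * (lam t).comp (X.actK s).toMonoidHom) ∈ fixTwist θ := by
      intro t
      refine twistBy_eq_iff.1 (funext fun j => ?_)
      rw [hlamθ (t * s), ← twistBy_twistBy, hlamθ s, ← X.twist_comp θ (lam t) s j, hlamθ t, map_mul]
      rfl
    have h1 := Subgroup.prod_mem (fixTwist θ) (t := (Finset.univ : Finset S)) (fun t _ => hrel t)
    rw [Finset.prod_mul_distrib, Finset.prod_mul_distrib] at h1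
    rw [Finset.prod_inv_distrib (fun t : S => lam (t * s)),
      show ∏ t : S, lam (t * s) = P from Fintype.prod_equiv (Equiv.mulRight s) _ _ fun _ => rfl,
      Finset.prod_const, Finset.card_univ, ← Nat.card_eq_fintype_card] at h1
    have h2 := Subgroup.pow_mem _ h1 m
    have hPs : (∏ t : S, (lam t).comp (X.actK s).toMonoidHom) ^ m = (P ^ m).comp (X.actK s).toMonoidHom :=
      MonoidHom.ext fun j => by simp [P, MonoidHom.finsetProd_apply]
    have hlm : (lam s ^ Nat.card S) ^ m = lam s := by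
      refine (pow_mul (lam s) (Nat.card S) m).symm.trans ?_
      rw [show Nat.card S * m = Nat.card S ^ Nat.totient (Nat.card X.K) by
        simp only [m]
        rw [← pow_succ', Nat.sub_add_cancel (Nat.totient_pos.2 Nat.card_pos)]]
      exact pow_card_pow_totient _ X.coprimeK X.dual_pow
    rw [mul_pow, mul_pow, inv_pow, hlm, hPs] at h2
    have h3 := congrFun (twistBy_eq_iff.2 h2) k
    rw [h3, ← twistBy_twistBy, hlamθ s]
    exact X.twist_comp θ (P ^ m) s k
  · have e : X.resKL (twistBy θ (P ^ m)) = X.resKL θ := funext fun l => by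
      have := hmu ⟨l, X.le l.2⟩ (Subgroup.mem_subgroupOf.2 l.2)
      simp [Ctx.resKL, twistBy, this]
    rw [e]
    exact hθφ

end Finite

end CfsgLib.Char.SplitCorr
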