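import Cfsg.Agent.Char.SplitFixed
import Cfsg.Agent.Char.RestrictInd
import Cfsg.Agent.Char.CliffordCorrespondence

/-!
# The parity correspondence in the split configuration
-/

set_option autoImplicit false
set_option linter.style.haveILetI false
set_option linter.unusedSectionVars false

namespace CfsgLib.Char.SplitCorr

open CfsgLib.Char.SplitInv
open scoped ComplexConjugate

universe u v

theorem classInner_restrict_trans {A : Type u} [Group A] [Fintype A] {B : Type u} [Group B]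
    [Fintype B] (f : B →* A) {F ζ : A → ℂ} {ρ : B → ℂ} (hF : Cfsg.IsCharacter A F)
    (hζ : Cfsg.IsIrrCharacter A ζ) (hρ : Cfsg.IsIrrCharacter B ρ)
    (h : Cfsg.classInner F ζ ≠ 0) (h' : Cfsg.classInner (fun b => ζ (f b)) ρ ≠ 0) :
    Cfsg.classInner (fun b => F (f b)) ρ ≠ 0 := by
  obtain ⟨a, ha⟩ := IsCharacter.exists_classInner_eq_natCast
    (IsCharacter.comp (IsIrrCharacter.isCharacter hζ) f) hρ
  obtain ⟨b, hb⟩ := IsCharacter.exists_classInner_eq_natCast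
    (IsCharacter.comp (IsCharacter.sub_irr hF hζ h) f) hρ
  have e : (fun x => F (f x)) = (fun x => ζ (f x)) + fun x => (F - ζ) (f x) := by
    funext x; simp
  rw [e, classInner_add_left, ha, hb, ← Nat.cast_add, Nat.cast_ne_zero]
  have : a ≠ 0 := fun h0 => h' (by rw [ha, h0, Nat.cast_zero])
  omega

variable {G : Type u} [Group G] {S : Type v} [Group S] (X : Ctx G S)
variable [Fintype G] [Fintype X.K] [Fintype X.L] [Fintype X.H] [Fintype S]

theorem Ctx.inertia_inv {θ : X.K → ℂ} (hθS : ∀ s k, θ (X.actK s k) = θ k) (s : S) {t : G}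
    (ht : t ∈ inertia θ) : X.act s t ∈ inertia θ := by
  refine (mem_inertia θ _).2 (funext fun n => ?_)
  obtain ⟨n₀, rfl⟩ := (X.actK s).surjective n
  rw [hθS, ← congrFun ((mem_inertia θ t).1 ht) n₀, conjOn_apply, conjOn_apply,
    ← hθS s ⟨t * (n₀ : G) * t⁻¹, X.normK.conj_mem n₀ n₀.2 t⟩]
  congr 1
  exact Subtype.ext (by simp [Ctx.actK, subAut_coe])

/-- The configuration inside an invariant subgroup containing `K`. -/
def Ctx.sub (T : Subgroup G) (hKT : X.K ≤ T) (hT : ∀ s, ∀ t ∈ T, X.act s t ∈ T) : Ctx T S where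
  K := X.K.subgroupOf T
  L := X.L.subgroupOf T
  H := X.H.subgroupOf T
  C := X.C.subgroupOf T
  act := subAut X.act T hT
  normK := X.normK.subgroupOf T
  normL := X.normL.subgroupOf T
  le := fun t ht => X.le ht
  comm := fun a ha b hb => X.comm a ha b hb
  prod := fun t => by
    obtain ⟨k, hk, c, hc, h⟩ := X.prod t
    refine ⟨⟨k, hKT hk⟩, hk, ⟨c, ?_⟩, hc, Subtype.ext h⟩
    rw [show c = k⁻¹ * (t : G) by rw [← h, inv_mul_cancel_left]]
    exact T.mul_mem (T.inv_mem (hKT hk)) t.2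
  memH := fun t => by
    constructor
    · intro ht
      obtain ⟨l, hl, c, hc, h⟩ := (X.memH t).1 ht
      refine ⟨⟨l, hKT (X.le hl)⟩, hl, ⟨c, ?_⟩, hc, Subtype.ext h⟩
      rw [show c = l⁻¹ * (t : G) by rw [← h, inv_mul_cancel_left]]
      exact T.mul_mem (T.inv_mem (hKT (X.le hl))) t.2
    · rintro ⟨l, hl, c, hc, rfl⟩
      exact (X.memH _).2 ⟨l, hl, c, hc, rfl⟩
  inter := fun h h1 h2 => X.inter h h1 h2
  fixC := fun s c hc => Subtype.ext (X.fixC s c hc)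
  invK := fun s k hk => X.invK s k hk
  invL := fun s l hl => X.invL s l hl
  fixDual := fun lam h1 h2 => by
    let e := Subgroup.subgroupOfEquivOfLe hKT
    have h := X.fixDual (lam.comp e.symm.toMonoidHom) (fun k hk => h1 _ hk) fun s k => by
      refine (congrArg lam ?_).trans (h2 s (e.symm k))
      exact Subtype.ext (Subtype.ext rfl)
    refine MonoidHom.ext fun k => ?_
    have hk := DFunLike.congr_fun h (e k)
    simpa using hk
  odd := X.odd.of_dvd_nat (Subgroup.card_subgroup_dvd_card T)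
  coprime := X.coprime.coprime_dvd_left (Subgroup.card_subgroup_dvd_card T)

set_option maxHeartbeats 1000000 in
/-- The correspondence over a fixed character. -/
theorem Ctx.localCorr {θ : X.K → ℂ} (hθ : Cfsg.IsIrrCharacter X.K θ)
    (hθS : ∀ s k, θ (X.actK s k) = θ k) :
    ∃ φ : X.L → ℂ, Cfsg.IsIrrCharacter X.L φ ∧ (∀ s l, φ (X.actL s l) = φ l) ∧
      Cfsg.classInner (X.resKL θ) φ ≠ 0 ∧
      (∀ χ, Cfsg.IsIrrCharacter G χ → Cfsg.classInner (fun k : X.K => χ k) θ ≠ 0 →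
        ∃ ψ, Cfsg.IsIrrCharacter X.H ψ ∧ Cfsg.classInner (X.resHL ψ) φ ≠ 0 ∧ X.OddMult χ ψ ∧
          ∀ ψ', Cfsg.IsIrrCharacter X.H ψ' → Cfsg.classInner (X.resHL ψ') φ ≠ 0 →
            X.OddMult χ ψ' → ψ' = ψ) ∧
      (∀ χ χ', Cfsg.IsIrrCharacter G χ → Cfsg.IsIrrCharacter G χ' →
        Cfsg.classInner (fun k : X.K => χ k) θ ≠ 0 → Cfsg.classInner (fun k : X.K => χ' k) θ ≠ 0 →
        ∀ ψ, Cfsg.IsIrrCharacter X.H ψ → Cfsg.classInner (X.resHL ψ) φ ≠ 0 →
          X.OddMult χ ψ → X.OddMult χ' ψ → χ = χ') ∧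
      (∀ ψ, Cfsg.IsIrrCharacter X.H ψ → Cfsg.classInner (X.resHL ψ) φ ≠ 0 →
        ∃ χ, Cfsg.IsIrrCharacter G χ ∧ Cfsg.classInner (fun k : X.K => χ k) θ ≠ 0 ∧ X.OddMult χ ψ) := by
  classical
  -- the inertia group
  have hθc := IsIrrCharacter.isClassFunction hθ
  obtain ⟨T, hTdef⟩ : ∃ T : Subgroup G, inertia θ = T := ⟨_, rfl⟩
  have hKT : X.K ≤ T := hTdef ▸ le_inertia hθc
  have hLT : X.L ≤ T := X.le.trans hKT
  let X' : Ctx T S := X.sub T hKT fun s t ht => hTdef ▸ X.inertia_inv hθS s (hTdef ▸ ht)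
  haveI := Fintype.ofFinite T
  letI := Fintype.ofFinite (X.L.subgroupOf T)
  letI := Fintype.ofFinite (X.K.subgroupOf T)
  letI : Fintype X'.K := ‹Fintype (X.K.subgroupOf T)›
  letI : Fintype X'.L := ‹Fintype (X.L.subgroupOf T)›
  letI : Fintype X'.H := Fintype.ofFinite _
  let eL := Subgroup.subgroupOfEquivOfLe hLT
  let θ' : X'.K → ℂ := pullBack θ
  obtain ⟨φ', hφ', hφS', hθφ', hA, hB, hC⟩ := X'.core (θ := θ') (isIrrCharacter_pullBack hKT hθ)
    (fun s k => hθS s ⟨((k : T) : G), k.2⟩)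
    (fun t => funext fun k => congrFun
      ((mem_inertia θ (t : G)).1 (hTdef ▸ t.2)) ⟨((k : T) : G), k.2⟩)
  obtain ⟨φ, hφdef⟩ : ∃ φ : X.L → ℂ, φ = fun l => φ' (eL.symm l) := ⟨_, rfl⟩
  have hφ'φ : φ' = pullBack φ := funext fun l => by
    rw [hφdef]
    exact congrArg φ' (eL.symm_apply_apply l).symm
  have hφ : Cfsg.IsIrrCharacter X.L φ :=
    hφdef ▸ IsIrrCharacter.comp_surjective hφ' eL.symm.toMonoidHom eL.symm.surjective
  have hφS : ∀ s l, φ (X.actL s l) = φ l := fun s l => by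
    subst hφdef
    exact (congrArg φ' (Subtype.ext (Subtype.ext rfl))).trans (hφS' s (eL.symm l))
  have hθφ : Cfsg.classInner (X.resKL θ) φ ≠ 0 := by
    rw [← classInner_pullBack hLT, ← hφ'φ]
    exact hθφ'
  -- the inertia group of `φ` in `H`
  haveI := Fintype.ofFinite (X.L.subgroupOf X.H)
  haveI := Fintype.ofFinite (T.subgroupOf X.H)
  obtain ⟨φH, hφHdef⟩ : ∃ f : X.L.subgroupOf X.H → ℂ, f = pullBack φ := ⟨_, rfl⟩
  have hφH : Cfsg.IsIrrCharacter _ φH := hφHdef ▸ isIrrCharacter_pullBack X.L_le_H hφ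
  have hcl := IsIrrCharacter.isClassFunction hφ
  have hin : inertia φH = T.subgroupOf X.H := by
    ext h
    obtain ⟨l, hl, c, hc, hlc⟩ := (X.memH (h : G)).1 h.2
    have hl' : conjOn (h : G) φ = conjOn c φ := by
      rw [← hlc, ← conjOn_conjOn, (mem_inertia φ l).1 (le_inertia hcl hl)]
    rw [Subgroup.mem_subgroupOf, mem_inertia, ← hTdef, mem_inertia]
    have hl'' : conjOn (h : G) θ = conjOn c θ := by
      rw [← hlc, ← conjOn_conjOn, (mem_inertia θ l).1 (le_inertia hθc (X.le hl))]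
    rw [hl'']
    have hc' : Cfsg.classInner (X.resKL (conjOn c θ)) (conjOn c φ) =
        Cfsg.classInner (X.resKL θ) φ := classInner_conjOn c (X.resKL θ) φ
    constructor
    · intro hh
      have e : conjOn c φ = φ := by
        rw [← hl']
        refine funext fun n => ?_
        have h1 := congrFun hh ⟨⟨n, X.L_le_H n.2⟩, Subgroup.mem_subgroupOf.2 n.2⟩
        rw [hφHdef] at h1
        exact h1
      rw [e] at hc'
      exact X.eq_of_common (isIrrCharacter_conjOn hθ c)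
        (fun s k => X.conjOn_eq_of_fixed X.K X.invK hθS hc s k) hθ hθS hφ
        (by rw [hc']; exact hθφ) hθφ
    · intro hh
      rw [hh] at hc'
      have e : conjOn c φ = φ := X.eq_of_fixed hθ (isIrrCharacter_conjOn hφ c)
        (fun s n => X.conjOn_eq_of_fixed X.L X.invL hφS hc s n) hφ hφS (by rw [hc']; exact hθφ) hθφ
      rw [← hl'] at e
      rw [hφHdef]
      exact funext fun n => congrFun e ⟨((n : X.H) : G), n.2⟩
  have hLN : X.L.subgroupOf X.H ≤ T.subgroupOf X.H := fun x hx =>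
    Subgroup.mem_subgroupOf.2 (hLT (Subgroup.mem_subgroupOf.1 hx))
  let e : T.subgroupOf X.H ≃* X'.H :=
    { toFun := fun x => ⟨⟨((x : X.H) : G), x.2⟩, (x : X.H).2⟩
      invFun := fun x => ⟨⟨((x : T) : G), x.2⟩, (x : T).2⟩
      left_inv := fun _ => rfl
      right_inv := fun _ => rfl
      map_mul' := fun _ _ => rfl }
  -- lying over `φ`
  have hover : ∀ ξ : X'.H → ℂ,
      Cfsg.classInner (fun n : X.L.subgroupOf X.H => ξ (e (Subgroup.inclusion hLN n))) φH =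
        Cfsg.classInner (X'.resHL ξ) φ' := fun ξ => by
    let r : X.L → ℂ := fun l => ξ ⟨⟨l, hLT l.2⟩, X.L_le_H l.2⟩
    rw [hφ'φ, hφHdef]
    exact (classInner_pullBack X.L_le_H r φ).trans (classInner_pullBack hLT r φ).symm
  have hoverH : ∀ ψ : X.H → ℂ, Cfsg.classInner (fun n : X.L.subgroupOf X.H => ψ n) φH =
      Cfsg.classInner (X.resHL ψ) φ := fun ψ => by
    rw [hφHdef]
    exact classInner_pullBack X.L_le_H (X.resHL ψ) φ
  have hoverK : ∀ η : T → ℂ, Cfsg.classInner (fun k : X'.K => η k) θ' =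
      Cfsg.classInner (fun k : X.K => η (Subgroup.inclusion hKT k)) θ := fun η =>
    classInner_pullBack hKT (fun k : X.K => η (Subgroup.inclusion hKT k)) θ
  have hirrT : ∀ ξ : X'.H → ℂ, Cfsg.IsIrrCharacter X'.H ξ →
      Cfsg.IsIrrCharacter _ (fun t => ξ (e t)) :=
    fun ξ hξ => IsIrrCharacter.comp_surjective hξ e.toMonoidHom e.surjective
  -- induced characters
  have hind : ∀ ξ : X'.H → ℂ, Cfsg.IsIrrCharacter X'.H ξ →
      Cfsg.classInner (X'.resHL ξ) φ' ≠ 0 →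
      Cfsg.IsIrrCharacter X.H (Cfsg.indFun (T.subgroupOf X.H) fun t => ξ (e t)) ∧
        Cfsg.classInner (X.resHL (Cfsg.indFun (T.subgroupOf X.H) fun t => ξ (e t))) φ ≠ 0 := by
    intro ξ hξ hξφ
    have hc : Cfsg.classInner
        (fun n : X.L.subgroupOf X.H => ξ (e (Subgroup.inclusion hLN n))) φH ≠ 0 := by
      rw [hover]; exact hξφ
    obtain ⟨h1, h2⟩ := isIrrCharacter_indFun_of_inertia hLN hφH hin (hirrT ξ hξ) hc
    exact ⟨h1, by rw [← hoverH, h2]; exact hc⟩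
  have hdec : ∀ ψ, Cfsg.IsIrrCharacter X.H ψ → Cfsg.classInner (X.resHL ψ) φ ≠ 0 →
      ∃ ξ : X'.H → ℂ, Cfsg.IsIrrCharacter X'.H ξ ∧ Cfsg.classInner (X'.resHL ξ) φ' ≠ 0 ∧
        Cfsg.indFun (T.subgroupOf X.H) (fun t => ξ (e t)) = ψ := by
    intro ψ hψ hψφ
    obtain ⟨ζ, hζ, hζψ, hζc⟩ := exists_indFun_eq_of_inertia hLN hφH hin hψ (by rwa [hoverH])
    have e1 : (fun t => (fun x => ζ (e.symm x)) (e t)) = ζ := funext fun t => by simp
    refine ⟨fun x => ζ (e.symm x),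
      IsIrrCharacter.comp_surjective hζ e.symm.toMonoidHom e.symm.surjective, ?_, ?_⟩
    · rw [← hover, show (fun n : X.L.subgroupOf X.H => (fun x => ζ (e.symm x))
        (e (Subgroup.inclusion hLN n))) = fun n => ζ (Subgroup.inclusion hLN n) from
          funext fun n => congrFun e1 _, hζc, hoverH]
      exact hψφ
    · rw [e1, hζψ]
  have hmulT : ∀ x : G, ∃ a ∈ X.H, ∃ b ∈ T, a * b = x := fun x => by
    obtain ⟨k, hk, c, hc, h⟩ := X.prod x⁻¹
    exact ⟨c⁻¹, X.H.inv_mem (X.C_le_H hc), k⁻¹, T.inv_mem (hKT hk), by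
      rw [← mul_inv_rev, h, inv_inv]⟩
  -- the multiplicities
  have hmult : ∀ (η : T → ℂ) (ξ : X'.H → ℂ), Cfsg.IsIrrCharacter T η →
      Cfsg.classInner (fun k : X'.K => η k) θ' ≠ 0 → Cfsg.IsIrrCharacter X'.H ξ →
      Cfsg.classInner (X'.resHL ξ) φ' ≠ 0 →
      Cfsg.classInner (X.resH (Cfsg.indFun T η))
        (Cfsg.indFun (T.subgroupOf X.H) fun t => ξ (e t)) = Cfsg.classInner (X'.resH η) ξ := by
    intro η ξ hη hηθ hξ hξφ
    obtain ⟨hψ, hψφ⟩ := hind ξ hξ hξφ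
    obtain ⟨ψ, hψdef⟩ : ∃ ψ, ψ = Cfsg.indFun (T.subgroupOf X.H) fun t => ξ (e t) := ⟨_, rfl⟩
    rw [← hψdef] at hψ hψφ ⊢
    let ηT : T.subgroupOf X.H → ℂ := fun t => X'.resH η (e t)
    have hηT : Cfsg.IsCharacter _ ηT := IsCharacter.comp
      (IsCharacter.restrict (IsIrrCharacter.isCharacter hη) X'.H) e.toMonoidHom
    have hψcl := IsIrrCharacter.isClassFunction hψ
    have h0 : X.resH (Cfsg.indFun T η) = Cfsg.indFun (T.subgroupOf X.H) ηT :=
      indFun_restrict_of_mul_eq_top X.H T hmulT (IsIrrCharacter.isClassFunction hη)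
    have h1 : Cfsg.classInner (fun t : T.subgroupOf X.H => ψ t) (fun t => ξ (e t)) = 1 := by
      rw [← classInner_indFun_right hψcl, ← hψdef, IsIrrCharacter.classInner_self hψ]
    have h2 : Cfsg.classInner (fun t => ξ (e t)) (fun t : T.subgroupOf X.H => ψ t) = 1 := by
      rw [← classInner_conj, h1, map_one]
    rw [h0, classInner_indFun _ hψcl]
    conv_lhs => rw [eq_sum_irr (IsCharacter.isClassFunction hηT)]
    rw [classInner_sum_left]
    refine (Finset.sum_eq_single (fun t => ξ (e t)) (fun ζ hζm hne => ?_)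
      (fun h => absurd (mem_irrFinset.2 (hirrT ξ hξ)) h)).trans ?_
    swap
    · rw [classInner_smul_left, h2, mul_one]
      exact classInner_comp_mulEquiv e (X'.resH η) ξ
    rw [classInner_smul_left, mul_eq_zero]
    by_contra hcon
    obtain ⟨hζη, hζψ⟩ := not_or.1 hcon
    have hζ := mem_irrFinset.1 hζm
    let iL : X.L →* T.subgroupOf X.H :=
      { toFun := fun l => ⟨⟨l, X.L_le_H l.2⟩, Subgroup.mem_subgroupOf.2 (hLT l.2)⟩
        map_one' := rfl
        map_mul' := fun _ _ => rfl }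
    obtain ⟨φ'', hφ'', hφ''c⟩ := IsCharacter.exists_constituent
      (IsCharacter.comp (IsIrrCharacter.isCharacter hζ) iL) fun h00 =>
        IsIrrCharacter.apply_one_ne_zero hζ (by simpa using congrFun h00 1)
    have hψres : Cfsg.IsCharacter (T.subgroupOf X.H) (fun t : T.subgroupOf X.H => ψ t) :=
      IsCharacter.restrict (IsIrrCharacter.isCharacter hψ) (T.subgroupOf X.H)
    have hζψ' : Cfsg.classInner (fun t : T.subgroupOf X.H => ψ t) ζ ≠ 0 := fun h =>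
      hζψ (by rw [← classInner_conj, h, map_zero])
    have hψL : X.resHL ψ = fun l => (fun t : T.subgroupOf X.H => ψ t) (iL l) := funext fun l => rfl
    have hψ'' : Cfsg.classInner (X.resHL ψ) φ'' ≠ 0 := by
      rw [hψL]
      exact classInner_restrict_trans iL hψres hζ hφ'' hζψ' hφ''c
    obtain ⟨c, hc, hcφ⟩ := X.orbit_L hψ hφ hφ'' hψφ hψ''
    have hS'' : ∀ s l, φ'' (X.actL s l) = φ'' l := fun s l => by
      rw [hcφ]
      exact X.conjOn_eq_of_fixed X.L X.invL hφS hc s l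
    have hηres : (fun k : X.K => η (Subgroup.inclusion hKT k)) =
        Cfsg.classInner (fun k : X.K => η (Subgroup.inclusion hKT k)) θ • θ :=
      restrict_inertia_eq hKT hθ hTdef.ge hη (by rwa [← hoverK])
    have hθ'' : Cfsg.classInner (X.resKL θ) φ'' ≠ 0 := by
      intro h
      have hr := classInner_restrict_trans iL hηT hζ hφ'' hζη hφ''c
      apply hr
      have : (fun l => ηT (iL l)) =
          Cfsg.classInner (fun k : X.K => η (Subgroup.inclusion hKT k)) θ • X.resKL θ :=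
        funext fun l => congrFun hηres ⟨l, X.le l.2⟩
      rw [this, classInner_smul_left, h, mul_zero]
    have heq : φ'' = φ := X.eq_of_fixed hθ hφ'' hS'' hφ hφS hθ'' hθφ
    subst heq
    have hζc : Cfsg.classInner (fun n => ζ (Subgroup.inclusion hLN n)) φH ≠ 0 := by
      rw [hφHdef]
      exact (classInner_pullBack X.L_le_H (fun l => ζ (iL l)) φ'').trans_ne hφ''c
    obtain ⟨hζi, -⟩ := isIrrCharacter_indFun_of_inertia hLN hφH hin hζ hζc
    have h3 : Cfsg.indFun (T.subgroupOf X.H) ζ = ψ := by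
      by_contra hh
      refine hζψ ?_
      rw [← classInner_indFun _ hψcl, IsIrrCharacter.classInner_of_ne hζi hψ hh]
    exact hne (indFun_injective_of_inertia hLN hφH hin hζ (hirrT ξ hξ) hζc
      (by rw [hover]; exact hξφ) (h3.trans hψdef))
  have hχdec : ∀ χ, Cfsg.IsIrrCharacter G χ → Cfsg.classInner (fun k : X.K => χ k) θ ≠ 0 →
      ∃ η : T → ℂ, Cfsg.IsIrrCharacter T η ∧ Cfsg.classInner (fun k : X'.K => η k) θ' ≠ 0 ∧
        Cfsg.indFun T η = χ := by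
    intro χ hχ hne
    obtain ⟨η, hη, hηχ, hηc⟩ := exists_indFun_eq_of_inertia hKT hθ hTdef hχ hne
    exact ⟨η, hη, by rw [hoverK, hηc]; exact hne, hηχ⟩
  refine ⟨φ, hφ, hφS, hθφ, ?_, ?_, ?_⟩
  · intro χ hχ hne
    obtain ⟨η, hη, hηθ, rfl⟩ := hχdec χ hχ hne
    obtain ⟨ξ, hξ, hξφ, ⟨m, hm, hmo⟩, huniq⟩ := hA η hη hηθ
    obtain ⟨h1, h2⟩ := hind ξ hξ hξφ
    refine ⟨_, h1, h2, ⟨m, (hmult η ξ hη hηθ hξ hξφ).trans hm, hmo⟩, ?_⟩
    rintro ψ' hψ' hψφ' ⟨m', hm', hmo'⟩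
    obtain ⟨ξ', hξ', hξφ', rfl⟩ := hdec ψ' hψ' hψφ'
    rw [hmult η ξ' hη hηθ hξ' hξφ'] at hm'
    rw [huniq ξ' hξ' hξφ' ⟨m', hm', hmo'⟩]
  · intro χ χ' hχ hχ' hne hne' ψ hψ hψφ ho ho'
    obtain ⟨η, hη, hηθ, rfl⟩ := hχdec χ hχ hne
    obtain ⟨η', hη', hηθ', rfl⟩ := hχdec χ' hχ' hne'
    obtain ⟨ξ, hξ, hξφ, rfl⟩ := hdec ψ hψ hψφ
    obtain ⟨m, hm, hmo⟩ := ho
    obtain ⟨m', hm', hmo'⟩ := ho'
    rw [hmult η ξ hη hηθ hξ hξφ] at hm
    rw [hmult η' ξ hη' hηθ' hξ hξφ] at hm'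
    rw [hB η η' hη hη' hηθ hηθ' ξ hξ hξφ ⟨m, hm, hmo⟩ ⟨m', hm', hmo'⟩]
  · intro ψ hψ hψφ
    obtain ⟨ξ, hξ, hξφ, rfl⟩ := hdec ψ hψ hψφ
    obtain ⟨η, hη, hηθ, m, hm, hmo⟩ := hC ξ hξ hξφ
    have hc : Cfsg.classInner (fun k : X.K => η (Subgroup.inclusion hKT k)) θ ≠ 0 := by
      rw [← hoverK]; exact hηθ
    obtain ⟨h1, h2⟩ := isIrrCharacter_indFun_of_inertia hKT hθ hTdef hη hc
    exact ⟨_, h1, by rw [h2]; exact hc, m, (hmult η ξ hη hηθ hξ hξφ).trans hm, hmo⟩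

/-- A fixed character of `G` or `H` lies over a fixed character of `K`, resp. `L`. -/
theorem Ctx.exists_fixed_below {χ : G → ℂ} (hχ : Cfsg.IsIrrCharacter G χ)
    (hχS : ∀ s g, χ (X.act s g) = χ g) :
    ∃ θ : X.K → ℂ, Cfsg.IsIrrCharacter X.K θ ∧ (∀ s k, θ (X.actK s k) = θ k) ∧
      Cfsg.classInner (fun k : X.K => χ k) θ ≠ 0 := by
  obtain ⟨θ, hθ, hne⟩ := exists_constituent_restrict (N := X.K) hχ
  exact ⟨θ, hθ, X.fixed_constituent_K hχ hχS hθ hne, hne⟩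

/-- Moving a fixed constituent of a fixed `ψ` onto the given one. -/
theorem Ctx.over_of_odd {χ : G → ℂ} (hχ : Cfsg.IsIrrCharacter G χ)
    {θ : X.K → ℂ} (hθ : Cfsg.IsIrrCharacter X.K θ) (hθS : ∀ s k, θ (X.actK s k) = θ k)
    (hne : Cfsg.classInner (fun k : X.K => χ k) θ ≠ 0) {φ : X.L → ℂ}
    (hφ : Cfsg.IsIrrCharacter X.L φ) (hφS : ∀ s l, φ (X.actL s l) = φ l)
    (hθφ : Cfsg.classInner (X.resKL θ) φ ≠ 0) {ψ : X.H → ℂ} (hψ : Cfsg.IsIrrCharacter X.H ψ)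
    (hψS : ∀ s h, ψ (X.actH s h) = ψ h) (ho : X.OddMult χ ψ) :
    Cfsg.classInner (X.resHL ψ) φ ≠ 0 := by
  classical
  obtain ⟨m, hm, hmo⟩ := ho
  obtain ⟨ρ, hρ, hρψ⟩ := IsCharacter.exists_constituent
    (IsCharacter.comp (IsIrrCharacter.isCharacter hψ) (Subgroup.inclusion X.L_le_H)) fun h0 =>
      IsIrrCharacter.apply_one_ne_zero hψ (by simpa using congrFun h0 1)
  have hρS := X.fixed_constituent_L hψ hψS hρ hρψ
  have hρχ : Cfsg.classInner (fun l : X.L => χ l) ρ ≠ 0 :=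
    classInner_restrict_trans (Subgroup.inclusion X.L_le_H)
      (IsCharacter.restrict (IsIrrCharacter.isCharacter hχ) X.H) hψ hρ
      (fun h => by
        obtain ⟨t, ht⟩ := hmo
        rw [show (fun h : X.H => χ h) = X.resH χ from rfl, hm, Nat.cast_eq_zero] at h
        omega) hρψ
  have hres : (fun l : X.L => χ l) = Cfsg.classInner (fun k : X.K => χ k) θ •
      ∑ θ₁ ∈ conjOrbit θ, X.resKL θ₁ := funext fun l => by
    have := congrFun (restrict_eq_smul_sum hχ hθ hne) ⟨l, X.le l.2⟩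
    simpa [Finset.sum_apply, Ctx.resKL] using this
  rw [hres, classInner_smul_left, classInner_sum_left] at hρχ
  obtain ⟨θ₁, hθ₁, hne₁⟩ := Finset.exists_ne_zero_of_sum_ne_zero (right_ne_zero_of_mul hρχ)
  obtain ⟨g, rfl⟩ := mem_conjOrbit.1 hθ₁
  obtain ⟨c, hc, hgc⟩ := X.conjOn_of_prod (IsIrrCharacter.isClassFunction hθ) g
  rw [hgc, show X.resKL (conjOn c θ) = conjOn c (X.resKL θ) from rfl] at hne₁
  have hne₂ : Cfsg.classInner (X.resKL θ) (conjOn c⁻¹ ρ) ≠ 0 := by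
    rw [← classInner_conjOn c, conjOn_conjOn, inv_mul_cancel, conjOn_one]
    exact hne₁
  have e : conjOn c⁻¹ ρ = φ := X.eq_of_fixed hθ (isIrrCharacter_conjOn hρ _)
    (fun s l => X.conjOn_eq_of_fixed X.L X.invL hρS (X.C.inv_mem hc) s l) hφ hφS hne₂ hθφ
  rw [← e, ← X.resHL_conjOn hψ (X.C.inv_mem hc), classInner_conjOn]
  exact hρψ

/-- The parity correspondence. -/
theorem Ctx.main :
    (∀ χ, Cfsg.IsIrrCharacter G χ → (∀ s g, χ (X.act s g) = χ g) →
      ∃ ψ, Cfsg.IsIrrCharacter X.H ψ ∧ (∀ s h, ψ (X.actH s h) = ψ h) ∧ X.OddMult χ ψ ∧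
        ∀ ψ', Cfsg.IsIrrCharacter X.H ψ' → (∀ s h, ψ' (X.actH s h) = ψ' h) →
          X.OddMult χ ψ' → ψ' = ψ) ∧
    (∀ χ χ', Cfsg.IsIrrCharacter G χ → (∀ s g, χ (X.act s g) = χ g) →
      Cfsg.IsIrrCharacter G χ' → (∀ s g, χ' (X.act s g) = χ' g) →
      ∀ ψ, Cfsg.IsIrrCharacter X.H ψ → (∀ s h, ψ (X.actH s h) = ψ h) →
        X.OddMult χ ψ → X.OddMult χ' ψ → χ = χ') ∧
    (∀ ψ, Cfsg.IsIrrCharacter X.H ψ → (∀ s h, ψ (X.actH s h) = ψ h) →
      ∃ χ, Cfsg.IsIrrCharacter G χ ∧ (∀ s g, χ (X.act s g) = χ g) ∧ X.OddMult χ ψ) := by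
  classical
  -- twisting by an operator
  have htwG : ∀ (s : S) (χ : G → ℂ), Cfsg.IsIrrCharacter G χ →
      Cfsg.IsIrrCharacter G fun g => χ (X.act s g) := fun s χ h => isIrr_comp_aut (X.act s) h
  refine ⟨fun χ hχ hχS => ?_, fun χ χ' hχ hχS hχ' hχS' ψ hψ hψS ho ho' => ?_,
    fun ψ hψ hψS => ?_⟩
  · obtain ⟨θ, hθ, hθS, hne⟩ := X.exists_fixed_below hχ hχS
    obtain ⟨φ, hφ, hφS, hθφ, hA, -, -⟩ := X.localCorr hθ hθS
    obtain ⟨ψ, hψ, hψφ, ho, huniq⟩ := hA χ hχ hne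
    refine ⟨ψ, hψ, fun s h => ?_, ho, fun ψ' hψ' hψS' ho' =>
      huniq ψ' hψ' (X.over_of_odd hχ hθ hθS hne hφ hφS hθφ hψ' hψS' ho') ho'⟩
    refine congrFun (huniq (fun h => ψ (X.actH s h)) (isIrr_comp_aut (X.actH s) hψ) ?_ ?_) h
    · rw [show φ = fun l => φ (X.actL s l) from funext fun l => (hφS s l).symm]
      exact (classInner_comp_aut (X.actL s) (X.resHL ψ) φ).trans_ne hψφ
    · obtain ⟨m, hm, hmo⟩ := ho
      refine ⟨m, ?_, hmo⟩
      rw [show X.resH χ = fun h => X.resH χ (X.actH s h) from funext fun h => (hχS s h).symm,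
        classInner_comp_aut (X.actH s) (X.resH χ) ψ, hm]
  · obtain ⟨θ, hθ, hθS, hne⟩ := X.exists_fixed_below hχ hχS
    obtain ⟨θ', hθ', hθS', hne'⟩ := X.exists_fixed_below hχ' hχS'
    obtain ⟨φ, hφ, hφS, hθφ, -, hB, -⟩ := X.localCorr hθ hθS
    obtain ⟨φ', hφ', hφS', hθφ', -, -, -⟩ := X.localCorr hθ' hθS'
    have hψφ := X.over_of_odd hχ hθ hθS hne hφ hφS hθφ hψ hψS ho
    have hψφ' := X.over_of_odd hχ' hθ' hθS' hne' hφ' hφS' hθφ' hψ hψS ho'
    obtain ⟨c, hc, hcφ⟩ := X.orbit_L hψ hφ' hφ hψφ' hψφ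
    have e : conjOn c θ' = θ := X.eq_of_common (isIrrCharacter_conjOn hθ' c)
      (fun s k => X.conjOn_eq_of_fixed X.K X.invK hθS' hc s k) hθ hθS hφ
      (by
        rw [hcφ, show X.resKL (conjOn c θ') = conjOn c (X.resKL θ') from rfl, classInner_conjOn]
        exact hθφ') hθφ
    refine hB χ χ' hχ hχ' hne ?_ ψ hψ hψφ ho ho'
    rw [← e, classInner_restrict_conjOn (IsIrrCharacter.isClassFunction hχ')]
    exact hne'
  · obtain ⟨φ, hφ, hψφ⟩ := IsCharacter.exists_constituent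
      (IsCharacter.comp (IsIrrCharacter.isCharacter hψ) (Subgroup.inclusion X.L_le_H)) fun h0 =>
        IsIrrCharacter.apply_one_ne_zero hψ (by simpa using congrFun h0 1)
    have hφS := X.fixed_constituent_L hψ hψS hφ hψφ
    obtain ⟨θ, hθ, hθS, hθφ⟩ := X.exists_fixed_over hφ hφS
    obtain ⟨φ₀, hφ₀, hφS₀, hθφ₀, -, hB, hC⟩ := X.localCorr hθ hθS
    obtain rfl : φ = φ₀ := X.eq_of_fixed hθ hφ hφS hφ₀ hφS₀ hθφ hθφ₀
    obtain ⟨χ, hχ, hne, ho⟩ := hC ψ hψ hψφ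
    refine ⟨χ, hχ, fun s g => ?_, ho⟩
    refine congrFun (hB (fun g => χ (X.act s g)) χ (htwG s χ hχ) hχ ?_ hne ψ hψ hψφ ?_ ho) g
    · rw [show θ = fun k => θ (X.actK s k) from funext fun k => (hθS s k).symm]
      exact (classInner_comp_aut (X.actK s) (fun k : X.K => χ k) θ).trans_ne hne
    · obtain ⟨m, hm, hmo⟩ := ho
      refine ⟨m, ?_, hmo⟩
      rw [show ψ = fun h => ψ (X.actH s h) from funext fun h => (hψS s h).symm]
      exact (classInner_comp_aut (X.actH s) (X.resH χ) ψ).trans hm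

end CfsgLib.Char.SplitCorr
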