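import Cfsg.Agent.Char.Central
import Mathlib.LinearAlgebra.Matrix.ToLin
import Mathlib.LinearAlgebra.Matrix.Determinant.Basic
import Mathlib.LinearAlgebra.Matrix.NonsingularInverse
import Mathlib.GroupTheory.FiniteAbelian.Duality
import Mathlib.RingTheory.RootsOfUnity.Complex
import Mathlib.RingTheory.RootsOfUnity.AlgebraicallyClosed
import Mathlib.Analysis.Complex.Polynomial.Basic
import Mathlib.Tactic.NoncommRing

/-!
# The splitting involution of an irreducible representation over an abelian section

Let `σ` be an irreducible representation of `K` and `L` a normal subgroup with abelian quotient, and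
suppose that a coprime operator group fixes no nontrivial linear character of `K / L` (and fixes
`σ`).  The operators twisting `σ` by linear characters of `K / L` can then be normalised in a
unique equivariant way; their sum is a multiple of an operator `J` with `J ^ 3 = J` commuting with
`σ L` and with every intertwiner which commutes with the operator group.
-/

set_option autoImplicit false
set_option linter.style.haveILetI false
set_option linter.unusedSectionVars false

namespace CfsgLib.Char.SplitInv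

open Module Representation Matrix

universe u v

/-- Square complex matrices. -/
abbrev Mat (d : ℕ) := Matrix (Fin d) (Fin d) ℂ

variable {d : ℕ} {K : Type u} [Group K]

/-- The matrices of a representation. -/
noncomputable def matRep (σ : Representation ℂ K (Fin d → ℂ)) : K →* Mat d where
  toFun k := LinearMap.toMatrixAlgEquiv' (σ k)
  map_one' := by rw [map_one, map_one]
  map_mul' a b := by rw [map_mul, map_mul]

theorem trace_matRep (σ : Representation ℂ K (Fin d → ℂ)) (k : K) :
    (matRep σ k).trace = σ.character k :=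
  (LinearMap.trace_eq_matrix_trace ℂ (Pi.basisFun ℂ (Fin d)) (σ k)).symm

/-- The invertible matrices of a representation. -/
noncomputable def uRep (σ : Representation ℂ K (Fin d → ℂ)) : K →* (Mat d)ˣ :=
  (matRep σ).toHomUnits

theorem uRep_val (σ : Representation ℂ K (Fin d → ℂ)) (k : K) :
    ((uRep σ k : (Mat d)ˣ) : Mat d) = matRep σ k := rfl

/-- The scalar matrices. -/
noncomputable def scal (d : ℕ) : ℂˣ →* (Mat d)ˣ :=
  Units.map (algebraMap ℂ (Mat d)).toMonoidHom

theorem scal_val (z : ℂˣ) : ((scal d z : (Mat d)ˣ) : Mat d) = (z : ℂ) • (1 : Mat d) :=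
  Algebra.algebraMap_eq_smul_one _

theorem scal_mul_val (z : ℂˣ) (X : (Mat d)ˣ) :
    ((scal d z * X : (Mat d)ˣ) : Mat d) = (z : ℂ) • (X : Mat d) := by
  rw [Units.val_mul, scal_val, smul_mul_assoc, one_mul]

theorem scal_comm (z : ℂˣ) (X : (Mat d)ˣ) : scal d z * X = X * scal d z :=
  Units.ext (Algebra.commutes (z : ℂ) (X : Mat d))

theorem scal_left (z : ℂˣ) (X Y : (Mat d)ˣ) : X * (scal d z * Y) = scal d z * (X * Y) := by
  rw [← mul_assoc, ← scal_comm, mul_assoc]

theorem scal_injective [NeZero d] : Function.Injective (scal d) := fun a b h => by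
  have h1 := congrArg (fun X : (Mat d)ˣ => (X : Mat d) 0 0) h
  simp only [scal_val, Matrix.smul_apply, Matrix.one_apply_eq, smul_eq_mul, mul_one] at h1
  exact Units.ext h1

theorem det_scal (z : ℂˣ) : ((scal d z : (Mat d)ˣ) : Mat d).det = (z : ℂ) ^ d := by
  rw [scal_val, Matrix.det_smul, Matrix.det_one, mul_one, Fintype.card_fin]

section Schur

variable (σ : Representation ℂ K (Fin d → ℂ)) [σ.IsIrreducible]

include σ in
theorem neZero_dim : NeZero d := by
  refine ⟨fun h => ?_⟩
  have := finrank_pos_of_isIrreducible σ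
  rw [Module.finrank_fin_fun, h] at this
  exact lt_irrefl 0 this

theorem schur (M : Mat d) (hM : ∀ k, matRep σ k * M = M * matRep σ k) :
    M = (M.trace / (d : ℂ)) • (1 : Mat d) := by
  have h : ∀ k, σ k * Matrix.toLinAlgEquiv' M = Matrix.toLinAlgEquiv' M * σ k := fun k => by
    apply LinearMap.toMatrixAlgEquiv'.injective
    rw [map_mul, map_mul, LinearMap.toMatrixAlgEquiv'_toLinAlgEquiv']
    exact hM k
  have h1 := congrArg LinearMap.toMatrixAlgEquiv' (eq_smul_one_of_commute σ _ h)
  rw [LinearMap.toMatrixAlgEquiv'_toLinAlgEquiv', map_smul, map_one, Module.finrank_fin_fun,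
    LinearMap.trace_eq_matrix_trace ℂ (Pi.basisFun ℂ (Fin d))] at h1
  have h2 : LinearMap.toMatrix (Pi.basisFun ℂ (Fin d)) (Pi.basisFun ℂ (Fin d))
      (Matrix.toLinAlgEquiv' M) = M := LinearMap.toMatrixAlgEquiv'_toLinAlgEquiv' M
  rwa [h2] at h1

theorem schur_units (X : (Mat d)ˣ) (hX : ∀ k, uRep σ k * X = X * uRep σ k) :
    ∃ z : ℂˣ, X = scal d z := by
  haveI := neZero_dim σ
  have h := schur σ (X : Mat d) fun k => congrArg Units.val (hX k)
  have hz : (X : Mat d).trace / (d : ℂ) ≠ 0 := fun h0 => by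
    rw [h0, zero_smul] at h
    exact X.ne_zero h
  exact ⟨Units.mk0 _ hz, Units.ext (by rw [scal_val, Units.val_mk0, ← h])⟩

/-- A nonzero operator which twists the representation by a linear character is invertible. -/
theorem isUnit_of_twist (M : Mat d) (hM0 : M ≠ 0) (lam : K →* ℂˣ)
    (hM : ∀ k, matRep σ k * M = (lam k : ℂ) • (M * matRep σ k)) : IsUnit M := by
  have h : ∀ k, σ k * Matrix.toLinAlgEquiv' M =
      (lam k : ℂ) • (Matrix.toLinAlgEquiv' M * σ k) := fun k => by
    apply LinearMap.toMatrixAlgEquiv'.injective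
    rw [map_mul, map_smul, map_mul, LinearMap.toMatrixAlgEquiv'_toLinAlgEquiv']
    exact hM k
  let S : Subrepresentation σ := ⟨LinearMap.ker (Matrix.toLinAlgEquiv' M), fun g x hx => by
    rw [LinearMap.mem_ker] at hx ⊢
    have h1 := LinearMap.congr_fun (h g) x
    simp only [Module.End.mul_apply, LinearMap.smul_apply] at h1
    rw [hx, map_zero] at h1
    exact (smul_eq_zero.1 h1.symm).resolve_left (lam g).ne_zero⟩
  have hker : LinearMap.ker (Matrix.toLinAlgEquiv' M) = ⊥ := by
    haveI : IsSimpleOrder (Subrepresentation σ) := ‹σ.IsIrreducible›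
    rcases eq_bot_or_eq_top S with hS | hS
    · exact congrArg Subrepresentation.toSubmodule hS
    · exfalso
      have hz := LinearMap.ker_eq_top.1 (congrArg Subrepresentation.toSubmodule hS)
      exact hM0 (Matrix.toLinAlgEquiv'.injective (by rw [hz, map_zero]))
  have hu : IsUnit (Matrix.toLinAlgEquiv' M) :=
    (Module.End.isUnit_iff _).2 ⟨LinearMap.ker_eq_bot.1 hker,
      LinearMap.injective_iff_surjective.1 (LinearMap.ker_eq_bot.1 hker)⟩
  simpa using hu.map LinearMap.toMatrixAlgEquiv'

end Schur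

theorem exists_det_one [NeZero d] (X : (Mat d)ˣ) :
    ∃ z : ℂˣ, ((scal d z * X : (Mat d)ˣ) : Mat d).det = 1 := by
  have hdet : (X : Mat d).det ≠ 0 :=
    ((Matrix.isUnit_iff_isUnit_det _).1 X.isUnit).ne_zero
  obtain ⟨c, hc⟩ := IsAlgClosed.exists_pow_nat_eq ((X : Mat d).det)⁻¹
    (Nat.pos_of_ne_zero (NeZero.ne d))
  have hc0 : c ≠ 0 := fun h0 => by
    rw [h0, zero_pow (NeZero.ne d)] at hc
    exact inv_ne_zero hdet hc.symm
  refine ⟨Units.mk0 c hc0, ?_⟩
  rw [Units.val_mul, Matrix.det_mul, det_scal, Units.val_mk0, hc, inv_mul_cancel₀ hdet]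

/-! ### Linear characters trivial on a subgroup -/

/-- The linear characters trivial on `L`. -/
def dual (L : Subgroup K) : Subgroup (K →* ℂˣ) where
  carrier := {lam | ∀ l ∈ L, lam l = 1}
  one_mem' _ _ := rfl
  mul_mem' ha hb l hl := by rw [MonoidHom.mul_apply, ha l hl, hb l hl, one_mul]
  inv_mem' ha l hl := by rw [MonoidHom.inv_apply, ha l hl, inv_one]

theorem mem_dual {L : Subgroup K} {lam : K →* ℂˣ} : lam ∈ dual L ↔ ∀ l ∈ L, lam l = 1 := Iff.rfl

section Dual

variable [Finite K] (L : Subgroup K) [L.Normal]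

/-- The linear characters trivial on `L` are the characters of the quotient. -/
def dualEquiv : ((K ⧸ L) →* ℂˣ) ≃ dual L where
  toFun ψ := ⟨ψ.comp (QuotientGroup.mk' L), fun l hl => by
    rw [MonoidHom.comp_apply, QuotientGroup.mk'_apply, (QuotientGroup.eq_one_iff l).2 hl, map_one]⟩
  invFun lam := QuotientGroup.lift L lam.1 fun l hl => MonoidHom.mem_ker.2 (lam.2 l hl)
  left_inv ψ := MonoidHom.ext fun q => by
    obtain ⟨k, rfl⟩ := QuotientGroup.mk_surjective q
    rfl
  right_inv lam := Subtype.ext (MonoidHom.ext fun _ => rfl)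

variable (hab : ∀ a b : K, a * b * a⁻¹ * b⁻¹ ∈ L)

include hab in
theorem quotient_comm (x y : K ⧸ L) : x * y = y * x := by
  obtain ⟨a, rfl⟩ := QuotientGroup.mk_surjective x
  obtain ⟨b, rfl⟩ := QuotientGroup.mk_surjective y
  rw [← mul_inv_eq_one, ← QuotientGroup.mk_mul, ← QuotientGroup.mk_mul, ← QuotientGroup.mk_inv,
    ← QuotientGroup.mk_mul, QuotientGroup.eq_one_iff]
  simpa [mul_assoc] using hab a b

include hab in
theorem card_dual : Nat.card (dual L) = L.index ∧ ∀ k : K, k ∉ L → ∃ lam ∈ dual L, lam k ≠ 1 := by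
  letI : CommGroup (K ⧸ L) := { (inferInstance : Group (K ⧸ L)) with
    mul_comm := quotient_comm L hab }
  haveI : NeZero (Monoid.exponent (K ⧸ L) : ℂ) :=
    ⟨Nat.cast_ne_zero.2 Monoid.exponent_ne_zero_of_finite⟩
  refine ⟨?_, fun k hk => ?_⟩
  · rw [← Nat.card_congr (dualEquiv L), CommGroup.card_monoidHom_of_hasEnoughRootsOfUnity,
      Subgroup.index_eq_card]
  · obtain ⟨ψ, hψ⟩ := CommGroup.exists_apply_ne_one_of_hasEnoughRootsOfUnity (K ⧸ L) ℂ
      (a := (k : K ⧸ L)) (fun h => hk ((QuotientGroup.eq_one_iff k).1 h))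
    exact ⟨(dualEquiv L ψ).1, (dualEquiv L ψ).2, hψ⟩

include hab in
theorem finite_dual : Finite (dual L) :=
  Nat.finite_of_card_ne_zero (by rw [(card_dual L hab).1]; exact Subgroup.index_ne_zero_of_finite)

end Dual

/-- The values of a nontrivial character on a finite group sum to zero. -/
theorem sum_hom_eq_zero {A : Type v} [Group A] [Fintype A] (f : A →* ℂˣ) {a : A} (ha : f a ≠ 1) :
    ∑ x, (f x : ℂ) = 0 := by
  have h : (f a : ℂ) * ∑ x, (f x : ℂ) = ∑ x, (f x : ℂ) := by
    rw [Finset.mul_sum]
    exact Fintype.sum_equiv (Equiv.mulLeft a) _ _ fun x => by simp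
  by_contra h0
  exact ha (Units.ext (mul_right_cancel₀ h0 (h.trans (one_mul _).symm)))

/-! ### Traces of sums of diagonal coefficients -/

theorem sum_diag_single (A B : Mat d) :
    ∑ i : Fin d, ∑ j : Fin d, (A * Matrix.single i j (1 : ℂ) * B) i j = A.trace * B.trace := by
  rw [Matrix.trace, Matrix.trace, Finset.sum_mul_sum]
  refine Finset.sum_congr rfl fun i _ => Finset.sum_congr rfl fun j _ => ?_
  rw [Matrix.mul_apply, Finset.sum_eq_single j, Matrix.mul_apply, Finset.sum_eq_single i]
  · simp [Matrix.diag]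
  · intro b _ hb; simp [Matrix.single, Ne.symm hb]
  · simp
  · intro b _ hb
    rw [Matrix.mul_apply, Finset.sum_eq_zero, zero_mul]
    intro c _
    simp [Matrix.single, Ne.symm hb]
  · simp

theorem eq_sum_single (X : Mat d) : X = ∑ i, ∑ j, X i j • Matrix.single i j (1 : ℂ) := by
  conv_lhs => rw [Matrix.matrix_eq_sum_single X]
  refine Finset.sum_congr rfl fun i _ => Finset.sum_congr rfl fun j _ => ?_
  rw [Matrix.smul_single, smul_eq_mul, mul_one]

end CfsgLib.Char.SplitInv
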