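import Cfsg.Agent.Char.SplitInvolution
import Mathlib.Algebra.Group.MinimalAxioms

/-!
# Equivariant normalisation of the twisting operators
-/

set_option autoImplicit false
set_option linter.style.haveILetI false
set_option linter.unusedSectionVars false

namespace CfsgLib.Char.SplitInv

open Module Representation Matrix

universe u v

variable {d : ℕ} {K : Type u} [Group K]
variable (σ : Representation ℂ K (Fin d → ℂ))

/-- `X` twists the representation by the linear character `lam`. -/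
def Twist (lam : K →* ℂˣ) (X : (Mat d)ˣ) : Prop :=
  ∀ k, uRep σ k * X = scal d (lam k) * (X * uRep σ k)

/-- `I` carries the representation to its composite with the automorphism `a`. -/
def Intertw (a : MulAut K) (I : (Mat d)ˣ) : Prop :=
  ∀ k, I * uRep σ k = uRep σ (a k) * I

variable {σ}

theorem scal_mul_scal_mul (z w : ℂˣ) (X Y : (Mat d)ˣ) :
    scal d z * X * (scal d w * Y) = scal d (z * w) * (X * Y) := by
  rw [mul_assoc, scal_left, ← mul_assoc, map_mul]

theorem scal_scal (z w : ℂˣ) (X : (Mat d)ˣ) : scal d z * (scal d w * X) = scal d (z * w) * X := by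
  rw [← mul_assoc, map_mul]

theorem Twist.one : Twist σ 1 1 := fun k => by simp

theorem Twist.scal_mul {lam : K →* ℂˣ} {X : (Mat d)ˣ} (h : Twist σ lam X) (z : ℂˣ) :
    Twist σ lam (scal d z * X) := fun k => by
  rw [scal_left, h k, mul_assoc (scal d z) X, ← mul_assoc, ← mul_assoc (scal d (lam k)), ← map_mul,
    ← map_mul, mul_comm z]

theorem Twist.mul {lam mu : K →* ℂˣ} {X Y : (Mat d)ˣ} (hX : Twist σ lam X) (hY : Twist σ mu Y) :
    Twist σ (lam * mu) (X * Y) := fun k => by
  rw [← mul_assoc, hX k, mul_assoc, mul_assoc X, hY k, scal_left, ← mul_assoc (scal d _),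
    ← map_mul, MonoidHom.mul_apply, mul_assoc X]

theorem Twist.inv {lam : K →* ℂˣ} {X : (Mat d)ˣ} (hX : Twist σ lam X) :
    Twist σ lam⁻¹ X⁻¹ := fun k => by
  have h := hX k
  rw [MonoidHom.inv_apply, map_inv, eq_inv_mul_iff_mul_eq]
  calc scal d (lam k) * (uRep σ k * X⁻¹)
      = X⁻¹ * (scal d (lam k) * (X * uRep σ k)) * X⁻¹ := by
        rw [scal_left, inv_mul_cancel_left, mul_assoc]
    _ = X⁻¹ * uRep σ k := by rw [← h, mul_assoc, mul_assoc, mul_inv_cancel, mul_one]

theorem Twist.conj {lam : K →* ℂˣ} {X I : (Mat d)ˣ} {a : MulAut K} (hX : Twist σ lam X)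
    (hI : Intertw σ a I) : Twist σ (lam.comp a.symm.toMonoidHom) (I * X * I⁻¹) := fun k => by
  obtain ⟨j, rfl⟩ := a.surjective k
  rw [MonoidHom.comp_apply, MulEquiv.coe_toMonoidHom, MulEquiv.symm_apply_apply]
  have h1 : I⁻¹ * uRep σ (a j) = uRep σ j * I⁻¹ := by
    rw [inv_mul_eq_iff_eq_mul, ← mul_assoc, hI j, mul_assoc, mul_inv_cancel, mul_one]
  calc uRep σ (a j) * (I * X * I⁻¹) = I * (uRep σ j * X) * I⁻¹ := by
        rw [← mul_assoc, ← mul_assoc, ← hI j, mul_assoc I]
    _ = scal d (lam j) * (I * (X * uRep σ j) * I⁻¹) := by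
        rw [hX j, scal_left, mul_assoc]
    _ = _ := by simp only [mul_assoc]; rw [h1]

theorem Intertw.mul {a a' : MulAut K} {I I' : (Mat d)ˣ} (h : Intertw σ a I)
    (h' : Intertw σ a' I') : Intertw σ (a * a') (I * I') := fun k => by
  rw [mul_assoc, h' k, ← mul_assoc, h, mul_assoc]
  rfl

theorem Twist.trace_eq_zero {lam : K →* ℂˣ} {X : (Mat d)ˣ} (h : Twist σ lam X) (hlam : lam ≠ 1) :
    (X : Mat d).trace = 0 := by
  obtain ⟨k, hk⟩ : ∃ k, lam k ≠ 1 := by
    by_contra hall
    push Not at hall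
    exact hlam (MonoidHom.ext hall)
  have h1 : uRep σ k * X * (uRep σ k)⁻¹ = scal d (lam k) * X := by
    rw [h k, mul_assoc, mul_assoc, mul_inv_cancel, mul_one]
  have h2 := congrArg (fun Y : (Mat d)ˣ => (Y : Mat d).trace) h1
  simp only [scal_mul_val, Matrix.trace_smul, smul_eq_mul] at h2
  rw [Units.val_mul, Units.val_mul, Matrix.trace_mul_comm, ← mul_assoc, Units.inv_mul, one_mul] at h2
  by_contra h0
  exact hk (Units.ext (mul_right_cancel₀ h0 (h2.symm.trans (one_mul _).symm)))

variable [σ.IsIrreducible]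

theorem Twist.unique {lam : K →* ℂˣ} {X Y : (Mat d)ˣ} (hX : Twist σ lam X) (hY : Twist σ lam Y) :
    ∃ z : ℂˣ, Y = scal d z * X := by
  obtain ⟨z, hz⟩ := schur_units σ (X⁻¹ * Y) fun k => by
    have h := hX.inv.mul hY k
    simpa using h
  exact ⟨z, by rw [scal_comm, ← hz, mul_inv_cancel_left]⟩

theorem Intertw.conj_eq {a : MulAut K} {I I' : (Mat d)ˣ} (h : Intertw σ a I)
    (h' : Intertw σ a I') (X : (Mat d)ˣ) : I' * X * I'⁻¹ = I * X * I⁻¹ := by
  obtain ⟨z, hz⟩ := schur_units σ (I⁻¹ * I') fun k => by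
    rw [mul_assoc, h' k, ← mul_assoc, ← mul_assoc]
    congr 1
    rw [eq_inv_mul_iff_mul_eq, ← mul_assoc, h k, mul_assoc, mul_inv_cancel, mul_one]
  have hI : I' = I * scal d z := by rw [← hz, mul_inv_cancel_left]
  rw [hI, _root_.mul_inv_rev, mul_assoc I, scal_comm, ← mul_assoc I, ← mul_assoc, mul_inv_cancel_right]

variable (σ) (L : Subgroup K)

/-- The linear characters of `K / L` by which the representation can be twisted. -/
def twists : Subgroup (K →* ℂˣ) where
  carrier := {lam | lam ∈ dual L ∧ ∃ X, Twist σ lam X}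
  one_mem' := ⟨one_mem _, 1, Twist.one⟩
  mul_mem' := fun ⟨ha, X, hX⟩ ⟨hb, Y, hY⟩ => ⟨mul_mem ha hb, X * Y, hX.mul hY⟩
  inv_mem' := fun ⟨ha, X, hX⟩ => ⟨inv_mem ha, X⁻¹, hX.inv⟩

theorem twists_le : twists σ L ≤ dual L := fun _ h => h.1

theorem exists_twist_det (p : twists σ L) :
    ∃ X, Twist σ (p : K →* ℂˣ) X ∧ ((X : (Mat d)ˣ) : Mat d).det = 1 := by
  haveI := neZero_dim σ
  obtain ⟨-, X, hX⟩ := p.2
  obtain ⟨z, hz⟩ := exists_det_one X
  exact ⟨_, hX.scal_mul z, hz⟩

/-- A chosen twisting operator of determinant one. -/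
noncomputable def op (p : twists σ L) : (Mat d)ˣ := (exists_twist_det σ L p).choose

theorem op_twist (p : twists σ L) : Twist σ (p : K →* ℂˣ) (op σ L p) :=
  (exists_twist_det σ L p).choose_spec.1

theorem op_det (p : twists σ L) : (op σ L p : Mat d).det = 1 :=
  (exists_twist_det σ L p).choose_spec.2

theorem exists_beta (p q : twists σ L) :
    ∃ z : ℂˣ, op σ L p * op σ L q = scal d z * (op σ L q * op σ L p) := by
  have h : Twist σ ((p : K →* ℂˣ) * q) (op σ L q * op σ L p) := by
    rw [mul_comm (p : K →* ℂˣ)]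
    exact (op_twist σ L q).mul (op_twist σ L p)
  exact h.unique ((op_twist σ L p).mul (op_twist σ L q))

/-- The commutator pairing of the twisting operators. -/
noncomputable def beta (p q : twists σ L) : ℂˣ := (exists_beta σ L p q).choose

theorem beta_spec (p q : twists σ L) {X Y : (Mat d)ˣ} (hX : Twist σ (p : K →* ℂˣ) X)
    (hY : Twist σ (q : K →* ℂˣ) Y) : X * Y = scal d (beta σ L p q) * (Y * X) := by
  obtain ⟨z, rfl⟩ := (op_twist σ L p).unique hX
  obtain ⟨w, rfl⟩ := (op_twist σ L q).unique hY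
  have h := (exists_beta σ L p q).choose_spec
  change _ = scal d (beta σ L p q) * _ at h
  rw [scal_mul_scal_mul, scal_mul_scal_mul, h, scal_scal, scal_scal]
  congr 2
  ac_rfl

theorem beta_eq {p q : twists σ L} {X Y : (Mat d)ˣ} (hX : Twist σ (p : K →* ℂˣ) X)
    (hY : Twist σ (q : K →* ℂˣ) Y) {z : ℂˣ} (h : X * Y = scal d z * (Y * X)) :
    beta σ L p q = z := by
  haveI := neZero_dim σ
  rw [beta_spec σ L p q hX hY] at h
  exact scal_injective (mul_right_cancel h)

theorem beta_mul_left (p p' q : twists σ L) :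
    beta σ L (p * p') q = beta σ L p q * beta σ L p' q := by
  refine beta_eq σ L (p := p * p') ((op_twist σ L p).mul (op_twist σ L p')) (op_twist σ L q) ?_
  calc op σ L p * op σ L p' * op σ L q
      = op σ L p * (scal d (beta σ L p' q) * (op σ L q * op σ L p')) := by
        rw [mul_assoc, beta_spec σ L p' q (op_twist σ L p') (op_twist σ L q)]
    _ = scal d (beta σ L p' q) * (op σ L p * op σ L q * op σ L p') := by
        rw [scal_left, mul_assoc]
    _ = scal d (beta σ L p' q) * (scal d (beta σ L p q) * (op σ L q * op σ L p) * op σ L p') := by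
        rw [beta_spec σ L p q (op_twist σ L p) (op_twist σ L q)]
    _ = _ := by
        rw [mul_assoc (scal d (beta σ L p q)), scal_scal, mul_assoc (op σ L q), mul_comm (beta σ L p' q)]

theorem beta_self (p : twists σ L) : beta σ L p p = 1 :=
  beta_eq σ L (op_twist σ L p) (op_twist σ L p) (by rw [map_one, one_mul])

theorem beta_swap (p q : twists σ L) : beta σ L q p = (beta σ L p q)⁻¹ :=
  beta_eq σ L (op_twist σ L q) (op_twist σ L p) (by
    rw [beta_spec σ L p q (op_twist σ L p) (op_twist σ L q), ← mul_assoc, ← map_mul,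
      inv_mul_cancel, map_one, one_mul])

theorem beta_pow (p q : twists σ L) : beta σ L p q ^ d = 1 := by
  have h := congrArg (fun Y : (Mat d)ˣ => (Y : Mat d).det)
    (beta_spec σ L p q (op_twist σ L p) (op_twist σ L q))
  simp only [Units.val_mul, Matrix.det_mul, det_scal, op_det, mul_one] at h
  exact Units.ext (by simpa using h.symm)

/-- The square root of the pairing. -/
noncomputable def half (p q : twists σ L) : ℂˣ := beta σ L p q ^ ((d + 1) / 2)

theorem half_mul_left (p p' q : twists σ L) :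
    half σ L (p * p') q = half σ L p q * half σ L p' q := by
  rw [half, beta_mul_left, mul_pow]; rfl

theorem half_swap (p q : twists σ L) : half σ L q p = (half σ L p q)⁻¹ := by
  rw [half, beta_swap, inv_pow]; rfl

theorem half_mul_right (p q q' : twists σ L) :
    half σ L p (q * q') = half σ L p q * half σ L p q' := by
  rw [half_swap, half_mul_left, mul_inv, ← half_swap, ← half_swap]

theorem half_self (p : twists σ L) : half σ L p p = 1 := by rw [half, beta_self, one_pow]

theorem half_one_left (q : twists σ L) : half σ L 1 q = 1 := by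
  have h := half_mul_left σ L 1 1 q
  rw [one_mul] at h
  exact mul_eq_left.1 h.symm

theorem half_one_right (p : twists σ L) : half σ L p 1 = 1 := by
  rw [half_swap, half_one_left, inv_one]

theorem half_pow (p q : twists σ L) : half σ L p q ^ d = 1 := by
  rw [half, ← pow_mul, mul_comm, pow_mul, beta_pow, one_pow]

theorem half_inv_left (p q : twists σ L) : half σ L p⁻¹ q = (half σ L p q)⁻¹ :=
  eq_inv_of_mul_eq_one_left (by rw [← half_mul_left, inv_mul_cancel, half_one_left])

theorem half_sq (hd : Odd d) (p q : twists σ L) :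
    half σ L p q * half σ L p q = beta σ L p q := by
  obtain ⟨t, rfl⟩ := hd
  rw [half, ← pow_add, show (2 * t + 1 + 1) / 2 + (2 * t + 1 + 1) / 2 = 2 * t + 1 + 1 by omega,
    pow_succ, beta_pow, one_mul]

/-! ### The abelian extension -/

/-- Twisting operators of determinant one, with their character. -/
structure Ext where
  lam : twists σ L
  X : (Mat d)ˣ
  tw : Twist σ (lam : K →* ℂˣ) X
  det : (X : Mat d).det = 1

variable {σ L}

theorem Ext.ext' {P Q : Ext σ L} (h : P.lam = Q.lam) (h' : P.X = Q.X) : P = Q := by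
  obtain ⟨a, b, c, e⟩ := P
  obtain ⟨a', b', c', e'⟩ := Q
  subst h h'
  rfl

noncomputable instance : Mul (Ext σ L) :=
  ⟨fun P Q => ⟨P.lam * Q.lam, scal d (half σ L P.lam Q.lam)⁻¹ * (P.X * Q.X),
    (P.tw.mul Q.tw).scal_mul _, by
      rw [Units.val_mul, Matrix.det_mul, det_scal, Units.val_mul, Matrix.det_mul, P.det, Q.det,
        mul_one, mul_one, ← Units.val_pow_eq_pow_val, inv_pow, half_pow, inv_one, Units.val_one]⟩⟩

noncomputable instance : One (Ext σ L) := ⟨⟨1, 1, Twist.one, by simp⟩⟩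

noncomputable instance : Inv (Ext σ L) :=
  ⟨fun P => ⟨P.lam⁻¹, P.X⁻¹, P.tw.inv, by
    have h := congrArg Matrix.det (Units.inv_mul P.X)
    rwa [Matrix.det_mul, P.det, mul_one, Matrix.det_one] at h⟩⟩

theorem Ext.mul_lam (P Q : Ext σ L) : (P * Q).lam = P.lam * Q.lam := rfl

theorem Ext.mul_X (P Q : Ext σ L) :
    (P * Q).X = scal d (half σ L P.lam Q.lam)⁻¹ * (P.X * Q.X) := rfl

theorem Ext.one_lam : (1 : Ext σ L).lam = 1 := rfl

theorem Ext.one_X : (1 : Ext σ L).X = 1 := rfl

noncomputable instance : Group (Ext σ L) :=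
  Group.ofLeftAxioms
    (fun P Q R => Ext.ext' (mul_assoc _ _ _) (by
      rw [Ext.mul_X, Ext.mul_X, Ext.mul_X, Ext.mul_X, Ext.mul_lam, Ext.mul_lam, half_mul_left,
        half_mul_right, mul_assoc (scal d (half σ L P.lam Q.lam)⁻¹), scal_scal,
        mul_assoc P.X Q.X R.X, scal_left (half σ L Q.lam R.lam)⁻¹ P.X, scal_scal]
      congr 2
      simp only [mul_inv, mul_comm, mul_left_comm, mul_assoc]))
    (fun P => Ext.ext' (one_mul _) (by
      rw [Ext.mul_X, Ext.one_lam, half_one_left, inv_one, map_one, one_mul, Ext.one_X, one_mul]))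
    (fun P => Ext.ext' (inv_mul_cancel _) (by
      rw [Ext.mul_X, show (P⁻¹).lam = P.lam⁻¹ from rfl, half_inv_left, half_self, inv_one, inv_one,
        map_one, one_mul, show (P⁻¹).X = P.X⁻¹ from rfl, inv_mul_cancel]
      rfl))

theorem Ext.mul_comm' (hd : Odd d) (P Q : Ext σ L) : P * Q = Q * P :=
  Ext.ext' (mul_comm _ _) (by
    rw [Ext.mul_X, Ext.mul_X, beta_spec σ L _ _ P.tw Q.tw, ← half_sq σ L hd, ← mul_assoc (scal d _),
      ← map_mul, inv_mul_cancel_left, half_swap σ L P.lam Q.lam, inv_inv])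

/-- The scalar elements of the extension. -/
noncomputable def Ext.sc : rootsOfUnity d ℂ →* Ext σ L where
  toFun z := ⟨1, scal d z, fun k => by simp [scal_comm],
    by rw [det_scal, ← Units.val_pow_eq_pow_val, (mem_rootsOfUnity _ _).1 z.2, Units.val_one]⟩
  map_one' := Ext.ext' rfl (map_one _)
  map_mul' z w := Ext.ext' (one_mul _).symm (by
    rw [Ext.mul_X]
    change scal d ((z : ℂˣ) * w) = scal d (half σ L 1 1)⁻¹ * (scal d z * scal d w)
    rw [half_one_left, inv_one, map_one, one_mul, map_mul])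

theorem Ext.sc_mul_X (z : rootsOfUnity d ℂ) (P : Ext σ L) :
    (Ext.sc z * P).lam = P.lam ∧ (Ext.sc z * P).X = scal d z * P.X := by
  refine ⟨one_mul _, ?_⟩
  rw [Ext.mul_X]
  change scal d (half σ L 1 P.lam)⁻¹ * _ = _
  rw [half_one_left, inv_one, map_one, one_mul]
  rfl

theorem Ext.exists_sc {P Q : Ext σ L} (h : P.lam = Q.lam) : ∃ z, Q = Ext.sc z * P := by
  obtain ⟨z, hz⟩ := P.tw.unique (h.symm ▸ Q.tw)
  have hzd : z ∈ rootsOfUnity d ℂ := by
    have h1 := congrArg (fun Y : (Mat d)ˣ => (Y : Mat d).det) hz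
    simp only [Units.val_mul, Matrix.det_mul, det_scal, P.det, Q.det, mul_one] at h1
    exact (mem_rootsOfUnity _ _).2 (Units.ext (by simpa using h1.symm))
  obtain ⟨h1, h2⟩ := Ext.sc_mul_X ⟨z, hzd⟩ P
  exact ⟨⟨z, hzd⟩, Ext.ext' (by rw [h1, h]) (by rw [h2, hz])⟩

theorem Ext.exists_lift (p : twists σ L) : ∃ P : Ext σ L, P.lam = p :=
  ⟨⟨p, op σ L p, op_twist σ L p, op_det σ L p⟩, rfl⟩

theorem Ext.finite [Finite (twists σ L)] : Finite (Ext σ L) := by
  haveI := neZero_dim σ
  choose P hP using fun p : twists σ L => Ext.exists_lift p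
  refine Finite.of_surjective
    (fun x : twists σ L × rootsOfUnity d ℂ => Ext.sc x.2 * P x.1) fun Q => ?_
  obtain ⟨z, hz⟩ := Ext.exists_sc (P := P Q.lam) (Q := Q) (hP _)
  exact ⟨(Q.lam, z), hz.symm⟩

/-- An automorphism preserving `L` with an intertwiner. -/
structure Sym (σ : Representation ℂ K (Fin d → ℂ)) (L : Subgroup K) where
  a : MulAut K
  I : (Mat d)ˣ
  hL : ∀ l ∈ L, a.symm l ∈ L
  hI : Intertw σ a I

/-- The action on the twisting characters. -/
def Sym.act (T : Sym σ L) (p : twists σ L) : twists σ L :=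
  ⟨(p : K →* ℂˣ).comp T.a.symm.toMonoidHom, fun l hl => p.2.1 _ (T.hL l hl),
    p.2.2.elim fun X hX => ⟨T.I * X * T.I⁻¹, hX.conj T.hI⟩⟩

theorem Sym.beta_act (T : Sym σ L) (p q : twists σ L) :
    beta σ L (T.act p) (T.act q) = beta σ L p q := by
  refine beta_eq σ L (p := T.act p) (q := T.act q) ((op_twist σ L p).conj T.hI) ((op_twist σ L q).conj T.hI) ?_
  calc T.I * op σ L p * T.I⁻¹ * (T.I * op σ L q * T.I⁻¹)
      = T.I * (op σ L p * op σ L q) * T.I⁻¹ := by simp [mul_assoc]
    _ = scal d (beta σ L p q) * (T.I * (op σ L q * op σ L p) * T.I⁻¹) := by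
        rw [beta_spec σ L p q (op_twist σ L p) (op_twist σ L q), scal_left, mul_assoc]
    _ = _ := by simp [mul_assoc]

theorem Sym.half_act (T : Sym σ L) (p q : twists σ L) :
    half σ L (T.act p) (T.act q) = half σ L p q := by
  rw [half, T.beta_act]; rfl

theorem Sym.act_mul (T : Sym σ L) (p q : twists σ L) : T.act (p * q) = T.act p * T.act q :=
  Subtype.ext (MonoidHom.ext fun _ => rfl)

/-- The action on the extension, as a function. -/
def Sym.extFun (T : Sym σ L) (P : Ext σ L) : Ext σ L :=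
  ⟨T.act P.lam, T.I * P.X * T.I⁻¹, P.tw.conj T.hI, by
    rw [Units.val_mul, Units.val_mul, Matrix.det_mul_right_comm, Units.mul_inv, one_mul, P.det]⟩

theorem Sym.extFun_lam (T : Sym σ L) (P : Ext σ L) : (T.extFun P).lam = T.act P.lam := rfl

theorem Sym.extFun_X (T : Sym σ L) (P : Ext σ L) : (T.extFun P).X = T.I * P.X * T.I⁻¹ := rfl

theorem Sym.extFun_mul (T : Sym σ L) (P Q : Ext σ L) :
    T.extFun (P * Q) = T.extFun P * T.extFun Q :=
  Ext.ext' (by rw [Sym.extFun_lam, Ext.mul_lam, T.act_mul, Ext.mul_lam, Sym.extFun_lam,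
      Sym.extFun_lam]) (by
    rw [Sym.extFun_X, Ext.mul_X, Ext.mul_X, Sym.extFun_lam, Sym.extFun_lam, T.half_act, scal_left,
      Sym.extFun_X, Sym.extFun_X]
    simp [mul_assoc])

/-- The action on the extension. -/
noncomputable def Sym.ext (T : Sym σ L) : Ext σ L →* Ext σ L :=
  MonoidHom.mk' T.extFun T.extFun_mul

theorem Sym.ext_lam (T : Sym σ L) (P : Ext σ L) : (T.ext P).lam = T.act P.lam := rfl

theorem Sym.ext_X (T : Sym σ L) (P : Ext σ L) : (T.ext P).X = T.I * P.X * T.I⁻¹ := rfl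

theorem Sym.ext_sc (T : Sym σ L) (z : rootsOfUnity d ℂ) : T.ext (Ext.sc z) = Ext.sc z :=
  Ext.ext' (Subtype.ext (MonoidHom.ext fun _ => rfl)) (by
    rw [Sym.ext_X]
    change T.I * scal d z * T.I⁻¹ = scal d z
    rw [← scal_comm, mul_inv_cancel_right])

theorem Sym.ext_ext (T T' T'' : Sym σ L) (h : T''.a = T.a * T'.a) (P : Ext σ L) :
    T.ext (T'.ext P) = T''.ext P :=
  Ext.ext' (Subtype.ext (MonoidHom.ext fun k => by
      change (P.lam : K →* ℂˣ) (T'.a.symm (T.a.symm k)) = (P.lam : K →* ℂˣ) (T''.a.symm k)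
      rw [h]
      rfl)) (by
    have hT : Intertw σ (T.a * T'.a) T''.I := fun k => by rw [T''.hI k, h]
    simp only [Sym.ext_X]
    rw [Intertw.conj_eq (T.hI.mul T'.hI) hT P.X]
    simp [mul_assoc])

end CfsgLib.Char.SplitInv
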