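import Cfsg.Agent.Char.SplitNormalised
import Mathlib.FieldTheory.Finite.Basic

/-!
# The operator `J` with `J ^ 3 = J` and the norm of its twisted traces
-/

set_option autoImplicit false
set_option linter.style.haveILetI false
set_option linter.unusedSectionVars false

namespace CfsgLib.Char.SplitInv

open Module Representation Matrix

universe u v

variable {d : ℕ} {K : Type u} [Group K] [Finite K] {σ : Representation ℂ K (Fin d → ℂ)}
  [σ.IsIrreducible] {L : Subgroup K} [L.Normal]

theorem card_twists_dvd (hab : ∀ a b : K, a * b * a⁻¹ * b⁻¹ ∈ L) :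
    Nat.card (twists σ L) ∣ Nat.card K := by
  haveI := finite_dual L hab
  refine (Subgroup.card_dvd_of_le (twists_le σ L)).trans ?_
  rw [(card_dual L hab).1]
  exact L.index_dvd_card

theorem finite_twists (hab : ∀ a b : K, a * b * a⁻¹ * b⁻¹ ∈ L) : Finite (twists σ L) :=
  Nat.finite_of_card_ne_zero fun h =>
    Nat.card_pos.ne' (Nat.eq_zero_of_zero_dvd (h ▸ card_twists_dvd (σ := σ) hab))

/-- There is a multiplicative choice of twisting operators commuting with the operator group and
with every automorphism which commutes with it. -/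
theorem exists_normalised {S : Type v} [Group S] [Fintype S]
    (hab : ∀ a b : K, a * b * a⁻¹ * b⁻¹ ∈ L) (hodd : Odd (Nat.card K))
    (hcop : (Nat.card K).Coprime (Nat.card S)) (hd : d ∣ Nat.card K) (φ : S →* MulAut K)
    (T : S → Sym σ L) (hT : ∀ s, (T s).a = φ s)
    (hfix : ∀ lam ∈ dual L, (∀ s k, lam (φ s k) = lam k) → lam = 1) :
    ∃ u : twists σ L → (Mat d)ˣ, (∀ p : twists σ L, Twist σ (p : K →* ℂˣ) (u p)) ∧
      (∀ p q, u p * u q = scal d (half σ L p q) * u (p * q)) ∧
      (∀ T' : Sym σ L, ((∃ s, T' = T s) ∨ ∀ s, T'.a * φ s = φ s * T'.a) →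
        ∀ p, T'.I * u p * T'.I⁻¹ = u (T'.act p)) := by
  classical
  haveI := neZero_dim σ
  have hdodd : Odd d := hodd.of_dvd_nat hd
  haveI := finite_twists (σ := σ) hab
  haveI := Ext.finite (σ := σ) (L := L)
  letI : CommGroup (Ext σ L) :=
    { (inferInstance : Group (Ext σ L)) with mul_comm := Ext.mul_comm' hdodd }
  -- the scalars split off
  have hinj : Function.Injective (Ext.sc (σ := σ) (L := L)) := fun a b h =>
    Subtype.ext (scal_injective (congrArg Ext.X h))
  obtain ⟨r, hr⟩ : ∃ r : Ext σ L →* ℂˣ, ∀ z, r (Ext.sc z) = (z : ℂˣ) := by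
    haveI : NeZero (Monoid.exponent (Ext σ L) : ℂ) :=
      ⟨Nat.cast_ne_zero.2 Monoid.exponent_ne_zero_of_finite⟩
    obtain ⟨r, hr⟩ := MonoidHom.domRestrict_surjective (M := ℂ) (Ext.sc (σ := σ) (L := L)).range
      ((rootsOfUnity d ℂ).subtype.comp (MonoidHom.ofInjective hinj).symm.toMonoidHom)
    refine ⟨r, fun z => ?_⟩
    have h1 := DFunLike.congr_fun hr (MonoidHom.ofInjective hinj z)
    simpa [MonoidHom.ofInjective_apply] using h1
  -- averaged over the operators
  let m := Nat.card S ^ (Nat.totient (Nat.card K) - 1)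
  have hm : ∀ z : ℂˣ, z ^ Nat.card K = 1 → z ^ (Nat.card S * m) = z := fun z hz => by
    have h1 : Nat.card S * m ≡ 1 [MOD Nat.card K] := by
      rw [show Nat.card S * m = Nat.card S ^ Nat.totient (Nat.card K) by
        simp only [m]
        rw [← pow_succ', Nat.sub_add_cancel (Nat.totient_pos.2 Nat.card_pos)]]
      exact Nat.ModEq.pow_totient hcop.symm
    rw [pow_eq_pow_mod _ hz, h1, ← pow_eq_pow_mod _ hz, pow_one]
  let r' : Ext σ L →* ℂˣ := (∏ t : S, r.comp (T t).ext) ^ m
  have hr' : ∀ P, r' P = (∏ t : S, r ((T t).ext P)) ^ m := fun P => by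
    simp [r', MonoidHom.finset_prod_apply]
  have hsc : ∀ z, r' (Ext.sc z) = (z : ℂˣ) := fun z => by
    simp only [hr', Sym.ext_sc, hr, Finset.prod_const, Finset.card_univ, ← pow_mul,
      Fintype.card_eq_nat_card]
    refine hm _ ?_
    obtain ⟨e, he⟩ := hd
    rw [he, pow_mul, (mem_rootsOfUnity _ _).1 z.2, one_pow]
  have hinvS : ∀ s P, r' ((T s).ext P) = r' P := fun s P => by
    rw [hr', hr']
    congr 1
    exact Fintype.prod_equiv (Equiv.mulRight s) _ _ fun t => congrArg r
      (Sym.ext_ext _ _ _ (by rw [hT, hT, hT]; exact map_mul φ t s) P)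
  -- independence of the lift
  have hindep : ∀ {P Q : Ext σ L}, P.lam = Q.lam →
      scal d (r' P)⁻¹ * P.X = scal d (r' Q)⁻¹ * Q.X := fun {P Q} h => by
    obtain ⟨z, rfl⟩ := Ext.exists_sc h
    rw [(Ext.sc_mul_X z P).2, map_mul, hsc, scal_scal, _root_.mul_inv_rev, inv_mul_cancel_right]
  choose lift hlift using fun p : twists σ L => Ext.exists_lift p
  refine ⟨fun p => scal d (r' (lift p))⁻¹ * (lift p).X, fun p => ?_, fun p q => ?_, ?_⟩
  · exact ((hlift p) ▸ (lift p).tw).scal_mul _
  · beta_reduce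
    rw [hindep (P := lift (p * q)) (Q := lift p * lift q) (by rw [Ext.mul_lam, hlift, hlift, hlift]),
      Ext.mul_X, map_mul, hlift, hlift, scal_mul_scal_mul, scal_scal, scal_scal]
    congr 2
    rw [mul_comm (half σ L p q), mul_inv_cancel_right, mul_inv]
  intro T' hT' p
  have key : ∀ P, r' (T'.ext P) = r' P := by
    rcases hT' with ⟨s, rfl⟩ | hcomm
    · exact hinvS s
    -- the quotient of the two homomorphisms is an invariant function of the character
    let g : Ext σ L →* ℂˣ := r'.comp T'.ext / r'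
    have hg : ∀ P, g P = r' (T'.ext P) / r' P := fun P => rfl
    have hg1 : ∀ P : Ext σ L, P.lam = 1 → g P = 1 := fun P h => by
      obtain ⟨z, hz⟩ := Ext.exists_sc (P := (1 : Ext σ L)) (Q := P) (by rw [Ext.one_lam, h])
      rw [hg, hz, mul_one, Sym.ext_sc, div_self']
    have hgS : ∀ s P, g ((T s).ext P) = g P := fun s P => by
      rw [hg, hg, hinvS]
      congr 1
      rw [← hinvS s (T'.ext P)]
      have e : ∀ U : Sym σ L, U.a = (T s).a * T'.a →
          T'.ext ((T s).ext P) = U.ext P ∧ (T s).ext (T'.ext P) = U.ext P := fun U hU =>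
        ⟨Sym.ext_ext _ _ _ (by rw [hU, hT, hcomm s]) P, Sym.ext_ext _ _ _ hU P⟩
      obtain ⟨e1, e2⟩ := e ⟨(T s).a * T'.a, (T s).I * T'.I, fun l hl => T'.hL _ ((T s).hL l hl),
        (T s).hI.mul T'.hI⟩ rfl
      rw [e1, e2]
    intro P
    let lamHom : Ext σ L →* (K →* ℂˣ) :=
      MonoidHom.mk' (fun Q => (Q.lam : K →* ℂˣ)) fun _ _ => rfl
    have hprod : (∏ t : S, (T t).ext P).lam = 1 := by
      refine Subtype.ext (hfix _ ((∏ t : S, (T t).ext P).lam.2.1) fun s k => ?_)
      change lamHom (∏ t : S, (T t).ext P) (φ s k) = lamHom (∏ t : S, (T t).ext P) k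
      rw [map_prod, MonoidHom.finset_prod_apply, MonoidHom.finset_prod_apply]
      refine Fintype.prod_equiv (Equiv.mulLeft s⁻¹) _ _ fun t => ?_
      change (P.lam : K →* ℂˣ) ((T t).a.symm (φ s k)) =
        (P.lam : K →* ℂˣ) ((T (s⁻¹ * t)).a.symm k)
      rw [hT, hT, map_mul, map_inv]
      rfl
    have h1 : g P ^ Nat.card S = 1 := by
      rw [← hg1 _ hprod, map_prod, Finset.prod_congr rfl fun t _ => hgS t P, Finset.prod_const,
        Finset.card_univ, Fintype.card_eq_nat_card]
    have h2 : g P ^ Nat.card K = 1 := by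
      rw [← map_pow]
      refine hg1 _ ?_
      have h3 : P.lam ^ Nat.card K = 1 :=
        orderOf_dvd_iff_pow_eq_one.1 ((orderOf_dvd_natCard _).trans (card_twists_dvd hab))
      rw [← h3]
      exact map_pow (MonoidHom.mk' (fun Q : Ext σ L => Q.lam) fun _ _ => rfl) P _
    have h4 := orderOf_eq_one_iff.1 (Nat.eq_one_of_dvd_coprimes hcop
      (orderOf_dvd_of_pow_eq_one h2) (orderOf_dvd_of_pow_eq_one h1))
    exact div_eq_one.1 h4
  change T'.I * (scal d (r' (lift p))⁻¹ * (lift p).X) * T'.I⁻¹ = _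
  rw [scal_left, mul_assoc (scal d _), ← key, ← Sym.ext_X]
  exact hindep (by rw [Sym.ext_lam, hlift, hlift])

end CfsgLib.Char.SplitInv
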