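import Cfsg.Agent.Char.SplitTrace
import Cfsg.Agent.Char.Equivalence
import Cfsg.Agent.Char.Generalized
import Cfsg.Agent.Char.CliffordCorrespondence
import Cfsg.Agent.Char.Values
import Mathlib.LinearAlgebra.Matrix.Kronecker
import Mathlib.GroupTheory.Coset.Card
import Mathlib.LinearAlgebra.PID

/-!
# Tensor factorisation over an irreducible constituent
-/

set_option autoImplicit false
set_option linter.style.haveILetI false
set_option linter.unusedSectionVars false

namespace CfsgLib.Char.SplitInv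

open Module Representation Matrix
open scoped Kronecker

universe u v

variable {d : ℕ} {K : Type u} [Group K]

/-- An invariant irreducible character has an intertwiner. -/
theorem exists_intertw [Finite K] (σ : Representation ℂ K (Fin d → ℂ)) (a : MulAut K)
    (h : ∀ k, σ.character (a k) = σ.character k) : ∃ I, Intertw σ a I := by
  obtain ⟨e⟩ := equiv_of_character_eq σ (σ.comp a.toMonoidHom) (funext fun k => (h k).symm)
  have hu : IsUnit (LinearMap.toMatrixAlgEquiv' e.toLinearEquiv.toLinearMap) :=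
    ((Module.End.isUnit_iff _).2 e.toLinearEquiv.bijective).map LinearMap.toMatrixAlgEquiv'
  refine ⟨hu.unit, fun k => Units.ext ?_⟩
  simp only [Units.val_mul, IsUnit.unit_spec, uRep_val]
  change LinearMap.toMatrixAlgEquiv' _ * LinearMap.toMatrixAlgEquiv' _ =
    LinearMap.toMatrixAlgEquiv' _ * LinearMap.toMatrixAlgEquiv' _
  rw [← map_mul, ← map_mul]
  exact congrArg _ (e.isIntertwining' k)

theorem Intertw.unique {σ : Representation ℂ K (Fin d → ℂ)} [σ.IsIrreducible] {a : MulAut K}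
    {I I' : (Mat d)ˣ} (h : Intertw σ a I) (h' : Intertw σ a I') : ∃ z : ℂˣ, I' = scal d z * I := by
  obtain ⟨z, hz⟩ := schur_units σ (I⁻¹ * I') fun k => by
    rw [mul_assoc, h' k, ← mul_assoc, ← mul_assoc]
    congr 1
    rw [eq_inv_mul_iff_mul_eq, ← mul_assoc, h k, mul_assoc, mul_inv_cancel, mul_one]
  exact ⟨z, by rw [inv_mul_eq_iff_eq_mul] at hz; rw [hz, scal_comm]⟩

variable {n : Type} [Fintype n] [DecidableEq n]

/-- Twisting the traces of a matrix representation by a commuting idempotent gives a character. -/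
theorem isCharacter_trace_idem (π : K →* Matrix n n ℂ) (P : Matrix n n ℂ) (hP : P * P = P)
    (hc : ∀ k, P * π k = π k * P) : Cfsg.IsCharacter K fun k => (P * π k).trace := by
  let Pl : Module.End ℂ (n → ℂ) := Matrix.toLinAlgEquiv' P
  let ρ : Representation ℂ K (n → ℂ) :=
    ((Matrix.toLinAlgEquiv' : Matrix n n ℂ ≃ₐ[ℂ] Module.End ℂ (n → ℂ)) : Matrix n n ℂ →* _).comp π
  have hρ : ∀ k, ρ k = Matrix.toLinAlgEquiv' (π k) := fun k => rfl
  have hmem : ∀ k, ∀ x ∈ LinearMap.range Pl, ρ k x ∈ LinearMap.range Pl := by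
    rintro k x ⟨y, rfl⟩
    refine ⟨ρ k y, ?_⟩
    rw [hρ, ← Module.End.mul_apply, ← Module.End.mul_apply, ← map_mul, ← map_mul, hc]
  let S : Subrepresentation ρ := ⟨LinearMap.range Pl, fun k x hx => hmem k x hx⟩
  convert isCharacter_character S.toRepresentation using 1
  funext k
  have hPk : ∀ x, (Pl * ρ k) x ∈ LinearMap.range Pl := fun x => ⟨ρ k x, rfl⟩
  rw [Representation.character]
  have h1 : S.toRepresentation k = (Pl * ρ k).restrict (fun x _ => hPk x) := by
    refine LinearMap.ext fun x => Subtype.ext ?_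
    obtain ⟨y, hy⟩ := x.2
    change ρ k (x : n → ℂ) = Pl (ρ k (x : n → ℂ))
    rw [← hy, hρ, ← Module.End.mul_apply, ← Module.End.mul_apply]
    refine LinearMap.congr_fun ?_ y
    rw [← map_mul, ← map_mul]
    exact congrArg _ (by rw [← mul_assoc, hc, mul_assoc, hP])
  rw [h1, LinearMap.trace_restrict_eq_of_forall_mem _ _ hPk,
    LinearMap.trace_eq_matrix_trace ℂ (Pi.basisFun ℂ n)]
  congr 1
  rw [hρ, ← map_mul]
  exact (LinearMap.toMatrixAlgEquiv'_toLinAlgEquiv' _).symm

theorem trace_one_kronecker {m : ℕ} (X : Mat d) :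
    ((1 : Mat m) ⊗ₖ X).trace = (m : ℂ) * X.trace := by
  rw [Matrix.trace_kronecker, Matrix.trace_one, Fintype.card_fin]

/-- The matrices commuting with a multiple of an irreducible representation. -/
theorem exists_of_commute (σ : Representation ℂ K (Fin d → ℂ)) [σ.IsIrreducible] {m : ℕ}
    (X : Matrix (Fin m × Fin d) (Fin m × Fin d) ℂ)
    (hX : ∀ k, X * ((1 : Mat m) ⊗ₖ matRep σ k) = ((1 : Mat m) ⊗ₖ matRep σ k) * X) :
    ∃ A : Mat m, X = A ⊗ₖ (1 : Mat d) := by
  let B : Fin m → Fin m → Mat d := fun i j => Matrix.of fun a b => X (i, a) (j, b)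
  have hB : ∀ i j k, matRep σ k * B i j = B i j * matRep σ k := fun i j k => by
    ext a b
    have h := congrFun (congrFun (hX k) (i, a)) (j, b)
    simp only [Matrix.mul_apply, Fintype.sum_prod_type, Matrix.kronecker_apply, Matrix.one_apply,
      ite_mul, one_mul, zero_mul, mul_ite, mul_zero] at h
    simp only [Finset.sum_ite_irrel, Finset.sum_const_zero, Finset.sum_ite_eq, Finset.sum_ite_eq',
      Finset.mem_univ, if_true] at h
    simpa [Matrix.mul_apply, B] using h.symm
  refine ⟨Matrix.of fun i j => (B i j).trace / d, ?_⟩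
  ext ⟨i, a⟩ ⟨j, b⟩
  have h := congrFun (congrFun (schur σ (B i j) (hB i j)) a) b
  rw [Matrix.kronecker_apply]
  simpa [B, Matrix.smul_apply] using h

/-- Averaging along a surjection. -/
theorem sum_comp_surjective {X : Type u} {Y : Type v} [Group X] [Group Y] [Fintype X] [Fintype Y]
    (f : X →* Y) (hf : Function.Surjective f) (F : Y → ℂ) :
    (Nat.card X : ℂ)⁻¹ * ∑ x, F (f x) = (Nat.card Y : ℂ)⁻¹ * ∑ y, F y := by
  classical
  have hfib : ∀ y, (Finset.univ.filter fun x : X => f x = y).card = Nat.card f.ker := fun y => by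
    obtain ⟨x₀, rfl⟩ := hf y
    rw [← Nat.card_eq_finsetCard]
    refine Nat.card_congr ((Equiv.mulLeft x₀⁻¹).subtypeEquiv fun x => ?_)
    simp only [Finset.mem_filter, Finset.mem_univ, true_and, Equiv.coe_mulLeft]
    rw [MonoidHom.mem_ker, map_mul, map_inv, inv_mul_eq_one]
    exact eq_comm
  have hcard : (Nat.card X : ℂ) = Nat.card f.ker * Nat.card Y := by
    rw [← f.ker.card_mul_index, Subgroup.index_ker, MonoidHom.range_eq_top.2 hf, Subgroup.card_top, Nat.cast_mul]
  have hsum : ∑ x, F (f x) = (Nat.card f.ker : ℂ) * ∑ y, F y := by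
    rw [← Finset.sum_fiberwise Finset.univ f, Finset.mul_sum]
    refine Finset.sum_congr rfl fun y _ => ?_
    rw [Finset.sum_congr rfl (g := fun _ => F y) fun x hx => by rw [(Finset.mem_filter.1 hx).2],
      Finset.sum_const, hfib, nsmul_eq_mul]
  have hk : (Nat.card f.ker : ℂ) ≠ 0 := Nat.cast_ne_zero.2 Nat.card_pos.ne'
  rw [hsum, hcard]
  field_simp

variable {G : Type u} [Group G] [Finite G] {N : Subgroup G} [N.Normal]

/-- A representation over an invariant irreducible character in tensor form. -/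
theorem exists_factorisation (σ : Representation ℂ N (Fin d → ℂ)) [σ.IsIrreducible]
    (I : G → (Mat d)ˣ) (hI : ∀ g, Intertw σ (MulAut.conjNormal g) (I g)) {χ : G → ℂ}
    (hχ : Cfsg.IsCharacter G χ) (m : ℕ) (hres : ∀ k : N, χ k = (m : ℂ) * σ.character k) :
    ∃ (π : G →* Matrix (Fin m × Fin d) (Fin m × Fin d) ℂ) (A B : G → Mat m),
      (∀ g, (π g).trace = χ g) ∧ (∀ k : N, π k = (1 : Mat m) ⊗ₖ matRep σ k) ∧
      (∀ g, π g = A g ⊗ₖ (I g : Mat d)) ∧
      (∀ g, π g⁻¹ = B g ⊗ₖ (((I g)⁻¹ : (Mat d)ˣ) : Mat d)) := by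
  obtain ⟨e, ρ, rfl⟩ := hχ
  let κ : N →* Matrix (Fin m × Fin d) (Fin m × Fin d) ℂ :=
    { toFun := fun k => (1 : Mat m) ⊗ₖ matRep σ k
      map_one' := by rw [map_one, Matrix.one_kronecker_one]
      map_mul' := fun a b => by rw [← Matrix.mul_kronecker_mul, one_mul, map_mul] }
  let τ : Representation ℂ N (Fin m × Fin d → ℂ) :=
    ((Matrix.toLinAlgEquiv' : Matrix (Fin m × Fin d) (Fin m × Fin d) ℂ ≃ₐ[ℂ]
      Module.End ℂ (Fin m × Fin d → ℂ)) : _ →* _).comp κ
  have hτ : Representation.character (ρ.comp N.subtype) = τ.character := funext fun k => by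
    change ρ.character k = LinearMap.trace ℂ _ (Matrix.toLinAlgEquiv' (κ k))
    rw [LinearMap.trace_eq_matrix_trace ℂ (Pi.basisFun ℂ (Fin m × Fin d))]
    rw [show (LinearMap.toMatrix (Pi.basisFun ℂ (Fin m × Fin d)) (Pi.basisFun ℂ (Fin m × Fin d)))
      (Matrix.toLinAlgEquiv' (κ k)) = κ k from LinearMap.toMatrixAlgEquiv'_toLinAlgEquiv' _]
    change _ = ((1 : Mat m) ⊗ₖ matRep σ k).trace
    rw [trace_one_kronecker, trace_matRep, hres]
  obtain ⟨E⟩ := equiv_of_character_eq (ρ.comp N.subtype) τ hτ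
  let π : G →* Matrix (Fin m × Fin d) (Fin m × Fin d) ℂ :=
    ((LinearMap.toMatrixAlgEquiv' : Module.End ℂ (Fin m × Fin d → ℂ) ≃ₐ[ℂ]
      Matrix (Fin m × Fin d) (Fin m × Fin d) ℂ) : _ →* _).comp (conjRep ρ E.toLinearEquiv)
  have hπ : ∀ g, π g = LinearMap.toMatrixAlgEquiv' (conjRep ρ E.toLinearEquiv g) := fun g => rfl
  have hπN : ∀ k : N, π k = (1 : Mat m) ⊗ₖ matRep σ k := fun k => by
    rw [hπ, show conjRep ρ E.toLinearEquiv (k : G) = Matrix.toLinAlgEquiv' (κ k) from ?_]
    · exact LinearMap.toMatrixAlgEquiv'_toLinAlgEquiv' _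
    refine LinearMap.ext fun x => ?_
    obtain ⟨y, rfl⟩ := E.toLinearEquiv.surjective x
    rw [conjRep_apply, LinearEquiv.conj_apply, LinearMap.comp_apply, LinearMap.comp_apply,
      LinearEquiv.coe_coe, LinearEquiv.coe_coe, LinearEquiv.symm_apply_apply]
    exact LinearMap.congr_fun (E.isIntertwining' k) y
  have key : ∀ (g : G) (P Q : (Mat d)ˣ),
      Q = P⁻¹ → Intertw σ (MulAut.conjNormal g) P →
      ∃ A : Mat m, π g = A ⊗ₖ (P : Mat d) := by
    intro g P Q _ hP
    obtain ⟨A, hA⟩ := exists_of_commute σ (π g * ((1 : Mat m) ⊗ₖ ((P⁻¹ : (Mat d)ˣ) : Mat d))) fun k => by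
      obtain ⟨j, rfl⟩ := (MulAut.conjNormal (H := N) g).surjective k
      have h1 : ((P⁻¹ : (Mat d)ˣ) : Mat d) * matRep σ (MulAut.conjNormal g j) =
          matRep σ j * ((P⁻¹ : (Mat d)ˣ) : Mat d) := by
        rw [← uRep_val, ← uRep_val, ← Units.val_mul, ← Units.val_mul]
        congr 1
        rw [inv_mul_eq_iff_eq_mul, ← mul_assoc, hP j, mul_assoc, mul_inv_cancel, mul_one]
      have h2 : π g * π (j : G) = π ((MulAut.conjNormal g j : N) : G) * π g := by
        rw [← map_mul, ← map_mul, MulAut.conjNormal_apply, inv_mul_cancel_right]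
      rw [mul_assoc, ← Matrix.mul_kronecker_mul, one_mul, h1]
      rw [hπN, hπN] at h2
      rw [← mul_assoc (_ ⊗ₖ _) (π g), ← h2, mul_assoc, ← Matrix.mul_kronecker_mul, one_mul]
    refine ⟨A, ?_⟩
    have h3 := congrArg (fun M => M * ((1 : Mat m) ⊗ₖ (P : Mat d))) hA
    simp only [mul_assoc, ← Matrix.mul_kronecker_mul, one_mul, mul_one, Units.inv_mul,
      Matrix.one_kronecker_one] at h3
    exact h3
  have hA : ∀ g, ∃ A : Mat m, π g = A ⊗ₖ (I g : Mat d) := fun g => key g (I g) _ rfl (hI g)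
  have hB : ∀ g, ∃ B : Mat m, π g⁻¹ = B ⊗ₖ (((I g)⁻¹ : (Mat d)ˣ) : Mat d) := fun g => by
    refine key g⁻¹ (I g)⁻¹ _ rfl fun k => ?_
    rw [map_inv]
    obtain ⟨j, rfl⟩ := (MulAut.conjNormal (H := N) g).surjective k
    rw [inv_mul_eq_iff_eq_mul, ← mul_assoc]
    change _ = I g * uRep σ ((MulAut.conjNormal g).symm (MulAut.conjNormal g j)) * (I g)⁻¹
    rw [MulEquiv.symm_apply_apply, hI g j, mul_assoc, mul_inv_cancel, mul_one]
  choose A hA using hA
  choose B hB using hB
  refine ⟨π, A, B, fun g => ?_, hπN, hA, hB⟩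
  rw [hπ]
  change (LinearMap.toMatrix' (conjRep ρ E.toLinearEquiv g)).trace = _
  rw [← congrFun (character_conjRep ρ E.toLinearEquiv) g]
  exact (LinearMap.trace_eq_matrix_trace ℂ (Pi.basisFun ℂ (Fin m × Fin d)) _).symm

end CfsgLib.Char.SplitInv
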