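import Cfsg.Agent.Char.SplitOperator

/-!
# The splitting operator and its trace identities
-/

set_option autoImplicit false
set_option linter.style.haveILetI false
set_option linter.unusedSectionVars false

namespace CfsgLib.Char.SplitInv

open Module Representation Matrix

universe u v

variable {d : ℕ} {K : Type u} [Group K]

/-- The output of the construction. -/
structure Splitting (σ : Representation ℂ K (Fin d → ℂ)) (L : Subgroup K) [Fintype L]
    (S : Type v) [Group S] (φ : S →* MulAut K) where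
  J : Mat d
  e : Mat d
  e_sq : e * e = e
  J_sq : J * J = e
  e_J : e * J = J
  J_e : J * e = J
  commL : ∀ l ∈ L, J * matRep σ l = matRep σ l * J
  commOps : ∀ s (I : (Mat d)ˣ), Intertw σ (φ s) I → (I : Mat d) * J = J * I
  commSym : ∀ (a : MulAut K) (I : (Mat d)ˣ), Intertw σ a I → (∀ l ∈ L, a.symm l ∈ L) →
    (∀ s, a * φ s = φ s * a) → (I : Mat d) * J = J * I
  norm : ∀ (a : MulAut K) (I : (Mat d)ˣ), Intertw σ a I → (∀ l ∈ L, a.symm l ∈ L) →
    (∀ l ∈ L, a l ∈ L) → (I : Mat d) * J = J * I → (∃ n : ℕ, Odd n ∧ a ^ n = 1) →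
    ∑ l : L, (J * matRep σ l * I).trace * (((I⁻¹ : (Mat d)ˣ) : Mat d) * matRep σ (l : K)⁻¹ * J).trace
      = (Nat.card L : ℂ)
  orth : ∑ l : L, (e * matRep σ l).trace * ((1 - e) * matRep σ (l : K)⁻¹).trace = 0

/-- The trace identity over the whole group, from Schur's lemma. -/
theorem sum_trace_whole [Fintype K] (σ : Representation ℂ K (Fin d → ℂ)) [σ.IsIrreducible]
    (I : (Mat d)ˣ) :
    ∑ k : K, (matRep σ k * I).trace * (((I⁻¹ : (Mat d)ˣ) : Mat d) * matRep σ k⁻¹).trace
      = (Nat.card K : ℂ) := by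
  haveI := neZero_dim σ
  simp only [← sum_diag_single]
  rw [Finset.sum_comm, Finset.sum_congr rfl fun i _ => Finset.sum_comm]
  have key : ∀ i j : Fin d, ∑ k : K,
      (matRep σ k * (I : Mat d) * Matrix.single i j (1 : ℂ) *
        (((I⁻¹ : (Mat d)ˣ) : Mat d) * matRep σ k⁻¹)) =
      ((Nat.card K : ℂ) * (Matrix.single i j (1 : ℂ)).trace / d) • (1 : Mat d) := by
    intro i j
    let Y : Mat d := ∑ k : K, matRep σ k * (I : Mat d) * Matrix.single i j (1 : ℂ) *
        (((I⁻¹ : (Mat d)ˣ) : Mat d) * matRep σ k⁻¹)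
    have hY : ∀ g, matRep σ g * Y = Y * matRep σ g := fun g => by
      simp only [Y, Finset.mul_sum, Finset.sum_mul]
      refine Fintype.sum_equiv (Equiv.mulLeft g) _ _ fun k => ?_
      rw [Equiv.coe_mulLeft, _root_.mul_inv_rev, map_mul, map_mul]
      simp only [mul_assoc]
      rw [← map_mul (matRep σ) g⁻¹ g, inv_mul_cancel, map_one, mul_one]
    have h1 := schur σ Y hY
    have h2 : Y.trace = (Nat.card K : ℂ) * (Matrix.single i j (1 : ℂ)).trace := by
      simp only [Y, Matrix.trace_sum]
      rw [Finset.sum_congr rfl (g := fun _ => (Matrix.single i j (1 : ℂ)).trace) fun k _ => ?_]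
      · simp [Nat.card_eq_fintype_card]
      · rw [Matrix.trace_mul_comm]
        simp only [← mul_assoc]
        rw [mul_assoc _ (matRep σ k⁻¹), ← map_mul, inv_mul_cancel, map_one, mul_one, Units.inv_mul,
          one_mul]
    rw [h2] at h1
    exact h1
  calc ∑ i : Fin d, ∑ j : Fin d, ∑ k : K,
        (matRep σ k * (I : Mat d) * Matrix.single i j (1 : ℂ) *
          (((I⁻¹ : (Mat d)ˣ) : Mat d) * matRep σ k⁻¹)) i j
      = ∑ i : Fin d, ∑ j : Fin d, (Nat.card K : ℂ) * (Matrix.single i j (1 : ℂ)).trace / d *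
          (1 : Mat d) i j := by
        refine Finset.sum_congr rfl fun i _ => Finset.sum_congr rfl fun j _ => ?_
        rw [← Matrix.sum_apply, key i j, Matrix.smul_apply, smul_eq_mul]
    _ = ∑ _i : Fin d, (Nat.card K : ℂ) / d := by
        refine Finset.sum_congr rfl fun i _ => ?_
        rw [Finset.sum_eq_single i (fun j _ hj => by simp [Matrix.one_apply_ne (Ne.symm hj)])
          (by simp)]
        simp [Matrix.trace_single_eq_same]
    _ = _ := by
        rw [Finset.sum_const, Finset.card_univ, Fintype.card_fin, nsmul_eq_mul,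
          mul_div_cancel₀ _ (by exact_mod_cast NeZero.ne d)]

variable [Fintype K] {σ : Representation ℂ K (Fin d → ℂ)} [σ.IsIrreducible] {L : Subgroup K}
  [L.Normal]

theorem Twist.commute_of_mem {lam : K →* ℂˣ} {X : (Mat d)ˣ} (h : Twist σ lam X)
    {l : K} (hl : lam l = 1) : (X : Mat d) * matRep σ l = matRep σ l * X := by
  have h1 := congrArg Units.val (h l)
  rw [hl, map_one, one_mul] at h1
  exact h1.symm

/-- An operator commuting with the normal subgroup is a combination of twisting operators. -/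
theorem mem_span_twists (hab : ∀ a b : K, a * b * a⁻¹ * b⁻¹ ∈ L)
    (u : twists σ L → (Mat d)ˣ) (hu : ∀ p : twists σ L, Twist σ (p : K →* ℂˣ) (u p)) (M : Mat d)
    (hM : ∀ l ∈ L, M * matRep σ l = matRep σ l * M) :
    M ∈ Submodule.span ℂ (Set.range fun p => (u p : Mat d)) := by
  classical
  haveI := finite_dual L hab
  letI := Fintype.ofFinite (dual L)
  haveI : NeZero d := neZero_dim σ
  let P : dual L → Mat d := fun lam =>
    ∑ k : K, ((lam : K →* ℂˣ) k⁻¹ : ℂ) • (matRep σ k * M * matRep σ k⁻¹)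
  have hsum : ∑ lam, P lam = ((Nat.card (dual L) : ℂ) * Nat.card L) • M := by
    simp only [P]
    rw [Finset.sum_comm]
    simp only [← Finset.sum_smul]
    rw [Finset.sum_congr rfl (g := fun k => if k ∈ L then (Nat.card (dual L) : ℂ) • M else 0)
      fun k _ => ?_, ← Finset.sum_filter, Finset.sum_const, ← Nat.cast_smul_eq_nsmul ℂ, smul_smul,
      mul_comm]
    · congr 3
      rw [Nat.card_eq_fintype_card, Fintype.card_of_subtype]
      simp
    by_cases hk : k ∈ L
    · rw [if_pos hk, Finset.sum_congr rfl (g := fun _ => (1 : ℂ)) fun lam _ => by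
        rw [lam.2 _ (L.inv_mem hk), Units.val_one],
        Finset.sum_const, Finset.card_univ, nsmul_eq_mul, mul_one, ← Nat.card_eq_fintype_card,
        ← hM k hk, mul_assoc, ← map_mul, mul_inv_cancel, map_one, mul_one]
    · obtain ⟨l₀, hl₀, hne⟩ := (card_dual L hab).2 k⁻¹ (fun h => hk (inv_mem_iff.1 h))
      have h0 := sum_hom_eq_zero
        ((MonoidHom.eval k⁻¹).comp (dual L).subtype : dual L →* ℂˣ) (a := ⟨l₀, hl₀⟩) hne
      rw [if_neg hk]
      simp only [MonoidHom.comp_apply, MonoidHom.eval_apply_apply, Subgroup.coe_subtype] at h0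
      rw [h0, zero_smul]
  have hc : ((Nat.card (dual L) : ℂ) * Nat.card L) ≠ 0 :=
    mul_ne_zero (Nat.cast_ne_zero.2 Nat.card_pos.ne') (Nat.cast_ne_zero.2 Nat.card_pos.ne')
  rw [← inv_smul_smul₀ hc M, ← hsum]
  refine Submodule.smul_mem _ _ (Submodule.sum_mem _ fun lam _ => ?_)
  by_cases h0 : P lam = 0
  · rw [h0]; exact Submodule.zero_mem _
  have htw : ∀ g, matRep σ g * P lam = ((lam : K →* ℂˣ) g : ℂ) • (P lam * matRep σ g) := fun g => by
    simp only [P, Finset.mul_sum, Finset.sum_mul, Finset.smul_sum]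
    refine Fintype.sum_equiv (Equiv.mulLeft g) _ _ fun k => ?_
    simp only [Equiv.coe_mulLeft, mul_smul_comm, smul_mul_assoc, smul_smul, _root_.mul_inv_rev,
      map_mul, Units.val_mul, mul_assoc]
    congr 1
    · rw [mul_left_comm, ← Units.val_mul, map_inv (lam : K →* ℂˣ) g, mul_inv_cancel, Units.val_one,
        mul_one]
    · rw [← map_mul (matRep σ) g⁻¹ g, inv_mul_cancel, map_one, mul_one]
  obtain ⟨X, hX⟩ := isUnit_of_twist σ (P lam) h0 _ htw
  have hXt : Twist σ (lam : K →* ℂˣ) X := fun k => Units.ext (by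
    rw [scal_mul_val, Units.val_mul, Units.val_mul, hX, uRep_val]
    exact htw k)
  let p : twists σ L := ⟨lam, lam.2, X, hXt⟩
  obtain ⟨z, hz⟩ := (hu p).unique hXt
  rw [← hX, hz, scal_mul_val]
  exact Submodule.smul_mem _ _ (Submodule.subset_span ⟨p, rfl⟩)

theorem trace_inv_mul [DecidableEq (twists σ L)] (u : twists σ L → (Mat d)ˣ) (hu : ∀ p : twists σ L, Twist σ (p : K →* ℂˣ) (u p))
    (p q : twists σ L) :
    ((((u p)⁻¹ : (Mat d)ˣ) : Mat d) * (u q : Mat d)).trace = if p = q then (d : ℂ) else 0 := by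
  by_cases h : p = q
  · subst h
    simp
  · rw [if_neg h, ← Units.val_mul]
    refine ((hu p).inv.mul (hu q)).trace_eq_zero fun h1 => h ?_
    exact Subtype.ext (eq_of_inv_mul_eq_one h1)

theorem eq_sum_twists [Fintype (twists σ L)] (hab : ∀ a b : K, a * b * a⁻¹ * b⁻¹ ∈ L)
    (u : twists σ L → (Mat d)ˣ) (hu : ∀ p : twists σ L, Twist σ (p : K →* ℂˣ) (u p)) (M : Mat d)
    (hM : ∀ l ∈ L, M * matRep σ l = matRep σ l * M) :
    M = ∑ p, (((((u p)⁻¹ : (Mat d)ˣ) : Mat d) * M).trace / d) • (u p : Mat d) := by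
  classical
  haveI := neZero_dim σ
  obtain ⟨c, hc⟩ := Submodule.mem_span_range_iff_exists_fun ℂ |>.1 (mem_span_twists hab u hu M hM)
  conv_lhs => rw [← hc]
  refine Finset.sum_congr rfl fun p _ => ?_
  congr 1
  rw [← hc, Finset.mul_sum, Matrix.trace_sum, Finset.sum_eq_single p]
  · rw [mul_smul_comm, Matrix.trace_smul, trace_inv_mul u hu, if_pos rfl, smul_eq_mul,
      mul_div_assoc, div_self (by exact_mod_cast NeZero.ne d), mul_one]
  · intro q _ hq
    rw [mul_smul_comm, Matrix.trace_smul, trace_inv_mul u hu, if_neg (Ne.symm hq), smul_zero]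
  · simp

/-- The splitting exists. -/
theorem exists_splitting [Fintype L] {S : Type v} [Group S] [Fintype S]
    (hab : ∀ a b : K, a * b * a⁻¹ * b⁻¹ ∈ L) (hodd : Odd (Nat.card K))
    (hcop : (Nat.card K).Coprime (Nat.card S)) (hd : d ∣ Nat.card K) (φ : S →* MulAut K)
    (hSL : ∀ s, ∀ l ∈ L, φ s l ∈ L) (hI : ∀ s, ∃ I, Intertw σ (φ s) I)
    (hfix : ∀ lam ∈ dual L, (∀ s k, lam (φ s k) = lam k) → lam = 1) :
    Nonempty (Splitting σ L S φ) := by
  classical
  haveI := neZero_dim σ
  have hdodd : Odd d := hodd.of_dvd_nat hd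
  haveI := finite_twists (σ := σ) hab
  letI := Fintype.ofFinite (twists σ L)
  choose IS hIS using hI
  let T : S → Sym σ L := fun s => ⟨φ s, IS s, fun l hl => by
    have h := hSL s⁻¹ l hl
    rwa [map_inv] at h, hIS s⟩
  obtain ⟨u, hu, humul, hueq⟩ :=
    exists_normalised hab hodd hcop hd φ T (fun _ => rfl) hfix
  have hmul : ∀ p q, (u p : Mat d) * u q = (half σ L p q : ℂ) • (u (p * q) : Mat d) := fun p q => by
    rw [← Units.val_mul, humul, scal_mul_val]
  have hu1 : u 1 = 1 := by
    have h := humul 1 1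
    rw [half_one_left, map_one, one_mul, mul_one] at h
    exact mul_eq_left.1 h
  -- the radical
  let R : Subgroup (twists σ L) :=
    { carrier := {q | ∀ p, half σ L p q = 1}
      one_mem' := fun p => half_one_right σ L p
      mul_mem' := fun ha hb p => by rw [half_mul_right, ha p, hb p, one_mul]
      inv_mem' := fun {a} ha p => by
        have h := half_mul_right σ L p a a⁻¹
        rw [mul_inv_cancel, half_one_right, ha p, one_mul] at h
        exact h.symm }
  have hR : ∀ q, q ∈ R ↔ ∀ p, half σ L p q = 1 := fun q => Iff.rfl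
  have hsumhalf : ∀ q, ∑ p, (half σ L p q : ℂ) = if q ∈ R then (Nat.card (twists σ L) : ℂ) else 0 := by
    intro q
    by_cases hq : q ∈ R
    · rw [if_pos hq, Finset.sum_congr rfl (g := fun _ => (1 : ℂ)) fun p _ => by
        rw [(hR q).1 hq p, Units.val_one]]
      simp [Nat.card_eq_fintype_card]
    · obtain ⟨p₀, hp₀⟩ := not_forall.1 (mt (hR q).2 hq)
      rw [if_neg hq]
      exact sum_hom_eq_zero (MonoidHom.mk' (fun p => half σ L p q) fun a b => half_mul_left σ L a b q)
        hp₀
  let U : Mat d := ∑ p, (u p : Mat d)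
  let E : Mat d := ∑ p, if p ∈ R then (u p : Mat d) else 0
  have hRU : ∀ q ∈ R, U * (u q : Mat d) = U ∧ (u q : Mat d) * U = U := fun q hq => by
    have h1 : ∀ p, half σ L q p = 1 := fun p => by rw [half_swap, (hR q).1 hq p, inv_one]
    simp only [U, Finset.sum_mul, Finset.mul_sum, hmul, (hR q).1 hq, h1, Units.val_one, one_smul]
    exact ⟨Fintype.sum_equiv (Equiv.mulRight q) _ _ fun _ => rfl,
      Fintype.sum_equiv (Equiv.mulLeft q) _ _ fun _ => rfl⟩
  have hUneg : ∀ q, U * (u q : Mat d) = (u q⁻¹ : Mat d) * U := fun q => by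
    simp only [U, Finset.sum_mul, Finset.mul_sum, hmul]
    refine Fintype.sum_equiv (Equiv.mulRight (q * q)) _ _ fun p => ?_
    rw [Equiv.coe_mulRight]
    congr 2
    · rw [half_inv_left, half_mul_right, half_mul_right, half_self, mul_one, mul_one, half_swap σ L p q,
        inv_inv]
    · beta_reduce
      rw [mul_comm p (q * q), ← mul_assoc, ← mul_assoc, inv_mul_cancel, one_mul, mul_comm]
  have hUU : U * U = (Nat.card (twists σ L) : ℂ) • E := by
    simp only [U, Finset.sum_mul, E, Finset.smul_sum]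
    rw [Finset.sum_congr rfl (g := fun p => ∑ r, (half σ L p r : ℂ) • (u r : Mat d)) fun p _ => ?_,
      Finset.sum_comm]
    · refine Finset.sum_congr rfl fun r _ => ?_
      rw [← Finset.sum_smul, hsumhalf]
      split_ifs <;> simp
    · rw [Finset.mul_sum]
      refine Fintype.sum_equiv (Equiv.mulLeft p) _ _ fun q => ?_
      rw [hmul, Equiv.coe_mulLeft, half_mul_right, half_self, one_mul]
  have hNR : (Nat.card R : ℂ) ≠ 0 := Nat.cast_ne_zero.2 Nat.card_pos.ne'
  have hNT : (Nat.card (twists σ L) : ℂ) ≠ 0 := Nat.cast_ne_zero.2 Nat.card_pos.ne'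
  have hcardR : (Finset.univ.filter fun p => p ∈ R).card = Nat.card R := by
    rw [Nat.card_eq_fintype_card, Fintype.card_of_subtype]
    simp
  have hEU : E * U = (Nat.card R : ℂ) • U ∧ U * E = (Nat.card R : ℂ) • U := by
    constructor
    · simp only [E, Finset.sum_mul, ite_mul, zero_mul]
      rw [← Finset.sum_filter, Finset.sum_congr rfl fun q hq => (hRU q (Finset.mem_filter.1 hq).2).2,
        Finset.sum_const, hcardR, Nat.cast_smul_eq_nsmul]
    · simp only [E, Finset.mul_sum, mul_ite, mul_zero]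
      rw [← Finset.sum_filter, Finset.sum_congr rfl fun q hq => (hRU q (Finset.mem_filter.1 hq).2).1,
        Finset.sum_const, hcardR, Nat.cast_smul_eq_nsmul]
  obtain ⟨c, hc⟩ := IsAlgClosed.exists_eq_mul_self
    ((Nat.card (twists σ L) : ℂ) * Nat.card R)⁻¹
  let J : Mat d := c • U
  let e : Mat d := (Nat.card R : ℂ)⁻¹ • E
  have hJJ : J * J = e := by
    simp only [J, e, smul_mul_assoc, mul_smul_comm, smul_smul, hUU]
    rw [← mul_assoc, ← hc]
    congr 1
    field_simp
  have heJ : e * J = J := by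
    simp only [J, e, smul_mul_assoc, mul_smul_comm, smul_smul, hEU.1]
    rw [inv_mul_cancel₀ hNR, mul_one]
  have hJe : J * e = J := by
    simp only [J, e, smul_mul_assoc, mul_smul_comm, smul_smul, hEU.2]
    rw [mul_left_comm, inv_mul_cancel₀ hNR, mul_one]
  have hee : e * e = e := by
    nth_rw 2 [← hJJ]
    rw [← mul_assoc, heJ, hJJ]
  have hcU : ∀ l ∈ L, U * matRep σ l = matRep σ l * U := fun l hl => by
    simp only [U, Finset.sum_mul, Finset.mul_sum]
    exact Finset.sum_congr rfl fun p _ => (hu p).commute_of_mem (p.2.1 l hl)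
  have hJL : ∀ l ∈ L, J * matRep σ l = matRep σ l * J := fun l hl => by
    simp only [J, smul_mul_assoc, mul_smul_comm, hcU l hl]
  have heL : ∀ l ∈ L, e * matRep σ l = matRep σ l * e := fun l hl => by
    rw [← hJJ, mul_assoc, hJL l hl, ← mul_assoc, hJL l hl, mul_assoc]
  have hsym : ∀ T' : Sym σ L, ((∃ s, T' = T s) ∨ ∀ s, T'.a * φ s = φ s * T'.a) →
      (T'.I : Mat d) * J = J * T'.I := fun T' hT' => by
    simp only [J, mul_smul_comm, smul_mul_assoc]
    congr 1
    simp only [U, Finset.mul_sum, Finset.sum_mul]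
    refine Fintype.sum_bijective T'.act (Finite.injective_iff_bijective.1 fun p q hpq => ?_) _ _
      fun p => ?_
    · refine Subtype.ext (MonoidHom.ext fun k => ?_)
      have h := DFunLike.congr_fun (congrArg Subtype.val hpq) (T'.a k)
      simpa [Sym.act] using h
    · rw [← Units.val_mul, ← Units.val_mul, ← hueq T' hT' p, inv_mul_cancel_right]
  -- combinations
  have hcoef : ∀ M : Mat d, (∀ l ∈ L, M * matRep σ l = matRep σ l * M) →
      M = ∑ p, (((((u p)⁻¹ : (Mat d)ˣ) : Mat d) * M).trace / d) • (u p : Mat d) :=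
    fun M hM => eq_sum_twists hab u hu M hM
  have hpcomm : ∀ q ∈ R, ∀ p, (u q : Mat d) * u p = (u p : Mat d) * u q := fun q hq p => by
    rw [hmul, hmul, half_swap, (hR q).1 hq p, inv_one, mul_comm q p]
  have heu : ∀ p, e * (u p : Mat d) = (u p : Mat d) * e := fun p => by
    simp only [e, E, smul_mul_assoc, mul_smul_comm, Finset.sum_mul, Finset.mul_sum]
    congr 1
    refine Finset.sum_congr rfl fun q _ => ?_
    split_ifs with hq
    · exact hpcomm q hq p
    · simp
  have heE : ∀ M : Mat d, (∀ l ∈ L, M * matRep σ l = matRep σ l * M) → e * M = M * e := fun M hM => by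
    rw [hcoef M hM, Finset.mul_sum, Finset.sum_mul]
    exact Finset.sum_congr rfl fun p _ =>
      (mul_smul_comm _ e _).trans ((congrArg _ (heu p)).trans (smul_mul_assoc _ _ e).symm)
  have havg : ∀ Y : Mat d, ∀ g ∈ L,
      (∑ l : L, matRep σ l * Y * matRep σ (l : K)⁻¹) * matRep σ g =
        matRep σ g * ∑ l : L, matRep σ l * Y * matRep σ (l : K)⁻¹ := fun Y g hg => by
    simp only [Finset.mul_sum, Finset.sum_mul]
    refine (Fintype.sum_equiv (Equiv.mulLeft (⟨g, hg⟩ : L)) _ _ fun l => ?_).symm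
    simp only [Equiv.coe_mulLeft, Subgroup.coe_mul, _root_.mul_inv_rev, map_mul, mul_assoc]
    rw [← map_mul (matRep σ) g⁻¹ g, inv_mul_cancel, map_one, mul_one]
  refine ⟨⟨J, e, hee, hJJ, heJ, hJe, hJL, ?_, ?_, ?_, ?_⟩⟩
  · intro s I hI'
    have h := hsym (T s) (Or.inl ⟨s, rfl⟩)
    obtain ⟨z, hz⟩ := schur_units σ ((IS s)⁻¹ * I) fun k => by
      rw [mul_assoc, hI' k, ← mul_assoc, ← mul_assoc]
      congr 1
      rw [eq_inv_mul_iff_mul_eq, ← mul_assoc, hIS s k, mul_assoc, mul_inv_cancel, mul_one]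
    rw [inv_mul_eq_iff_eq_mul, ← scal_comm] at hz
    rw [hz, scal_mul_val]
    calc ((z : ℂ) • (IS s : Mat d)) * J = (z : ℂ) • ((IS s : Mat d) * J) := smul_mul_assoc _ _ _
      _ = (z : ℂ) • (J * (IS s : Mat d)) := congrArg (fun X => (z : ℂ) • X) h
      _ = J * ((z : ℂ) • (IS s : Mat d)) := (mul_smul_comm _ _ _).symm
  · intro a I hI' hL' hcomm
    exact hsym ⟨a, I, hL', hI'⟩ (Or.inr hcomm)
  · intro a I hI' hL' hL'' hIJ ⟨n, hn, han⟩
    -- the operator whose trace is computed
    let M : Mat d → Mat d := fun X =>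
      ∑ l : L, matRep σ l * (J * I * X * ((I⁻¹ : (Mat d)ˣ) : Mat d) * J) * matRep σ (l : K)⁻¹
    have hI0J : ((I⁻¹ : (Mat d)ˣ) : Mat d) * J = J * ((I⁻¹ : (Mat d)ˣ) : Mat d) :=
      (Units.inv_mul_eq_iff_eq_mul I).2 (by rw [← mul_assoc, hIJ, mul_assoc, Units.mul_inv, mul_one])
    have hterm : ∀ l : L,
        (J * matRep σ l * I).trace * (((I⁻¹ : (Mat d)ˣ) : Mat d) * matRep σ (l : K)⁻¹ * J).trace =
        ∑ i : Fin d, ∑ j : Fin d, (matRep σ l * (J * I * Matrix.single i j (1 : ℂ) *
          ((I⁻¹ : (Mat d)ˣ) : Mat d) * J) * matRep σ (l : K)⁻¹) i j := fun l => by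
      rw [← sum_diag_single]
      refine Finset.sum_congr rfl fun i _ => Finset.sum_congr rfl fun j _ => ?_
      congr 2
      rw [hJL l l.2, mul_assoc (((I⁻¹ : (Mat d)ˣ) : Mat d)), ← hJL _ (L.inv_mem l.2)]
      simp only [mul_assoc]
    rw [Finset.sum_congr rfl fun l _ => hterm l, Finset.sum_comm,
      Finset.sum_congr rfl fun i _ => Finset.sum_comm]
    have hMlin : ∀ (c : Fin d → Fin d → ℂ),
        M (∑ i, ∑ j, c i j • Matrix.single i j (1 : ℂ)) =
          ∑ i, ∑ j, c i j • M (Matrix.single i j (1 : ℂ)) := fun c => by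
      simp only [M, Finset.mul_sum, Finset.sum_mul, mul_smul_comm, smul_mul_assoc, Finset.smul_sum]
      rw [Finset.sum_comm]
      exact Finset.sum_congr rfl fun i _ => Finset.sum_comm
    calc ∑ i : Fin d, ∑ j : Fin d, ∑ l : L, (matRep σ l * (J * I * Matrix.single i j (1 : ℂ) *
            ((I⁻¹ : (Mat d)ˣ) : Mat d) * J) * matRep σ (l : K)⁻¹) i j
        = ∑ i : Fin d, ∑ j : Fin d, (M (Matrix.single i j (1 : ℂ))) i j := by
          simp only [M, Matrix.sum_apply]
      _ = ∑ p, ((((u p)⁻¹ : (Mat d)ˣ) : Mat d) * M (u p : Mat d)).trace / d := by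
          have h1 : ∀ i j : Fin d, (M (Matrix.single i j (1 : ℂ))) i j =
              ∑ p, ((((u p)⁻¹ : (Mat d)ˣ) : Mat d) * M (Matrix.single i j (1 : ℂ))).trace / d *
                (u p : Mat d) i j := fun i j => by
            conv_lhs => rw [hcoef (M (Matrix.single i j (1 : ℂ))) (havg _)]
            simp only [Matrix.sum_apply, Matrix.smul_apply, smul_eq_mul]
          simp only [h1]
          rw [Finset.sum_congr rfl fun i _ => Finset.sum_comm, Finset.sum_comm]
          refine Finset.sum_congr rfl fun p _ => ?_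
          conv_rhs => rw [eq_sum_single (u p : Mat d)]
          rw [hMlin (fun i j => (u p : Mat d) i j)]
          simp only [Finset.mul_sum, mul_smul_comm, Matrix.trace_sum, Matrix.trace_smul, smul_eq_mul,
            Finset.sum_div]
          exact Finset.sum_congr rfl fun i _ => Finset.sum_congr rfl fun j _ => by ring
      _ = ∑ p, if p ∈ R then (Nat.card L : ℂ) / Nat.card R else 0 := ?_
      _ = (Nat.card L : ℂ) := by
          rw [← Finset.sum_filter, Finset.sum_const, hcardR, nsmul_eq_mul, mul_div_cancel₀ _ hNR]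
    refine Finset.sum_congr rfl fun p _ => ?_
    let T' : Sym σ L := ⟨a, I, hL', hI'⟩
    have htw := (hu p).conj hI'
    obtain ⟨z, hz⟩ := (hu (T'.act p)).unique htw
    have hZ : (I : Mat d) * (u p : Mat d) * ((I⁻¹ : (Mat d)ˣ) : Mat d) =
        (z : ℂ) • (u (T'.act p) : Mat d) := by
      rw [← Units.val_mul, ← Units.val_mul, hz, scal_mul_val]
    have hMp : M (u p) = (Nat.card L : ℂ) •
        (J * ((I : Mat d) * (u p : Mat d) * ((I⁻¹ : (Mat d)ˣ) : Mat d)) * J) := by
      simp only [M]
      rw [Finset.sum_congr rfl (g := fun _ =>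
        J * ((I : Mat d) * (u p : Mat d) * ((I⁻¹ : (Mat d)ˣ) : Mat d)) * J) fun l _ => ?_,
        Finset.sum_const, ← Nat.cast_smul_eq_nsmul ℂ, Finset.card_univ, Nat.card_eq_fintype_card]
      have hq : (u (T'.act p) : Mat d) * matRep σ (l : K) = matRep σ (l : K) * (u (T'.act p) : Mat d) :=
        (hu _).commute_of_mem ((T'.act p).2.1 _ l.2)
      have hc : J * (u (T'.act p) : Mat d) * J * matRep σ (l : K) =
          matRep σ (l : K) * (J * (u (T'.act p) : Mat d) * J) := by
        rw [mul_assoc, hJL l l.2, ← mul_assoc, mul_assoc J, hq, ← mul_assoc, hJL l l.2]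
        simp only [mul_assoc]
      rw [show J * (I : Mat d) * (u p : Mat d) * ((I⁻¹ : (Mat d)ˣ) : Mat d) * J =
        J * ((I : Mat d) * (u p : Mat d) * ((I⁻¹ : (Mat d)ˣ) : Mat d)) * J by simp only [mul_assoc],
        hZ, mul_smul_comm (z : ℂ) J, smul_mul_assoc (z : ℂ) (J * _) J, mul_smul_comm (z : ℂ) (matRep σ (l : K)),
        smul_mul_assoc (z : ℂ) _ (matRep σ (l : K)⁻¹), ← hc, mul_assoc,
        ← map_mul, mul_inv_cancel, map_one, mul_one]
    by_cases hp : p ∈ R
    · rw [if_pos hp, hMp]
      have h1 : J * ((I : Mat d) * (u p : Mat d) * ((I⁻¹ : (Mat d)ˣ) : Mat d)) * J = e := by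
        have h2 : J * (u p : Mat d) = J := by simp only [J, smul_mul_assoc, (hRU p hp).1]
        rw [← mul_assoc, ← mul_assoc, ← hIJ, mul_assoc (I : Mat d), h2, mul_assoc, hI0J, ← mul_assoc,
          mul_assoc (I : Mat d), hJJ, ← hJJ, ← mul_assoc, hIJ, mul_assoc J, hIJ, ← mul_assoc, mul_assoc,
          Units.mul_inv, mul_one]
      rw [h1, mul_smul_comm, Matrix.trace_smul, smul_eq_mul]
      simp only [e, mul_smul_comm, Matrix.trace_smul, smul_eq_mul, E, Finset.mul_sum, mul_ite,
        mul_zero, Matrix.trace_sum, apply_ite Matrix.trace, Matrix.trace_zero, trace_inv_mul u hu]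
      rw [Finset.sum_eq_single p (fun q _ hq => by simp [Ne.symm hq]) (by simp), if_pos hp,
        if_pos rfl]
      field_simp
      exact div_self (Nat.cast_ne_zero.2 (NeZero.ne d))
    · rw [if_neg hp, hMp, hZ]
      simp only [mul_smul_comm, smul_mul_assoc, Matrix.trace_smul, smul_eq_mul]
      suffices ((((u p)⁻¹ : (Mat d)ˣ) : Mat d) * (J * (u (T'.act p) : Mat d) * J)).trace = 0 by
        rw [this]; simp
      have h1 : J * (u (T'.act p) : Mat d) * J = (u (T'.act p)⁻¹ : Mat d) * e := by
        have h2 : J * (u (T'.act p) : Mat d) = (u (T'.act p)⁻¹ : Mat d) * J := by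
          simp only [J, smul_mul_assoc, mul_smul_comm, hUneg]
        rw [h2, mul_assoc, hJJ]
      rw [h1]
      simp only [e, E, mul_smul_comm, Finset.mul_sum, mul_ite, mul_zero, Matrix.trace_smul,
        Matrix.trace_sum, apply_ite Matrix.trace, Matrix.trace_zero, hmul, trace_inv_mul u hu]
      rw [Finset.sum_eq_zero fun q _ => ?_, smul_zero]
      split_ifs with hq hqp
      · exfalso
        apply hp
        -- `p * a p` is in the radical, so `p` is
        have hpq : p * T'.act p ∈ R := by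
          rw [mul_comm, eq_inv_mul_iff_mul_eq.1 hqp]; exact hq
        have hRst : ∀ q, q ∈ R ↔ T'.act q ∈ R := by
          have hbij : Function.Bijective T'.act :=
            Finite.injective_iff_bijective.1 fun x y hxy => by
              refine Subtype.ext (MonoidHom.ext fun k => ?_)
              have h := DFunLike.congr_fun (congrArg Subtype.val hxy) (T'.a k)
              simpa [Sym.act] using h
          intro q
          rw [hR, hR]
          refine ⟨fun h r => ?_, fun h r => by rw [← T'.half_act]; exact h _⟩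
          obtain ⟨r', rfl⟩ := hbij.2 r
          rw [T'.half_act]; exact h r'
        let ψ : twists σ L →* twists σ L := MonoidHom.mk' T'.act T'.act_mul
        let π := QuotientGroup.mk' R
        have hπ : π (ψ p) = (π p)⁻¹ := by
          rw [eq_inv_iff_mul_eq_one, ← map_mul, mul_comm]
          exact (QuotientGroup.eq_one_iff _).2 hpq
        have hπψ : ∀ x y, π x = π y → π (ψ x) = π (ψ y) := fun x y h => by
          rw [QuotientGroup.mk'_apply, QuotientGroup.mk'_apply, QuotientGroup.eq] at h ⊢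
          rw [← map_inv, ← map_mul]
          exact (hRst _).1 h
        have hiter : ∀ j, π (ψ^[j] p) = if Even j then π p else (π p)⁻¹ := by
          intro j
          induction j with
          | zero => simp
          | succ j ih =>
            rw [Function.iterate_succ_apply']
            by_cases hj : Even j
            · rw [if_pos hj] at ih
              rw [if_neg (by simp [Nat.even_add_one, hj]), hπψ _ _ ih, hπ]
            · rw [if_neg hj, ← map_inv] at ih
              rw [if_pos (by simp [Nat.even_add_one, hj]), hπψ _ _ ih, map_inv, map_inv, hπ, inv_inv]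
        have hact : ∀ j, ((ψ^[j] p : twists σ L) : K →* ℂˣ) =
            (p : K →* ℂˣ).comp ((a ^ j).symm : K ≃* K).toMonoidHom := by
          intro j
          induction j with
          | zero =>
            rw [pow_zero]
            rfl
          | succ j ih =>
            rw [Function.iterate_succ_apply']
            refine MonoidHom.ext fun k => ?_
            change ((ψ^[j] p : twists σ L) : K →* ℂˣ) (a.symm k) = _
            rw [ih, pow_succ']
            rfl
        have hfixp : ψ^[n] p = p := Subtype.ext (by rw [hact n, han]; ext; rfl)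
        have h2 := hiter n
        rw [hfixp, if_neg (Nat.not_even_iff_odd.2 hn)] at h2
        have h3 : π p ^ 2 = 1 := by rw [sq]; nth_rw 2 [h2]; rw [mul_inv_cancel]
        have h4 : π p ^ Nat.card (twists σ L) = 1 := by
          rw [← map_pow, pow_card_eq_one', map_one]
        obtain ⟨t, ht⟩ := hodd.of_dvd_nat (card_twists_dvd (σ := σ) hab)
        rw [ht, pow_succ, pow_mul, h3, one_pow, one_mul] at h4
        exact (QuotientGroup.eq_one_iff p).1 h4
      · simp
      · rfl
  · -- the two blocks are orthogonal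
    have hterm : ∀ l : L, (e * matRep σ l).trace * ((1 - e) * matRep σ (l : K)⁻¹).trace =
        ∑ i : Fin d, ∑ j : Fin d,
          (matRep σ l * (e * Matrix.single i j (1 : ℂ) * (1 - e)) * matRep σ (l : K)⁻¹) i j := fun l => by
      rw [← sum_diag_single]
      refine Finset.sum_congr rfl fun i _ => Finset.sum_congr rfl fun j _ => ?_
      rw [heL l l.2]
      simp only [mul_assoc]
    rw [Finset.sum_congr rfl fun l _ => hterm l, Finset.sum_comm]
    refine Finset.sum_eq_zero fun i _ => ?_
    rw [Finset.sum_comm]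
    refine Finset.sum_eq_zero fun j _ => ?_
    rw [← Matrix.sum_apply]
    have h1 : ∑ l : L, matRep σ l * (e * Matrix.single i j (1 : ℂ) * (1 - e)) * matRep σ (l : K)⁻¹ =
        e * (∑ l : L, matRep σ l * Matrix.single i j (1 : ℂ) * matRep σ (l : K)⁻¹) * (1 - e) := by
      have h1e : ∀ l ∈ L, (1 - e) * matRep σ l = matRep σ l * (1 - e) := fun l hl => by
        rw [sub_mul, mul_sub, one_mul, mul_one, heL l hl]
      simp only [Finset.mul_sum, Finset.sum_mul]
      refine Finset.sum_congr rfl fun l _ => ?_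
      simp only [← mul_assoc]
      rw [← heL l l.2]
      simp only [mul_assoc]
      rw [h1e _ (L.inv_mem l.2)]
    rw [h1, heE _ (havg _), mul_assoc, mul_sub, mul_one, hee, sub_self, mul_zero, Matrix.zero_apply]

end CfsgLib.Char.SplitInv
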