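import Cfsg.Agent.Char.ThreeDegrees
import Cfsg.Agent.Char.Garrison
import Cfsg.Agent.Solvable.Fitting
import Mathlib.GroupTheory.SpecificGroups.Cyclic
import Mathlib.Algebra.Squarefree.Basic

/-!
# Squarefree character degrees: solvable groups have derived length at most four

The quotient by the Fitting subgroup has squarefree cyclic Fitting subgroup, as a regular orbit on
linear characters shows; so it is metabelian, and so is the Fitting subgroup.
-/

set_option autoImplicit false
set_option linter.style.haveILetI false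
set_option linter.unusedSectionVars false

namespace CfsgLib.Char.SqfreeDeg

open scoped commutatorElement ComplexConjugate
open CfsgLib.Char.DegreesPrime (act act_apply act_eq_iff exists_over index_inertia_dvd)

universe u

/-- All irreducible degrees are squarefree. -/
def Sqfree (G : Type u) [Group G] : Prop :=
  ∀ f : G → ℂ, Cfsg.IsIrrCharacter G f → ∀ m : ℕ, f 1 = m → Squarefree m

/-- Hall's nilpotency criterion. -/
theorem nilpotent_of_quotient {X : Type u} [Group X] [Finite X] (F : Subgroup X) [F.Normal]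
    [Group.IsNilpotent F] (h : Group.IsNilpotent (X ⧸ ⁅F, F⁆)) : Group.IsNilpotent X := by
  refine ((Group.isNilpotent_of_finite_tfae (G := X)).out 0 2 rfl rfl).2 fun M hM => ?_
  by_cases hD : ⁅F, F⁆ ≤ M
  · set π := QuotientGroup.mk' ⁅F, F⁆
    have hπ : Function.Surjective π := QuotientGroup.mk'_surjective _
    have hMe : (M.map π).comap π = M := by
      rw [Subgroup.comap_map_eq, QuotientGroup.ker_mk', sup_eq_left.2 hD]
    have hco : IsCoatom (M.map π) := by
      refine ⟨fun h => hM.1 (by rw [← hMe, h, Subgroup.comap_top]), fun B hB => ?_⟩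
      have hlt : M < B.comap π := by
        rw [← hMe]
        exact (Subgroup.comap_lt_comap_of_surjective hπ).2 hB
      rw [← Subgroup.map_comap_eq_self_of_surjective hπ B, hM.2 _ hlt,
        Subgroup.map_top_of_surjective π hπ]
    haveI := ((Group.isNilpotent_of_finite_tfae (G := X ⧸ ⁅F, F⁆)).out 0 2 rfl rfl).1 h _ hco
    rw [← hMe]; infer_instance
  · exfalso
    apply hD
    have htop : M ⊔ ⁅F, F⁆ = ⊤ := hM.2 _ (lt_of_le_of_ne le_sup_left fun h' => hD (by
      rw [h']; exact le_sup_right))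
    suffices hF : F ≤ M from (Subgroup.commutator_mono hF hF).trans M.commutator_le_self
    by_contra hFM
    obtain ⟨K, hK, hMK⟩ : ∃ K : Subgroup F, IsCoatom K ∧ M.subgroupOf F ≤ K := by
      rcases eq_top_or_exists_le_coatom (M.subgroupOf F) with h' | h'
      · exact absurd (Subgroup.subgroupOf_eq_top.1 h') hFM
      · exact h'
    haveI hKn : K.Normal := ((Group.isNilpotent_of_finite_tfae (G := F)).out 0 2 rfl rfl).1 ‹_› K hK
    haveI : Group.IsSolvable F := inferInstance
    haveI : Nontrivial (F ⧸ K) := by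
      rw [← Finite.one_lt_card_iff_nontrivial, ← Subgroup.index_eq_card]
      exact Subgroup.one_lt_index_of_ne_top hK.1
    haveI : Group.IsSolvable (F ⧸ K) := Group.isSolvable_of_surjective (QuotientGroup.mk'_surjective K)
    refine (Group.IsSolvable.commutator_lt_top_of_nontrivial (F ⧸ K)).ne ?_
    rw [eq_top_iff]
    intro z _
    obtain ⟨⟨f, hf⟩, rfl⟩ := QuotientGroup.mk'_surjective K z
    obtain ⟨a, ha, d, hd, had⟩ := Subgroup.mem_sup_of_normal_right.1 (htop ▸ Subgroup.mem_top f)
    have hdF : d ∈ F := F.commutator_le_self hd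
    have haF : a ∈ F := by
      rw [show a = f * d⁻¹ by rw [← had]; group]; exact F.mul_mem hf (F.inv_mem hdF)
    have haK : (⟨a, haF⟩ : F) ∈ K := hMK (Subgroup.mem_subgroupOf.2 ha)
    rw [show (⟨f, hf⟩ : F) = ⟨a, haF⟩ * ⟨d, hdF⟩ from Subtype.ext had.symm, map_mul,
      show QuotientGroup.mk' K ⟨a, haF⟩ = 1 from (QuotientGroup.eq_one_iff _).2 haK, one_mul]
    have hmap : (⟨d, hdF⟩ : F) ∈ commutator F := by
      rw [← Subgroup.map_subtype_commutator] at hd
      obtain ⟨w, hw, hwd⟩ := Subgroup.mem_map.1 hd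
      rwa [show (⟨d, hdF⟩ : F) = w from Subtype.ext hwd.symm]
    have := map_derivedSeries_le_derivedSeries (QuotientGroup.mk' K) 1
      (Subgroup.mem_map_of_mem _ (show (⟨d, hdF⟩ : F) ∈ derivedSeries F 1 by
        rw [derivedSeries_one]; exact hmap))
    rwa [derivedSeries_one] at this

variable {G : Type u} [Group G] [Fintype G]

/-- Linear characters of exponent `r` detect the Fitting subgroup among the elements over it of
`p`-power order modulo it. -/
theorem le_fitting {p : ℕ} [Fact p.Prime] (F : Subgroup G) [F.Normal] [Group.IsNilpotent F]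
    (hmax : ∀ N : Subgroup G, N.Normal → Group.IsNilpotent N → N ≤ F) {m r : ℕ}
    (hr : Nat.card F = p ^ m * r) (hndvd : ¬ p ∣ r) (L : Subgroup G) [L.Normal] (hFL : F ≤ L)
    (hL : ∀ x ∈ L, ∃ j, x ^ p ^ j ∈ F) {z : G} (hz : z ∈ L)
    (hfix : ∀ l : F →* ℂˣ, l ^ r = 1 → act F z l = l) : z ∈ F := by
  classical
  have hin : ∀ f ∈ F, ∀ l : F →* ℂˣ, act F f l = l := fun f hf l => MonoidHom.ext fun x => by
    rw [act_apply, show (⟨f⁻¹ * x * f, _⟩ : F) = (⟨f, hf⟩ : F)⁻¹ * x * ⟨f, hf⟩ from Subtype.ext rfl,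
      map_mul, map_mul, map_inv, mul_comm (l ⟨f, hf⟩)⁻¹, inv_mul_cancel_right]
  let N : Subgroup G :=
    { carrier := {y | y ∈ L ∧ ∀ l : F →* ℂˣ, l ^ r = 1 → act F y l = l}
      one_mem' := ⟨L.one_mem, fun l _ => by rw [map_one]; rfl⟩
      mul_mem' := fun {a b} ha hb => ⟨L.mul_mem ha.1 hb.1, fun l hl => by
        rw [map_mul, MulAut.mul_apply, hb.2 l hl, ha.2 l hl]⟩
      inv_mem' := fun {a} ha => ⟨L.inv_mem ha.1, fun l hl => by
        rw [map_inv, MulAut.inv_def, MulEquiv.symm_apply_eq, ha.2 l hl]⟩ }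
  have hNn : N.Normal := ⟨fun y hy g => ⟨‹L.Normal›.conj_mem y hy.1 g, fun l hl => by
    have h1 := hy.2 (act F g⁻¹ l) (by
      refine MonoidHom.ext fun x => ?_
      rw [MonoidHom.pow_apply, act_apply, ← MonoidHom.pow_apply, hl]
      rfl)
    rw [map_mul, map_mul, MulAut.mul_apply, MulAut.mul_apply, h1, ← MulAut.mul_apply, ← map_mul,
      mul_inv_cancel, map_one]
    rfl⟩⟩
  haveI := hNn
  have hFN : F ≤ N := fun f hf => ⟨hFL hf, fun l _ => hin f hf l⟩
  refine hmax N hNn ?_ ⟨hz, hfix⟩
  set F' := F.subgroupOf N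
  haveI : Group.IsNilpotent F' :=
    (Group.isNilpotent_congr (Subgroup.subgroupOfEquivOfLe hFN)).2 ‹_›
  refine nilpotent_of_quotient F' ?_
  set D := ⁅F', F'⁆
  set π := QuotientGroup.mk' D
  -- the part of order dividing `r` is central modulo the commutator subgroup
  have hcent : ∀ (y : N) (c : N), (c : G) ∈ F → c ^ r = 1 → π c ∈ Subgroup.center (N ⧸ D) := by
    intro y c hc hcr
    rw [Subgroup.mem_center_iff]
    intro w
    obtain ⟨w, rfl⟩ := QuotientGroup.mk'_surjective D w
    rw [← commutatorElement_eq_one_iff_mul_comm, ← map_commutatorElement, QuotientGroup.mk'_apply,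
      QuotientGroup.eq_one_iff]
    have hcF : (⟨(c : G), hc⟩ : F) ^ r = 1 := Subtype.ext (by simpa using congrArg Subtype.val hcr)
    set v : F := ⟨(w : G) * c * (w : G)⁻¹, ‹F.Normal›.conj_mem _ hc w⟩ with hv
    have hvr : v ^ r = 1 := Subtype.ext (by
      simp only [hv, SubgroupClass.coe_pow, conj_pow]
      rw [show ((c : G)) ^ r = 1 from by simpa using congrArg Subtype.val hcr]
      simp)
    have hu : v * (⟨(c : G), hc⟩ : F)⁻¹ ∈ commutator F := by
      by_contra h
      obtain ⟨l, hl⟩ := exists_hom_ne_one h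
      apply hl
      set a := l (v * (⟨(c : G), hc⟩ : F)⁻¹) with ha
      have h1 : a ^ r = 1 := by
        rw [ha, map_mul, map_inv, mul_pow, inv_pow, ← map_pow, ← map_pow, hvr, hcF, map_one, inv_one,
          mul_one]
      have h2 : a ^ p ^ m = 1 := by
        have hlr : (l ^ p ^ m) ^ r = 1 := MonoidHom.ext fun x => by
          rw [MonoidHom.pow_apply, MonoidHom.pow_apply, ← pow_mul, ← hr, ← map_pow, pow_card_eq_one', map_one,
            MonoidHom.one_apply]
        have h := DFunLike.congr_fun (w.2.2 _ hlr) v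
        rw [act_apply, show (⟨(w : G)⁻¹ * v * w, _⟩ : F) = ⟨(c : G), hc⟩ from Subtype.ext (by
          simp [hv, mul_assoc]), MonoidHom.pow_apply, MonoidHom.pow_apply] at h
        rw [ha, map_mul, map_inv, mul_pow, inv_pow, ← h, mul_inv_cancel]
      have h3 : orderOf a ∣ Nat.gcd r (p ^ m) :=
        Nat.dvd_gcd (orderOf_dvd_of_pow_eq_one h1) (orderOf_dvd_of_pow_eq_one h2)
      have : orderOf a ∣ 1 := by
        refine h3.trans (dvd_of_eq ?_)
        exact Nat.Coprime.pow_right m ((Fact.out : p.Prime).coprime_iff_not_dvd.2 hndvd).symm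
      exact orderOf_eq_one_iff.1 (Nat.dvd_one.1 this)
    have hmem : ((v * (⟨(c : G), hc⟩ : F)⁻¹ : F) : G) ∈ ⁅F, F⁆ := by
      rw [← Subgroup.map_subtype_commutator]; exact ⟨_, hu, rfl⟩
    have hD : D.map N.subtype = ⁅F, F⁆ := by
      rw [Subgroup.map_commutator, Subgroup.map_subgroupOf_eq_of_le hFN]
    rw [← hD] at hmem
    obtain ⟨d, hd, hde⟩ := Subgroup.mem_map.1 hmem
    rwa [show ⁅w, c⁆ = d from Subtype.ext (by
      rw [Subgroup.subtype_apply] at hde
      rw [hde]; simp [commutatorElement_def, hv])]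
  have hp : IsPGroup p ((N ⧸ D) ⧸ Subgroup.center (N ⧸ D)) := by
    intro x
    obtain ⟨x, rfl⟩ := QuotientGroup.mk'_surjective _ x
    obtain ⟨x, rfl⟩ := QuotientGroup.mk'_surjective D x
    obtain ⟨j, hj⟩ := hL (x : G) x.2.1
    refine ⟨j + m, ?_⟩
    rw [← map_pow, ← map_pow, QuotientGroup.mk'_apply, QuotientGroup.eq_one_iff]
    refine hcent x _ ?_ ?_
    · rw [pow_add, pow_mul]; exact F.pow_mem (by simpa using hj) _
    · refine Subtype.ext ?_
      rw [← pow_mul, pow_add, mul_assoc, ← hr, pow_mul]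
      have h := congrArg (fun q : F => (q : G)) (pow_card_eq_one' (x := (⟨(x : G) ^ p ^ j, hj⟩ : F)))
      simp only [SubgroupClass.coe_pow, OneMemClass.coe_one] at h ⊢
      exact h
  haveI : Group.IsNilpotent ((N ⧸ D) ⧸ Subgroup.center (N ⧸ D)) := hp.isNilpotent
  exact Group.of_quotient_center_nilpotent inferInstance

/-- Over the Fitting subgroup a normal `p`-section has order dividing `p`. -/
theorem relIndex_dvd {p : ℕ} [Fact p.Prime] (hsq : Sqfree G) (F : Subgroup G) [F.Normal]
    [Group.IsNilpotent F] (hmax : ∀ N : Subgroup G, N.Normal → Group.IsNilpotent N → N ≤ F)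
    (L : Subgroup G) [L.Normal] (hFL : F ≤ L) (hL : ∀ x ∈ L, ∃ j, x ^ p ^ j ∈ F) :
    F.relIndex L ∣ p := by
  classical
  haveI := Fintype.ofFinite F
  have hp : p.Prime := Fact.out
  obtain ⟨m, r, hr, hcard⟩ := Nat.exists_eq_pow_mul_and_not_dvd (Nat.card_pos (α := F)).ne' p hp.ne_one
  have key : ∀ {z : G}, z ∈ L → (∀ l : F →* ℂˣ, l ^ r = 1 → act F z l = l) → z ∈ F :=
    fun hz h => le_fitting F hmax hcard hr L hFL hL hz h
  set FL := F.subgroupOf L
  have hQ : IsPGroup p (L ⧸ FL) := by
    intro x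
    obtain ⟨x, rfl⟩ := QuotientGroup.mk'_surjective FL x
    obtain ⟨j, hj⟩ := hL x x.2
    exact ⟨j, by rw [← map_pow, QuotientGroup.mk'_apply, QuotientGroup.eq_one_iff,
      Subgroup.mem_subgroupOf]; simpa using hj⟩
  obtain ⟨n, hn⟩ := IsPGroup.iff_card.1 hQ
  have hFLn : FL.index = p ^ n := by rw [Subgroup.index_eq_card, hn]
  have hfix : ∀ (g : G) (l : F →* ℂˣ),
      act F g l = l ↔ g ∈ inertia fun x : F => (l x : ℂ) := fun g l => by
    rw [act_eq_iff, inv_mem_iff]
  have horb : ∀ l : F →* ℂˣ, ((inertia fun x : F => (l x : ℂ)).subgroupOf L).index ∣ p := by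
    intro l
    set T := inertia fun x : F => (l x : ℂ)
    obtain ⟨f, hf, hc⟩ := exists_over F (isIrrCharacter_ofHom l)
    obtain ⟨d, -, hd⟩ := IsIrrCharacter.exists_degree hf
    have hsqf := hsq f hf d hd
    have h1 : T.relIndex L ∣ T.index := by
      have e1 := Subgroup.relIndex_mul_index (inf_le_right : T ⊓ L ≤ L)
      have e2 := Subgroup.relIndex_mul_index (inf_le_left : T ⊓ L ≤ T)
      rw [Subgroup.inf_relIndex_right] at e1
      rw [Subgroup.inf_relIndex_left] at e2
      obtain ⟨c, hc'⟩ := Subgroup.relIndex_dvd_index_of_normal L T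
      have h0 : L.relIndex T ≠ 0 := fun h => (Subgroup.index_ne_zero_of_finite (H := L)) (by rw [hc', h, zero_mul])
      refine ⟨c, Nat.eq_of_mul_eq_mul_left (Nat.pos_of_ne_zero h0) ?_⟩
      rw [e2, ← e1, hc']; ring
    have h2 : FL ≤ T.subgroupOf L :=
      Subgroup.comap_mono (le_inertia (IsIrrCharacter.isClassFunction (isIrrCharacter_ofHom l)))
    obtain ⟨i, -, hi⟩ := (Nat.dvd_prime_pow hp).1 (hFLn ▸ Subgroup.index_dvd_of_le h2)
    have h3 : Squarefree (p ^ i) := Squarefree.squarefree_of_dvd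
      ((show p ^ i ∣ T.index from hi ▸ (h1 : (T.subgroupOf L).index ∣ T.index)).trans
        (index_inertia_dvd hf l hc hd)) hsqf
    rcases eq_or_ne i 0 with rfl | hi0
    · rw [hi, pow_zero]; exact one_dvd _
    · rw [hi, ((Nat.squarefree_pow_iff hp.ne_one hi0).1 h3).2, pow_one]
  -- each stabiliser contains the powers and the commutators
  have hnormal : ∀ l : F →* ℂˣ, ∀ x y : L, x ^ p ∈ (inertia fun a : F => (l a : ℂ)).subgroupOf L ∧
      ⁅x, y⁆ ∈ (inertia fun a : F => (l a : ℂ)).subgroupOf L := by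
    intro l x y
    set S := (inertia fun a : F => (l a : ℂ)).subgroupOf L
    rcases (Nat.dvd_prime hp).1 (horb l) with h | h
    · have hS1 : S = ⊤ := Subgroup.index_eq_one.1 h
      rw [hS1]; exact ⟨Subgroup.mem_top _, Subgroup.mem_top _⟩
    have hFS : FL ≤ S :=
      Subgroup.comap_mono (le_inertia (IsIrrCharacter.isClassFunction (isIrrCharacter_ofHom l)))
    have hS : (S.map (QuotientGroup.mk' FL)).comap (QuotientGroup.mk' FL) = S := by
      rw [Subgroup.comap_map_eq, QuotientGroup.ker_mk', sup_eq_left.2 hFS]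
    haveI : (S.map (QuotientGroup.mk' FL)).Normal := by
      apply Subgroup.normal_of_index_eq_minFac_card
      rw [Subgroup.index_map_eq S (QuotientGroup.mk'_surjective FL) (by rw [QuotientGroup.ker_mk']; exact hFS),
        h, hn]
      have hn0 : n ≠ 0 := fun h0 => hp.one_lt.ne' (Nat.dvd_one.1 (by
        rw [← pow_zero p, ← h0, ← hFLn, ← h]; exact Subgroup.index_dvd_of_le hFS))
      rw [hp.pow_minFac hn0]
    haveI : S.Normal := hS ▸ Subgroup.Normal.comap inferInstance _
    refine ⟨h ▸ Subgroup.pow_index_mem S x, ?_⟩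
    rw [← QuotientGroup.eq_one_iff, ← QuotientGroup.mk'_apply, map_commutatorElement,
      commutatorElement_eq_one_iff_mul_comm]
    haveI : IsCyclic (L ⧸ S) := isCyclic_of_prime_card (p := p) (by rw [← Subgroup.index_eq_card, h])
    letI := IsCyclic.commGroup (α := L ⧸ S)
    exact mul_comm _ _
  have hpow : ∀ x ∈ L, x ^ p ∈ F := fun x hx => key (L.pow_mem hx p) fun l _ =>
    (hfix _ l).2 (by simpa [Subgroup.mem_subgroupOf] using (hnormal l ⟨x, hx⟩ 1).1)
  have hcomm : ∀ x ∈ L, ∀ y ∈ L, ⁅x, y⁆ ∈ F := fun x hx y hy =>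
    key (L.commutator_le_self (Subgroup.commutator_mem_commutator hx hy)) fun l _ =>
      (hfix _ l).2 (by simpa [Subgroup.mem_subgroupOf, commutatorElement_def] using
        (hnormal l ⟨x, hx⟩ ⟨y, hy⟩).2)
  have hin : ∀ f ∈ F, ∀ l : F →* ℂˣ, act F f l = l := fun f hf l =>
    (hfix f l).2 (le_inertia (IsIrrCharacter.isClassFunction (isIrrCharacter_ofHom l)) hf)
  -- a regular orbit
  obtain ⟨v, -, hv⟩ := Garrison.exists_regular (A := L) (W := F →* ℂˣ)
    (fun a => (act F (a : G)).toMonoidHom) (fun a b w => by simp)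
    (fun w => by simp) (fun a b w => by
      show act F ((a : G) * b) w = act F ((b : G) * a) w
      rw [show (a : G) * b = ⁅(a : G), (b : G)⁆ * ((b : G) * a) by rw [commutatorElement_def]; group,
        map_mul, MulAut.mul_apply]
      exact hin _ (hcomm _ a.2 _ b.2) _)
    (q := p) (r := r) (hp.coprime_iff_not_dvd.2 hr) fun a => ⟨1, fun w => by
      show act F ((a ^ p ^ 1 : L) : G) w = w
      rw [pow_one]
      exact hin _ (by simpa using hpow a a.2) w⟩
  have hle : (inertia fun x : F => (v x : ℂ)).subgroupOf L ≤ FL := fun a ha =>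
    Subgroup.mem_subgroupOf.2 (key a.2 (hv a ((hfix _ v).2 (Subgroup.mem_subgroupOf.1 ha))))
  exact (Subgroup.index_dvd_of_le hle).trans (horb v)

/-- Squarefree degrees pass to quotients. -/
theorem sqfree_of_surjective {H : Type u} [Group H] [Finite H] (h : Sqfree G) (φ : G →* H)
    (hφ : Function.Surjective φ) : Sqfree H := fun f hf m hm =>
  h _ (IsIrrCharacter.comp_surjective hf φ hφ) m (by simpa using hm)

theorem sqfree_normal (h : Sqfree G) (N : Subgroup G) [N.Normal] : Sqfree N := by
  classical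
  haveI := Fintype.ofFinite N
  intro θ hθ d hd
  obtain ⟨f, hf, hc⟩ := exists_over N hθ
  obtain ⟨m, -, hm⟩ := IsIrrCharacter.exists_degree hf
  exact Squarefree.squarefree_of_dvd (TwoDegrees.degree_dvd hf hθ hc hm hd) (h f hf m hm)

theorem derived_four [Group.IsSolvable G] (hsq : Sqfree G) : derivedSeries G 4 = ⊥ := by
  classical
  set F := Cfsg.fittingSubgroup G with hF
  haveI hFn : F.Normal := by
    rw [hF, CfsgLib.Solvable.fittingSubgroup_eq_iSup_pCore]; infer_instance
  haveI hFnil : Group.IsNilpotent F := CfsgLib.Solvable.isNilpotent_fittingSubgroup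
  have hmax : ∀ N : Subgroup G, N.Normal → Group.IsNilpotent N → N ≤ F := fun N hN h =>
    CfsgLib.Solvable.le_fittingSubgroup hN h
  haveI := Fintype.ofFinite F
  set π := QuotientGroup.mk' F
  have hπ : Function.Surjective π := QuotientGroup.mk'_surjective F
  set K := Cfsg.fittingSubgroup (G ⧸ F) with hK
  have hcard : ∀ p : ℕ, p.Prime → Nat.card (Cfsg.pCore p (G ⧸ F)) ∣ p := by
    intro p hp
    haveI := Fact.mk hp
    haveI : (Cfsg.pCore p (G ⧸ F)).Normal := (CfsgLib.Solvable.pCore_spec p).1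
    set L := (Cfsg.pCore p (G ⧸ F)).comap π
    have hFL : F ≤ L := by
      have := π.ker_le_comap (Cfsg.pCore p (G ⧸ F))
      rwa [QuotientGroup.ker_mk'] at this
    have h := relIndex_dvd (p := p) hsq F hmax L hFL fun x hx => by
      obtain ⟨j, hj⟩ := (CfsgLib.Solvable.isPGroup_pCore (G := G ⧸ F) (p := p)) ⟨π x, hx⟩
      exact ⟨j, (QuotientGroup.eq_one_iff _).1 (by
        rw [QuotientGroup.mk_pow]; exact congrArg Subtype.val hj)⟩
    rwa [← Subgroup.map_comap_eq_self_of_surjective hπ (Cfsg.pCore p (G ⧸ F)),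
      ← Subgroup.relIndex_ker, QuotientGroup.ker_mk'] 
  -- the commutator subgroup of the quotient centralises its Fitting subgroup
  have hcent : commutator (G ⧸ F) ≤ Subgroup.centralizer (K : Set (G ⧸ F)) := by
    rw [hK, CfsgLib.Solvable.fittingSubgroup_eq_iSup_pCore, Subgroup.le_centralizer_iff, iSup_le_iff]
    intro p
    rw [← Subgroup.le_centralizer_iff]
    have hp : (p : ℕ).Prime := by first | exact p.2 | exact p.prop
    set O := Cfsg.pCore (p : ℕ) (G ⧸ F)
    haveI : Fact (p : ℕ).Prime := ⟨hp⟩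
    haveI hOn : O.Normal := (CfsgLib.Solvable.pCore_spec _).1
    haveI : IsCyclic O := by
      rcases (Nat.dvd_prime hp).1 (hcard _ hp) with h | h
      · haveI : Subsingleton O := (Nat.card_eq_one_iff_unique.1 h).1
        infer_instance
      · exact isCyclic_of_prime_card h
    rw [commutator_def, Subgroup.commutator_le]
    intro a _ b _
    rw [Subgroup.mem_centralizer_iff]
    intro x hx
    have h1 : MulAut.conjNormal (H := O) ⁅a, b⁆ = 1 := by
      rw [map_commutatorElement, commutatorElement_eq_one_iff_mul_comm]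
      apply (IsCyclic.mulAutMulEquiv O).injective
      rw [map_mul, map_mul, mul_comm]
    have h2 := congrArg Subtype.val (DFunLike.congr_fun h1 (⟨x, hx⟩ : O))
    rw [MulAut.conjNormal_apply, MulAut.one_apply] at h2
    exact (mul_inv_eq_iff_eq_mul.1 h2).symm
  have hH : derivedSeries (G ⧸ F) 2 = ⊥ := by
    haveI : Group.IsSolvable (G ⧸ F) := Group.isSolvable_of_surjective hπ
    rw [derivedSeries_succ, derivedSeries_one, Subgroup.commutator_eq_bot_iff_le_centralizer]
    exact hcent.trans (Subgroup.centralizer_le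
      (hcent.trans CfsgLib.Fitting.centralizer_fittingSubgroup_le_of_solvable))
  have hG2 : derivedSeries G 2 ≤ F := by
    have := map_derivedSeries_le_derivedSeries π 2
    rwa [hH, le_bot_iff, Subgroup.map_eq_bot_iff, QuotientGroup.ker_mk'] at this
  have hF2 : derivedSeries F 2 = ⊥ := by
    obtain ⟨e⟩ := ((Group.isNilpotent_of_finite_tfae (G := F)).out 0 4 rfl rfl).1 hFnil
    rw [eq_bot_iff]
    intro x hx
    rw [Subgroup.mem_bot]
    apply e.symm.injective
    rw [map_one]
    funext p P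
    haveI : Fact (p : ℕ).Prime := ⟨Nat.prime_of_mem_primeFactors p.2⟩
    haveI := Fintype.ofFinite (P : Subgroup F)
    let φ : F →* (P : Subgroup F) :=
      ((Pi.evalMonoidHom (fun Q : Sylow (p : ℕ) F => ↥(Q : Subgroup F)) P).comp
        (Pi.evalMonoidHom _ p)).comp e.symm.toMonoidHom
    have hφ : Function.Surjective φ := by
      intro y
      refine ⟨e (Pi.mulSingle p (Pi.mulSingle P y)), ?_⟩
      simp [φ]
    have hP2 : derivedSeries (P : Subgroup F) 2 = ⊥ :=
      ThreeDeg.two_derived (m := (p : ℕ)) fun f hf => by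
        obtain ⟨d, -, hd⟩ := IsIrrCharacter.exists_degree hf
        obtain ⟨k, hk⟩ := IsPGroup.iff_card.1 P.isPGroup'
        obtain ⟨i, -, rfl⟩ := (Nat.dvd_prime_pow (Nat.prime_of_mem_primeFactors p.2)).1
          (hk ▸ IsIrrCharacter.degree_dvd_card hf hd)
        rcases eq_or_ne i 0 with rfl | hi0
        · left; rw [hd, pow_zero, Nat.cast_one]
        · right
          have h := (Nat.squarefree_pow_iff (Nat.prime_of_mem_primeFactors p.2).ne_one hi0).1
            (sqfree_of_surjective (sqfree_normal hsq F) φ hφ f hf _ hd)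
          rw [hd, h.2, pow_one]
    have h := map_derivedSeries_le_derivedSeries φ 2 (Subgroup.mem_map_of_mem φ hx)
    rw [hP2, Subgroup.mem_bot] at h
    exact h
  have hge : derivedSeries G 4 ≤ (derivedSeries F 2).map F.subtype := by
    have h3 : derivedSeries G 3 ≤ (derivedSeries F 1).map F.subtype := by
      rw [derivedSeries_succ, derivedSeries_one, Subgroup.map_subtype_commutator]
      exact Subgroup.commutator_mono hG2 hG2
    rw [derivedSeries_succ G, derivedSeries_succ F, Subgroup.map_commutator]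
    exact Subgroup.commutator_mono h3 h3
  exact le_bot_iff.1 (hge.trans (le_of_eq (by rw [hF2, Subgroup.map_bot])))

end CfsgLib.Char.SqfreeDeg
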