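/-
Strongly real characters of an odd elementary abelian group extended by a 2-group (statement S4871).
-/
import Cfsg.Agent.Char.LinearTwist
import Cfsg.Agent.Char.Linear
import Cfsg.Agent.Char.CliffordCorrespondence
import Cfsg.Prelude.Def_Transfer
import Cfsg.Prelude.Def_Blocks
import Mathlib

/-!
# Strongly real linear and even degree characters

The inertia group `T` of a nontrivial linear character of `N` has even index, and every quadratic
linear character of `T` gives a strongly real irreducible character of degree `[G : T]`.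
-/

set_option autoImplicit false

namespace CfsgLib.Char

open Cfsg

universe u

variable {G : Type u} [Group G] [Fintype G]

/-- The indicator of an induced function. -/
theorem sum_indFun_sq {T : Subgroup G} (ξ : T → ℂ) :
    (Nat.card G : ℂ)⁻¹ * ∑ g : G, Cfsg.indFun T ξ (g * g) =
      (Nat.card T : ℂ)⁻¹ * ∑ g : G, Cfsg.extendByZero T ξ (g * g) := by
  simp only [indFun_def, ← Finset.mul_sum]
  rw [Finset.sum_comm]
  have : ∀ x : G, ∑ g : G, extendByZero T ξ (x⁻¹ * (g * g) * x) =
      ∑ g : G, extendByZero T ξ (g * g) := fun x =>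
    Fintype.sum_equiv (MulAut.conj x⁻¹).toEquiv _ _ fun g => by
      congr 1
      simp [MulAut.conj_apply]
      group
  rw [Finset.sum_congr rfl fun x _ => this x, Finset.sum_const, Finset.card_univ, nsmul_eq_mul,
    ← Nat.card_eq_fintype_card]
  have hG : (Nat.card G : ℂ) ≠ 0 := Nat.cast_ne_zero.2 Nat.card_pos.ne'
  field_simp

/-- The indicator of a linear character is one exactly when it is quadratic. -/
theorem indicator_hom (lam : G →* ℂˣ) :
    (Nat.card G : ℂ)⁻¹ * ∑ g : G, (lam (g * g) : ℂ) = 1 ↔ ∀ g, lam g * lam g = 1 := by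
  classical
  have hG : (Nat.card G : ℂ) ≠ 0 := Nat.cast_ne_zero.2 Nat.card_pos.ne'
  constructor
  · intro h g0
    by_contra hne
    have h0 : ∑ g : G, (lam (g * g) : ℂ) = 0 := by
      have h1 : ((lam (g0 * g0) : ℂˣ) : ℂ) * ∑ g : G, (lam (g * g) : ℂ) =
          ∑ g : G, (lam (g * g) : ℂ) := by
        rw [Finset.mul_sum]
        refine Fintype.sum_equiv (Equiv.mulLeft g0) _ _ fun g => ?_
        simp only [Equiv.coe_mulLeft, map_mul, Units.val_mul]
        ring
      have h2 : ((lam (g0 * g0) : ℂˣ) : ℂ) ≠ 1 := fun e =>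
        hne (Units.ext (by simpa [map_mul] using e))
      by_contra hs
      exact h2 (by simpa using (mul_eq_right₀ hs).1 h1)
    rw [h0, mul_zero] at h
    exact zero_ne_one h
  · intro h
    rw [Finset.sum_congr rfl fun g _ => by rw [map_mul, h g, Units.val_one],
      Finset.sum_const, Finset.card_univ, nsmul_eq_mul, mul_one, ← Nat.card_eq_fintype_card,
      inv_mul_cancel₀ hG]

theorem card_le_three_sum {X : Type u} [Finite X] (f : X → ℕ)
    (hf : ∀ x, f x = 1 ∨ 2 ≤ f x) (hb : Nat.card {x // f x = 1} ≤ ∑ᶠ x : {x // 2 ≤ f x}, f x.1) :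
    4 * Nat.card X ≤ 3 * ∑ᶠ x, f x := by
  classical
  haveI := Fintype.ofFinite X
  rw [finsum_eq_sum_of_fintype] at hb ⊢
  rw [Nat.card_eq_fintype_card, Fintype.card_subtype] at hb
  rw [← Finset.sum_subtype (p := fun x => 2 ≤ f x) (Finset.univ.filter fun x => 2 ≤ f x)
      (by simp) f] at hb
  have h1 := Finset.sum_filter_add_sum_filter_not (Finset.univ : Finset X) (fun x => 2 ≤ f x) f
  have h2 : ∑ x ∈ Finset.univ.filter (fun x => ¬ 2 ≤ f x), f x =
      (Finset.univ.filter fun x => f x = 1).card := by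
    rw [Finset.card_eq_sum_ones]
    refine Finset.sum_congr (Finset.filter_congr fun x _ => ?_) fun x hx => (Finset.mem_filter.1 hx).2
    have := hf x
    omega
  have h3 : (Finset.univ : Finset X).card = (Finset.univ.filter fun x => 2 ≤ f x).card +
      (Finset.univ.filter fun x => f x = 1).card := by
    rw [← Finset.card_filter_add_card_filter_not (s := (Finset.univ : Finset X))
      (fun x => 2 ≤ f x)]
    congr 2
    refine Finset.filter_congr fun x _ => ?_
    have := hf x
    omega
  have h4 : (Finset.univ.filter fun x => 2 ≤ f x).card * 2 ≤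
      ∑ x ∈ Finset.univ.filter (fun x => 2 ≤ f x), f x := by
    have := Finset.card_nsmul_le_sum (Finset.univ.filter fun x => 2 ≤ f x) f 2
      fun x hx => (Finset.mem_filter.1 hx).2
    simpa using this
  rw [Nat.card_eq_fintype_card, ← Finset.card_univ, h3, ← h1, h2]
  omega

/-- An involution of `P` inverts all of a minimal normal abelian `N`. -/
theorem exists_inverting {N P : Subgroup G} (hN : N.Normal) [IsMulCommutative N]
    (hP : IsPGroup 2 ↥P) (hP1 : P ≠ ⊥) (hdisj : N ⊓ P = ⊥) (hprod : N ⊔ P = ⊤)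
    (hmin : N ≠ ⊥ ∧ ∀ M : Subgroup G, M.Normal → M ≠ ⊥ → N ≤ M) :
    ∃ z ∈ P, z * z = 1 ∧ (∀ p ∈ P, p * z = z * p) ∧ ∀ n ∈ N, z * n * z⁻¹ = n⁻¹ := by
  haveI := hN
  haveI : Fact (Nat.Prime 2) := ⟨Nat.prime_two⟩
  haveI : Nontrivial P := (Subgroup.nontrivial_iff_ne_bot P).2 hP1
  haveI := hP.center_nontrivial
  obtain ⟨z0, hz0⟩ : ∃ z : Subgroup.center P, orderOf z = 2 := by
    refine exists_prime_orderOf_dvd_card' 2 ?_
    obtain ⟨k, hk⟩ := (hP.to_subgroup (Subgroup.center P)).exists_card_eq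
    rcases Nat.eq_zero_or_pos k with rfl | hk0
    · exact absurd hk (Finite.one_lt_card.ne')
    · rw [hk]; exact dvd_pow_self 2 hk0.ne'
  set z : G := ((z0 : P) : G) with hzdef
  have hzP : z ∈ P := (z0 : P).2
  have hzz : z * z = 1 := by
    have := pow_orderOf_eq_one z0
    rw [hz0, pow_two] at this
    simpa [hzdef] using congrArg (fun x : Subgroup.center P => ((x : P) : G)) this
  have hz1 : z ≠ 1 := fun h => by
    have h2 : z0 = 1 := Subtype.ext (Subtype.ext h)
    rw [h2, orderOf_one] at hz0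
    omega
  have hzc : ∀ p ∈ P, p * z = z * p := fun p hp =>
    congrArg Subtype.val (Subgroup.mem_center_iff.1 z0.2 ⟨p, hp⟩)
  have hzi : z⁻¹ = z := inv_eq_of_mul_eq_one_right hzz
  have hcomm : ∀ a ∈ N, ∀ b ∈ N, a * b = b * a := fun a ha b hb =>
    congrArg Subtype.val (mul_comm' (⟨a, ha⟩ : N) ⟨b, hb⟩)
  have htop : ∀ M : Subgroup G, (∀ n ∈ N, ∀ m ∈ M, n * m * n⁻¹ ∈ M) →
      (∀ p ∈ P, ∀ m ∈ M, p * m * p⁻¹ ∈ M) → M.Normal := fun M hMN hMP => by
    refine Subgroup.normalizer_eq_top_iff.1 (top_le_iff.1 ?_)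
    rw [← hprod, sup_le_iff]
    constructor <;>
    · intro a ha
      refine Subgroup.mem_normalizer_iff_map_conj_eq.2 ?_
      refine Subgroup.eq_of_le_of_card_ge ?_ ?_
      · rintro _ ⟨m, hm, rfl⟩
        first
          | exact hMN a ha m hm
          | exact hMP a ha m hm
      · rw [Subgroup.card_map_of_injective (MulEquiv.injective _)]
  obtain ⟨M, hM⟩ : ∃ M : Subgroup G, ∀ n, n ∈ M ↔ n ∈ N ∧ z * n * z⁻¹ = n⁻¹ :=
    ⟨{ carrier := {n | n ∈ N ∧ z * n * z⁻¹ = n⁻¹}
       one_mem' := ⟨one_mem N, by simp⟩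
       mul_mem' := fun {a b} ha hb => ⟨mul_mem ha.1 hb.1, by
         rw [mul_inv_rev, ← ha.2, ← hb.2, hcomm _ (hN.conj_mem b hb.1 z) _
           (hN.conj_mem a ha.1 z)]
         group⟩
       inv_mem' := fun {a} ha => ⟨inv_mem ha.1, by rw [inv_inv, ← conj_inv, ha.2, inv_inv]⟩ },
      fun _ => Iff.rfl⟩
  have hMn : M.Normal := htop M
    (fun a ha m hm => by
      rw [hcomm a ha m ((hM m).1 hm).1, mul_inv_cancel_right]
      exact hm)
    (fun p hp m hm => (hM _).2 ⟨hN.conj_mem m ((hM m).1 hm).1 p, by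
      calc z * (p * m * p⁻¹) * z⁻¹ = (z * p) * m * (z * p)⁻¹ := by group
        _ = (p * z) * m * (p * z)⁻¹ := by rw [hzc p hp]
        _ = p * (z * m * z⁻¹) * p⁻¹ := by group
        _ = _ := by rw [((hM m).1 hm).2]; group⟩)
  have hMne : M ≠ ⊥ := fun hbot => by
    have hfix : ∀ n ∈ N, z * n * z⁻¹ = n := fun n hn => by
      have hmem : z * n * z⁻¹ * n⁻¹ ∈ M := (hM _).2
        ⟨mul_mem (hN.conj_mem n hn z) (inv_mem hn), by
          rw [mul_inv_rev, inv_inv]
          calc z * (z * n * z⁻¹ * n⁻¹) * z⁻¹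
              = (z * z) * n * (z⁻¹ * n⁻¹ * z⁻¹) := by group
            _ = n * (z * n * z⁻¹)⁻¹ := by
              rw [hzz, one_mul]; simp only [mul_inv_rev, inv_inv, mul_assoc]; rw [hzi]⟩
      rw [hbot, Subgroup.mem_bot, mul_inv_eq_one] at hmem
      exact hmem
    -- the centraliser of `N` in `P` is normal
    obtain ⟨C, hC⟩ : ∃ C : Subgroup G, C = P ⊓ Subgroup.centralizer (N : Set G) := ⟨_, rfl⟩
    have hCn : C.Normal := htop C
      (fun a ha m hm => by
        rw [hC] at hm ⊢
        rw [Subgroup.mem_centralizer_iff.1 hm.2 a ha, mul_inv_cancel_right]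
        exact hm)
      (fun p hp m hm => by
        rw [hC] at hm ⊢
        refine Subgroup.mem_inf.2 ⟨mul_mem (mul_mem hp (Subgroup.mem_inf.1 hm).1) (inv_mem hp),
          Subgroup.mem_centralizer_iff.2 fun n hn => ?_⟩
        have := Subgroup.mem_centralizer_iff.1 hm.2 (p⁻¹ * n * p) (by
          simpa using hN.conj_mem n hn p⁻¹)
        calc n * (p * m * p⁻¹) = p * ((p⁻¹ * n * p) * m) * p⁻¹ := by group
          _ = _ := by rw [this]; group)
    have hCne : C ≠ ⊥ := fun h => hz1 (by
      rw [← Subgroup.mem_bot, ← h, hC]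
      exact ⟨hzP, Subgroup.mem_centralizer_iff.2 fun n hn => by
        have := hfix n hn
        rw [mul_inv_eq_iff_eq_mul] at this
        exact this.symm⟩)
    refine hmin.1 (le_bot_iff.1 (hdisj ▸ le_inf le_rfl ((hmin.2 C hCn hCne).trans ?_)))
    rw [hC]; exact inf_le_left
  exact ⟨z, hzP, hzz, hzc, fun n hn => ((hM n).1 (hmin.2 M hMn hMne hn)).2⟩

/-- The strongly real characters of degree one or even have average degree at least `4/3`. -/
theorem four_card_le_three_sum {N P : Subgroup G} (hN : N.Normal) {q : ℕ} (hq' : q.Prime)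
    (hq : q ≠ 2) (hNel : Cfsg.IsElementaryAbelian q N) (hP : IsPGroup 2 ↥P) (hP1 : P ≠ ⊥)
    (hdisj : N ⊓ P = ⊥) (hprod : N ⊔ P = ⊤)
    (hmin : N ≠ ⊥ ∧ ∀ M : Subgroup G, M.Normal → M ≠ ⊥ → N ≤ M)
    (Q : Cfsg.IrrCharacter G → Prop)
    (hQ : ∀ χ : Cfsg.IrrCharacter G, Q χ ↔
      (Cfsg.charDegree (χ : G → ℂ) = 1 ∨ 2 ∣ Cfsg.charDegree (χ : G → ℂ)) ∧
        (Nat.card G : ℂ)⁻¹ * ∑ g : G, (χ : G → ℂ) (g * g) = 1) :
    4 * Nat.card {χ // Q χ} ≤ 3 * ∑ᶠ χ : {χ // Q χ}, Cfsg.charDegree (χ.1 : G → ℂ) := by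
  classical
  haveI := hN
  haveI := hNel.1
  haveI := finite_irrCharacter G
  haveI := Fintype.ofFinite N
  obtain ⟨z, hzP, hzz, hzc, hzinv⟩ := exists_inverting hN hP hP1 hdisj hprod hmin
  have hzi : z⁻¹ = z := inv_eq_of_mul_eq_one_right hzz
  -- a nontrivial character of `N`
  haveI : Nontrivial N := (Subgroup.nontrivial_iff_ne_bot N).2 hmin.1
  obtain ⟨n1, hn1⟩ := exists_ne (1 : N)
  obtain ⟨lam, hlam⟩ := exists_hom_ne_one (G := N) (g := n1) (fun h => hn1 (by
    have hbot : commutator N = ⊥ := by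
      rw [commutator_eq_bot_iff_center_eq_top]
      exact Subgroup.eq_top_iff' _ |>.2 fun x => Subgroup.mem_center_iff.2 fun y => mul_comm' y x
    rwa [hbot, Subgroup.mem_bot] at h))
  have hlq : ∀ n : N, lam n ^ q = 1 := fun n => by
    rw [← map_pow, show n ^ q = 1 from Subtype.ext (by simpa using hNel.2 n n.2), map_one]
  have hl2 : ∀ n : N, lam n * lam n = 1 → lam n = 1 := fun n h => by
    rcases hq'.eq_two_or_odd' with h2 | hodd
    · exact absurd h2 hq
    · obtain ⟨k, hk⟩ := hodd
      have := hlq n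
      rwa [hk, pow_succ, pow_mul, pow_two, h, one_pow, one_mul] at this
  set θ : N → ℂ := fun n => (lam n : ℂ) with hθdef
  have hθ : Cfsg.IsIrrCharacter N θ := isIrrCharacter_ofHom lam
  obtain ⟨T, hT⟩ : ∃ T : Subgroup G, inertia θ = T := ⟨_, rfl⟩
  have hNT : N ≤ T := hT ▸ le_inertia (IsIrrCharacter.isClassFunction hθ)
  haveI := Fintype.ofFinite T
  have hmemT : ∀ g : G, g ∈ T ↔ ∀ n : N, lam ⟨g * n * g⁻¹, hN.conj_mem n n.2 g⟩ = lam n := by
    intro g
    rw [← hT, mem_inertia_iff]
    exact forall_congr' fun n => Units.val_inj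
  have hzT : z ∉ T := fun h => hlam (hl2 n1 (by
    have h1 := (hmemT z).1 h n1
    rw [show (⟨z * n1 * z⁻¹, hN.conj_mem n1 n1.2 z⟩ : N) = n1⁻¹ from
      Subtype.ext (by simpa using hzinv n1 n1.2), map_inv] at h1
    nth_rewrite 1 [← h1]
    exact inv_mul_cancel _))
  -- projection on `P`
  have hdec : ∀ g : G, ∃ p : P, g * (p : G)⁻¹ ∈ N := fun g => by
    have hg : g ∈ ((N ⊔ P : Subgroup G) : Set G) := by rw [hprod]; trivial
    rw [Subgroup.normal_mul] at hg
    obtain ⟨a, ha, b, hb, rfl⟩ := Set.mem_mul.1 hg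
    exact ⟨⟨b, hb⟩, by simpa using ha⟩
  have huniq : ∀ (g : G) (p p' : P), g * (p : G)⁻¹ ∈ N → g * (p' : G)⁻¹ ∈ N → p = p' := by
    intro g p p' h h'
    have h1 : (p : G) * (p' : G)⁻¹ ∈ N ⊓ P :=
      Subgroup.mem_inf.2 ⟨by simpa [mul_assoc] using mul_mem (inv_mem h) h',
        mul_mem p.2 (inv_mem p'.2)⟩
    rw [hdisj, Subgroup.mem_bot, mul_inv_eq_one] at h1
    exact Subtype.ext h1
  choose π hπ using hdec
  have hπP : ∀ p : P, π (p : G) = p := fun p => huniq _ _ _ (hπ _) (by simp [one_mem])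
  have hπN : ∀ n ∈ N, π n = 1 := fun n hn => huniq _ _ _ (hπ _) (by simpa using hn)
  set ν : G → N := fun g => ⟨g * (π g : G)⁻¹, hπ g⟩ with hνdef
  have hπT : ∀ g ∈ T, (π g : G) ∈ T := fun g hg => by
    have := mul_mem (inv_mem (hNT (hπ g))) hg
    simpa [mul_assoc] using this
  have hνmul : ∀ g h : G, ν (g * h) =
      ν g * ⟨(π g : G) * ν h * (π g : G)⁻¹, hN.conj_mem _ (ν h).2 _⟩ := fun g h => by
    have hm : π (g * h) = π g * π h := huniq _ _ _ (hπ _) (by
      have := mul_mem (hπ g) (hN.conj_mem _ (hπ h) (π g : G))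
      simpa [mul_assoc] using this)
    apply Subtype.ext
    simp [hνdef, hm, mul_assoc]
  obtain ⟨μ, hμ⟩ : ∃ μ : T →* ℂˣ, ∀ t : T, μ t = lam (ν t) :=
    ⟨MonoidHom.mk' (fun t => lam (ν t)) (fun s t => by
      rw [Subgroup.coe_mul, hνmul, map_mul,
        (hmemT _).1 (hπT s s.2) (ν t)]), fun _ => rfl⟩
  have hμN : ∀ (n : N), μ (Subgroup.inclusion hNT n) = lam n := fun n => by
    rw [hμ]
    congr 1
    apply Subtype.ext
    simp [hνdef, hπN n n.2]
  -- the quadratic characters of `T`
  let S := {β : T →* ℂˣ // ∀ t, β t * β t = 1}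
  haveI : Finite (T →* ℂˣ) := Finite.of_equiv _ (linearCharEquiv (G := T)).symm
  have hβN : ∀ (β : S) (n : N), β.1 (Subgroup.inclusion hNT n) = 1 := fun β n => by
    have h1 := β.2 (Subgroup.inclusion hNT n)
    have h2 : β.1 (Subgroup.inclusion hNT n) ^ q = 1 := by
      rw [← map_pow, ← map_pow, show n ^ q = 1 from Subtype.ext (by simpa using hNel.2 n n.2),
        map_one, map_one]
    rcases hq'.eq_two_or_odd' with h | ⟨k, hk⟩
    · exact absurd h hq
    · rwa [hk, pow_succ, pow_mul, pow_two, h1, one_pow, one_mul] at h2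
  let ξ : S → T → ℂ := fun β t => ((μ * β.1) t : ℂ)
  have hξirr : ∀ β, Cfsg.IsIrrCharacter T (ξ β) := fun β => isIrrCharacter_ofHom (μ * β.1)
  have hξc : ∀ β, Cfsg.classInner (fun n : N => ξ β (Subgroup.inclusion hNT n)) θ ≠ 0 := fun β => by
    have : (fun n : N => ξ β (Subgroup.inclusion hNT n)) = θ := funext fun n => by
      simp [ξ, hθdef, hμN, hβN]
    rw [this, IsIrrCharacter.classInner_self hθ]
    exact one_ne_zero
  have hirr := fun β => (isIrrCharacter_indFun_of_inertia hNT hθ hT (hξirr β) (hξc β)).1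
  have hinj : ∀ β β', Cfsg.indFun T (ξ β) = Cfsg.indFun T (ξ β') → β = β' := fun β β' h => by
    have h1 := indFun_injective_of_inertia hNT hθ hT (hξirr β) (hξirr β') (hξc β) (hξc β') h
    refine Subtype.ext (MonoidHom.ext fun t => ?_)
    have h2 := congrFun h1 t
    exact Units.ext (by simpa [ξ] using h2)
  -- the indicator of the induced characters
  have hind : ∀ β, (Nat.card G : ℂ)⁻¹ * ∑ g : G, Cfsg.indFun T (ξ β) (g * g) = 1 := by
    intro β
    rw [sum_indFun_sq]
    set F : G → ℂ := fun g => Cfsg.extendByZero T (ξ β) (g * g) with hFdef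
    have hF : ∀ (n : N) (g : G), F ((n : G) * g) =
        (lam n : ℂ) * (lam ⟨g * n * g⁻¹, hN.conj_mem n n.2 g⟩ : ℂ) * F g := by
      intro n g
      set m : N := n * ⟨g * n * g⁻¹, hN.conj_mem n n.2 g⟩ with hm
      have he : (n : G) * g * ((n : G) * g) = (m : G) * (g * g) := by
        simp only [hm, Subgroup.coe_mul]; group
      simp only [hFdef]
      rw [he]
      by_cases hg : g * g ∈ T
      · rw [extendByZero_of_mem _ hg, extendByZero_of_mem _ (mul_mem (hNT m.2) hg),
          show (⟨(m : G) * (g * g), mul_mem (hNT m.2) hg⟩ : T) =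
            Subgroup.inclusion hNT m * ⟨g * g, hg⟩ from rfl]
        simp only [ξ, map_mul, MonoidHom.mul_apply, Units.val_mul, hμN, hβN, hm, map_mul,
          Units.val_mul]
        simp only [Units.val_one, one_mul]
        ring
      · rw [extendByZero_of_not_mem _ hg, extendByZero_of_not_mem _ (fun h => hg ?_), mul_zero]
        simpa using mul_mem (inv_mem (hNT m.2)) h
    have havg : ∀ g : G, ∑ n : N, F ((n : G) * g) =
        if z * g ∈ T then (Nat.card N : ℂ) else 0 := by
      intro g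
      simp only [hF, ← Finset.sum_mul]
      by_cases hg : z * g ∈ T
      · have hinv : ∀ n : N, lam ⟨g * n * g⁻¹, hN.conj_mem n n.2 g⟩ = (lam n)⁻¹ := fun n => by
          have h1 := (hmemT _).1 hg n
          rw [show (⟨g * n * g⁻¹, hN.conj_mem n n.2 g⟩ : N) =
            (⟨z * g * n * (z * g)⁻¹, hN.conj_mem n n.2 _⟩ : N)⁻¹ from Subtype.ext (by
              have := hzinv (g * n * g⁻¹) (hN.conj_mem n n.2 g)
              simp only [Subgroup.coe_inv]
              rw [show z * g * (n : G) * (z * g)⁻¹ = z * (g * n * g⁻¹) * z⁻¹ by group, this,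
                inv_inv]), map_inv, h1]
        rw [Finset.sum_congr rfl fun n _ => by
            rw [hinv n, Units.val_inv_eq_inv_val, mul_inv_cancel₀ (Units.ne_zero _)],
          Finset.sum_const, Finset.card_univ, nsmul_eq_mul, mul_one, if_pos hg,
          ← Nat.card_eq_fintype_card]
        -- reduce to the component in `P`
        have hp : z * (π g : G) ∈ T := by
          have h1 := mul_mem (hNT (ν g).2) hg
          have h2 : (ν g : G) * (z * g) = z * (π g : G) := by
            have h3 := hzinv _ (ν g).2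
            calc (ν g : G) * (z * g) = (ν g : G) * (z * ((ν g : G) * (π g : G))) := by
                  congr 2; simp [hνdef, mul_assoc]
              _ = (ν g : G) * (z * (ν g : G) * z⁻¹) * (z * (π g : G)) := by group
              _ = _ := by rw [h3, mul_inv_cancel, one_mul]
          rwa [h2] at h1
        have hFg : F g = 1 := by
          have hgd : g = (ν g : G) * (π g : G) := by simp [hνdef, mul_assoc]
          have hgn : (lam (ν g) : ℂ) *
              (lam ⟨(π g : G) * ν g * (π g : G)⁻¹, hN.conj_mem _ (ν g).2 _⟩ : ℂ) = 1 := by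
            have h1 := (hmemT _).1 hp (ν g)
            rw [show (⟨z * (π g : G) * ν g * (z * (π g : G))⁻¹, hN.conj_mem _ (ν g).2 _⟩ : N) =
              (⟨(π g : G) * ν g * (π g : G)⁻¹, hN.conj_mem _ (ν g).2 _⟩ : N)⁻¹ from
              Subtype.ext (by
                have := hzinv _ (hN.conj_mem _ (ν g).2 (π g : G))
                simp only [Subgroup.coe_inv]
                rw [← this]; group), map_inv] at h1
            rw [← h1, Units.val_inv_eq_inv_val, inv_mul_cancel₀ (Units.ne_zero _)]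
          rw [hgd, hF, hgn, one_mul]
          set a : T := ⟨z * (π g : G), hp⟩ with ha
          have hsq : (π g : G) * (π g : G) = ((a * a : T) : G) := by
            simp only [ha, Subgroup.coe_mul]
            calc (π g : G) * (π g : G) = (z * z) * ((π g : G) * (π g : G)) := by rw [hzz, one_mul]
              _ = z * ((z * (π g : G)) * (π g : G)) := by group
              _ = z * (((π g : G) * z) * (π g : G)) := by rw [hzc _ (π g).2]
              _ = _ := by group
          simp only [hFdef]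
          rw [hsq, extendByZero_apply]
          have hμa : μ a = 1 := by
            rw [hμ, show ν (a : G) = 1 from Subtype.ext (by
              have := hπP ⟨z * (π g : G), mul_mem hzP (π g).2⟩
              simp only at this
              simp [hνdef, ha, this]), map_one]
          simp [ξ, hμa, ← Units.val_mul, β.2 a]
        rw [hFg, mul_one]
      · rw [if_neg hg]
        obtain ⟨n0, hn0⟩ : ∃ n0 : N, lam n0 * lam ⟨g * n0 * g⁻¹, hN.conj_mem n0 n0.2 g⟩ ≠ 1 := by
          by_contra hc
          push_neg at hc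
          refine hg ((hmemT _).2 fun n => ?_)
          rw [show (⟨z * g * n * (z * g)⁻¹, hN.conj_mem n n.2 _⟩ : N) =
            (⟨g * n * g⁻¹, hN.conj_mem n n.2 g⟩ : N)⁻¹ from Subtype.ext (by
              have := hzinv _ (hN.conj_mem _ n.2 g)
              simp only [Subgroup.coe_inv]
              rw [← this]; group), map_inv]
          exact inv_eq_of_mul_eq_one_left (hc n)
        let c : N →* ℂˣ := lam * lam.comp (MulAut.conjNormal g).toMonoidHom
        have hcs : ∑ n : N, (c n : ℂ) = 0 := by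
          have h1 : (c n0 : ℂ) * ∑ n : N, (c n : ℂ) = ∑ n : N, (c n : ℂ) := by
            rw [Finset.mul_sum]
            exact Fintype.sum_equiv (Equiv.mulLeft n0) _ _ fun n => by simp [map_mul]
          by_contra hs
          refine hn0 (Units.ext ?_)
          have := (mul_eq_right₀ hs).1 h1
          exact this
        rw [show ∑ n : N, (lam n : ℂ) * (lam ⟨g * n * g⁻¹, hN.conj_mem n n.2 g⟩ : ℂ) = 0 from hcs,
          zero_mul]
    have htot : (Nat.card N : ℂ) * ∑ g : G, F g = (Nat.card N : ℂ) * Nat.card T := by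
      calc (Nat.card N : ℂ) * ∑ g : G, F g = ∑ n : N, ∑ g : G, F ((n : G) * g) := by
            rw [Finset.sum_congr rfl fun (n : N) _ =>
                (Fintype.sum_equiv (Equiv.mulLeft (n : G)) (fun g => F ((n : G) * g)) F
                  fun g => rfl),
              Finset.sum_const, Finset.card_univ, nsmul_eq_mul, ← Nat.card_eq_fintype_card]
        _ = ∑ g : G, if z * g ∈ T then (Nat.card N : ℂ) else 0 := by
            rw [Finset.sum_comm]; exact Finset.sum_congr rfl fun g _ => havg g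
        _ = ∑ g : G, if g ∈ T then (Nat.card N : ℂ) else 0 :=
            Equiv.sum_comp (Equiv.mulLeft z) (fun g => if g ∈ T then (Nat.card N : ℂ) else 0)
        _ = _ := by
            rw [← Finset.sum_filter, Finset.sum_const, nsmul_eq_mul, mul_comm]
            congr 2
            rw [Nat.card_eq_fintype_card, Fintype.card_subtype]
    have hNne : (Nat.card N : ℂ) ≠ 0 := Nat.cast_ne_zero.2 Nat.card_pos.ne'
    rw [mul_left_cancel₀ hNne htot, inv_mul_cancel₀ (Nat.cast_ne_zero.2 Nat.card_pos.ne')]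
  -- the index
  have hidx : 2 ∣ T.index := by
    have hc : Subgroup.IsComplement' P N := by
      refine (Subgroup.isComplement'_of_disjoint_and_mul_eq_univ ?_ ?_).symm
      · exact disjoint_iff.2 hdisj
      · rw [← Subgroup.normal_mul, hprod]; rfl
    obtain ⟨k, hk⟩ := hP.exists_card_eq
    have hd : T.index ∣ 2 ^ k := by
      rw [← hk, ← hc.index_eq_card]
      exact Subgroup.index_dvd_of_le hNT
    obtain ⟨j, -, hj⟩ := (Nat.dvd_prime_pow Nat.prime_two).1 hd
    rcases Nat.eq_zero_or_pos j with rfl | hj0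
    · rw [pow_zero, Subgroup.index_eq_one] at hj
      exact absurd (hj ▸ Subgroup.mem_top z) hzT
    · rw [hj]; exact dvd_pow_self 2 hj0.ne'
  have hdeg : ∀ β, Cfsg.charDegree (Cfsg.indFun T (ξ β)) = T.index := fun β => by
    rw [Cfsg.charDegree, indFun_one]
    simp [ξ]
  have hge : 2 ≤ T.index := Nat.le_of_dvd (Nat.pos_of_ne_zero Subgroup.index_ne_zero_of_finite) hidx
  -- assemble
  haveI := Fintype.ofFinite {χ // Q χ}
  refine card_le_three_sum _ (fun χ => ?_) ?_
  · obtain ⟨d, hd, hd'⟩ := IsIrrCharacter.exists_degree χ.1.2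
    rcases ((hQ χ.1).1 χ.2).1 with h | h
    · exact Or.inl h
    · refine Or.inr (Nat.le_of_dvd ?_ h)
      rw [Cfsg.charDegree, hd', Complex.natCast_re, Nat.floor_natCast]
      exact hd
  haveI : Finite (G →* ℂˣ) := Finite.of_equiv _ (linearCharEquiv (G := G)).symm
  calc Nat.card {χ : {χ // Q χ} // Cfsg.charDegree (χ.1 : G → ℂ) = 1}
      ≤ Nat.card {l : G →* ℂˣ // ∀ g, l g * l g = 1} := by
        have hl : ∀ χ : {χ : {χ // Q χ} // Cfsg.charDegree (χ.1 : G → ℂ) = 1},
            ∃ l : {l : G →* ℂˣ // ∀ g, l g * l g = 1}, ((χ.1.1 : G → ℂ)) = fun g => (l.1 g : ℂ) := by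
          intro χ
          obtain ⟨d, hd, hd'⟩ := IsIrrCharacter.exists_degree χ.1.1.2
          have h1 := χ.2
          rw [Cfsg.charDegree, hd', Complex.natCast_re, Nat.floor_natCast] at h1
          obtain ⟨l, hl⟩ := IsCharacter.exists_hom (IsIrrCharacter.isCharacter χ.1.1.2)
            (by rw [hd', h1, Nat.cast_one])
          refine ⟨⟨l, (indicator_hom l).1 ?_⟩, hl⟩
          have h2 := ((hQ χ.1.1).1 χ.1.2).2
          rw [hl] at h2
          exact h2
        choose L hL using hl
        exact Nat.card_le_card_of_injective L fun a b h =>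
          Subtype.ext (Subtype.ext (Subtype.ext (by rw [hL a, hL b, h])))
    _ ≤ T.index * Nat.card S :=
        card_le_index_mul T (fun l => ∀ g, l g * l g = 1)
          (fun l => (⟨l.1.comp T.subtype, fun t => l.2 t⟩ : S))
          (fun a b h x hx => congrArg (fun s : S => s.1 ⟨x, hx⟩) h)
    _ ≤ _ := by
        haveI := Fintype.ofFinite S
        let E : S → {χ : {χ // Q χ} // 2 ≤ Cfsg.charDegree (χ.1 : G → ℂ)} := fun β =>
          ⟨⟨⟨Cfsg.indFun T (ξ β), hirr β⟩, (hQ _).2 ⟨Or.inr ((hdeg β).symm ▸ hidx), hind β⟩⟩,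
            (hdeg β).symm ▸ hge⟩
        rw [finsum_eq_sum_of_fintype]
        refine le_trans (le_of_eq ?_) (Finset.sum_le_sum_of_subset
          (Finset.subset_univ (Finset.univ.image E)))
        rw [Finset.sum_image fun a _ b _ h => hinj a b (by
          exact congrArg (fun x : {χ : {χ // Q χ} // 2 ≤ Cfsg.charDegree (χ.1 : G → ℂ)} =>
            (x.1.1 : G → ℂ)) h)]
        simp only [E, hdeg, Finset.sum_const, Finset.card_univ, smul_eq_mul,
          Nat.card_eq_fintype_card, mul_comm]

end CfsgLib.Char
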