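import Mathlib.Algebra.BigOperators.Field
import Mathlib.Algebra.Order.BigOperators.Group.Finset
import Mathlib.Data.Real.Basic
import Mathlib.Data.Finset.Max
import Mathlib.Data.Fintype.Basic
import Mathlib.Algebra.Ring.Parity
import Mathlib.Tactic.Linarith
import Mathlib.Tactic.FieldSimp
import Mathlib.Tactic.Ring
import Mathlib.Tactic.Positivity

/-!
# The numerical part of the theorem on groups covered by trivial intersection kernels
-/

set_option autoImplicit false

namespace CfsgLib.Char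

/-- No system of integers satisfies the numerical conditions coming from such a cover. -/
theorem ti_cover_arith {ι : Type*} [Fintype ι] [Nonempty ι] [DecidableEq ι] (l q h : ι → ℕ)
    (N : ℕ) (c : ι → ι → ℤ) (hl : ∀ i, 3 ≤ l i) (hlodd : ∀ i, Odd (l i)) (hq : ∀ i, 2 ≤ q i)
    (hqe : ∀ i, Even (q i)) (hh : ∀ i, h i = q i * l i + 1) (hinj : Function.Injective h)
    (hpar : ∀ i j, i ≠ j → Odd (c i j + c j i))
    (hcol : ∀ i, ∑ k ∈ Finset.univ.erase i, (c k i : ℝ) ^ 2 * (q k : ℝ) ≤ (l i : ℝ) - 1)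
    (hrow : ∀ i, ∑ j ∈ Finset.univ.erase i, (c i j : ℝ) ^ 2 * ((q j : ℝ) / (h j : ℝ)) ≤
      (l i : ℝ) / (h i : ℝ))
    (htot : 1 - 1 / (N : ℝ) ≤ ∑ i, (q i : ℝ) / (h i : ℝ)) (hN : ∀ i, h i * l i ≤ N) : False := by
  obtain ⟨i, -, hi'⟩ := Finset.exists_min_image Finset.univ l Finset.univ_nonempty
  have hi : ∀ j, l i ≤ l j := fun j => hi' j (Finset.mem_univ j)
  set L : ℝ := (l i : ℝ) with hL
  have hL3 : (3 : ℝ) ≤ L := by rw [hL]; exact_mod_cast hl i
  have ha1 : ∀ j, (q j : ℝ) / (h j : ℝ) ≤ 1 / (l j : ℝ) := fun j => by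
    have h1 : (0 : ℝ) < (l j : ℝ) := by
      exact_mod_cast lt_of_lt_of_le (by norm_num : 0 < 3) (hl j)
    rw [hh j]; push_cast
    rw [div_le_div_iff₀ (by positivity) h1]
    linarith
  have ha0 : ∀ j, (0 : ℝ) ≤ (q j : ℝ) / (h j : ℝ) := fun j => by positivity
  have main : ∀ K : ℝ, 0 ≤ K → (∀ j, j ≠ i → (q j : ℝ) / (h j : ℝ) ≤ K * (q j : ℝ)) →
      1 - 1 / (N : ℝ) ≤ (q i : ℝ) / (h i : ℝ) + (L / (h i : ℝ) + K * (L - 1)) := by
    intro K hK hbound
    refine htot.trans ?_
    rw [← Finset.add_sum_erase _ _ (Finset.mem_univ i)]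
    refine add_le_add le_rfl (le_trans (Finset.sum_le_sum fun j hj => ?_)
      (le_trans (le_of_eq (Finset.sum_add_distrib)) (add_le_add (hrow i) (le_trans
        (le_of_eq (Finset.mul_sum _ _ K).symm) (mul_le_mul_of_nonneg_left (hcol i) hK)))))
    have hji := Finset.ne_of_mem_erase hj
    have h2 := hpar i j (Ne.symm hji)
    have hsq : ∀ x : ℤ, x ≠ 0 → (1 : ℝ) ≤ (x : ℝ) ^ 2 := fun x hx => by
      have : (1 : ℤ) ≤ x ^ 2 := by
        rcases lt_or_gt_of_ne hx with h | h <;> nlinarith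
      exact_mod_cast this
    have hp : 0 ≤ K * ((c j i : ℝ) ^ 2 * (q j : ℝ)) := mul_nonneg hK (by positivity)
    rcases eq_or_ne (c i j) 0 with hz | hz
    · have hz' : c j i ≠ 0 := fun h0 => by
        rw [hz, h0, add_zero] at h2
        exact absurd h2 (by decide)
      have e := mul_le_mul_of_nonneg_right (hsq _ hz') (show (0 : ℝ) ≤ (q j : ℝ) by positivity)
      have := mul_le_mul_of_nonneg_left e hK
      have := hbound j hji
      rw [hz]; push_cast
      linarith
    · have e := mul_le_mul_of_nonneg_right (hsq _ hz) (ha0 j)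
      linarith
  have hlj : ∀ j, L ≤ (l j : ℝ) := fun j => by rw [hL]; exact_mod_cast hi j
  have hNpos : (0 : ℝ) < (N : ℝ) := by
    have h1 : 1 ≤ h i * l i := Nat.mul_pos (by rw [hh i]; omega) (by have := hl i; omega)
    have h2 := hN i
    exact_mod_cast (show 0 < N by omega)
  have hNb : (h i : ℝ) * L ≤ (N : ℝ) := by rw [hL]; exact_mod_cast hN i
  have hhi : (h i : ℝ) = (q i : ℝ) * L + 1 := by rw [hL, hh i]; push_cast; ring
  rcases eq_or_ne (q i) 2 with hq2 | hq2
  · have h2 := main (1 / (2 * (L + 2))) (by positivity) fun j hji => by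
      refine (ha1 j).trans ?_
      rw [one_div_mul_eq_div, div_le_div_iff₀ (by linarith [hlj j]) (by positivity)]
      rcases eq_or_ne (q j) 2 with hj2 | hj2
      · have hne : l j ≠ l i := fun e => hji (hinj (by rw [hh j, hh i, e, hj2, hq2]))
        have : l i + 2 ≤ l j := by
          obtain ⟨s, hs⟩ := hlodd i
          obtain ⟨t, ht⟩ := hlodd j
          have := hi j
          omega
        have h3 : L + 2 ≤ (l j : ℝ) := by rw [hL]; exact_mod_cast this
        rw [hj2]; push_cast
        linarith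
      · have : 4 ≤ q j := by
          obtain ⟨s, hs⟩ := hqe j
          have := hq j
          omega
        have h3 : (4 : ℝ) ≤ (q j : ℝ) := by exact_mod_cast this
        nlinarith [hlj j]
    rw [hq2] at hhi
    push_cast at hhi
    rw [hq2, hhi] at h2
    push_cast at h2
    rw [hhi] at hNb
    have hD : (0 : ℝ) < 2 * (2 * L + 1) * (L + 2) := by positivity
    have hid : (2 : ℝ) / (2 * L + 1) + (L / (2 * L + 1) + 1 / (2 * (L + 2)) * (L - 1)) =
        1 - (3 * L - 3) / (2 * (2 * L + 1) * (L + 2)) := by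
      field_simp
      ring
    rw [hid] at h2
    have h3 : (3 * L - 3) / (2 * (2 * L + 1) * (L + 2)) ≤ 1 / (N : ℝ) := by linarith
    rw [div_le_div_iff₀ hD hNpos, one_mul] at h3
    have h4 := mul_le_mul_of_nonneg_left hNb (show (0 : ℝ) ≤ 3 * L - 3 by linarith)
    have h5 : 2 * (L + 2) < (3 * L - 3) * L := by nlinarith
    have := mul_lt_mul_of_pos_left h5 (show (0 : ℝ) < 2 * L + 1 by linarith)
    linarith
  · have h2 := main (1 / (2 * L)) (by positivity) fun j hji => by
      refine (ha1 j).trans ?_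
      rw [one_div_mul_eq_div, div_le_div_iff₀ (by linarith [hlj j]) (by positivity)]
      have h3 : (2 : ℝ) ≤ (q j : ℝ) := by exact_mod_cast hq j
      have := mul_le_mul h3 (hlj j) (by linarith) (by linarith)
      linarith
    have hq4 : (4 : ℝ) ≤ (q i : ℝ) := by
      obtain ⟨s, hs⟩ := hqe i
      have := hq i
      exact_mod_cast (show 4 ≤ q i by omega)
    have hh4 : 4 * L + 1 ≤ (h i : ℝ) := by
      rw [hhi]; have := mul_le_mul_of_nonneg_right hq4 (show (0 : ℝ) ≤ L by linarith); linarith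
    have e1 : (q i : ℝ) / (h i : ℝ) ≤ 1 / L := ha1 i
    have e2 : L / (h i : ℝ) ≤ 1 / 4 := by
      rw [div_le_div_iff₀ (by linarith) (by norm_num)]; linarith
    have e3 : 1 / (2 * L) * (L - 1) = 1 / 2 - (1 / L) / 2 := by field_simp
    have e4 : 1 / L ≤ 1 / 3 := one_div_le_one_div_of_le (by norm_num) hL3
    have e5 : 1 / (N : ℝ) ≤ 1 / 39 := by
      refine one_div_le_one_div_of_le (by norm_num) ?_
      have := mul_le_mul (show (13 : ℝ) ≤ h i by linarith) hL3 (by norm_num) (by linarith)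
      linarith
    linarith

end CfsgLib.Char
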