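import Cfsg.Agent.Char.FrobeniusMeans
import Cfsg.Agent.Char.Inflation

/-!
# Preparations for groups covered by trivial intersection kernels
-/

set_option autoImplicit false
set_option linter.style.haveILetI false

namespace CfsgLib.Char

open scoped ComplexConjugate

universe u

section Classes

variable {N : Type u} [Group N] [Fintype N] {A : Subgroup N} [hA : A.Normal]

/-- The characters trivial on `A` are at most as many as the classes of the quotient. -/
theorem card_trivialOn_le : (trivialOn A).card ≤ Nat.card (ConjClasses (N ⧸ A)) := by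
  classical
  rw [← card_irr_eq_card_conjClasses, card_irr]
  set I := (irrFinset (N ⧸ A)).image (inflate A) with hI
  have hIT : I ⊆ trivialOn A := fun θ hθ => by
    obtain ⟨ψ, hψ, rfl⟩ := Finset.mem_image.1 hθ
    exact mem_trivialOn.2 ⟨IsIrrCharacter.inflate A (mem_irrFinset.1 hψ),
      fun k hk => inflate_apply_mem A ψ hk⟩
  suffices h : I = trivialOn A by
    rw [← h, hI]; exact Finset.card_image_le
  refine hIT.antisymm fun β hβ => ?_
  by_contra hn
  have hT : trivialOn A = (irrFinset N).filter fun θ => ∀ k ∈ A, θ k = θ 1 := by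
    ext θ; simp [mem_trivialOn, mem_irrFinset]
  have e1 : ∑ θ ∈ trivialOn A, cdeg θ ^ 2 = A.index := by
    rw [hT]; exact sum_cdeg_sq_kernel A
  have e2 : ∑ θ ∈ I, cdeg θ ^ 2 = A.index := by
    rw [hI, Finset.sum_image (fun x _ y _ h => inflate_injective A h), Subgroup.index_eq_card,
      ← sum_cdeg_sq (G := N ⧸ A)]
    exact Finset.sum_congr rfl fun ψ _ => rfl
  have h3 := Finset.sum_lt_sum_of_subset (f := fun θ : N → ℂ => cdeg θ ^ 2) hIT hβ hn
    (pow_pos (cdeg_pos (mem_trivialOn.1 hβ).1) 2) fun _ _ _ => Nat.zero_le _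
  rw [e1, e2] at h3
  exact lt_irrefl _ h3

/-- The classes meeting a normal subgroup are at most one more than the characters not trivial on
it. -/
theorem card_classes_meeting_le :
    Nat.card {C : ConjClasses N // ∃ k ∈ A, ConjClasses.mk k = C} + (trivialOn A).card ≤
      (irrFinset N).card + 1 := by
  classical
  haveI := Fintype.ofFinite (ConjClasses N)
  haveI := Fintype.ofFinite (ConjClasses (N ⧸ A))
  rw [← card_irr, card_irr_eq_card_conjClasses, Nat.card_eq_fintype_card (α := {C : ConjClasses N // _}),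
    Fintype.card_subtype, Nat.card_eq_fintype_card (α := ConjClasses N)]
  set P := (Finset.univ : Finset (ConjClasses N)).filter fun C => ∃ k ∈ A, ConjClasses.mk k = C with hP
  set O := (Finset.univ : Finset (ConjClasses N)).filter fun C => ¬ ∃ k ∈ A, ConjClasses.mk k = C with hO
  have hsplit : P.card + O.card = Fintype.card (ConjClasses N) := by
    rw [hP, hO, Finset.card_filter_add_card_filter_not, Finset.card_univ]
  have h1 := card_trivialOn_le (A := A)
  rw [Nat.card_eq_fintype_card, ← Finset.card_univ,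
    ← Finset.card_erase_add_one (Finset.mem_univ (1 : ConjClasses (N ⧸ A)))] at h1
  have h2 : ((Finset.univ : Finset (ConjClasses (N ⧸ A))).erase 1).card ≤ O.card := by
    refine Finset.card_le_card_of_surjOn (ConjClasses.map (QuotientGroup.mk' A)) ?_
    intro C hC
    obtain ⟨y, rfl⟩ := ConjClasses.mk_surjective C
    obtain ⟨x, rfl⟩ := QuotientGroup.mk'_surjective A y
    refine ⟨ConjClasses.mk x, ?_, rfl⟩
    simp only [hO, Finset.mem_coe, Finset.mem_filter, Finset.mem_univ, true_and]
    rintro ⟨k, hk, hkx⟩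
    refine Finset.ne_of_mem_erase (Finset.mem_coe.1 hC) ?_
    have h := congrArg (ConjClasses.map (QuotientGroup.mk' A)) hkx
    change ConjClasses.mk (QuotientGroup.mk' A k) = ConjClasses.mk (QuotientGroup.mk' A x) at h
    rw [show QuotientGroup.mk' A k = 1 from (QuotientGroup.eq_one_iff k).2 hk] at h
    exact h.symm
  omega

end Classes

section Bessel

variable {G : Type u} [Group G] [Fintype G]

/-- Bessel's inequality for pairwise orthogonal projections. -/
theorem bessel_family {ι : Type*} [Fintype ι] (φ : G → ℂ) (γ : ι → G → ℂ)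
    (horth : ∀ i j, i ≠ j → Cfsg.classInner (γ i) (γ j) = 0)
    (hproj : ∀ i, Cfsg.classInner φ (γ i) = Cfsg.classInner (γ i) (γ i)) :
    ∑ i, (Cfsg.classInner (γ i) (γ i)).re ≤ (Cfsg.classInner φ φ).re := by
  classical
  set P := ∑ i, γ i with hP
  have h1 : Cfsg.classInner φ P = ∑ i, Cfsg.classInner (γ i) (γ i) := by
    rw [hP, classInner_sum_right]
    exact Finset.sum_congr rfl fun i _ => hproj i
  have h2 : Cfsg.classInner P P = ∑ i, Cfsg.classInner (γ i) (γ i) := by
    rw [hP, classInner_sum_left]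
    refine Finset.sum_congr rfl fun i _ => ?_
    rw [classInner_sum_right]
    exact Finset.sum_eq_single i (fun j _ hji => horth i j (Ne.symm hji)) (fun h => absurd (Finset.mem_univ i) h)
  have h3 := classInner_self_re_nonneg (φ - P)
  rw [classInner_sub_left, classInner_sub_right, classInner_sub_right, h2, ← classInner_conj φ P, h1,
    Complex.sub_re, Complex.sub_re, Complex.sub_re, Complex.conj_re, ← Complex.re_sum] at *
  linarith

end Bessel

section Disjoint

variable {G : Type u} [Group G] [Fintype G]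

/-- An induced function is non-zero only at conjugates of points where the function is non-zero. -/
theorem exists_conj_of_indFun_ne_zero {L : Subgroup G} {f : L → ℂ} {g : G}
    (h : Cfsg.indFun L f g ≠ 0) : ∃ x : G, ∃ hx : x⁻¹ * g * x ∈ L, f ⟨_, hx⟩ ≠ 0 := by
  classical
  by_contra hcon
  push Not at hcon
  refine h ?_
  rw [indFun_def, Finset.sum_eq_zero, mul_zero]
  intro x _
  by_cases hx : x⁻¹ * g * x ∈ L
  · rw [extendByZero_of_mem f hx]
    exact hcon x hx
  · exact extendByZero_of_not_mem f hx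

/-- Functions induced from non-fusing supports are orthogonal. -/
theorem classInner_indFun_of_not_conj {L L' : Subgroup G} {f : L → ℂ} {f' : L' → ℂ}
    (h : ∀ (y : L) (y' : L'), f y ≠ 0 → f' y' ≠ 0 → ¬ IsConj (y : G) (y' : G)) :
    Cfsg.classInner (Cfsg.indFun L f) (Cfsg.indFun L' f') = 0 := by
  rw [classInner_def, Finset.sum_eq_zero, mul_zero]
  intro g _
  by_contra hne
  rw [mul_eq_zero, not_or, map_eq_zero_iff _ (starRingEnd ℂ).injective] at hne
  obtain ⟨x, hx, hf⟩ := exists_conj_of_indFun_ne_zero hne.1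
  obtain ⟨x', hx', hf'⟩ := exists_conj_of_indFun_ne_zero hne.2
  refine h ⟨_, hx⟩ ⟨_, hx'⟩ hf hf' ((?_ : IsConj (x⁻¹ * g * x) g).trans ?_)
  · exact isConj_iff.2 ⟨x, by group⟩
  · exact isConj_iff.2 ⟨x'⁻¹, by group⟩

/-- Counting a cover by conjugates of subgroups. -/
theorem card_le_of_cover {ι : Type*} [Fintype ι] (H L : ι → Subgroup G) (hHL : ∀ i, H i ≤ L i)
    (hn : ∀ i, ∀ x ∈ L i, ∀ k ∈ H i, x * k * x⁻¹ ∈ H i)
    (hcover : ∀ g : G, g ≠ 1 → ∃ i, ∃ x : G, x * g * x⁻¹ ∈ H i) :
    Nat.card G ≤ 1 + ∑ i, (L i).index * (Nat.card (H i) - 1) := by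
  classical
  haveI : ∀ i, Fintype (G ⧸ L i) := fun i => Fintype.ofFinite _
  haveI : ∀ i, Fintype (H i) := fun i => Fintype.ofFinite _
  let img : ι → Finset G := fun i =>
    ((Finset.univ : Finset (G ⧸ L i)) ×ˢ ((Finset.univ : Finset (H i)).erase 1)).image
      fun p => Quotient.out p.1 * (p.2 : G) * (Quotient.out p.1)⁻¹
  have hsub : (Finset.univ : Finset G).erase 1 ⊆ Finset.univ.biUnion img := by
    intro g hg
    obtain ⟨i, x, hx⟩ := hcover g (Finset.ne_of_mem_erase hg)
    refine Finset.mem_biUnion.2 ⟨i, Finset.mem_univ _, Finset.mem_image.2 ?_⟩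
    obtain ⟨y, hy⟩ : ∃ y ∈ L i, Quotient.out (QuotientGroup.mk x⁻¹ : G ⧸ L i) = x⁻¹ * y := by
      refine ⟨(x⁻¹)⁻¹ * Quotient.out (QuotientGroup.mk x⁻¹ : G ⧸ L i),
        (QuotientGroup.eq (s := L i)).1 (QuotientGroup.out_eq' _).symm, ?_⟩
      group
    refine ⟨(QuotientGroup.mk x⁻¹, ⟨y⁻¹ * (x * g * x⁻¹) * y, ?_⟩), ?_, ?_⟩
    · have := hn i y⁻¹ (inv_mem hy.1) _ hx
      rwa [inv_inv] at this
    · simp only [Finset.mem_product, Finset.mem_univ, Finset.mem_erase, true_and, and_true]
      intro h
      refine Finset.ne_of_mem_erase hg ?_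
      have h' : y⁻¹ * (x * g * x⁻¹) * y = 1 := congrArg Subtype.val h
      calc g = x⁻¹ * y * (y⁻¹ * (x * g * x⁻¹) * y) * y⁻¹ * x := by group
        _ = 1 := by rw [h']; group
    · show Quotient.out (QuotientGroup.mk x⁻¹ : G ⧸ L i) * (y⁻¹ * (x * g * x⁻¹) * y) *
          (Quotient.out (QuotientGroup.mk x⁻¹ : G ⧸ L i))⁻¹ = g
      rw [hy.2]
      group
  have h1 := (Finset.card_le_card hsub).trans Finset.card_biUnion_le
  rw [Finset.card_erase_of_mem (Finset.mem_univ _), Finset.card_univ, ← Nat.card_eq_fintype_card] at h1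
  have h2 : ∀ i, (img i).card ≤ (L i).index * (Nat.card (H i) - 1) := fun i => by
    refine Finset.card_image_le.trans (le_of_eq ?_)
    rw [Finset.card_product, Finset.card_univ, Finset.card_erase_of_mem (Finset.mem_univ _),
      Finset.card_univ, ← Nat.card_eq_fintype_card, ← Nat.card_eq_fintype_card, Subgroup.index_eq_card]
  have h3 := h1.trans (Finset.sum_le_sum fun i _ => h2 i)
  omega

end Disjoint

end CfsgLib.Char
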