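import Cfsg.Agent.Char.TIKernelFunctions
import Cfsg.Agent.Char.TICoverPrep
import Cfsg.Agent.Char.TICoverArith

/-!
# Groups of odd order covered by conjugates of TI Frobenius kernels of coprime orders
-/

set_option autoImplicit false
set_option linter.style.haveILetI false

namespace CfsgLib.Char

open scoped ComplexConjugate

universe u

variable {G : Type u} [Group G] [Fintype G]

/-- The data of one kernel: the extension of induction, the constant `M`, a character of least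
degree and the signed irreducibles. -/
theorem ti_kernel_data (hodd : Odd (Nat.card G)) {H L : Subgroup G} [Fintype L]
    [(H.subgroupOf L).Normal] (hHL : H < L) (hH1 : H ≠ ⊥)
    (hHn : ∀ x ∈ L, ∀ h ∈ H, x * h * x⁻¹ ∈ H)
    (hC : ∀ a ∈ H, a ≠ 1 → L ⊓ Subgroup.centralizer ({a} : Set G) ≤ H)
    (hTI : Cfsg.IsTISubset (H : Set G)) (hN : Subgroup.normalizer (H : Set G) = L) :
    (∀ a ∈ H.subgroupOf L, a ≠ 1 → Subgroup.centralizer ({a} : Set L) ≤ H.subgroupOf L) ∧
    ∃ (star : (L → ℂ) → G → ℂ) (M : ℤ) (lam : L → ℂ),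
      Cfsg.IsLinearIsometryOn (Cfsg.zspan (relevantChars (H.subgroupOf L))) star ∧
      (∀ α ∈ Cfsg.zspanOn (relevantChars (H.subgroupOf L)) ({1}ᶜ : Set L),
        star α = Cfsg.indFun L α) ∧
      lam ∈ relevantChars (H.subgroupOf L) ∧ lam 1 = ((H.subgroupOf L).index : ℂ) ∧
      (∀ χ ∈ relevantChars (H.subgroupOf L),
        Cfsg.conjFun χ ∈ relevantChars (H.subgroupOf L) ∧ Cfsg.conjFun χ ≠ χ ∧
          (H.subgroupOf L).index ∣ cdeg χ) ∧
      (∀ χ ∈ relevantChars (H.subgroupOf L), ∀ k ∈ H.subgroupOf L, k ≠ 1 →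
        star χ k - χ k = (M : ℂ) * χ 1 / ((H.subgroupOf L).index : ℂ)) ∧
      ∀ S : Finset (L → ℂ), (∀ χ, χ ∈ S ↔ χ ∈ relevantChars (H.subgroupOf L)) →
        ∑ χ ∈ S, cdeg χ ^ 2 = (H.subgroupOf L).index * (Nat.card H - 1) := by
  classical
  set A := H.subgroupOf L with hAdef
  have hC' : ∀ a ∈ A, a ≠ 1 → Subgroup.centralizer ({a} : Set L) ≤ A := fun a ha ha1 x hx =>
    hC a ha (fun h => ha1 (Subtype.ext h)) ⟨x.2, Subgroup.mem_centralizer_singleton_iff.2
      (congrArg Subtype.val (Subgroup.mem_centralizer_singleton_iff.1 hx))⟩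
  refine ⟨hC', ?_⟩
  have hoddL : Odd (Nat.card L) := hodd.of_dvd_nat (Subgroup.card_subgroup_dvd_card L)
  have hAtop : A ≠ ⊤ := fun h => hHL.not_ge (Subgroup.subgroupOf_eq_top.1 h)
  haveI hnilA : Group.IsNilpotent A := frob_kernel_nilpotent hAtop hC'
  have hnil : Group.IsNilpotent H :=
    Group.nilpotent_of_mulEquiv (Subgroup.subgroupOfEquivOfLe hHL.le)
  have hcoh := coherent_odd_frobenius_TI hoddL hHL hH1 hnil hHn hC hTI hN
  have hrel : Cfsg.inducedIrrAbove A ⊥ = relevantChars A := inducedIrrAbove_bot_eq hC'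
  rw [← hAdef, hrel] at hcoh
  obtain ⟨-, star, hstar, hext⟩ := hcoh
  have hbot : (⊥ : Subgroup L) < A := bot_lt_iff_ne_bot.2 fun h =>
    hH1 (by rw [Subgroup.eq_bot_iff_forall]; intro x hx
            have : (⟨x, hHL.le hx⟩ : L) ∈ (⊥ : Subgroup L) := h ▸ hx
            exact congrArg Subtype.val (Subgroup.mem_bot.1 this))
  obtain ⟨lam, hlamS, hlamd⟩ := exists_linear_aboveInd (L := L) (K := A)
    (inferInstance : Group.IsSolvable A) hbot
  have hlam : lam ∈ relevantChars A := hrel ▸ mem_aboveInd.1 hlamS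
  obtain ⟨M, hM⟩ := exists_int_star_sub star hstar hext hC'
    (tI_map_subgroupOf fun g hg => hTI g (by rw [hN]; exact hg)) hlam
  refine ⟨star, M, lam, hstar, hext, hlam, ?_, fun χ hχ => ?_, hM, fun S hS => ?_⟩
  · rw [irr_apply_one_eq_cdeg hlam.1, hlamd]
  · rw [← hrel] at hχ ⊢
    obtain ⟨θ, h1, h2, -, rfl⟩ := id hχ
    refine ⟨conjFun_mem_inducedIrrAbove hχ, fun h => ?_, ?_⟩
    · have h0 : Cfsg.classInner (Cfsg.conjFun (Cfsg.indFun A θ)) (Cfsg.indFun A θ) = 0 :=
        classInner_conj_indFun_eq_zero hoddL h1 h2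
      rw [h, IsIrrCharacter.classInner_self (isIrrCharacter_indFun_of_centralizer_le hC' h1 h2)] at h0
      exact one_ne_zero h0
    · rw [cdeg_indFun h1]; exact dvd_mul_right _ _
  · have h := sum_weight_aboveInd (K := A) (⊥ : Subgroup L)
    rw [Subgroup.relIndex_bot_left, show aboveInd A ⊥ = S from
      Finset.ext fun χ => by rw [mem_aboveInd, hrel, hS],
      show Nat.card A = Nat.card H from Nat.card_congr (Subgroup.subgroupOfEquivOfLe hHL.le).toEquiv] at h
    rw [Finset.sum_congr rfl (g := fun χ => ((cdeg χ ^ 2 : ℕ) : ℝ)) fun χ hχ => ?_, ← Nat.cast_sum,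
      ← Nat.cast_one, ← Nat.cast_sub (Nat.card_pos (α := H)), ← Nat.cast_mul, Nat.cast_inj] at h
    · exact h
    · have hn1 : cnorm χ = 1 := by
        rw [cnorm, IsIrrCharacter.classInner_self ((hS χ).1 hχ).1]
        simp
      rw [hn1, Nat.cast_one, div_one, Nat.cast_pow]

set_option maxHeartbeats 1000000 in
/-- No group of odd order is covered by conjugates of at least two such kernels. -/
theorem ti_cover_false (hodd : Odd (Nat.card G)) {ι : Type*} [Fintype ι] [Nonempty ι]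
    (L H : ι → Subgroup G) (hHL : ∀ i, H i < L i) (hH1 : ∀ i, H i ≠ ⊥)
    (hHn : ∀ i, ∀ x ∈ L i, ∀ h ∈ H i, x * h * x⁻¹ ∈ H i)
    (hfrob : ∀ i, ∀ h ∈ H i, h ≠ 1 → L i ⊓ Subgroup.centralizer ({h} : Set G) ≤ H i)
    (hcop : ∀ i j, i ≠ j → Nat.Coprime (Nat.card (H i)) (Nat.card (H j)))
    (hTI : ∀ i, Cfsg.IsTISubset (H i : Set G) ∧ Subgroup.normalizer (H i : Set G) = L i)
    (hcover : ∀ g : G, g ≠ 1 → ∃ i, ∃ x : G, x * g * x⁻¹ ∈ H i) : False := by
  classical
  haveI : ∀ i, Fintype (L i) := fun i => Fintype.ofFinite _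
  let A : (i : ι) → Subgroup (L i) := fun i => (H i).subgroupOf (L i)
  haveI hAn : ∀ i, (A i).Normal := fun i => ⟨fun a ha g => by
    show ((g * a * g⁻¹ : L i) : G) ∈ H i
    simpa using hHn i g g.2 _ ha⟩
  have hdata := fun i => @ti_kernel_data G _ _ hodd (H i) (L i) _ (hAn i) (hHL i) (hH1 i) (hHn i)
    (hfrob i) (hTI i).1 (hTI i).2
  have hC : ∀ i, ∀ a ∈ A i, a ≠ 1 → Subgroup.centralizer ({a} : Set (L i)) ≤ A i :=
    fun i => (hdata i).1
  have hdata' := fun i => (hdata i).2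
  choose star M lam hstar hext hlam hlam1 hconj hM hsq using hdata'
  have hT : ∀ i, ∀ g : G, g ∉ L i → ∀ t ∈ (H i : Set G), g * t * g⁻¹ ∈ (H i : Set G) → t = 1 :=
    fun i g hg => (hTI i).1 g (by rw [(hTI i).2]; exact hg)
  -- numerical parameters
  set l : ι → ℕ := fun i => (A i).index with hldef
  set hh : ι → ℕ := fun i => Nat.card (H i) with hhdef
  have hcardA : ∀ i, Nat.card (A i) = hh i := fun i =>
    Nat.card_congr (Subgroup.subgroupOfEquivOfLe (hHL i).le).toEquiv
  have hcardL : ∀ i, Nat.card (L i) = hh i * l i := fun i => by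
    rw [← (A i).card_mul_index, hcardA]
  have hhodd : ∀ i, Odd (hh i) := fun i => hodd.of_dvd_nat (Subgroup.card_subgroup_dvd_card _)
  have hlodd : ∀ i, Odd (l i) := fun i => (hodd.of_dvd_nat (Subgroup.card_subgroup_dvd_card (L i))).of_dvd_nat
    (Subgroup.index_dvd_card _)
  have hl3 : ∀ i, 3 ≤ l i := fun i => by
    have h1 : (A i).index ≠ 1 := fun h =>
      (hHL i).not_ge (Subgroup.subgroupOf_eq_top.1 (Subgroup.index_eq_one.1 h))
    obtain ⟨t, ht⟩ := hlodd i
    simp only [hldef] at ht ⊢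
    omega
  have hh1 : ∀ i, 1 < hh i := fun i => by
    haveI := (Subgroup.nontrivial_iff_ne_bot _).2 (hH1 i)
    exact Finite.one_lt_card
  -- the sets of characters
  let S : (i : ι) → Finset (L i → ℂ) := fun i => irrFinset (L i) \ trivialOn (A i)
  have hSmem : ∀ i χ, χ ∈ S i ↔ χ ∈ relevantChars (A i) := fun i χ => by
    simp only [S, Finset.mem_sdiff, mem_irrFinset, mem_trivialOn, relevantChars, Set.mem_ofPred_eq]
    refine ⟨fun h => ⟨h.1, ?_⟩, fun h => ⟨h.1, fun h' => ?_⟩⟩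
    · by_contra hcon
      push Not at hcon
      exact h.2 ⟨h.1, hcon⟩
    · obtain ⟨k, hk, hne⟩ := h.2
      exact hne (h'.2 k hk)
  let m : (i : ι) → (L i → ℂ) → ℕ := fun i χ => cdeg χ / l i
  have hm : ∀ i, ∀ χ ∈ S i, χ 1 = (m i χ : ℂ) * (l i : ℂ) := fun i χ hχ => by
    rw [irr_apply_one_eq_cdeg ((hSmem i χ).1 hχ).1, ← Nat.cast_mul,
      Nat.div_mul_cancel ((hconj i χ ((hSmem i χ).1 hχ)).2.2)]
  have hmlam : ∀ i, m i (lam i) = 1 := fun i => by
    have h := hm i _ ((hSmem i _).2 (hlam i))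
    rw [hlam1 i] at h
    have h' : l i = m i (lam i) * l i := by exact_mod_cast h
    exact Nat.eq_of_mul_eq_mul_right (show 0 < l i by have := hl3 i; omega)
      (by rw [one_mul]; exact h'.symm)
  set q : ι → ℕ := fun i => ∑ χ ∈ S i, m i χ ^ 2 with hqdef
  have hhq : ∀ i, hh i = q i * l i + 1 := fun i => by
    have h := hsq i (S i) (hSmem i)
    rw [Finset.sum_congr rfl (g := fun χ => m i χ ^ 2 * l i ^ 2) fun χ hχ => by
      rw [← mul_pow, Nat.div_mul_cancel ((hconj i χ ((hSmem i χ).1 hχ)).2.2)],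
      ← Finset.sum_mul] at h
    have h' : (q i * l i) * l i = (hh i - 1) * l i := by
      rw [mul_assoc, ← sq]
      exact h.trans (mul_comm _ _)
    have := Nat.eq_of_mul_eq_mul_right (show 0 < l i by have := hl3 i; omega) h'
    have := hh1 i
    omega
  have hqe : ∀ i, Even (q i) := fun i => by
    have h := hhodd i
    rw [hhq i, Nat.odd_add_one, Nat.not_odd_iff_even, Nat.even_mul] at h
    exact h.resolve_right (Nat.not_even_iff_odd.2 (hlodd i))
  have hq2 : ∀ i, 2 ≤ q i := fun i => by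
    obtain ⟨t, ht⟩ := hqe i
    have h1 := hhq i
    have h2 := hh1 i
    have : q i ≠ 0 := fun h0 => by rw [h0, zero_mul] at h1; omega
    omega
  have hhinj : Function.Injective hh := fun i j hij => by
    by_contra hne
    have h := hcop i j hne
    rw [show Nat.card (H j) = Nat.card (H i) from hij.symm, Nat.coprime_self] at h
    exact (hh1 i).ne' h
  -- the kernels do not fuse
  have hfuse : ∀ i j, i ≠ j → ∀ g ∈ H i, ∀ g' ∈ H j, IsConj g g' → g = 1 := by
    intro i j hij g hg g' hg' hc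
    obtain ⟨x, hx⟩ := isConj_iff.1 hc
    refine orderOf_eq_one_iff.1 (Nat.eq_one_of_dvd_coprimes (hcop i j hij)
      (Subgroup.orderOf_dvd_natCard _ hg) ?_)
    have e : orderOf g = orderOf g' := by
      rw [← hx]; exact ((MulAut.conj x).orderOf_eq g).symm
    rw [e]
    exact Subgroup.orderOf_dvd_natCard _ hg'
  have hoff : ∀ i, ∀ f : L i → ℂ, (∀ x, x ∉ A i → f x = 0) → f 1 = 0 → ∀ (y : L i), f y ≠ 0 →
      (y : G) ∈ H i ∧ (y : G) ≠ 1 := fun i f hf hf1 y hy =>
    ⟨(by_contra fun h => hy (hf y h)), fun h => hy (by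
      rw [show y = 1 from Subtype.ext h, hf1])⟩
  have horthInd : ∀ i j, i ≠ j → ∀ (f : L i → ℂ) (f' : L j → ℂ), (∀ x, x ∉ A i → f x = 0) → f 1 = 0 →
      (∀ x, x ∉ A j → f' x = 0) → f' 1 = 0 →
      Cfsg.classInner (Cfsg.indFun (L i) f) (Cfsg.indFun (L j) f') = 0 :=
    fun i j hij f f' h1 h2 h3 h4 => classInner_indFun_of_not_conj fun y y' hy hy' hc => by
      obtain ⟨a1, a2⟩ := hoff i f h1 h2 y hy
      obtain ⟨b1, -⟩ := hoff j f' h3 h4 y' hy'
      exact a2 (hfuse i j hij _ a1 _ b1 hc)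
  -- signed irreducibles
  have hz : ∀ i, ∀ χ ∈ S i, χ ∈ Cfsg.zspan (relevantChars (A i)) := fun i χ hχ =>
    subset_zspan ((hSmem i χ).1 hχ)
  have hsig : ∀ i, ∀ χ ∈ S i, IsSignedIrr (star i χ) := fun i χ hχ =>
    IsGeneralized.isIrr_or_neg ((hstar i).2.2.2 _ (hz i χ hχ)) (by
      rw [(hstar i).2.2.1 _ (hz i χ hχ) _ (hz i χ hχ),
        IsIrrCharacter.classInner_self ((hSmem i χ).1 hχ).1])
  have hsex := fun i χ (hχ : χ ∈ S i) => IsSignedIrr.exists_smul (hsig i χ hχ)
  choose! ε rep hε hrep hrepe using hsex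
  have hrepinner : ∀ i χ, χ ∈ S i → ∀ φ : G → ℂ,
      Cfsg.classInner φ (star i χ) = ε i χ * Cfsg.classInner φ (rep i χ) := fun i χ hχ φ => by
    rw [hrepe i χ hχ, classInner_smul_right]
    rcases hε i χ hχ with h | h <;> simp [h]
  have hεsq : ∀ i χ, χ ∈ S i → ε i χ * ε i χ = 1 := fun i χ hχ => by
    rcases hε i χ hχ with h | h <;> simp [h]
  -- different kernels give orthogonal characters
  have hstarorth : ∀ i j, i ≠ j → ∀ χ ∈ S i, ∀ ξ ∈ S j, Cfsg.classInner (star i χ) (star j ξ) = 0 := by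
    intro i j hij χ hχ ξ hξ
    have hpack : ∀ i, ∀ χ ∈ S i, Cfsg.conjFun χ ∈ S i ∧
        Cfsg.classInner (star i χ) (star i (Cfsg.conjFun χ)) = 0 ∧
        Cfsg.indFun (L i) (χ - Cfsg.conjFun χ) = star i χ - star i (Cfsg.conjFun χ) ∧
        star i χ 1 = star i (Cfsg.conjFun χ) 1 ∧ (∀ x, x ∉ A i → (χ - Cfsg.conjFun χ) x = 0) ∧
        (χ - Cfsg.conjFun χ) 1 = 0 := by
      intro i χ hχ
      have hr := (hSmem i χ).1 hχ
      obtain ⟨hc1, hc2, -⟩ := hconj i χ hr
      obtain ⟨d, -, hd⟩ := IsIrrCharacter.exists_degree hr.1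
      have h1 : (χ - Cfsg.conjFun χ) 1 = 0 := by simp [Cfsg.conjFun, hd]
      have hmem : χ - Cfsg.conjFun χ ∈ Cfsg.zspanOn (relevantChars (A i)) ({1}ᶜ : Set (L i)) :=
        mem_zspanOn_one.2 ⟨Submodule.sub_mem _ (subset_zspan hr) (subset_zspan hc1), h1⟩
      have e : Cfsg.indFun (L i) (χ - Cfsg.conjFun χ) = star i χ - star i (Cfsg.conjFun χ) := by
        rw [← hext i _ hmem, isometry_map_sub (M := Submodule.span ℤ (relevantChars (A i))) (hstar i)
          (subset_zspan hr) (subset_zspan hc1)]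
      refine ⟨(hSmem i _).2 hc1, ?_, e, ?_, fun x hx => ?_, h1⟩
      · rw [(hstar i).2.2.1 _ (subset_zspan hr) _ (subset_zspan hc1),
          IsIrrCharacter.classInner_of_ne hr.1 hc1.1 (Ne.symm hc2)]
      · have h2 := congrFun e 1
        rw [indFun_one, h1, mul_zero, Pi.sub_apply] at h2
        exact sub_eq_zero.1 h2.symm
      · rw [Pi.sub_apply, relevant_apply_eq_zero (hC i) hr hx, relevant_apply_eq_zero (hC i) hc1 hx,
          sub_zero]
    obtain ⟨a1, a2, a3, a4, a5, a6⟩ := hpack i χ hχ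
    obtain ⟨b1, b2, b3, b4, b5, b6⟩ := hpack j ξ hξ
    refine weighted_signed (hsig i χ hχ) (hsig i _ a1) (hsig j ξ hξ) (hsig j _ b1) (p := 1) (q := 1)
      (r := 1) (s := 1) one_pos one_pos one_pos one_pos a2 b2 ?_ (by simpa using a4) (by simpa using b4)
    simp only [Nat.cast_one, one_smul]
    rw [← a3, ← b3]
    exact horthInd i j hij _ _ a5 a6 b5 b6
  have htwo : ∀ i, ∃ χ ∈ relevantChars (A i), ∃ ξ ∈ relevantChars (A i), χ ≠ ξ := fun i =>
    ⟨_, hlam i, _, (hconj i _ (hlam i)).1, Ne.symm (hconj i _ (hlam i)).2.1⟩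
  have hnonconst : ∀ i, ∀ χ ∈ S i, ∃ a ∈ A i, ∃ b ∈ A i, a ≠ 1 ∧ b ≠ 1 ∧
      rep i χ a ≠ rep i χ b := fun i χ hχ => by
    refine (eq_star_iff_not_const (star i) (hstar i) (hext i) (hC i) (htwo i) (hrep i χ hχ)).1
      ⟨χ, (hSmem i χ).1 hχ, ?_⟩
    rcases hε i χ hχ with h | h
    · left; rw [hrepe i χ hχ, h, one_smul]
    · right; rw [hrepe i χ hχ, h, neg_one_smul, neg_neg]
  have hrepne : ∀ i j, i ≠ j → ∀ χ ∈ S i, ∀ ξ ∈ S j, rep i χ ≠ rep j ξ := by
    intro i j hij χ hχ ξ hξ he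
    have h := hstarorth i j hij χ hχ ξ hξ
    rw [hrepe i χ hχ, hrepe j ξ hξ, he, classInner_smul_left, classInner_smul_right,
      IsIrrCharacter.classInner_self (hrep j ξ hξ)] at h
    rcases hε i χ hχ with e1 | e1 <;> rcases hε j ξ hξ with e2 | e2 <;> simp [e1, e2] at h
  -- the values on the other kernels
  have hvanish : ∀ i j, i ≠ j → ∀ k ∈ A j, k ≠ 1 → ∀ f : L i → ℂ, (∀ x, x ∉ A i → f x = 0) →
      f 1 = 0 → Cfsg.indFun (L i) f (k : G) = 0 := by
    intro i j hij k hk hk1 f hf hf1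
    by_contra hne
    obtain ⟨x, hx, hfx⟩ := exists_conj_of_indFun_ne_zero hne
    obtain ⟨a1, a2⟩ := hoff i f hf hf1 _ hfx
    exact a2 (hfuse i j hij _ a1 _ hk (isConj_iff.2 ⟨x, by simp only [Subgroup.coe_subtype]; group⟩))
  have hscale : ∀ i j, i ≠ j → ∀ χ ∈ S i, ∀ k ∈ A j, k ≠ 1 →
      star i χ (k : G) = (m i χ : ℂ) * star i (lam i) (k : G) := by
    intro i j hij χ hχ k hk hk1
    have hr := (hSmem i χ).1 hχ
    have hd := irr_apply_one_eq_cdeg hr.1
    have e := indFun_pair (star i) (hstar i) (hext i) hr (hlam i) hd (hlam1 i)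
    have h := hvanish i j hij k hk hk1 (((A i).index : ℂ) • χ - (cdeg χ : ℂ) • lam i)
      (fun x hx => by
        simp [relevant_apply_eq_zero (hC i) hr hx, relevant_apply_eq_zero (hC i) (hlam i) hx])
      (by show ((A i).index : ℂ) * χ 1 - (cdeg χ : ℂ) * lam i 1 = 0
          rw [hd, hlam1 i]; exact sub_eq_zero.2 (mul_comm _ _))
    rw [e, Pi.sub_apply, Pi.smul_apply, Pi.smul_apply, smul_eq_mul, smul_eq_mul, sub_eq_zero, ← hd,
      hm i χ hχ] at h
    refine mul_left_cancel₀ (Nat.cast_ne_zero.2 (show l i ≠ 0 by have := hl3 i; omega) : (l i : ℂ) ≠ 0) ?_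
    rw [show ((A i).index : ℂ) = (l i : ℂ) from rfl] at h
    linear_combination h
  have hcex : ∀ i j, ∃ c : ℤ, i ≠ j → ∀ k ∈ A j, k ≠ 1 → star i (lam i) (k : G) = (c : ℂ) := by
    intro i j
    by_cases hij : i = j
    · exact ⟨0, fun h => absurd hij h⟩
    have hl' := (hSmem i _).2 (hlam i)
    have hconst : ∀ p ∈ A j, ∀ p' ∈ A j, p ≠ 1 → p' ≠ 1 → rep i (lam i) p = rep i (lam i) p' := by
      intro p hp p' hp' hp1 hp1'
      by_contra hne
      obtain ⟨ξ, hξ, hor⟩ := (eq_star_iff_not_const (star j) (hstar j) (hext j) (hC j) (htwo j)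
        (hrep i _ hl')).2 ⟨p, hp, p', hp', hp1, hp1', hne⟩
      have h0 := hstarorth i j hij _ hl' ξ ((hSmem j ξ).2 hξ)
      rw [hrepe i _ hl'] at h0
      rcases hor with h | h <;> (try rw [← neg_eq_iff_eq_neg] at h) <;>
        rw [← h] at h0 <;>
        rcases hε i _ hl' with e1 | e1 <;>
        simp [e1, classInner_neg_left, classInner_neg_right, classInner_smul_left,
          IsIrrCharacter.classInner_self (hrep i _ hl')] at h0
    obtain ⟨k₀, hk₀⟩ : ∃ k : A j, k ≠ 1 := by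
      haveI : Nontrivial (A j) := Finite.one_lt_card_iff_nontrivial.1 (by rw [hcardA]; exact hh1 j)
      exact exists_ne 1
    obtain ⟨c, hc⟩ : ∃ c : ℤ, rep i (lam i) ((k₀ : L j) : G) = c := by
      refine IsCharacter.exists_int_apply (IsIrrCharacter.isCharacter (hrep i _ hl')) fun t ht => ?_
      have hk1 : (k₀ : L j) ≠ 1 := fun h => hk₀ (Subtype.ext h)
      rw [← SubmonoidClass.coe_pow]
      refine hconst _ ((A j).pow_mem k₀.2 t) _ k₀.2 (fun h => hk₀ ?_) hk1
      refine (powCoprime (show (Nat.card (A j)).Coprime t from ?_)).injective ?_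
      · have hd : Nat.card (A j) ∣ Nat.card G :=
          (Subgroup.card_subgroup_dvd_card (A j)).trans (Subgroup.card_subgroup_dvd_card (L j))
        exact (Nat.Coprime.coprime_dvd_right hd ht).symm
      · exact Subtype.ext (by simpa using h)
    obtain ⟨s, hs⟩ : ∃ s : ℤ, ε i (lam i) = (s : ℂ) := by
      rcases hε i _ hl' with h | h
      · exact ⟨1, by simp [h]⟩
      · exact ⟨-1, by simp [h]⟩
    refine ⟨s * c, fun _ k hk hk1 => ?_⟩
    rw [hrepe i _ hl', Pi.smul_apply, smul_eq_mul, Int.cast_mul, hs,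
      hconst k hk k₀ k₀.2 hk1 (fun h => hk₀ (Subtype.ext h)), hc]
  choose c hc using hcex
  -- all the irreducible characters
  set Rs : ι → Finset (G → ℂ) := fun i => (S i).image (rep i) with hRs
  have hrepinj : ∀ i, Set.InjOn (rep i) (↑(S i) : Set (L i → ℂ)) := by
    intro i χ hχ χ' hχ' heq
    by_contra hne
    have h := (hstar i).2.2.1 _ (hz i χ hχ) _ (hz i χ' hχ')
    rw [IsIrrCharacter.classInner_of_ne ((hSmem i χ).1 hχ).1 ((hSmem i χ').1 hχ').1 hne,
      hrepe i χ hχ, hrepe i χ' hχ', heq, classInner_smul_left, classInner_smul_right,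
      IsIrrCharacter.classInner_self (hrep i χ' hχ')] at h
    rcases hε i χ hχ with e1 | e1 <;> rcases hε i χ' hχ' with e2 | e2 <;> simp [e1, e2] at h
  have hdisjR : ∀ i ∈ (Finset.univ : Finset ι), ∀ j ∈ (Finset.univ : Finset ι), i ≠ j →
      Disjoint (Rs i) (Rs j) := fun i _ j _ hij => Finset.disjoint_left.2 fun φ h h' => by
    obtain ⟨χ, hχ, rfl⟩ := Finset.mem_image.1 h
    obtain ⟨ξ, hξ, he⟩ := Finset.mem_image.1 h'
    exact hrepne i j hij χ hχ ξ hξ he.symm
  have h1notin : (fun _ : G => (1 : ℂ)) ∉ Finset.univ.biUnion Rs := fun h => by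
    obtain ⟨i, -, hi⟩ := Finset.mem_biUnion.1 h
    obtain ⟨χ, hχ, he⟩ := Finset.mem_image.1 hi
    obtain ⟨p, -, p', -, -, -, hne⟩ := hnonconst i χ hχ
    exact hne (by rw [he])
  have hirr : irrFinset G = insert (fun _ => 1) (Finset.univ.biUnion Rs) := by
    refine (Finset.eq_of_subset_of_card_le ?_ ?_).symm
    · intro φ hφ
      rcases Finset.mem_insert.1 hφ with rfl | h
      · exact mem_irrFinset.2 isIrrCharacter_one
      · obtain ⟨i, -, hi⟩ := Finset.mem_biUnion.1 h
        obtain ⟨χ, hχ, rfl⟩ := Finset.mem_image.1 hi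
        exact mem_irrFinset.2 (hrep i χ hχ)
    rw [Finset.card_insert_of_notMem h1notin, Finset.card_biUnion hdisjR,
      ← card_irr, card_irr_eq_card_conjClasses]
    haveI := Fintype.ofFinite (ConjClasses G)
    haveI : ∀ i, Fintype (ConjClasses (L i)) := fun i => Fintype.ofFinite _
    let P : (i : ι) → Finset (ConjClasses (L i)) := fun i =>
      Finset.univ.filter fun C => ∃ k ∈ A i, ConjClasses.mk k = C
    have hsub : (Finset.univ : Finset (ConjClasses G)) ⊆ insert 1
        (Finset.univ.biUnion fun i => ((P i).erase 1).image (ConjClasses.map (L i).subtype)) := by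
      intro C _
      obtain ⟨g, rfl⟩ := ConjClasses.mk_surjective C
      by_cases hg : g = 1
      · rw [hg]; exact Finset.mem_insert_self _ _
      obtain ⟨i, x, hx⟩ := hcover g hg
      refine Finset.mem_insert_of_mem (Finset.mem_biUnion.2 ⟨i, Finset.mem_univ _, Finset.mem_image.2
        ⟨ConjClasses.mk ⟨_, (hHL i).le hx⟩, Finset.mem_erase.2 ⟨fun h => hg ?_, ?_⟩, ?_⟩⟩)
      · have h' := congrArg Subtype.val (isConj_one_left.1 (ConjClasses.mk_eq_mk_iff_isConj.1 h))
        simpa using h'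
      · exact Finset.mem_filter.2 ⟨Finset.mem_univ _, _, hx, rfl⟩
      · exact ConjClasses.mk_eq_mk_iff_isConj.2 (isConj_iff.2 ⟨x⁻¹, by simp; group⟩)
    rw [Nat.card_eq_fintype_card, ← Finset.card_univ]
    refine (Finset.card_le_card hsub).trans ((Finset.card_insert_le _ _).trans
      (Nat.add_le_add_right (Finset.card_biUnion_le.trans (Finset.sum_le_sum fun i _ => ?_)) 1))
    refine Finset.card_image_le.trans ?_
    show ((P i).erase 1).card ≤ ((S i).image (rep i)).card
    rw [Finset.card_image_of_injOn (hrepinj i)]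
    have h1 := card_classes_meeting_le (A := A i)
    rw [Nat.card_eq_fintype_card, Fintype.card_subtype] at h1
    have h2 : (S i).card + (trivialOn (A i)).card = (irrFinset (L i)).card :=
      Finset.card_sdiff_add_card_eq_card fun β hβ => mem_irrFinset.2 (mem_trivialOn.1 hβ).1
    have h3 : ((P i).erase 1).card + 1 = (P i).card := Finset.card_erase_add_one
      (Finset.mem_filter.2 ⟨Finset.mem_univ _, 1, (A i).one_mem, rfl⟩)
    simp only [P] at h3 ⊢
    omega
  -- the functions `R i`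
  set R : ι → G → ℂ := fun i => Cfsg.indFun (L i) (nuFun (A i) (lam i)) with hR
  have hν := fun i => nuFun_facts (hC i) (hlam i) (hlam1 i)
  set C' : ι → ι → ℤ := fun k i => if k = i then M k else c k i with hC'def
  have hcoef : ∀ i k, ∀ χ ∈ S k, Cfsg.classInner (R i) (star k χ) =
      (((C' k i * (m k χ : ℤ) - if k = i ∧ χ = lam k then 1 else 0) : ℤ) : ℂ) := by
    intro i k χ hχ
    have hr := (hSmem k χ).1 hχ
    have hcl := IsGeneralized.isClassFunction ((hstar k).2.2.2 _ (hz k χ hχ))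
    by_cases hki : k = i
    · subst hki
      rw [hR, classInner_indFun_nuFun (hC k) (hlam k) (hlam1 k) hcl χ ((M k : ℂ) * (m k χ : ℂ))
        fun x hx hx1 => ?_]
      · rw [(hν k).2.2.2.2.2 χ hr, IsIrrCharacter.classInner_eq (hlam k).1 hr.1]
        simp only [hC'def, if_true, map_mul, map_intCast, map_natCast, true_and, eq_comm (a := χ)]
        split_ifs <;> push_cast <;> ring
      · have h := hM k χ hr x hx hx1
        rw [hm k χ hχ] at h
        have hl0 : ((A k).index : ℂ) ≠ 0 := Nat.cast_ne_zero.2 (A k).index_ne_zero_of_finite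
        rw [show (l k : ℂ) = ((A k).index : ℂ) from rfl] at h
        field_simp at h
        linear_combination h
    · rw [hR, classInner_indFun_nuFun (hC i) (hlam i) (hlam1 i) hcl 0 ((c k i : ℂ) * (m k χ : ℂ))
        fun x hx hx1 => ?_]
      · rw [classInner_zero_right]
        simp [hC'def, hki]
      · rw [hscale k i hki χ hχ x hx hx1, hc k i hki x hx hx1, Pi.zero_apply]
        ring
  have hR1 : ∀ i, Cfsg.classInner (R i) (fun _ => 1) = 1 := fun i => by
    rw [hR, classInner_indFun _ (IsIrrCharacter.isClassFunction isIrrCharacter_one)]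
    exact (hν i).2.2.2.1
  have hRR : ∀ i j, Cfsg.classInner (R i) (R j) =
      ((1 + ∑ k, ∑ χ ∈ S k, ((C' k i * (m k χ : ℤ) - if k = i ∧ χ = lam k then 1 else 0) *
        (C' k j * (m k χ : ℤ) - if k = j ∧ χ = lam k then 1 else 0)) : ℤ) : ℂ) := by
    intro i j
    rw [classInner_eq_sum_irr (isClassFunction_indFun _ _), hirr, Finset.sum_insert h1notin,
      Finset.sum_biUnion hdisjR, hR1, hR1, map_one, mul_one, Int.cast_add, Int.cast_one, Int.cast_sum]
    congr 1
    refine Finset.sum_congr rfl fun k _ => ?_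
    rw [Finset.sum_image (hrepinj k), Int.cast_sum]
    refine Finset.sum_congr rfl fun χ hχ => ?_
    have e1 := hrepinner k χ hχ (R i)
    have e2 := hrepinner k χ hχ (R j)
    rw [hcoef i k χ hχ] at e1
    rw [hcoef j k χ hχ] at e2
    have e2' := congrArg (starRingEnd ℂ) e2
    rw [map_intCast, map_mul, show (starRingEnd ℂ) (ε k χ) = ε k χ by
      rcases hε k χ hχ with h | h <;> simp [h]] at e2'
    rw [Int.cast_mul, e1, e2']
    linear_combination -(Cfsg.classInner (R i) (rep k χ) *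
      (starRingEnd ℂ) (Cfsg.classInner (R j) (rep k χ))) * hεsq k χ hχ
  have hSsum : ∀ i j k, ∑ χ ∈ S k, ((C' k i * (m k χ : ℤ) - if k = i ∧ χ = lam k then 1 else 0) *
        (C' k j * (m k χ : ℤ) - if k = j ∧ χ = lam k then 1 else 0)) =
      C' k i * C' k j * (q k : ℤ) - (if k = i then C' k j else 0) - (if k = j then C' k i else 0) +
        if k = i ∧ k = j then 1 else 0 := by
    intro i j k
    rw [Finset.sum_congr rfl (g := fun χ => C' k i * C' k j * ((m k χ : ℤ)) ^ 2 +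
      if χ = lam k then (if k = i ∧ k = j then (1 : ℤ) else 0) -
        (if k = i then C' k j * (m k χ : ℤ) else 0) - (if k = j then C' k i * (m k χ : ℤ) else 0)
      else 0) fun χ _ => ?_, Finset.sum_add_distrib, ← Finset.mul_sum, Finset.sum_ite_eq',
      if_pos ((hSmem k _).2 (hlam k)), hmlam k, hqdef]
    · push_cast
      split_ifs <;> ring
    · split_ifs <;> first | ring1 | tauto
  have hformula : ∀ i j, Cfsg.classInner (R i) (R j) =
      ((1 + (∑ k, C' k i * C' k j * (q k : ℤ)) - C' i j - C' j i + if i = j then 1 else 0 : ℤ) : ℂ) := by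
    intro i j
    rw [hRR i j, Finset.sum_congr rfl fun k _ => hSsum i j k]
    simp only [Finset.sum_add_distrib, Finset.sum_sub_distrib, Finset.sum_ite_eq', Finset.mem_univ,
      if_true, ite_and]
    push_cast
    ring
  have hpar : ∀ i j, i ≠ j → Odd (c i j + c j i) := by
    intro i j hij
    have h := horthInd i j hij _ _ (hν i).2.2.1 (hν i).2.1 (hν j).2.2.1 (hν j).2.1
    rw [show Cfsg.indFun (L i) (nuFun (A i) (lam i)) = R i from rfl,
      show Cfsg.indFun (L j) (nuFun (A j) (lam j)) = R j from rfl, hformula i j, Int.cast_eq_zero,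
      if_neg hij] at h
    simp only [hC'def, if_neg hij, if_neg (Ne.symm hij)] at h
    obtain ⟨t, ht⟩ : Even (∑ k, (if k = i then M k else c k i) * (if k = j then M k else c k j) * (q k : ℤ)) := by
      refine Finset.even_sum _ fun k _ => ?_
      exact Even.mul_left (by exact_mod_cast hqe k) _
    rw [ht] at h
    exact ⟨t, by linarith⟩
  have hMq : ∀ i, (0 : ℤ) ≤ (M i) ^ 2 * (q i : ℤ) - 2 * M i := fun i => by
    have h2 : (2 : ℤ) ≤ (q i : ℤ) := by exact_mod_cast hq2 i
    have h1 := mul_le_mul_of_nonneg_left h2 (sq_nonneg (M i))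
    rcases le_or_gt (M i) 0 with h | h <;> nlinarith
  have hcol : ∀ i, ∑ k ∈ Finset.univ.erase i, (c k i : ℝ) ^ 2 * (q k : ℝ) ≤ (l i : ℝ) - 1 := by
    intro i
    have h := classInner_indFun_TI (hT i) (hν i).1 (fun x hx => (hν i).2.2.1 x hx)
      (fun x hx => (hν i).2.2.1 x hx) (hν i).2.1
    rw [(hν i).2.2.2.2.1, show Cfsg.indFun (L i) (nuFun (A i) (lam i)) = R i from rfl, hformula i i,
      if_pos rfl] at h
    have hZ : (1 + (∑ k, C' k i * C' k i * (q k : ℤ)) - C' i i - C' i i + 1 : ℤ) = (l i : ℤ) + 1 := by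
      exact_mod_cast h
    rw [← Finset.add_sum_erase _ _ (Finset.mem_univ i)] at hZ
    have hc' : ∀ k ∈ Finset.univ.erase i, C' k i * C' k i * (q k : ℤ) = c k i ^ 2 * (q k : ℤ) :=
      fun k hk => by simp only [hC'def, if_neg (Finset.ne_of_mem_erase hk)]; ring
    rw [Finset.sum_congr rfl hc'] at hZ
    simp only [hC'def, if_true] at hZ
    have hle : (∑ k ∈ Finset.univ.erase i, c k i ^ 2 * (q k : ℤ)) ≤ (l i : ℤ) - 1 := by
      have := hMq i
      linarith
    have hle' : ((∑ k ∈ Finset.univ.erase i, c k i ^ 2 * (q k : ℤ) : ℤ) : ℝ) ≤ (((l i : ℤ) - 1 : ℤ) : ℝ) :=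
      Int.cast_le.2 hle
    push_cast at hle'
    exact hle'
  have hqh : ∀ j, ((Nat.card (A j) : ℂ) - 1) / (Nat.card (L j) : ℂ) = (((q j : ℝ) / (hh j : ℝ) : ℝ) : ℂ) := by
    intro j
    have hl0 : (l j : ℂ) ≠ 0 := Nat.cast_ne_zero.2 (by have := hl3 j; omega)
    rw [hcardA, hcardL]
    push_cast
    have e : (hh j : ℂ) = (q j : ℂ) * (l j : ℂ) + 1 := by exact_mod_cast hhq j
    rw [show (hh j : ℂ) - 1 = (q j : ℂ) * (l j : ℂ) by rw [e]; ring, mul_div_mul_right _ _ hl0]
  have hrow : ∀ i, ∑ j ∈ Finset.univ.erase i, (c i j : ℝ) ^ 2 * ((q j : ℝ) / (hh j : ℝ)) ≤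
      (l i : ℝ) / (hh i : ℝ) := by
    intro i
    have hl' := (hSmem i _).2 (hlam i)
    have hcl := IsGeneralized.isClassFunction ((hstar i).2.2.2 _ (hz i _ hl'))
    set φ := star i (lam i) with hφ
    let ρ : (j : ι) → L j → ℂ := fun j => restrictKernel (A j) φ
    have hρ0 : ∀ j (x : L j), x ∉ A j → ρ j x = 0 := fun j x hx =>
      restrictKernel_eq_zero φ fun h => hx h.1
    have hρ1 : ∀ j, ρ j 1 = 0 := fun j => restrictKernel_eq_zero φ fun h => h.2 rfl
    have hρc : ∀ j, Cfsg.IsClassFunction (L j) (ρ j) := fun j x y => by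
      by_cases hx : x ∈ A j ∧ x ≠ 1
      · have hxy : y * x * y⁻¹ ∈ A j ∧ y * x * y⁻¹ ≠ 1 :=
          ⟨(hAn j).conj_mem x hx.1 y, fun h => hx.2 (by simpa using h)⟩
        show restrictKernel (A j) φ _ = restrictKernel (A j) φ x
        rw [restrictKernel_apply φ hx.1 hx.2, restrictKernel_apply φ hxy.1 hxy.2]
        exact hcl x y
      · show restrictKernel (A j) φ _ = restrictKernel (A j) φ x
        rw [restrictKernel_eq_zero φ hx, restrictKernel_eq_zero φ fun h => hx ⟨?_, fun h1 => h.2 (by rw [h1]; group)⟩]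
        have := (hAn j).conj_mem _ h.1 y⁻¹
        simpa [mul_assoc] using this
    have hbes := bessel_family φ (fun j => Cfsg.indFun (L j) (ρ j))
      (fun a b hab => horthInd a b hab _ _ (hρ0 a) (hρ1 a) (hρ0 b) (hρ1 b)) fun j => by
        rw [classInner_indFun_TI (hT j) (hρc j) (fun x hx => hρ0 j x hx) (fun x hx => hρ0 j x hx) (hρ1 j),
          classInner_indFun_right hcl, classInner_def, classInner_def]
        congr 1
        refine Finset.sum_congr rfl fun x _ => ?_
        by_cases hx : x ∈ A j ∧ x ≠ 1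
        · rw [show ρ j x = φ x from restrictKernel_apply φ hx.1 hx.2]
        · rw [show ρ j x = 0 from restrictKernel_eq_zero φ hx, map_zero, mul_zero, mul_zero]
    rw [(hstar i).2.2.1 _ (hz i _ hl') _ (hz i _ hl'), IsIrrCharacter.classInner_self (hlam i).1,
      Complex.one_re] at hbes
    have hterm : ∀ j, (Cfsg.classInner (Cfsg.indFun (L j) (ρ j)) (Cfsg.indFun (L j) (ρ j))).re =
        if j = i then 1 - (l i : ℝ) / (hh i : ℝ) + ((M i : ℝ) ^ 2 * (q i : ℝ) - 2 * (M i : ℝ)) / (hh i : ℝ)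
        else (c i j : ℝ) ^ 2 * ((q j : ℝ) / (hh j : ℝ)) := by
      intro j
      rw [classInner_indFun_TI (hT j) (hρc j) (fun x hx => hρ0 j x hx) (fun x hx => hρ0 j x hx) (hρ1 j)]
      by_cases hj : j = i
      · subst hj
        rw [if_pos rfl]
        show (Cfsg.classInner (restrictKernel (A j) φ) (restrictKernel (A j) φ)).re = _
        rw [classInner_restrictKernel_shift (hC j) (hlam j) (hlam1 j) φ (M j) fun k hk hk1 => ?_]
        · have hl0 : (l j : ℂ) ≠ 0 := Nat.cast_ne_zero.2 (by have := hl3 j; omega)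
          have e : ((Nat.card (A j) : ℂ) - 1) / ((A j).index : ℂ) = (q j : ℂ) := by
            rw [hcardA, hhq j]; push_cast
            rw [add_sub_cancel_right]
            exact mul_div_cancel_right₀ _ hl0
          rw [e, hcardA, show ((A j).index : ℂ) = (l j : ℂ) from rfl,
            show (1 : ℂ) - (l j : ℂ) / (hh j : ℂ) + ((M j : ℂ) ^ 2 * (q j : ℂ) - 2 * (M j : ℂ)) / (hh j : ℂ) =
              ((1 - (l j : ℝ) / (hh j : ℝ) + ((M j : ℝ) ^ 2 * (q j : ℝ) - 2 * (M j : ℝ)) / (hh j : ℝ) : ℝ) : ℂ) by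
              push_cast; ring, Complex.ofReal_re]
        · have h := hM j _ (hlam j) k hk hk1
          rw [hlam1 j, mul_div_assoc, div_self (Nat.cast_ne_zero.2 (A j).index_ne_zero_of_finite),
            mul_one] at h
          linear_combination h
      · rw [if_neg hj]
        show (Cfsg.classInner (restrictKernel (A j) φ) (restrictKernel (A j) φ)).re = _
        rw [classInner_restrictKernel_const φ (c i j : ℂ) fun k hk hk1 => hc i j (Ne.symm hj) k hk hk1,
          hqh, map_intCast,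
          show (c i j : ℂ) * (c i j : ℂ) * (((q j : ℝ) / (hh j : ℝ) : ℝ) : ℂ) =
            (((c i j : ℝ) ^ 2 * ((q j : ℝ) / (hh j : ℝ)) : ℝ) : ℂ) by push_cast; ring,
          Complex.ofReal_re]
    rw [Finset.sum_congr rfl fun j _ => hterm j, ← Finset.add_sum_erase _ _ (Finset.mem_univ i),
      if_pos rfl, Finset.sum_congr rfl fun j hj => if_neg (Finset.ne_of_mem_erase hj)] at hbes
    have h0 : (0 : ℝ) ≤ ((M i : ℝ) ^ 2 * (q i : ℝ) - 2 * (M i : ℝ)) / (hh i : ℝ) := by
      refine div_nonneg ?_ (Nat.cast_nonneg _)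
      have := hMq i
      exact_mod_cast this
    linarith
  -- the counting
  have hG0 : (0 : ℝ) < (Nat.card G : ℝ) := by exact_mod_cast (Nat.card_pos (α := G))
  have hterm2 : ∀ i, (((L i).index * (hh i - 1) : ℕ) : ℝ) = (Nat.card G : ℝ) * ((q i : ℝ) / (hh i : ℝ)) := by
    intro i
    have h1 := (L i).card_mul_index
    rw [hcardL i] at h1
    have h2 : hh i - 1 = q i * l i := by rw [hhq i]; omega
    have h3 : (0 : ℝ) < (hh i : ℝ) := by exact_mod_cast (lt_trans one_pos (hh1 i))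
    rw [h2, ← h1]
    push_cast
    field_simp
  have htot : 1 - 1 / (Nat.card G : ℝ) ≤ ∑ i, (q i : ℝ) / (hh i : ℝ) := by
    have h := card_le_of_cover H L (fun i => (hHL i).le) hHn hcover
    have h' : (Nat.card G : ℝ) ≤ 1 + ∑ i, (Nat.card G : ℝ) * ((q i : ℝ) / (hh i : ℝ)) := by
      rw [← Finset.sum_congr rfl fun i _ => hterm2 i]
      exact_mod_cast h
    rw [← Finset.mul_sum] at h'
    rw [sub_le_iff_le_add, ← sub_le_iff_le_add', le_div_iff₀ hG0]
    linarith
  exact ti_cover_arith l q hh (Nat.card G) c hl3 hlodd hq2 hqe hhq hhinj hpar hcol hrow htot fun i => by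
    rw [← hcardL i]
    exact Nat.le_of_dvd Nat.card_pos (Subgroup.card_subgroup_dvd_card (L i))

end CfsgLib.Char
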