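import Cfsg.Agent.Char.TwoClassSylow
import Cfsg.Agent.Solvable.Basics
import Cfsg.Agent.Invol.BaerSuzuki

/-!
# A character nonzero on two classes, when `N` is the whole `p`-core

Then `G/N` has order prime to `p`, so `G` is a doubly transitive Frobenius group.
-/

set_option autoImplicit false
set_option linter.style.haveILetI false

namespace CfsgLib.Char.TwoClass.Data

universe u

variable {G : Type u} [Group G] [Finite G] {χ : G → ℂ} {N : Subgroup G} {x : G} {m : ℕ}
  {p : ℕ} [Fact p.Prime]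

theorem isPGroup_centralizer_singleton (D : Data χ N x m) (hχ : Cfsg.IsIrrCharacter G χ)
    (hN : IsPGroup p N) {y : G} (hy : y ∈ N) (hy1 : y ≠ 1) :
    IsPGroup p (Subgroup.centralizer ({y} : Set G)) := by
  obtain ⟨P, hP⟩ := D.exists_sylow_centralizer hχ hN hy hy1
  rw [hP]
  exact P.2

/-- A `p'`-element commuting with a nontrivial element of `N` is trivial. -/
theorem eq_one_of_commute (D : Data χ N x m) (hχ : Cfsg.IsIrrCharacter G χ) (hN : IsPGroup p N)
    {y z : G} (hy : y ∈ N) (hy1 : y ≠ 1) (hz : z * y = y * z) (hcop : ¬ p ∣ orderOf z) : z = 1 := by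
  obtain ⟨k, hk⟩ := D.isPGroup_centralizer_singleton hχ hN hy hy1
    ⟨z, Subgroup.mem_centralizer_singleton_iff.2 hz⟩
  have hk' : z ^ p ^ k = 1 := by simpa using congrArg Subtype.val hk
  obtain ⟨j, -, hj⟩ := (Nat.dvd_prime_pow Fact.out).1 (orderOf_dvd_of_pow_eq_one hk')
  rw [← orderOf_eq_one_iff, hj]
  rcases Nat.eq_zero_or_pos j with rfl | hj0
  · exact pow_zero p
  · exact absurd (hj ▸ dvd_pow_self p hj0.ne') hcop

theorem centralizer_le_pCore (D : Data χ N x m) (hχ : Cfsg.IsIrrCharacter G χ)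
    (hN : IsPGroup p N) : Subgroup.centralizer (N : Set G) ≤ Cfsg.pCore p G := by
  haveI := D.normal
  refine CfsgLib.Solvable.le_pCore p inferInstance
    ((D.isPGroup_centralizer_singleton hχ hN D.x_mem D.x_ne).to_le fun z hz => ?_)
  exact Subgroup.mem_centralizer_singleton_iff.2
    ((Subgroup.mem_centralizer_iff.1 hz x D.x_mem).symm)

/-- Outside `N`, a coset of `N` lies in one class. -/
theorem isConj_mul (D : Data χ N x m) (hχ : Cfsg.IsIrrCharacter G χ) [N.Normal] {z : G}
    (hz : z ∉ N) {n : G} (hn : n ∈ N) : ∃ t : G, t * z * t⁻¹ = z * n := by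
  classical
  obtain ⟨T, hT⟩ : ∃ T, T = (Subgroup.centralizer ({(z : G ⧸ N)} : Set (G ⧸ N))).comap
      (QuotientGroup.mk' N) := ⟨_, rfl⟩
  have hTmem : ∀ t, t ∈ T ↔ z⁻¹ * t * z * t⁻¹ ∈ N := by
    intro t
    rw [hT, Subgroup.mem_comap, Subgroup.mem_centralizer_singleton_iff, QuotientGroup.mk'_apply,
      ← QuotientGroup.mk_mul, ← QuotientGroup.mk_mul, eq_comm, QuotientGroup.eq]
    rw [show (z * t)⁻¹ * (t * z) = t⁻¹ * (z⁻¹ * t * z) by group,
      D.normal.mem_comm_iff]
  have hCT : Subgroup.centralizer ({z} : Set G) ≤ T := fun c hc => (hTmem c).2 (by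
    rw [mul_assoc z⁻¹ c z, Subgroup.mem_centralizer_singleton_iff.1 hc]
    simp)
  let f : T ⧸ (Subgroup.centralizer ({z} : Set G)).subgroupOf T → N := Quotient.lift
    (fun t : T => (⟨z⁻¹ * t * z * (t : G)⁻¹, (hTmem t).1 t.2⟩ : N)) (by
      intro a b hab
      have hmem : (a : G)⁻¹ * b ∈ Subgroup.centralizer ({z} : Set G) := by
        simpa [Subgroup.mem_subgroupOf] using QuotientGroup.leftRel_apply.1 hab
      have hc := Subgroup.mem_centralizer_singleton_iff.1 hmem
      apply Subtype.ext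
      show z⁻¹ * a * z * (a : G)⁻¹ = z⁻¹ * b * z * (b : G)⁻¹
      calc z⁻¹ * a * z * (a : G)⁻¹
          = z⁻¹ * a * (z * ((a : G)⁻¹ * b)) * (b : G)⁻¹ := by group
        _ = z⁻¹ * a * ((a : G)⁻¹ * b * z) * (b : G)⁻¹ := by rw [hc]
        _ = _ := by group)
  have hinj : Function.Injective f := by
    rintro ⟨a⟩ ⟨b⟩ h
    refine Quotient.sound (QuotientGroup.leftRel_apply.2 ?_)
    have h' : z⁻¹ * a * z * (a : G)⁻¹ = z⁻¹ * b * z * (b : G)⁻¹ := congrArg Subtype.val h
    rw [Subgroup.mem_subgroupOf, Subgroup.mem_centralizer_singleton_iff]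
    push_cast
    calc (a : G)⁻¹ * b * z = (a : G)⁻¹ * z * (z⁻¹ * b * z * (b : G)⁻¹) * b := by group
      _ = (a : G)⁻¹ * z * (z⁻¹ * a * z * (a : G)⁻¹) * b := by rw [h']
      _ = _ := by group
  have hq : Nat.card T = Nat.card N *
      Nat.card (Subgroup.centralizer ({(z : G ⧸ N)} : Set (G ⧸ N))) := by
    have h1 : N ≤ T := fun a ha => (hTmem a).2 (mul_mem (by
      simpa using D.normal.conj_mem a ha z⁻¹) (inv_mem ha))
    have h2 : T.map (QuotientGroup.mk' N) =
        Subgroup.centralizer ({(z : G ⧸ N)} : Set (G ⧸ N)) := by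
      rw [hT]
      exact Subgroup.map_comap_eq_self_of_surjective (QuotientGroup.mk'_surjective N) _
    rw [← h2]
    have h3 : T.index * Nat.card T = Nat.card G := Subgroup.index_mul_card T
    have h4 : T.index = (T.map (QuotientGroup.mk' N)).index :=
      (Subgroup.index_map_eq T (QuotientGroup.mk'_surjective N) (by
        rw [QuotientGroup.ker_mk']; exact h1)).symm
    have h5 := Subgroup.index_mul_card (T.map (QuotientGroup.mk' N))
    have h6 := Subgroup.card_eq_card_quotient_mul_card_subgroup N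
    rw [← h5] at h6
    rw [h6, h4] at h3
    refine Nat.eq_of_mul_eq_mul_left (Nat.pos_of_ne_zero Subgroup.index_ne_zero_of_finite)
      (h3.trans ?_)
    ring
  have hcard : Nat.card (T ⧸ (Subgroup.centralizer ({z} : Set G)).subgroupOf T) = Nat.card N := by
    have h := Subgroup.card_eq_card_quotient_mul_card_subgroup
      ((Subgroup.centralizer ({z} : Set G)).subgroupOf T)
    rw [Nat.card_congr (Subgroup.subgroupOfEquivOfLe hCT).toEquiv, hq,
      ← D.card_centralizer_quotient hχ hz] at h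
    exact (Nat.eq_of_mul_eq_mul_right Nat.card_pos h).symm
  obtain ⟨⟨t⟩, ht⟩ :=
    (hinj.bijective_of_nat_card_le hcard.ge).2 ⟨n, hn⟩
  have ht' : z⁻¹ * (t : G) * z * (t : G)⁻¹ = n := congrArg Subtype.val ht
  exact ⟨t, by rw [← ht']; group⟩

theorem not_dvd_index_of_eq_pCore (D : Data χ N x m) (hχ : Cfsg.IsIrrCharacter G χ)
    (hN : IsPGroup p N) (h : N = Cfsg.pCore p G) : ¬ p ∣ N.index := by
  classical
  haveI := D.normal
  have hp : p.Prime := Fact.out
  intro hd
  obtain ⟨q, hq, -, hel⟩ := D.exists_prime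
  have hcomm : ∀ a ∈ N, ∀ b ∈ N, a * b = b * a := fun a ha b hb =>
    congrArg Subtype.val (hel.1.is_comm.comm ⟨a, ha⟩ ⟨b, hb⟩)
  have hcent : ∀ z : G, (∀ a ∈ N, z * a = a * z) → z ∈ N := fun z hz => by
    rw [h]
    exact D.centralizer_le_pCore hχ hN
      (Subgroup.mem_centralizer_iff.2 fun a ha => (hz a ha).symm)
  obtain ⟨n, hn⟩ := IsPGroup.iff_card.1 hN
  have hN1 : 1 < Nat.card N :=
    Finite.one_lt_card_iff_nontrivial.2 ((Subgroup.nontrivial_iff_ne_bot N).2 D.ne_bot)
  rw [Subgroup.index_eq_card] at hd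
  obtain ⟨yb, hyb⟩ := exists_prime_orderOf_dvd_card' (G := G ⧸ N) p hd
  have hyb1 : yb ≠ 1 := fun h => hp.one_lt.ne (by rw [← hyb, h, orderOf_one])
  rcases hp.eq_two_or_odd' with rfl | hodd
  · -- the prime two
    have hcore : Cfsg.pCore 2 (G ⧸ N) ≤ ⊥ := by
      intro a ha
      obtain ⟨g, rfl⟩ := QuotientGroup.mk'_surjective N a
      have hle : (Cfsg.pCore 2 (G ⧸ N)).comap (QuotientGroup.mk' N) ≤ N := by
        conv_rhs => rw [h]
        refine CfsgLib.Solvable.le_pCore 2 inferInstance ?_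
        refine (CfsgLib.Solvable.isPGroup_pCore 2).comap_of_ker_isPGroup _ ?_
        rw [QuotientGroup.ker_mk']; exact hN
      exact Subgroup.mem_bot.2 ((QuotientGroup.eq_one_iff g).2 (hle ha))
    obtain ⟨fb, hfb1, hfodd, hfinv⟩ := CfsgLib.Invol.exists_inverted_odd yb hyb
      (fun hy => hyb1 (Subgroup.mem_bot.1 (hcore hy)))
    obtain ⟨t, rfl⟩ := QuotientGroup.mk'_surjective N yb
    obtain ⟨f, rfl⟩ := QuotientGroup.mk'_surjective N fb
    have htN : t ∉ N := fun ht => hyb1 ((QuotientGroup.eq_one_iff t).2 ht)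
    have ht2 : t * t ∈ N := by
      rw [← QuotientGroup.eq_one_iff, QuotientGroup.mk_mul, ← pow_two, ← hyb]
      exact pow_orderOf_eq_one _
    have hexp : ∀ a ∈ N, a⁻¹ = a := fun a ha => by
      have h2 : q = 2 := by
        have hx2 := hel.2 x D.x_mem
        have hxp := orderOf_dvd_of_pow_eq_one hx2
        rw [(Nat.dvd_prime hq).1 hxp |>.resolve_left (fun h => D.x_ne (orderOf_eq_one_iff.1 h))]
          at hxp
        obtain ⟨j, hj⟩ := hN ⟨x, D.x_mem⟩
        have hj' : x ^ 2 ^ j = 1 := by simpa using congrArg Subtype.val hj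
        have := orderOf_dvd_of_pow_eq_one hj'
        rw [(Nat.dvd_prime hq).1 (orderOf_dvd_of_pow_eq_one hx2) |>.resolve_left
          (fun h => D.x_ne (orderOf_eq_one_iff.1 h))] at this
        exact (Nat.prime_dvd_prime_iff_eq hq Nat.prime_two).1 (hq.dvd_of_dvd_pow this)
      have := hel.2 a ha
      rw [h2, pow_two] at this
      exact inv_eq_of_mul_eq_one_left this
    -- no element outside `N` squares to one
    have hno : ∀ z, z ∉ N → z * z ≠ 1 := by
      intro z hz hz2
      refine hz (hcent z fun a ha => ?_)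
      obtain ⟨g, hg⟩ := D.isConj_mul hχ hz ha
      have h2 : z * a * (z * a) = 1 := by
        rw [← hg]
        calc g * z * g⁻¹ * (g * z * g⁻¹) = g * (z * z) * g⁻¹ := by group
          _ = 1 := by rw [hz2]; group
      calc z * a = (z * a * (z * a)) * (a⁻¹ * z⁻¹) := by group
        _ = a⁻¹ * z⁻¹ := by rw [h2, one_mul]
        _ = a * z := by rw [hexp a ha, inv_eq_of_mul_eq_one_left hz2]
    have hcj : ∀ a ∈ N, t⁻¹ * a * t ∈ N := fun a ha => by
      simpa using D.normal.conj_mem a ha t⁻¹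
    let φ : N →* N := MonoidHom.mk' (fun a => ⟨t⁻¹ * a * t * a, mul_mem (hcj a a.2) a.2⟩)
      fun a b => by
        apply Subtype.ext
        show t⁻¹ * ((a : G) * b) * t * ((a : G) * b) =
          t⁻¹ * a * t * a * (t⁻¹ * b * t * b)
        calc t⁻¹ * ((a : G) * b) * t * ((a : G) * b)
            = (t⁻¹ * a * t) * ((t⁻¹ * b * t) * a) * b := by group
          _ = (t⁻¹ * a * t) * ((a : G) * (t⁻¹ * b * t)) * b := by
              rw [hcomm _ (hcj b b.2) _ a.2]
          _ = _ := by group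
    have hker : ∀ a : N, a ∈ φ.ker ↔ t * (a : G) = (a : G) * t := by
      intro a
      rw [MonoidHom.mem_ker, Subtype.ext_iff]
      show t⁻¹ * a * t * a = 1 ↔ _
      rw [mul_eq_one_iff_eq_inv, hexp a a.2]
      constructor
      · intro h1
        calc t * (a : G) = t * (t⁻¹ * a * t) := by rw [h1]
          _ = _ := by group
      · intro h1
        rw [mul_assoc, ← h1, inv_mul_cancel_left]
    have hrange : φ.range ≤ φ.ker := by
      rintro _ ⟨a, rfl⟩
      rw [hker]
      show t * (t⁻¹ * a * t * a) = t⁻¹ * a * t * a * t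
      have hc2 : (a : G) * (t * t) = t * t * a := hcomm _ a.2 _ ht2
      calc t * (t⁻¹ * a * t * a) = t⁻¹ * (t * (a : G)) * t * a := by group
        _ = t⁻¹ * ((t * a * t) * a) := by group
        _ = t⁻¹ * (((a : G) * ((a : G)⁻¹ * t * a * t)) * a) := by group
        _ = t⁻¹ * (a : G) * (((a : G)⁻¹ * t * a * t) * a) := by group
        _ = t⁻¹ * (a : G) * ((a : G) * ((a : G)⁻¹ * t * a * t)) := by
            congr 1
            refine (hcomm _ a.2 _ ?_).symm
            have := mul_mem (mul_mem (inv_mem a.2) (D.normal.conj_mem a a.2 t)) ht2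
            simpa [mul_assoc] using this
        _ = t⁻¹ * (a : G) * (t * a * t) := by group
        _ = _ := by group
    have hproper : φ.range ≠ φ.ker := by
      intro he
      have : (⟨t * t, ht2⟩ : N) ∈ φ.range := by
        rw [he, hker]
        show t * (t * t) = t * t * t
        group
      obtain ⟨a, ha⟩ := this
      have ha' : t⁻¹ * a * t * a = t * t := congrArg Subtype.val ha
      refine hno (t * a) (fun hm => htN ?_) ?_
      · simpa using mul_mem hm (inv_mem a.2)
      · calc t * (a : G) * (t * a) = t * t * (t⁻¹ * a * t * a) := by group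
          _ = t * t * (t * t) := by rw [ha']
          _ = 1 := by nth_rw 1 [← hexp _ ht2]; exact inv_mul_cancel _
    have hlt : Nat.card φ.range < Nat.card φ.ker := by
      refine lt_of_le_of_ne (Subgroup.card_le_of_le hrange) fun h2 => hproper ?_
      exact Subgroup.eq_of_le_of_card_ge hrange h2.ge
    have hprod : Nat.card φ.ker * Nat.card φ.range = Nat.card N := by
      rw [← Nat.card_congr (QuotientGroup.quotientKerEquivRange φ).toEquiv, mul_comm,
        ← Subgroup.card_eq_card_quotient_mul_card_subgroup]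
    -- the conjugate fixed space
    have hdisj : ∀ a ∈ N, t * a = a * t → (f * t * f⁻¹) * a = a * (f * t * f⁻¹) → a = 1 := by
      intro a ha h1 h2
      by_contra ha1
      obtain ⟨c, hc, hcf⟩ : ∃ c ∈ N, f * t * f⁻¹ = f * f * c * t := by
        refine ⟨(f * f)⁻¹ * (f * t * f⁻¹ * t⁻¹), ?_, by group⟩
        rw [← QuotientGroup.eq_one_iff]
        simp only [QuotientGroup.mk_mul, QuotientGroup.mk_inv]
        change ((QuotientGroup.mk' N f) * (QuotientGroup.mk' N f))⁻¹ * (QuotientGroup.mk' N f *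
          QuotientGroup.mk' N t * (QuotientGroup.mk' N f)⁻¹ * (QuotientGroup.mk' N t)⁻¹) = 1
        rw [show QuotientGroup.mk' N f * QuotientGroup.mk' N t * (QuotientGroup.mk' N f)⁻¹ *
          (QuotientGroup.mk' N t)⁻¹ = QuotientGroup.mk' N f * (QuotientGroup.mk' N t *
            QuotientGroup.mk' N f * (QuotientGroup.mk' N t)⁻¹)⁻¹ by group, hfinv, inv_inv,
          inv_mul_cancel]
      have h3 : (f * f * c) * a = a * (f * f * c) := by
        rw [hcf] at h2
        calc f * f * c * a = f * f * c * (a * t) * t⁻¹ := by group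
          _ = f * f * c * (t * a) * t⁻¹ := by rw [h1]
          _ = f * f * c * t * a * t⁻¹ := by group
          _ = a * (f * f * c * t) * t⁻¹ := by rw [h2]
          _ = _ := by group
      have h4 : (f * f) * a = a * (f * f) := by
        calc f * f * a = f * f * (c * (c⁻¹ * a)) := by group
          _ = f * f * (c * (a * c⁻¹)) := by rw [hcomm c⁻¹ (inv_mem hc) a ha]
          _ = f * f * c * a * c⁻¹ := by group
          _ = a * (f * f * c) * c⁻¹ := by rw [h3]
          _ = _ := by group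
      obtain ⟨k, hk⟩ := D.isPGroup_centralizer_singleton hχ hN ha ha1
        ⟨f * f, Subgroup.mem_centralizer_singleton_iff.2 h4⟩
      have hk' : (f ^ 2) ^ 2 ^ k = 1 := by rw [pow_two]; simpa using congrArg Subtype.val hk
      rw [← pow_mul, ← pow_succ'] at hk'
      have h5 : orderOf (QuotientGroup.mk' N f) ∣ 2 ^ (k + 1) :=
        orderOf_dvd_of_pow_eq_one (by rw [← map_pow, hk', map_one])
      obtain ⟨j, -, hj⟩ := (Nat.dvd_prime_pow Nat.prime_two).1 h5
      rw [hj] at hfodd
      rcases Nat.eq_zero_or_pos j with rfl | hj0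
      · exact hfb1 (orderOf_eq_one_iff.1 (by rw [hj, pow_zero]))
      · exact absurd (Even.pow_of_ne_zero even_two hj0.ne') (Nat.not_even_iff_odd.2 hfodd)
    have hle : Nat.card φ.ker * Nat.card φ.ker ≤ Nat.card N := by
      rw [← Nat.card_prod]
      refine Nat.card_le_card_of_injective
        (fun w : φ.ker × φ.ker => (w.1 : N) *
          ⟨f * ((w.2 : N) : G) * f⁻¹, D.normal.conj_mem _ (w.2 : N).2 f⟩) fun w w' he => ?_
      have he' : ((w.1 : N) : G) * (f * ((w.2 : N) : G) * f⁻¹) =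
          ((w'.1 : N) : G) * (f * ((w'.2 : N) : G) * f⁻¹) := congrArg Subtype.val he
      have e1 : (((w'.1⁻¹ * w.1 : φ.ker) : N) : G) =
          f * (((w'.2 * w.2⁻¹ : φ.ker) : N) : G) * f⁻¹ := by
        push_cast
        calc ((w'.1 : N) : G)⁻¹ * ((w.1 : N) : G)
            = ((w'.1 : N) : G)⁻¹ * (((w.1 : N) : G) * (f * ((w.2 : N) : G) * f⁻¹)) *
              (f * ((w.2 : N) : G) * f⁻¹)⁻¹ := by group
          _ = _ := by rw [he']; group
      have e2 := hdisj _ ((w'.1⁻¹ * w.1 : φ.ker) : N).2 ((hker _).1 (w'.1⁻¹ * w.1).2) (by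
        rw [e1]
        calc f * t * f⁻¹ * (f * (((w'.2 * w.2⁻¹ : φ.ker) : N) : G) * f⁻¹)
            = f * (t * (((w'.2 * w.2⁻¹ : φ.ker) : N) : G)) * f⁻¹ := by group
          _ = f * ((((w'.2 * w.2⁻¹ : φ.ker) : N) : G) * t) * f⁻¹ := by
              rw [(hker _).1 (w'.2 * w.2⁻¹).2]
          _ = _ := by group)
      have e3 : w'.2 * w.2⁻¹ = 1 := by
        rw [e2] at e1
        refine Subtype.ext (Subtype.ext ?_)
        exact conj_eq_one_iff.1 e1.symm
      have e4 : w'.1⁻¹ * w.1 = 1 := Subtype.ext (Subtype.ext e2)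
      exact Prod.ext (inv_mul_eq_one.1 e4).symm (mul_inv_eq_one.1 e3).symm
    rw [← hprod] at hle
    exact absurd hle (Nat.not_le.2 ((Nat.mul_lt_mul_left Nat.card_pos).2 hlt))
  · -- an odd prime: an involution inverts `N`
    have hev : 2 ∣ Nat.card G := by
      have h1 : Odd (Nat.card N) := hn ▸ hodd.pow
      have h2 : Even (Nat.card N - 1) := Nat.Odd.sub_odd h1 odd_one
      rw [D.card]
      exact h2.two_dvd.trans (Dvd.intro_left _ rfl)
    haveI : Fact (Nat.Prime 2) := ⟨Nat.prime_two⟩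
    obtain ⟨z, hz⟩ := exists_prime_orderOf_dvd_card' (G := G) 2 hev
    have hz2 : z * z = 1 := by rw [← pow_two, ← hz]; exact pow_orderOf_eq_one z
    have hp2 : ¬ p ∣ orderOf z := by
      rw [hz]
      intro hd2
      have := (Nat.prime_dvd_prime_iff_eq hp Nat.prime_two).1 hd2
      rw [this] at hodd
      exact absurd hodd (by decide)
    have hinv : ∀ a ∈ N, z * a * z⁻¹ = a⁻¹ := by
      intro a ha
      have hzi : z⁻¹ = z := inv_eq_of_mul_eq_one_left hz2
      have hb : z * a * z⁻¹ ∈ N := D.normal.conj_mem a ha z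
      by_cases hw : a * (z * a * z⁻¹) = 1
      · exact (eq_inv_of_mul_eq_one_right hw)
      · refine absurd (D.eq_one_of_commute hχ hN (mul_mem ha hb) hw ?_ hp2)
          (fun h1 => by rw [h1, orderOf_one] at hz; omega)
        calc z * (a * (z * a * z⁻¹)) = (z * a * z⁻¹) * (z * (z * a * z⁻¹)) := by group
          _ = (z * a * z⁻¹) * ((z * z) * a * z⁻¹) := by group
          _ = (z * a * z⁻¹) * (a * z) := by rw [hz2, one_mul, hzi]
          _ = (z * a * z⁻¹) * a * z := by group
          _ = _ := by rw [hcomm _ hb _ ha]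
    have hsqrt : ∀ a ∈ N, ∃ b ∈ N, b * b = a := by
      intro a ha
      obtain ⟨r, hr⟩ := (hn ▸ hodd.pow : Odd (Nat.card N))
      refine ⟨a ^ (r + 1), N.pow_mem ha _, ?_⟩
      rw [← pow_add, show r + 1 + (r + 1) = Nat.card N + 1 by omega, pow_succ,
        show a ^ Nat.card N = 1 from congrArg Subtype.val
          (pow_card_eq_one' (x := (⟨a, ha⟩ : N))), one_mul]
    have hzN : ∀ g : G, ∃ b ∈ N, (b⁻¹ * g) * z = z * (b⁻¹ * g) := by
      intro g
      have hmem : g * z * g⁻¹ * z⁻¹ ∈ N := hcent _ fun a ha => by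
        have hg' : g⁻¹ * a * g ∈ N := by simpa using D.normal.conj_mem a ha g⁻¹
        have h1 : z⁻¹ * a * z = a⁻¹ := by
          calc z⁻¹ * a * z = z⁻¹ * (z * a⁻¹ * z⁻¹) * z := by rw [hinv _ (inv_mem ha), inv_inv]
            _ = _ := by group
        have h2 : z * (g⁻¹ * a⁻¹ * g) * z⁻¹ = g⁻¹ * a * g := by
          rw [hinv _ (by simpa [mul_assoc] using N.inv_mem hg')]; group
        calc g * z * g⁻¹ * z⁻¹ * a
            = g * z * g⁻¹ * (z⁻¹ * a * z) * z⁻¹ := by group
          _ = g * z * g⁻¹ * a⁻¹ * z⁻¹ := by rw [h1]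
          _ = g * (z * (g⁻¹ * a⁻¹ * g) * z⁻¹) * z * g⁻¹ * z⁻¹ := by group
          _ = g * (g⁻¹ * a * g) * z * g⁻¹ * z⁻¹ := by rw [h2]
          _ = _ := by group
      obtain ⟨b, hb, hbb⟩ := hsqrt (g * z * g⁻¹ * z⁻¹) hmem
      refine ⟨b, hb, ?_⟩
      have h1 : z * b⁻¹ * z⁻¹ = b := by rw [hinv _ (inv_mem hb), inv_inv]
      calc b⁻¹ * g * z = b⁻¹ * (g * z * g⁻¹ * z⁻¹) * z * g := by group
        _ = b⁻¹ * (b * b) * z * g := by rw [hbb]
        _ = b * z * g := by group
        _ = (z * b⁻¹ * z⁻¹) * z * g := by rw [h1]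
        _ = _ := by group
    have hNz : ∀ a ∈ N, a * z = z * a → a = 1 := by
      intro a ha hc
      by_contra ha1
      refine absurd (D.eq_one_of_commute hχ hN ha ha1 hc.symm hp2) fun h1 => ?_
      rw [h1, orderOf_one] at hz
      omega
    -- a `p`-element centralising `z`
    obtain ⟨y', hy'⟩ := QuotientGroup.mk'_surjective N yb
    obtain ⟨b, hb, hyz⟩ := hzN y'
    obtain ⟨y, hy⟩ : ∃ y, y = b⁻¹ * y' := ⟨_, rfl⟩
    rw [← hy] at hyz
    have hyq : (y : G ⧸ N) = yb := by
      rw [← hy', hy, QuotientGroup.mk_mul, (QuotientGroup.eq_one_iff _).2 (inv_mem hb), one_mul]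
      rfl
    have hyN : y ∉ N := fun hm => hyb1 (hyq ▸ (QuotientGroup.eq_one_iff y).2 hm)
    -- it fixes a nontrivial element of `N`
    obtain ⟨R, hR⟩ : ∃ R : Sylow p G, y ∈ R := by
      obtain ⟨R, hR⟩ := IsPGroup.exists_le_sylow (p := p) (P := Subgroup.zpowers y) (by
        have hy1 : y ^ p ∈ N := by
          rw [← QuotientGroup.eq_one_iff, QuotientGroup.mk_pow, hyq, ← hyb]
          exact pow_orderOf_eq_one yb
        obtain ⟨j, hj⟩ := hN ⟨_, hy1⟩
        have hj' : y ^ p ^ (j + 1) = 1 := by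
          rw [pow_succ', pow_mul]
          simpa using congrArg Subtype.val hj
        obtain ⟨i, -, hi⟩ := (Nat.dvd_prime_pow hp).1 (orderOf_dvd_of_pow_eq_one hj')
        exact IsPGroup.of_card (n := i) (by rw [Nat.card_zpowers, hi]))
      exact ⟨R, hR (Subgroup.mem_zpowers y)⟩
    haveI : Nontrivial (R : Subgroup G) :=
      ⟨⟨y, hR⟩, 1, fun he => hyN (by
        have he' : y = 1 := congrArg Subtype.val he
        rw [he']; exact N.one_mem)⟩
    haveI := R.2.center_nontrivial
    obtain ⟨w, hw⟩ := exists_ne (1 : Subgroup.center (R : Subgroup G))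
    have hwN : ((w : (R : Subgroup G)) : G) ∈ N :=
      D.center_le hχ hN R ⟨_, w.2, rfl⟩
    have hwy : ((w : (R : Subgroup G)) : G) * y = y * (w : (R : Subgroup G)) :=
      (congrArg Subtype.val (Subgroup.mem_center_iff.1 w.2 ⟨y, hR⟩)).symm
    -- compare the centralisers
    let ψ : Subgroup.centralizer ({y} : Set G) →*
        Subgroup.centralizer ({(y : G ⧸ N)} : Set (G ⧸ N)) :=
      ((QuotientGroup.mk' N).comp (Subgroup.centralizer ({y} : Set G)).subtype).codRestrict _
        fun c => Subgroup.mem_centralizer_singleton_iff.2 (by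
          show (QuotientGroup.mk' N) (c : G) * (QuotientGroup.mk' N) y =
            (QuotientGroup.mk' N) y * (QuotientGroup.mk' N) (c : G)
          rw [← map_mul, ← map_mul, Subgroup.mem_centralizer_singleton_iff.1 c.2])
    have hψ : Function.Surjective ψ := by
      rintro ⟨cb, hcb⟩
      obtain ⟨c', rfl⟩ := QuotientGroup.mk'_surjective N cb
      obtain ⟨d, hd', hcz⟩ := hzN c'
      obtain ⟨c, hc⟩ : ∃ c, c = d⁻¹ * c' := ⟨_, rfl⟩
      rw [← hc] at hcz
      have hcq : (c : G ⧸ N) = QuotientGroup.mk' N c' := by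
        rw [hc, QuotientGroup.mk_mul, (QuotientGroup.eq_one_iff _).2 (inv_mem hd'), one_mul]
        rfl
      have hmem : (y * c)⁻¹ * (c * y) ∈ N := by
        rw [← QuotientGroup.eq, QuotientGroup.mk_mul, QuotientGroup.mk_mul, hcq]
        exact (Subgroup.mem_centralizer_singleton_iff.1 hcb).symm
      have hcy : c * y = y * c := by
        have hcy' : Commute z (c * y) := Commute.mul_right hcz.symm hyz.symm
        have hyc' : Commute z (y * c) := Commute.mul_right hyz.symm hcz.symm
        have := hNz _ hmem ((hyc'.inv_right.mul_right hcy').symm)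
        exact (inv_mul_eq_one.1 this).symm
      exact ⟨⟨c, Subgroup.mem_centralizer_singleton_iff.2 hcy⟩, Subtype.ext hcq⟩
    have hninj : ¬ Function.Injective ψ := fun hi => by
      have := @hi ⟨_, Subgroup.mem_centralizer_singleton_iff.2 hwy⟩ 1
        (Subtype.ext ((QuotientGroup.eq_one_iff _).2 hwN))
      have h' : ((w : (R : Subgroup G)) : G) = 1 := congrArg Subtype.val this
      exact hw (Subtype.ext (Subtype.ext h'))
    exact hninj ((Nat.bijective_iff_surjective_and_card ψ).2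
      ⟨hψ, D.card_centralizer_quotient hχ hyN⟩).1

theorem m_eq_one_of_eq_pCore (D : Data χ N x m) (hχ : Cfsg.IsIrrCharacter G χ)
    (hN : IsPGroup p N) (h : N = Cfsg.pCore p G) : m = 1 := by
  have hd := D.not_dvd_index_of_eq_pCore hχ hN h
  obtain ⟨e, he⟩ := D.exists_pow hχ hN
  rcases Nat.eq_zero_or_pos e with rfl | he0
  · simpa using he
  · refine absurd ?_ hd
    have h1 := Subgroup.index_mul_card N
    rw [D.card, mul_comm N.index, mul_comm (m * m) (Nat.card N), mul_assoc (Nat.card N)] at h1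
    rw [Nat.eq_of_mul_eq_mul_left Nat.card_pos h1, he]
    exact dvd_mul_of_dvd_left (dvd_mul_of_dvd_left (dvd_pow_self p he0.ne') _) _

end CfsgLib.Char.TwoClass.Data
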