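import Cfsg.Agent.S3430
import Cfsg.Agent.GLElem.Singer
import Cfsg.Agent.FGSA.RankTwoAut
import Cfsg.Agent.Invol.AutomizerSix
import Cfsg.Agent.FGSB.FrobeniusSolvable
import Cfsg.Agent.Solvable.Fitting
import Cfsg.Agent.Solvable.NormalizerComplement
import Mathlib.GroupTheory.SpecificGroups.Quaternion

/-!
# Solvable groups transitive on a module with `p`-groups as stabilisers

The derived group of such a group has order prime to `p`.
-/

set_option autoImplicit false
set_option linter.style.haveILetI false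

namespace CfsgLib.Char.TwoClassSolv

open Subgroup QuaternionGroup

/-- An automorphism of odd order of a generalised quaternion group of order at least 16. -/
theorem quaternion_aut_eq_one {n k : ℕ} (hn : 2 ≤ n) (σ : MulAut (QuaternionGroup (2 ^ n)))
    (hk : Odd k) (hσ : σ ^ k = 1) : σ = 1 := by
  obtain ⟨M, hM⟩ : ∃ M, M = 2 * 2 ^ n := ⟨_, rfl⟩
  have h4 : 4 < M := by
    have : 2 ^ 2 ≤ 2 ^ n := Nat.pow_le_pow_right (by norm_num) hn
    omega
  haveI : NeZero (2 ^ n) := ⟨by positivity⟩
  haveI : NeZero (2 * 2 ^ n) := ⟨by positivity⟩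
  have haj : ∀ j : ZMod (2 * 2 ^ n), (a j : QuaternionGroup (2 ^ n)) = a 1 ^ j.val := fun j => by
    rw [a_one_pow, ZMod.natCast_zmod_val]
  obtain ⟨i, hi⟩ : ∃ i, σ (a 1) = a i := by
    rcases h : σ (a 1) with i | i
    · exact ⟨i, rfl⟩
    · exfalso
      have h1 := congrArg orderOf h
      rw [MulEquiv.orderOf_eq, orderOf_a_one, orderOf_xa, ← hM] at h1
      omega
  have hmul : ∀ j, σ (a j) = a (i * j) := fun j => by
    have hgen : ∀ m : ℕ, (a i : QuaternionGroup (2 ^ n)) ^ m = a (i * (m : ZMod (2 * 2 ^ n))) := fun m => by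
      induction m with
      | zero => rw [pow_zero, Nat.cast_zero, mul_zero]; rfl
      | succ m ih => rw [pow_succ, ih, a_mul_a, Nat.cast_succ, mul_add, mul_one]
    rw [haj j, map_pow, hi, hgen, ZMod.natCast_zmod_val]
  have hiter : ∀ (m : ℕ), (σ ^ m) (a 1) = a (i ^ m) := by
    intro m
    induction m with
    | zero => simp
    | succ m ih => rw [pow_succ', MulAut.mul_apply, ih, hmul, pow_succ']
  have hik : i ^ k = 1 := by
    have := hiter k
    rw [hσ, MulAut.one_apply] at this
    exact (QuaternionGroup.a.inj this).symm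
  have hi1 : i = 1 := by
    have hu : IsUnit i := IsUnit.of_mul_eq_one (i ^ (k - 1))
      ((pow_succ' i (k - 1)).symm.trans (by rw [Nat.sub_add_cancel hk.pos, hik]))
    obtain ⟨u, rfl⟩ := hu
    have h1 : orderOf u ∣ k := orderOf_dvd_of_pow_eq_one (Units.ext (by simpa using hik))
    have h2 : orderOf u ∣ 2 ^ n := by
      have h := orderOf_dvd_natCard u
      rw [Nat.card_eq_fintype_card, ZMod.card_units_eq_totient] at h
      have h2 : (2 * 2 ^ n).totient = 2 ^ n := by
        rw [← pow_succ', Nat.totient_prime_pow Nat.prime_two (Nat.succ_pos n)]; simp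
      rw [h2] at h
      exact h
    rw [Units.val_eq_one, ← orderOf_eq_one_iff]
    exact Nat.eq_one_of_dvd_coprimes
      ((Nat.coprime_two_right.2 hk).pow_right n) h1 h2
  have hfix : ∀ j, σ (a j) = a j := fun j => by rw [hmul, hi1, one_mul]
  obtain ⟨c, hc⟩ : ∃ c, σ (xa 0) = xa c := by
    rcases h : σ (xa 0) with c | c
    · exact absurd (σ.injective (h.trans (hfix c).symm)) (by simp)
    · exact ⟨c, rfl⟩
  have hxa : ∀ j, σ (xa j) = xa (c + j) := fun j => by
    have : (xa j : QuaternionGroup (2 ^ n)) = xa 0 * a j := by rw [xa_mul_a, zero_add]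
    rw [this, map_mul, hc, hfix, xa_mul_a]
  have hiter' : ∀ m : ℕ, (σ ^ m) (xa 0) = xa ((m : ZMod (2 * 2 ^ n)) * c) := by
    intro m
    induction m with
    | zero => simp
    | succ m ih => rw [pow_succ', MulAut.mul_apply, ih, hxa, Nat.cast_succ, add_mul, one_mul, add_comm]
  have hc0 : c = 0 := by
    have := hiter' k
    rw [hσ, MulAut.one_apply] at this
    have hk' : IsUnit ((k : ℕ) : ZMod (2 * 2 ^ n)) := by
      rw [ZMod.isUnit_iff_coprime, ← pow_succ']
      exact (Nat.coprime_two_right.2 hk).pow_right _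
    exact hk'.mul_right_eq_zero.1 (QuaternionGroup.xa.inj this).symm
  refine MulEquiv.ext fun g => ?_
  rcases g with j | j
  · exact hfix j
  · rw [hxa, hc0, zero_add]; rfl

theorem quaternion_not_comm {n : ℕ} (hn : 1 ≤ n) :
    ¬ ∀ x y : QuaternionGroup (2 ^ n), x * y = y * x := by
  intro h
  have h1 := h (xa 0) (a 1)
  rw [xa_mul_a, a_mul_xa] at h1
  have h2 : (((2 : ℕ)) : ZMod (2 * 2 ^ n)) = 0 := by
    have := QuaternionGroup.xa.inj h1
    push_cast
    linear_combination this
  have := Nat.le_of_dvd (by norm_num) ((ZMod.natCast_eq_zero_iff _ _).1 h2)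
  have : 2 ≤ 2 ^ n := Nat.le_self_pow (by omega) 2
  omega

/-- A primitive prime divisor of `3 ^ n - 1`. -/
theorem exists_primitive_three {n : ℕ} (hn : 3 ≤ n) :
    ∃ r : ℕ, r.Prime ∧ 5 ≤ r ∧ r ∣ 3 ^ n - 1 ∧ orderOf ((3 : ℕ) : ZMod r) = n := by
  by_cases h4 : n = 4
  · subst h4
    exact ⟨5, by norm_num, le_rfl, by norm_num,
      (orderOf_eq_iff (by norm_num)).2 ⟨by decide, by decide⟩⟩
  by_cases h6 : n = 6
  · subst h6
    exact ⟨7, by norm_num, by norm_num, by norm_num,
      (orderOf_eq_iff (by norm_num)).2 ⟨by decide, by decide⟩⟩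
  obtain ⟨r, hr, hd, hprim, -⟩ := Cfsg.Agent.S3430.result 3 n (by norm_num) (by omega) (by omega)
    (by omega) (by omega) (by omega)
  haveI := Fact.mk hr
  have hc : ∀ i, (((3 : ℕ) : ZMod r) ^ i = 1 ↔ r ∣ 3 ^ i - 1) := fun i => by
    rw [← ZMod.natCast_eq_zero_iff, Nat.cast_sub (Nat.one_le_pow _ _ (by norm_num)), sub_eq_zero,
      Nat.cast_pow, Nat.cast_one]
  have h1 := (hc n).2 hd
  have ho : orderOf ((3 : ℕ) : ZMod r) = n := by
    refine (orderOf_eq_iff (by omega)).2 ⟨h1, fun i hi hi0 he => ?_⟩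
    exact hprim i hi0 hi ((hc i).1 he)
  have hne : ((3 : ℕ) : ZMod r) ≠ 0 := fun h => by
    rw [h, zero_pow (by omega)] at h1
    exact zero_ne_one h1
  have h5 : n + 1 ≤ r := by
    have := Nat.le_of_dvd (by have := hr.two_le; omega)
      (ho ▸ ZMod.orderOf_dvd_card_sub_one hne)
    omega
  refine ⟨r, hr, ?_, hd, ho⟩
  by_contra hlt
  obtain rfl : r = 4 := by omega
  exact absurd hr (by norm_num)

universe u v

variable {V : Type v} [Group V] [Finite V] {X : Type u} [Group X] [Finite X]

/-- The derived group of a solvable group which acts faithfully on an elementary abelian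
`p`-group with `p`-groups as point stabilisers, with trivial `p`-core and of order a multiple
of the number of nontrivial points, has order prime to `p`. -/
theorem not_dvd_card_commutator [Group.IsSolvable X] {p n : ℕ} [Fact p.Prime]
    (hn : n ≠ 0) (hV : Nat.card V = p ^ n) (hcomm : ∀ x y : V, x * y = y * x)
    (hexp : ∀ v : V, v ^ p = 1) (φ : X →* MulAut V) (hφ : Function.Injective φ)
    (hcore : Cfsg.pCore p X = ⊥)
    (hstab : ∀ (g : X) (v : V), v ≠ 1 → φ g v = v → ∃ k : ℕ, g ^ p ^ k = 1)
    (hdvd : p ^ n - 1 ∣ Nat.card X) (h16 : n = 2 → p = 3 → ¬ 16 ∣ Nat.card X) :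
    ¬ p ∣ Nat.card (commutator X) := by
  classical
  intro hd
  have hp : p.Prime := Fact.out
  obtain ⟨⟨y, hy⟩, hyo⟩ := exists_prime_orderOf_dvd_card' p hd
  rw [orderOf_mk] at hyo
  haveI : Nontrivial V := Finite.one_lt_card_iff_nontrivial.1 (hV ▸ Nat.one_lt_pow hn hp.one_lt)
  -- `y` centralises every core
  have hcent : ∀ r : ℕ, r.Prime → ∀ w ∈ Cfsg.pCore r X, w * y = y * w := by
    intro r hr
    haveI := Fact.mk hr
    rcases eq_or_ne r p with rfl | hrp
    · intro w hw
      rw [hcore, mem_bot] at hw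
      simp [hw]
    obtain ⟨R, hRdef⟩ : ∃ R, R = Cfsg.pCore r X := ⟨_, rfl⟩
    rw [← hRdef]
    haveI hRn : R.Normal := hRdef ▸ inferInstance
    have hR : IsPGroup r R := hRdef ▸ CfsgLib.Solvable.isPGroup_pCore r
    have hfpf : CfsgLib.Frobenius.IsFpf (φ.comp R.subtype) := by
      intro e he v hv
      by_contra hv1
      obtain ⟨k, hk⟩ := hstab e v hv1 hv
      obtain ⟨j, hj⟩ := hR e
      refine he (orderOf_eq_one_iff.1 (Nat.eq_one_of_dvd_coprimes
        (Nat.Coprime.pow k j ((Nat.coprime_primes hp hr).2 (Ne.symm hrp))) ?_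
        (orderOf_dvd_of_pow_eq_one hj)))
      rw [← orderOf_coe]
      exact orderOf_dvd_of_pow_eq_one hk
    let c : X →* MulAut R := MulAut.conjNormal
    have hc : ∀ g, c g = 1 → ∀ w ∈ R, w * g = g * w := fun g hg w hw => by
      have h1 := congrArg Subtype.val (DFunLike.congr_fun hg ⟨w, hw⟩)
      simp only [c, MulAut.conjNormal_apply, MulAut.one_apply] at h1
      calc w * g = g * w * g⁻¹ * g := by rw [h1]
        _ = g * w := inv_mul_cancel_right _ _
    rcases CfsgLib.FrobeniusSolvable.cyclic_or_quaternion (R := (⊤ : Subgroup R))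
        (φ := φ.comp R.subtype) hfpf (hR.of_equiv Subgroup.topEquiv.symm) with hcyc | ⟨rfl, m, hm, ⟨e⟩⟩
    · haveI : IsCyclic R := Subgroup.topEquiv.isCyclic.1 hcyc
      refine hc y ?_
      have hker : commutator X ≤ c.ker := by
        rw [_root_.commutator_def, Subgroup.commutator_le]
        intro g _ h _
        rw [MonoidHom.mem_ker, map_commutatorElement, commutatorElement_eq_one_iff_mul_comm]
        apply (IsCyclic.mulAutMulEquiv R).injective
        rw [map_mul, map_mul, mul_comm]
      exact MonoidHom.mem_ker.1 (hker hy)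
    -- the quaternion case
    let eR : R ≃* QuaternionGroup (2 ^ m) := Subgroup.topEquiv.symm.trans e
    have hodd : Odd p := hp.odd_of_ne_two (Ne.symm hrp)
    let d : X →* MulAut (QuaternionGroup (2 ^ m)) := (MulAut.congr eR).toMonoidHom.comp c
    have hd1 : ∀ g, d g = 1 → c g = 1 := fun g hg => (MulAut.congr eR).injective (by
      rw [map_one]; exact hg)
    have hdy : d y ^ p = 1 := by
      rw [← map_pow, ← hyo, pow_orderOf_eq_one, map_one]
    by_cases hm2 : 2 ≤ m
    · exact hc y (hd1 y (quaternion_aut_eq_one hm2 (d y) hodd hdy))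
    obtain rfl : m = 1 := by omega
    have hcardAut : Nat.card (MulAut R) = 24 :=
      CfsgLib.AutomizerSix.card_aut_quaternion (eR : R ≃* QuaternionGroup 2)
    have hsmall : ∀ g : X, (orderOf g).Coprime 24 → ∀ w ∈ R, w * g = g * w := fun g hg =>
      hc g (orderOf_eq_one_iff.1 (Nat.eq_one_of_dvd_coprimes hg (orderOf_map_dvd c g)
        (hcardAut ▸ orderOf_dvd_natCard (c g))))
    by_cases hp3 : p = 3
    swap
    · refine hsmall y ?_
      rw [hyo, hp.coprime_iff_not_dvd]
      intro h24
      have h8 : p ∣ 2 ^ 3 * 3 := h24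
      rcases hp.dvd_mul.1 h8 with h | h
      · exact (hp.odd_of_ne_two (Ne.symm hrp)).not_two_dvd_nat
          ((Nat.prime_dvd_prime_iff_eq hp Nat.prime_two).1 (hp.dvd_of_dvd_pow h) ▸ dvd_rfl)
      · exact hp3 ((Nat.prime_dvd_prime_iff_eq hp Nat.prime_three).1 h)
    subst hp3
    exfalso
    -- matrices
    letI : CommGroup V := { (inferInstance : Group V) with mul_comm := hcomm }
    letI : Module (ZMod 3) (Additive V) := AddCommGroup.zmodModule fun v => by
      apply Additive.toMul.injective
      rw [toMul_nsmul, toMul_zero]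
      exact hexp _
    haveI : Finite (Additive V) := Finite.of_equiv _ Additive.ofMul
    obtain ⟨ψ, hψ⟩ := CfsgLib.FGSA.RankTwoAut.exists_matrix_rep
      (CfsgLib.AutFrattini.finrank_additive (Q := V) (p := 3) hV)
      (fun g : X => MonoidHom.toAdditive (φ g).toMonoidHom)
      (fun v => by simp) (fun g h v => by simp)
    have hψi : Function.Injective ψ := (injective_iff_map_eq_one ψ).2 fun g hg =>
      hφ (MulEquiv.ext fun v => by
        rw [map_one, MulAut.one_apply]
        exact congrArg Additive.toMul (hψ g hg (Additive.ofMul v)))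
    have hR8 : Nat.card R = 8 := by
      rw [Nat.card_congr eR.toEquiv, Nat.card_eq_fintype_card, QuaternionGroup.card]; rfl
    have h8 : 3 ^ n ≡ 1 [MOD 8] := by
      have h := hfpf.card_modEq_one
      rwa [hV, hR8] at h
    rcases Nat.lt_or_ge n 3 with hn3 | hn3
    · -- `n = 2`
      interval_cases n
      · exact hn rfl
      · norm_num [Nat.ModEq] at h8
      have h48 : Nat.card X ∣ 48 := by
        refine (Subgroup.card_dvd_of_injective ψ hψi).trans (dvd_of_eq ?_)
        rw [Matrix.card_GL_field]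
        simp [Fin.prod_univ_two]
      haveI : Fact (Nat.card (X ⧸ R) = 1 ∨ (Nat.card (X ⧸ R)).Prime) := ⟨by
        have hmul := Subgroup.card_eq_card_quotient_mul_card_subgroup R
        rw [hR8] at hmul
        rw [hmul] at h48
        have h6 : Nat.card (X ⧸ R) ∣ 6 := Nat.dvd_of_mul_dvd_mul_right (by norm_num) h48
        have hle := Nat.le_of_dvd (by norm_num) h6
        have h2 : ¬ 2 ∣ Nat.card (X ⧸ R) := fun h => h16 rfl rfl (by
          rw [hmul]; exact Nat.mul_dvd_mul h (dvd_refl 8))
        interval_cases Nat.card (X ⧸ R) <;> first | (norm_num; done) | (norm_num at h6; done) | (norm_num at h2; done)⟩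
      have hcycq : IsCyclic (X ⧸ R) := by
        rcases (Fact.out : Nat.card (X ⧸ R) = 1 ∨ (Nat.card (X ⧸ R)).Prime) with h | h
        · haveI := (Nat.card_eq_one_iff_unique.1 h).1
          infer_instance
        · haveI := Fact.mk h
          exact isCyclic_of_prime_card rfl
      letI := hcycq.commGroup
      have hyR : y ∈ R := by
        have h := Abelianization.commutator_subset_ker (QuotientGroup.mk' R) hy
        rwa [QuotientGroup.ker_mk'] at h
      have h38 := orderOf_dvd_natCard (⟨y, hyR⟩ : R)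
      rw [orderOf_mk, hyo, hR8] at h38
      norm_num at h38
    · obtain ⟨s, hs, hs5, hsd, hso⟩ := exists_primitive_three hn3
      haveI := Fact.mk hs
      obtain ⟨x, hx⟩ := exists_prime_orderOf_dvd_card' s (hsd.trans hdvd)
      have hs24 : (orderOf x).Coprime 24 := by
        rw [hx, hs.coprime_iff_not_dvd]
        intro h
        have h8' : s ∣ 2 ^ 3 * 3 := h
        rcases hs.dvd_mul.1 h8' with h | h
        · have := Nat.le_of_dvd (by norm_num) (hs.dvd_of_dvd_pow h); omega
        · have := Nat.le_of_dvd (by norm_num) h; omega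
      have hcomx := hsmall x hs24
      have hs3 : ¬ s ∣ 3 := fun h => by have := Nat.le_of_dvd (by norm_num) h; omega
      obtain ⟨hcycC, -⟩ := CfsgLib.GLElem.singer (F := ZMod 3) (Nat.card_zmod 3) (by omega) hs
        (fun h => by
          have := (ZMod.natCast_eq_zero_iff s 3).1 h
          rw [Nat.prime_dvd_prime_iff_eq Nat.prime_three hs] at this
          omega) hs3 hso (ψ x) ((orderOf_injective ψ hψi x).trans hx)
      refine quaternion_not_comm hm fun u w => ?_
      have hmem : ∀ t : R, ψ t ∈ centralizer ({ψ x} : Set (GL (Fin n) (ZMod 3))) := fun t => by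
        rw [mem_centralizer_singleton_iff, ← map_mul, ← map_mul, hcomx _ t.2]
      obtain ⟨u, rfl⟩ := eR.surjective u
      obtain ⟨w, rfl⟩ := eR.surjective w
      rw [← map_mul, ← map_mul]
      refine congrArg eR (Subtype.ext (hψi ?_))
      push_cast
      rw [map_mul, map_mul]
      haveI := hcycC
      letI := IsCyclic.commGroup (α := centralizer ({ψ x} : Set (GL (Fin n) (ZMod 3))))
      exact congrArg Subtype.val (mul_comm (⟨_, hmem u⟩ : centralizer _) ⟨_, hmem w⟩)
  -- conclusion
  have hcF : y ∈ centralizer (Cfsg.fittingSubgroup X : Set X) := by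
    rw [mem_centralizer_iff]
    have hle : Cfsg.fittingSubgroup X ≤ centralizer ({y} : Set X) := by
      rw [CfsgLib.Solvable.fittingSubgroup_eq_iSup_pCore]
      exact iSup_le fun r w hw => mem_centralizer_singleton_iff.2 (hcent r r.2 w hw)
    exact fun w hw => mem_centralizer_singleton_iff.1 (hle hw)
  have hle : Cfsg.fittingSubgroup X ≤ Cfsg.pPrimeCore p X := by
    rw [CfsgLib.Solvable.fittingSubgroup_eq_iSup_pCore]
    refine iSup_le fun r => ?_
    haveI := Fact.mk r.2
    by_cases hr : (r : ℕ) = p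
    · rw [hr, hcore]; exact bot_le
    · obtain ⟨k, hk⟩ := IsPGroup.iff_card.1 (CfsgLib.Solvable.isPGroup_pCore (G := X) (r : ℕ))
      exact CfsgLib.Solvable.le_pPrimeCore p inferInstance
        (hk ▸ ((Nat.coprime_primes r.2 hp).2 hr).pow_left k)
  have hyF := hle (CfsgLib.Fitting.centralizer_fittingSubgroup_le_of_solvable hcF)
  have h1 := orderOf_dvd_natCard (⟨y, hyF⟩ : Cfsg.pPrimeCore p X)
  rw [orderOf_mk, hyo] at h1
  exact hp.not_dvd_one
    ((CfsgLib.Solvable.coprime_card_pPrimeCore (G := X) p) ▸ Nat.dvd_gcd h1 dvd_rfl)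

/-- A group whose derived group has order prime to `p` is `p`-nilpotent with abelian Sylow
`p`-subgroups. -/
theorem of_not_dvd_card_commutator {p : ℕ} [Fact p.Prime] (h : ¬ p ∣ Nat.card (commutator X)) :
    Cfsg.HasNormalPComplement p X ∧ ∀ Q : Sylow p X, IsMulCommutative (Q : Subgroup X) := by
  have hbot : ∀ Q : Sylow p X, (Q : Subgroup X) ⊓ commutator X = ⊥ := fun Q => by
    obtain ⟨k, hk⟩ := IsPGroup.iff_card.1 Q.2
    exact disjoint_iff.1 (disjoint_of_coprime_natCard
      (hk ▸ ((Fact.out : p.Prime).coprime_iff_not_dvd.2 h).pow_left k))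
  obtain ⟨P⟩ : Nonempty (Sylow p X) := inferInstance
  refine ⟨CfsgLib.NormalizerComplement.hasNormalPComplement_of_focal P ?_, fun Q =>
    ⟨⟨fun a b => Subtype.ext (commutatorElement_eq_one_iff_mul_comm.1 (mem_bot.1 ((hbot Q).le ?_)))⟩⟩⟩
  · rw [← Subgroup.commutator_inf_eq_focalSubgroup, inf_comm, hbot P]
    exact bot_le
  · refine mem_inf.2 ⟨?_, commutator_mem_commutator (mem_top _) (mem_top _)⟩
    rw [commutatorElement_def]
    exact mul_mem (mul_mem (mul_mem a.2 b.2) (inv_mem a.2)) (inv_mem b.2)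

end CfsgLib.Char.TwoClassSolv
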