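import Cfsg.Agent.Char.TwoClass

/-!
# Sylow subgroups and inertia groups for a character nonzero on two classes
-/

set_option autoImplicit false
set_option linter.style.haveILetI false

namespace CfsgLib.Char.TwoClass.Data

open scoped ComplexConjugate

universe u

variable {G : Type u} [Group G] {χ : G → ℂ} {N : Subgroup G} {x : G} {m : ℕ}

theorem index_inertia [Finite G] (D : Data χ N x m) (hχ : Cfsg.IsIrrCharacter G χ) [N.Normal]
    {μ : N → ℂ} (hμ : Cfsg.IsIrrCharacter N μ) (hμ1 : μ ≠ fun _ => 1) :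
    (inertia μ).index = Nat.card N - 1 := by
  classical
  haveI := Fintype.ofFinite G
  haveI : Fintype N := Fintype.ofFinite N
  obtain ⟨p, -, -, hel⟩ := D.exists_prime
  have hcomm : ∀ a b : N, a * b = b * a := hel.1.is_comm.comm
  have hlin : ∀ θ ∈ irrFinset N, θ 1 = 1 := fun θ hθ =>
    IsIrrCharacter.apply_one_eq_one (mem_irrFinset.1 hθ) hcomm
  have hcardirr : (irrFinset N).card = Nat.card N := by
    have h := sum_degree_sq (G := N)
    rw [Finset.sum_congr rfl fun θ hθ => by rw [hlin θ hθ, one_pow], Finset.sum_const,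
      nsmul_eq_mul, mul_one] at h
    exact_mod_cast h
  have hconst : ∀ θ : N → ℂ, Cfsg.IsIrrCharacter N θ → θ ≠ (fun _ => 1) →
      Cfsg.classInner (fun y : N => χ y) θ ≠ 0 := by
    intro θ hθ hne
    have hθ1 := hlin θ (mem_irrFinset.2 hθ)
    have h0 : ∑ y : N, θ y = 0 := by
      have := IsIrrCharacter.classInner_of_ne hθ isIrrCharacter_one hne
      rw [classInner_def, mul_eq_zero] at this
      simpa using this.resolve_left (inv_ne_zero (by exact_mod_cast Nat.card_pos.ne'))
    have hc : ∀ y : N, χ y = (if y = 1 then χ 1 + (m : ℂ) else 0) - (m : ℂ) := by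
      intro y
      by_cases hy : y = 1
      · simp [hy]
      · rw [if_neg hy, zero_sub, D.val y y.2 fun h => hy (Subtype.ext h)]
    rw [classInner_def]
    refine mul_ne_zero (inv_ne_zero (by exact_mod_cast Nat.card_pos.ne')) ?_
    simp only [hc, sub_mul, ite_mul, zero_mul, Finset.sum_sub_distrib, ← Finset.mul_sum,
      Finset.sum_ite_eq', Finset.mem_univ, if_true, hθ1, map_one, mul_one]
    rw [← map_sum, h0, map_zero, mul_zero, sub_zero, D.deg, ← Nat.cast_add, Nat.cast_ne_zero]
    exact (Nat.lt_of_lt_of_le D.pos (Nat.le_add_left _ _)).ne'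
  have horb : conjOrbit μ = (irrFinset N).erase (fun _ => 1) := by
    ext ψ
    rw [Finset.mem_erase, mem_irrFinset]
    constructor
    · intro hψ
      obtain ⟨g, rfl⟩ := mem_conjOrbit.1 hψ
      refine ⟨fun h => hμ1 ?_, isIrrCharacter_conjOn hμ g⟩
      have := congrArg (conjOn g⁻¹) h
      rw [conjOn_conjOn, mul_inv_cancel, conjOn_one] at this
      rw [this]
      funext y
      rw [conjOn_apply]
    · rintro ⟨hne, hψ⟩
      exact mem_conjOrbit_of_constituent hχ hμ hψ (hconst μ hμ hμ1) (hconst ψ hψ hne)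
  rw [← card_conjOrbit μ, horb, Finset.card_erase_of_mem (mem_irrFinset.2 isIrrCharacter_one),
    hcardirr]

theorem exists_sylow_inertia [Finite G] (D : Data χ N x m) (hχ : Cfsg.IsIrrCharacter G χ)
    [N.Normal] {p : ℕ} [Fact p.Prime] (hN : IsPGroup p N) {μ : N → ℂ}
    (hμ : Cfsg.IsIrrCharacter N μ) (hμ1 : μ ≠ fun _ => 1) :
    ∃ P : Sylow p G, inertia μ = P := by
  obtain ⟨P, hP⟩ := D.exists_sylow_centralizer hχ hN D.x_mem D.x_ne
  have hi := D.index_inertia hχ hμ hμ1
  have hPi : (P : Subgroup G).index = Nat.card N - 1 := by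
    rw [← hP]
    have h := (Subgroup.centralizer ({x} : Set G)).card_mul_index
    rw [D.card_centralizer D.x_mem D.x_ne, D.card] at h
    exact Nat.eq_of_mul_eq_mul_left
      (Nat.mul_pos (Nat.mul_pos D.pos D.pos) Nat.card_pos) h
  have hcard : Nat.card (inertia μ) = Nat.card (P : Subgroup G) := by
    have h1 := (inertia μ).card_mul_index
    rw [← (P : Subgroup G).card_mul_index, hi, ← hPi] at h1
    exact Nat.eq_of_mul_eq_mul_right (Nat.pos_of_ne_zero Subgroup.index_ne_zero_of_finite) h1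
  obtain ⟨a, ha⟩ := IsPGroup.iff_card.1 P.2
  have hnd : ¬ p ∣ (inertia μ).index := hi ▸ hPi ▸ P.not_dvd_index
  exact ⟨(IsPGroup.of_card (hcard.trans ha)).toSylow hnd, rfl⟩

theorem le_sylow [Finite G] (D : Data χ N x m) {p : ℕ} [Fact p.Prime] (hN : IsPGroup p N)
    (P : Sylow p G) : N ≤ (P : Subgroup G) := by
  obtain ⟨Q, hQ⟩ := hN.exists_le_sylow
  obtain ⟨g, rfl⟩ := MulAction.exists_smul_eq G Q P
  intro y hy
  rw [Sylow.coe_subgroup_smul, Subgroup.mem_pointwise_smul_iff_inv_smul_mem]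
  refine hQ ?_
  simpa using D.normal.conj_mem y hy g⁻¹

/-- Outside `N` the centraliser orders do not change in the quotient. -/
theorem card_centralizer_quotient [Finite G] (D : Data χ N x m) (hχ : Cfsg.IsIrrCharacter G χ)
    [N.Normal] {z : G} (hz : z ∉ N) :
    Nat.card (Subgroup.centralizer ({z} : Set G)) =
      Nat.card (Subgroup.centralizer ({(z : G ⧸ N)} : Set (G ⧸ N))) := by
  classical
  haveI := Fintype.ofFinite G
  have h1 := sum_irr_mul_conj z z
  have h2 := sum_irr_mul_conj (z : G ⧸ N) (z : G ⧸ N)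
  rw [if_pos (IsConj.refl _)] at h1 h2
  have hz0 : χ z = 0 := by
    by_contra h
    exact hz ((D.mem z).2 h)
  rw [← Finset.add_sum_erase _ _ (mem_irrFinset.2 hχ), hz0, zero_mul, zero_add] at h1
  refine Nat.cast_injective (R := ℂ) (h1.symm.trans (Eq.trans ?_ h2))
  symm
  refine Finset.sum_bij (fun σ _ => fun g : G => σ (g : G ⧸ N)) ?_ ?_ ?_ (fun σ _ => rfl)
  · intro σ hσ
    refine Finset.mem_erase.2 ⟨fun he => D.x_ne (D.faithful x ?_), mem_irrFinset.2
      (IsIrrCharacter.comp_surjective (mem_irrFinset.1 hσ) (QuotientGroup.mk' N)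
        (QuotientGroup.mk'_surjective N))⟩
    rw [← congrFun he x, ← congrFun he 1]
    simp [(QuotientGroup.eq_one_iff x).2 D.x_mem]
  · intro σ _ τ _ h
    funext q
    induction q using QuotientGroup.induction_on with
    | H g => exact congrFun h g
  · intro ψ hψ
    obtain ⟨σ, hσ, rfl⟩ := exists_deflate (N := N) (mem_irrFinset.1 (Finset.mem_of_mem_erase hψ))
      (D.trivialOn ψ (mem_irrFinset.1 (Finset.mem_of_mem_erase hψ)) (Finset.ne_of_mem_erase hψ))
    exact ⟨σ, mem_irrFinset.2 hσ, rfl⟩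

/-- Classes of a Sylow subgroup outside `N` have at least `|N|` elements. -/
theorem card_le_class [Finite G] (D : Data χ N x m) (hχ : Cfsg.IsIrrCharacter G χ) {p : ℕ}
    [Fact p.Prime] (hN : IsPGroup p N) (P : Sylow p G) (z : (P : Subgroup G))
    (hz : (z : G) ∉ N) :
    Nat.card N ≤ Nat.card {y : (P : Subgroup G) // IsConj z y} := by
  classical
  haveI := D.normal
  have hp : p.Prime := Fact.out
  obtain ⟨e, he⟩ := D.exists_pow hχ hN
  obtain ⟨n, hn⟩ := IsPGroup.iff_card.1 hN
  obtain ⟨a, ha⟩ := IsPGroup.iff_card.1 P.2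
  have hq := Subgroup.card_subgroup_dvd_card
    (Subgroup.centralizer ({((z : G) : G ⧸ N)} : Set (G ⧸ N)))
  rw [← D.card_centralizer_quotient hχ hz] at hq
  have hle : (Subgroup.centralizer ({z} : Set (P : Subgroup G))).map (P : Subgroup G).subtype ≤
      Subgroup.centralizer ({(z : G)} : Set G) := by
    rintro _ ⟨c, hc, rfl⟩
    exact Subgroup.mem_centralizer_singleton_iff.2
      (congrArg Subtype.val (Subgroup.mem_centralizer_singleton_iff.1 hc))
  have hd := (Subgroup.card_dvd_of_le hle).trans hq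
  rw [Subgroup.card_subtype] at hd
  have hQ : Nat.card (G ⧸ N) = (m * m) * (Nat.card N - 1) := by
    have h := N.card_eq_card_quotient_mul_card_subgroup
    rw [D.card] at h
    refine Nat.eq_of_mul_eq_mul_right (Nat.card_pos (α := N)) ?_
    rw [← h]; ring
  rw [hQ, he, hn] at hd
  obtain ⟨c, hc⟩ := IsPGroup.iff_card.1
    (P.2.to_subgroup (Subgroup.centralizer ({z} : Set (P : Subgroup G))))
  have hn0 : n ≠ 0 := fun h => D.ne_bot (Subgroup.card_eq_one.1 (by rw [hn, h, pow_zero]))
  have hcop : Nat.Coprime (p ^ c) (p ^ n - 1) := by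
    refine Nat.Coprime.pow_left _ (hp.coprime_iff_not_dvd.2 fun h => ?_)
    have := Nat.dvd_sub (dvd_pow_self p hn0) h
    rw [Nat.sub_sub_self (Nat.one_le_pow _ _ hp.pos)] at this
    exact hp.not_dvd_one this
  rw [hc] at hd
  have hce := (hcop.dvd_of_dvd_mul_right hd)
  rw [← pow_add] at hce
  have hce' : c ≤ e + e := (Nat.pow_dvd_pow_iff_le_right hp.one_lt).1 hce
  obtain ⟨R, hR⟩ := D.exists_sylow_centralizer hχ hN D.x_mem D.x_ne
  have hPR : Nat.card (P : Subgroup G) = p ^ (e + e) * p ^ n := by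
    rw [P.card_eq_multiplicity, ← R.card_eq_multiplicity, ← hR,
      D.card_centralizer D.x_mem D.x_ne, he, hn, ← pow_add]
  have h := card_conj_class_mul_card_centralizer z
  rw [hc, hPR] at h
  rw [hn]
  refine Nat.le_of_mul_le_mul_left ?_ (pow_pos hp.pos c)
  rw [mul_comm (p ^ c) (Nat.card _), h]
  exact Nat.mul_le_mul_right _ (Nat.pow_le_pow_right hp.pos hce')

/-- An element of the next centre, outside `N`, forces the centre below to be large. -/
theorem card_le_upperCentralSeries [Finite G] (D : Data χ N x m) (hχ : Cfsg.IsIrrCharacter G χ)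
    {p : ℕ} [Fact p.Prime] (hN : IsPGroup p N) (P : Sylow p G) {i : ℕ}
    {z : (P : Subgroup G)} (hz : z ∈ Subgroup.upperCentralSeries (P : Subgroup G) (i + 1))
    (hzN : (z : G) ∉ N) :
    Nat.card N ≤ Nat.card (Subgroup.upperCentralSeries (P : Subgroup G) i) := by
  refine (D.card_le_class hχ hN P z hzN).trans
    (Nat.card_le_card_of_injective (fun y => ⟨y.1 * z⁻¹, ?_⟩) fun a b h => Subtype.ext
      (mul_right_cancel (congrArg Subtype.val h)))
  obtain ⟨c, hc⟩ := isConj_iff.1 y.2
  have h := (Subgroup.upperCentralSeries (P : Subgroup G) i).inv_mem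
    (Subgroup.mem_upperCentralSeries_succ_iff.1 hz c)
  rw [commutatorElement_inv, commutatorElement_def] at h
  rwa [← hc]

theorem upperCentralSeries_eq [Finite G] (D : Data χ N x m) (hχ : Cfsg.IsIrrCharacter G χ)
    {p : ℕ} [Fact p.Prime] (hN : IsPGroup p N) (P : Sylow p G) :
    ∃ i : ℕ, Subgroup.upperCentralSeries (P : Subgroup G) i = N.subgroupOf (P : Subgroup G) := by
  classical
  have hcardN : Nat.card (N.subgroupOf (P : Subgroup G)) = Nat.card N :=
    Nat.card_congr (Subgroup.subgroupOfEquivOfLe (D.le_sylow hN P)).toEquiv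
  by_cases hall : ∀ i, Subgroup.upperCentralSeries (P : Subgroup G) i ≤
      N.subgroupOf (P : Subgroup G)
  · haveI := P.2.isNilpotent
    obtain ⟨i, hi⟩ := Group.IsNilpotent.nilpotent (P : Subgroup G)
    exact ⟨i, le_antisymm (hall i) (hi ▸ le_top)⟩
  push_neg at hall
  obtain ⟨j, hj, hmin⟩ : ∃ j, ¬ Subgroup.upperCentralSeries (P : Subgroup G) j ≤
      N.subgroupOf (P : Subgroup G) ∧ ∀ i < j, Subgroup.upperCentralSeries (P : Subgroup G) i ≤
        N.subgroupOf (P : Subgroup G) :=
    ⟨Nat.find hall, Nat.find_spec hall, fun i hi => not_not.1 (Nat.find_min hall hi)⟩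
  obtain ⟨z, hz, hzN⟩ := SetLike.not_le_iff_exists.1 hj
  rcases Nat.eq_zero_or_eq_succ_pred j with rfl | hj'
  · rw [Subgroup.upperCentralSeries_zero, Subgroup.mem_bot] at hz
    exact absurd (hz ▸ Subgroup.one_mem _) hzN
  obtain ⟨i, rfl⟩ : ∃ i, j = i + 1 := ⟨_, hj'⟩
  exact ⟨i, Subgroup.eq_of_le_of_card_ge (hmin i (Nat.lt_succ_self i))
    (hcardN ▸ D.card_le_upperCentralSeries hχ hN P hz (fun h => hzN h))⟩

theorem center_le [Finite G] (D : Data χ N x m) (hχ : Cfsg.IsIrrCharacter G χ)
    {p : ℕ} [Fact p.Prime] (hN : IsPGroup p N) (P : Sylow p G) :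
    (Subgroup.center (P : Subgroup G)).map (P : Subgroup G).subtype ≤ N := by
  rintro _ ⟨z, hz, rfl⟩
  by_contra hzN
  rw [← Subgroup.upperCentralSeries_one] at hz
  have h := D.card_le_upperCentralSeries hχ hN P (i := 0) hz hzN
  rw [Subgroup.upperCentralSeries_zero, Subgroup.card_bot] at h
  have := Finite.one_lt_card_iff_nontrivial.2 ((Subgroup.nontrivial_iff_ne_bot N).2 D.ne_bot)
  omega

theorem center_eq_iff [Finite G] (D : Data χ N x m) (hχ : Cfsg.IsIrrCharacter G χ)
    {p : ℕ} [Fact p.Prime] (hN : IsPGroup p N) (P : Sylow p G) :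
    (Subgroup.center (P : Subgroup G)).map (P : Subgroup G).subtype = N ↔
      (P : Subgroup G).Normal := by
  have hP : ∀ R : Sylow p G, (P : Subgroup G) ≤ R → (R : Subgroup G) = P := fun R h =>
    P.is_maximal' R.2 h
  constructor
  · intro h
    have hPc : ∀ y ∈ N, y ≠ 1 → Subgroup.centralizer ({y} : Set G) = P := by
      intro y hy hy1
      obtain ⟨R, hR⟩ := D.exists_sylow_centralizer hχ hN hy hy1
      rw [hR]
      refine hP R ?_
      rw [← hR]
      intro w hw
      rw [← h] at hy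
      obtain ⟨c, hc, rfl⟩ := hy
      exact Subgroup.mem_centralizer_singleton_iff.2
        (congrArg Subtype.val (Subgroup.mem_center_iff.1 hc ⟨w, hw⟩))
    refine ⟨fun w hw g => ?_⟩
    have hx' : g * x * g⁻¹ ≠ 1 := fun h => D.x_ne (by simpa using h)
    rw [← hPc _ D.x_mem D.x_ne, Subgroup.mem_centralizer_singleton_iff] at hw
    rw [← hPc _ (D.normal.conj_mem x D.x_mem g) hx', Subgroup.mem_centralizer_singleton_iff]
    calc g * w * g⁻¹ * (g * x * g⁻¹) = g * (w * x) * g⁻¹ := by group
      _ = g * (x * w) * g⁻¹ := by rw [hw]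
      _ = _ := by group
  · intro hnorm
    refine le_antisymm (D.center_le hχ hN P) fun y hy => ?_
    have hyP := D.le_sylow hN P hy
    refine ⟨⟨y, hyP⟩, Subgroup.mem_center_iff.2 fun w => ?_, rfl⟩
    rcases eq_or_ne y 1 with rfl | hy1
    · ext; simp
    obtain ⟨R, hR⟩ := D.exists_sylow_centralizer hχ hN hy hy1
    haveI : Unique (Sylow p G) := P.unique_of_normal hnorm
    have hw : (w : G) ∈ Subgroup.centralizer ({y} : Set G) := by
      rw [hR, Subsingleton.elim R P]; exact w.2
    exact Subtype.ext (Subgroup.mem_centralizer_singleton_iff.1 hw)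

end CfsgLib.Char.TwoClass.Data
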