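import Cfsg.Agent.Char.ThompsonDegree
import Cfsg.Agent.Char.TwoDegrees
import Cfsg.Agent.Char.DegreesPrime
import Cfsg.Agent.Char.Misc
import Cfsg.Agent.Char.ExtendGlue
import Cfsg.Agent.Char.NilpotentSplit
import Cfsg.Agent.Char.Inflation
import Cfsg.Agent.Char.CliffordCorrespondence
import Cfsg.Agent.Transfer.PResidual

/-!
# Groups with two irreducible character degrees

If the irreducible degrees are `1` and `m` then there is a normal abelian subgroup of index `m`,
or `m` is a power of a prime `p` and the group is the product of a `p`-group and an abelian group.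

The `m'`-core `A` is abelian with nilpotent complement `P`. A linear character of `A` moved by `P`
has an abelian stabilizer of index `m`, which turns out to be normal and to centralize `A`.
-/

set_option autoImplicit false
set_option linter.style.haveILetI false
set_option linter.unusedSectionVars false

namespace CfsgLib.Char.TwoDegreeStructure

open Finset

universe u

variable {G : Type u} [Group G] [Fintype G]

/-- The normal abelian part. -/
theorem exists_kernel {m : ℕ}
    (hcd : ∀ f : G → ℂ, Cfsg.IsIrrCharacter G f → f 1 = 1 ∨ f 1 = (m : ℂ)) (hm1 : m ≠ 1)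
    (hm0 : 0 < m) :
    ∃ K : Subgroup G, K.Normal ∧ (∀ a ∈ K, ∀ b ∈ K, a * b = b * a) ∧
      (Nat.card K).Coprime K.index ∧ (∀ q : ℕ, q.Prime → q ∣ K.index → q ∣ m) ∧
      ∃ P : Subgroup G, K.IsComplement' P ∧ Group.IsNilpotent P ∧
        ∃ π : G →* P, (∀ g, π g = 1 ↔ g ∈ K) ∧ ∀ x : P, π x = x := by
  classical
  have hN : ∀ p : m.primeFactors, ∃ N : Subgroup G, N.Normal ∧ (Nat.card N).Coprime p ∧
      ∃ k : ℕ, N.index = (p : ℕ) ^ k := fun p => by
    haveI := Fact.mk (Nat.prime_of_mem_primeFactors p.2)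
    refine ThompsonDegree.exists_complement fun f hf d hd hd1 => ?_
    rcases hcd f hf with h | h
    · rw [hd, Nat.cast_eq_one] at h; exact absurd h hd1
    · rw [hd, Nat.cast_inj] at h
      rw [h]
      exact Nat.dvd_of_mem_primeFactors p.2
  choose N hNn hNc k hk using hN
  haveI := hNn
  let φ : G →* (p : m.primeFactors) → G ⧸ N p := MonoidHom.pi fun p => QuotientGroup.mk' (N p)
  obtain ⟨K, hK⟩ : ∃ K, φ.ker = K := ⟨_, rfl⟩
  haveI : K.Normal := hK ▸ inferInstance
  haveI hnilPi : Group.IsNilpotent ((p : m.primeFactors) → G ⧸ N p) := by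
    haveI : ∀ p : m.primeFactors, Group.IsNilpotent (G ⧸ N p) := fun p => by
      haveI := Fact.mk (Nat.prime_of_mem_primeFactors p.2)
      exact (IsPGroup.of_card (n := k p) (by rw [← Subgroup.index_eq_card, hk])).isNilpotent
    infer_instance
  have hnil : Group.IsNilpotent (G ⧸ K) := by
    subst hK
    exact Subgroup.isNilpotent_of_ker_le_center (f := QuotientGroup.kerLift φ)
      (le_of_eq_of_le ((MonoidHom.ker_eq_bot_iff _).2 (QuotientGroup.kerLift_injective φ)) bot_le)
  have hKcop : ∀ p : m.primeFactors, (Nat.card K).Coprime p := fun p => by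
    refine (hNc p).coprime_dvd_left (Subgroup.card_dvd_of_le fun x hx => ?_)
    rw [← hK, MonoidHom.mem_ker] at hx
    exact (QuotientGroup.eq_one_iff x).1 (congrFun hx p)
  have hprimes : ∀ q : ℕ, q.Prime → q ∣ K.index → q ∣ m := by
    intro q hq h2
    rw [← hK, Subgroup.index_ker] at h2
    have h3 := h2.trans (Subgroup.card_subgroup_dvd_card φ.range)
    rw [Nat.card_pi] at h3
    obtain ⟨p, -, hp⟩ := hq.prime.exists_mem_finset_dvd h3
    rw [← Subgroup.index_eq_card, hk] at hp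
    have hqp := (Nat.prime_dvd_prime_iff_eq hq (Nat.prime_of_mem_primeFactors p.2)).1
      (hq.dvd_of_dvd_pow hp)
    exact hqp ▸ Nat.dvd_of_mem_primeFactors p.2
  have hcop : (Nat.card K).Coprime K.index := by
    refine Nat.coprime_of_dvd fun q hq h1 h2 => ?_
    exact hq.one_lt.ne' (Nat.dvd_one.1 ((hKcop ⟨q, Nat.mem_primeFactors.2
      ⟨hq, hprimes q hq h2, hm0.ne'⟩⟩) ▸ Nat.dvd_gcd h1 (dvd_refl q)))
  haveI := Fintype.ofFinite K
  have hKab : ∀ a ∈ K, ∀ b ∈ K, a * b = b * a := by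
    intro a ha b hb
    refine congrArg Subtype.val (abelian_iff_degree_one.2 (fun θ hθ => ?_) ⟨a, ha⟩ ⟨b, hb⟩)
    obtain ⟨d, -, hd⟩ := IsIrrCharacter.exists_degree hθ
    obtain ⟨f, hf, hc⟩ := DegreesPrime.exists_over K hθ
    have hdc : d ∣ Nat.card K := IsIrrCharacter.degree_dvd_card hθ hd
    rw [hd, Nat.cast_eq_one]
    rcases hcd f hf with h | h
    · exact Nat.dvd_one.1 (TwoDegrees.degree_dvd hf hθ hc (by rw [h, Nat.cast_one]) hd)
    · have hdm := TwoDegrees.degree_dvd hf hθ hc h hd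
      by_contra hne
      obtain ⟨q, hq, hqd⟩ := Nat.exists_prime_and_dvd hne
      exact hq.one_lt.ne' (Nat.dvd_one.1 ((hKcop ⟨q, Nat.mem_primeFactors.2
        ⟨hq, hqd.trans hdm, hm0.ne'⟩⟩) ▸ Nat.dvd_gcd (hqd.trans hdc) (dvd_refl q)))
  obtain ⟨P, hP⟩ := Subgroup.exists_right_complement'_of_coprime hcop
  have hbij : Function.Bijective ((QuotientGroup.mk' K).comp P.subtype) := by
    refine ⟨fun x y h => ?_, fun q => ?_⟩
    · have h1 : ((x⁻¹ * y : P) : G) ∈ K ⊓ P := ⟨by
        simpa using QuotientGroup.eq.1 h, (x⁻¹ * y : P).2⟩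
      rw [disjoint_iff.1 hP.disjoint, Subgroup.mem_bot] at h1
      exact inv_mul_eq_one.1 (Subtype.ext h1)
    · obtain ⟨g, rfl⟩ := QuotientGroup.mk_surjective q
      obtain ⟨a, ha, x, hx, hax⟩ := Subgroup.mem_sup_of_normal_left.1
        (hP.sup_eq_top ▸ Subgroup.mem_top g : g ∈ K ⊔ P)
      refine ⟨⟨x, hx⟩, ?_⟩
      rw [← hax]
      simp [(QuotientGroup.eq_one_iff a).2 ha]
  let e : P ≃* G ⧸ K := MulEquiv.ofBijective _ hbij
  refine ⟨K, inferInstance, hKab, hcop, hprimes, P, hP, (Group.isNilpotent_congr e).2 hnil,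
    e.symm.toMonoidHom.comp (QuotientGroup.mk' K), fun g => ?_, fun x => ?_⟩
  · rw [MonoidHom.comp_apply, MulEquiv.coe_toMonoidHom, MulEquiv.map_eq_one_iff,
      QuotientGroup.mk'_apply, QuotientGroup.eq_one_iff]
  · exact e.symm_apply_apply x

/-- The stabilizer of a moved linear character of the kernel. -/
theorem inertia_spec {m : ℕ}
    (hcd : ∀ f : G → ℂ, Cfsg.IsIrrCharacter G f → f 1 = 1 ∨ f 1 = (m : ℂ)) (A : Subgroup G)
    [A.Normal] [Fintype A] {P : Subgroup G} (π : G →* P) (hker : ∀ g, π g = 1 ↔ g ∈ A)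
    (hid : ∀ x : P, π x = x) (l : A →* ℂˣ)
    (hmov : inertia (G := G) (fun a : A => (l a : ℂ)) ≠ ⊤) :
    (inertia (G := G) (fun a : A => (l a : ℂ))).index = m ∧
      ∀ x ∈ inertia (G := G) (fun a : A => (l a : ℂ)), ∀ y ∈ inertia (G := G)
        (fun a : A => (l a : ℂ)), x ∈ P → y ∈ P → x * y = y * x := by
  classical
  obtain ⟨T, hT⟩ : ∃ T, inertia (G := G) (fun a : A => (l a : ℂ)) = T := ⟨_, rfl⟩
  rw [hT] at hmov ⊢
  haveI := Fintype.ofFinite T
  have hl := isIrrCharacter_ofHom l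
  have hAT : A ≤ T := hT ▸ le_inertia (IsIrrCharacter.isClassFunction hl)
  have hπT : ∀ t : T, (π (t : G) : G) ∈ T := by
    intro t
    have h1 : π ((π (t : G) : G)⁻¹ * t) = 1 := by
      rw [map_mul, map_inv, hid, inv_mul_cancel]
    have h2 := hAT ((hker _).1 h1)
    have h3 := T.mul_mem t.2 (T.inv_mem h2)
    simpa using h3
  obtain ⟨Q, hQ⟩ : ∃ Q, T.subgroupOf P = Q := ⟨_, rfl⟩
  haveI := Fintype.ofFinite Q
  let πT : T →* Q := (π.comp T.subtype).codRestrict Q fun t => by
    rw [← hQ, Subgroup.mem_subgroupOf]; exact hπT t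
  have hπTs : Function.Surjective πT := fun q => by
    have hq : ((q : P) : G) ∈ T := Subgroup.mem_subgroupOf.1 (hQ.symm ▸ q.2)
    exact ⟨⟨_, hq⟩, Subtype.ext (hid q)⟩
  -- the extension of `l`
  obtain ⟨A', hA'⟩ : ∃ A', A.subgroupOf T = A' := ⟨_, rfl⟩
  haveI : A'.Normal := hA' ▸ Subgroup.normal_subgroupOf
  have hA'mem : ∀ t : T, t ∈ A' ↔ (t : G) ∈ A := fun t => by rw [← hA', Subgroup.mem_subgroupOf]
  obtain ⟨P', hP'⟩ : ∃ P', P.subgroupOf T = P' := ⟨_, rfl⟩
  have htop : A' ⊔ P' = ⊤ := by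
    rw [eq_top_iff]
    intro t _
    have h1 : t * (⟨(π (t : G) : G), hπT t⟩ : T)⁻¹ ∈ A' := by
      rw [hA'mem, ← hker, Subgroup.coe_mul, Subgroup.coe_inv, map_mul, map_inv, hid, mul_inv_cancel]
    have h2 : (⟨(π (t : G) : G), hπT t⟩ : T) ∈ P' := by
      rw [← hP', Subgroup.mem_subgroupOf]; exact (π (t : G)).2
    have h3 := (A' ⊔ P').mul_mem (Subgroup.mem_sup_left h1) (Subgroup.mem_sup_right h2)
    simpa using h3
  let lA : A' →* ℂˣ := MonoidHom.mk' (fun a => l ⟨((a : T) : G), (hA'mem a).1 a.2⟩)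
    fun a b => map_mul l ⟨((a : T) : G), (hA'mem a).1 a.2⟩ ⟨((b : T) : G), (hA'mem b).1 b.2⟩
  obtain ⟨F, hF, -⟩ := exists_hom_glue A' P' htop lA (1 : P' →* ℂˣ)
    (fun x h1 h2 => by
      have hx : (x : G) = 1 := by
        have h3 := (hker _).2 ((hA'mem x).1 h1)
        rw [show (x : G) = ((⟨x, Subgroup.mem_subgroupOf.1 (hP'.symm ▸ h2)⟩ : P) : G) from rfl,
          hid] at h3
        exact congrArg Subtype.val h3
      rw [MonoidHom.one_apply]
      show l _ = 1
      rw [show (⟨(x : G), _⟩ : A) = 1 from Subtype.ext hx, map_one])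
    (fun k h => by
      have hk : ((k : T) : G) ∈ inertia (G := G) (fun a : A => (l a : ℂ)) := hT ▸ (k : T).2
      have h1 := congrFun ((mem_inertia _ _).1 hk) ⟨((h : T) : G), (hA'mem h).1 h.2⟩
      rw [conjOn_apply] at h1
      exact Units.ext h1)
  have hdeg : ∀ η : Q → ℂ, Cfsg.IsIrrCharacter Q η → (T.index : ℂ) * η 1 = (m : ℂ) := by
    intro η hη
    have hψ : Cfsg.IsIrrCharacter T (fun t => η (πT t) * (F t : ℂ)) :=
      IsIrrCharacter.mul_hom (IsIrrCharacter.comp_surjective hη πT hπTs) F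
    have hres : (fun a : A => η (πT (Subgroup.inclusion hAT a)) *
        (F (Subgroup.inclusion hAT a) : ℂ)) = η 1 • fun a : A => (l a : ℂ) := by
      funext a
      have h1 : πT (Subgroup.inclusion hAT a) = 1 := Subtype.ext ((hker _).2 a.2)
      have h2 : F (Subgroup.inclusion hAT a) = l a :=
        hF ⟨Subgroup.inclusion hAT a, (hA'mem _).2 a.2⟩
      rw [h1, h2, Pi.smul_apply, smul_eq_mul]
    have hI := (isIrrCharacter_indFun_of_inertia hAT hl hT hψ (by
      rw [hres, classInner_smul_left, IsIrrCharacter.classInner_self hl, mul_one]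
      exact IsIrrCharacter.apply_one_ne_zero hη)).1
    have h1 : Cfsg.indFun T (fun t => η (πT t) * (F t : ℂ)) 1 = (T.index : ℂ) * η 1 := by
      rw [indFun_one, map_one, map_one, Units.val_one, mul_one]
    rcases hcd _ hI with h | h
    · exfalso
      obtain ⟨d, hd0, hd⟩ := IsIrrCharacter.exists_degree hη
      rw [h1, hd, ← Nat.cast_mul, Nat.cast_eq_one] at h
      exact hmov (Subgroup.index_eq_one.1 (mul_eq_one.1 h).1)
    · rwa [h1] at h
  have hidx : T.index = m := by
    have h := hdeg _ isIrrCharacter_one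
    rw [mul_one, Nat.cast_inj] at h
    exact h
  refine ⟨hidx, fun x hx y hy hxP hyP => ?_⟩
  have hQab : ∀ a b : Q, a * b = b * a := abelian_iff_degree_one.2 fun η hη => by
    have h := hdeg η hη
    rw [hidx] at h
    refine mul_left_cancel₀ (a := (m : ℂ)) ?_ (h.trans (mul_one _).symm)
    rw [← hidx]
    exact Nat.cast_ne_zero.2 Subgroup.index_ne_zero_of_finite
  have hxQ : (⟨x, hxP⟩ : P) ∈ Q := hQ ▸ Subgroup.mem_subgroupOf.2 hx
  have hyQ : (⟨y, hyP⟩ : P) ∈ Q := hQ ▸ Subgroup.mem_subgroupOf.2 hy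
  exact congrArg (fun z : Q => ((z : P) : G)) (hQab ⟨_, hxQ⟩ ⟨_, hyQ⟩)

/-- An abelian subgroup of index `m` in a nilpotent group with degrees `1` and `m` is normal. -/
theorem normal_of_abelian {P : Type u} [Group P] [Finite P] [Group.IsNilpotent P] {m : ℕ}
    (hcd : ∀ f : P → ℂ, Cfsg.IsIrrCharacter P f → f 1 = 1 ∨ f 1 = (m : ℂ)) (S : Subgroup P)
    (hab : ∀ a ∈ S, ∀ b ∈ S, a * b = b * a) (hidx : S.index = m) : S.Normal := by
  classical
  haveI := Fintype.ofFinite P
  obtain ⟨C, hC⟩ : ∃ C, S.normalCore = C := ⟨_, rfl⟩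
  haveI : C.Normal := hC ▸ Subgroup.normalCore_normal S
  have hCS : C ≤ S := hC ▸ Subgroup.normalCore_le S
  haveI := Fintype.ofFinite (P ⧸ C)
  by_cases hcomm : ∀ a b : P ⧸ C, a * b = b * a
  · refine ⟨fun s hs g => ?_⟩
    have h1 : (g * s * g⁻¹) * s⁻¹ ∈ C := by
      rw [← QuotientGroup.eq_one_iff, QuotientGroup.mk_mul, QuotientGroup.mk_mul,
        QuotientGroup.mk_mul, QuotientGroup.mk_inv, QuotientGroup.mk_inv]
      rw [hcomm (g : P ⧸ C) s, mul_inv_cancel_right, mul_inv_cancel]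
    have h2 := S.mul_mem (hCS h1) hs
    simpa using h2
  exfalso
  obtain ⟨σ, hσ, hσ1⟩ : ∃ σ : P ⧸ C → ℂ, Cfsg.IsIrrCharacter (P ⧸ C) σ ∧ σ 1 ≠ 1 := by
    by_contra! hall
    exact hcomm (abelian_iff_degree_one.2 hall)
  have hσm : σ 1 = (m : ℂ) := by
    rcases hcd _ (IsIrrCharacter.inflate C hσ) with h | h
    · exact absurd h hσ1
    · exact h
  haveI : Nontrivial (P ⧸ C) := by
    by_contra hnt
    rw [not_nontrivial_iff_subsingleton] at hnt
    exact hcomm fun a b => Subsingleton.elim _ _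
  obtain ⟨z, hz, hz1⟩ := (Subgroup.bot_or_exists_ne_one (Subgroup.center (P ⧸ C))).resolve_left
    (Group.IsNilpotent.center_ne_bot (P ⧸ C))
  obtain ⟨S', hS'⟩ : ∃ S', S.map (QuotientGroup.mk' C) = S' := ⟨_, rfl⟩
  have hzS : z ∉ S' := by
    intro hzS
    obtain ⟨s, hs, rfl⟩ := hS' ▸ hzS
    apply hz1
    rw [QuotientGroup.mk'_apply, QuotientGroup.eq_one_iff, ← hC]
    intro g
    have h1 : (g * s * g⁻¹) * s⁻¹ ∈ C := by
      rw [← QuotientGroup.eq_one_iff, QuotientGroup.mk_mul, QuotientGroup.mk_mul,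
        QuotientGroup.mk_mul, QuotientGroup.mk_inv, QuotientGroup.mk_inv]
      rw [QuotientGroup.mk'_apply] at hz
      rw [Subgroup.mem_center_iff.1 hz (g : P ⧸ C), mul_inv_cancel_right, mul_inv_cancel]
    have h2 := S.mul_mem (hCS h1) hs
    simpa using h2
  obtain ⟨U, hU⟩ : ∃ U, Subgroup.center (P ⧸ C) ⊔ S' = U := ⟨_, rfl⟩
  have hUab : ∀ a ∈ U, ∀ b ∈ U, a * b = b * a := by
    intro a ha b hb
    rw [← hU] at ha hb
    obtain ⟨z1, hz1', s1, hs1, rfl⟩ := Subgroup.mem_sup_of_normal_left.1 ha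
    obtain ⟨z2, hz2', s2, hs2, rfl⟩ := Subgroup.mem_sup_of_normal_left.1 hb
    have e1 : Commute z1 (z2 * s2) := (Subgroup.mem_center_iff.1 hz1' _).symm
    have e2 : Commute s1 z2 := Subgroup.mem_center_iff.1 hz2' _
    have e3 : Commute s1 s2 := by
      rw [← hS'] at hs1 hs2
      obtain ⟨x1, hx1, rfl⟩ := hs1
      obtain ⟨x2, hx2, rfl⟩ := hs2
      show _ * _ = _ * _
      rw [← map_mul, ← map_mul, hab x1 hx1 x2 hx2]
    exact e1.mul_left (e2.mul_right e3)
  have hlt : S' < U := by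
    refine hU ▸ lt_of_le_of_ne le_sup_right fun h => hzS ?_
    rw [h]
    exact Subgroup.mem_sup_left hz
  have h1 := IsIrrCharacter.degree_le_index hσ hσm U hUab
  have h2 := Subgroup.index_strictAnti hlt
  have h3 : S'.index ≤ m := by
    rw [← hidx, ← hS']
    exact Nat.le_of_dvd (Nat.pos_of_ne_zero Subgroup.index_ne_zero_of_finite)
      (Subgroup.index_map_dvd _ (QuotientGroup.mk'_surjective C))
  omega

/-- Degrees `1` and `m`. -/
theorem main {m : ℕ}
    (hcd : ∀ f : G → ℂ, Cfsg.IsIrrCharacter G f → f 1 = 1 ∨ f 1 = (m : ℂ))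
    (hex : ∃ f : G → ℂ, Cfsg.IsIrrCharacter G f ∧ f 1 = (m : ℂ)) (hm1 : m ≠ 1) :
    (∃ A : Subgroup G, A.Normal ∧ (∀ a ∈ A, ∀ b ∈ A, a * b = b * a) ∧ A.index = m) ∨
      ∃ p e : ℕ, p.Prime ∧ m = p ^ e ∧ ∃ P A : Subgroup G, P.Normal ∧ A.Normal ∧ IsPGroup p P ∧
        (∀ a ∈ A, ∀ b ∈ A, a * b = b * a) ∧ P ⊓ A = ⊥ ∧ P ⊔ A = ⊤ := by
  classical
  obtain ⟨χ, hχ, hχm⟩ := hex
  have hm0 : 0 < m := by
    obtain ⟨d, hd, hd'⟩ := IsIrrCharacter.exists_degree hχ
    rw [hχm, Nat.cast_inj] at hd'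
    exact hd' ▸ hd
  obtain ⟨A, hAn, hAab, hcop, hprimes, P, hP, hnil, π, hker, hid⟩ := exists_kernel hcd hm1 hm0
  haveI := hAn
  haveI := hnil
  haveI := Fintype.ofFinite A
  haveI := Fintype.ofFinite P
  have hπs : Function.Surjective π := fun x => ⟨x, hid x⟩
  have hcdP : ∀ f : P → ℂ, Cfsg.IsIrrCharacter P f → f 1 = 1 ∨ f 1 = (m : ℂ) := fun f hf => by
    simpa using hcd _ (IsIrrCharacter.comp_surjective hf π hπs)
  have hdec : ∀ g : G, g * (π g : G)⁻¹ ∈ A := fun g => by
    rw [← hker, map_mul, map_inv, hid, mul_inv_cancel]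
  by_cases hmov : ∃ l : A →* ℂˣ, inertia (G := G) (fun a : A => (l a : ℂ)) ≠ ⊤
  · left
    obtain ⟨l, hl⟩ := hmov
    obtain ⟨hidx, hcommT⟩ := inertia_spec hcd A π hker hid l hl
    obtain ⟨T, hT⟩ : ∃ T, inertia (G := G) (fun a : A => (l a : ℂ)) = T := ⟨_, rfl⟩
    rw [hT] at hidx hcommT hl
    have hAT : A ≤ T := hT ▸ le_inertia (IsIrrCharacter.isClassFunction (isIrrCharacter_ofHom l))
    have hmemT : ∀ g : G, g ∈ T ↔ (π g : G) ∈ T := fun g => by
      have h1 := hAT (hdec g)
      constructor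
      · intro hg
        have h2 := T.mul_mem (T.inv_mem h1) hg
        simpa [mul_assoc] using h2
      · intro hg
        have h2 := T.mul_mem h1 hg
        simpa using h2
    obtain ⟨S, hS⟩ : ∃ S, T.subgroupOf P = S := ⟨_, rfl⟩
    have hTS : S.comap π = T := by
      ext g
      rw [Subgroup.mem_comap, ← hS, Subgroup.mem_subgroupOf, ← hmemT]
    have hSidx : S.index = m := by
      rw [← hidx, ← hTS, Subgroup.index_comap_of_surjective _ hπs]
    haveI hSn : S.Normal := normal_of_abelian hcdP S (fun a ha b hb => Subtype.ext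
      (hcommT a (Subgroup.mem_subgroupOf.1 (hS.symm ▸ ha)) b
        (Subgroup.mem_subgroupOf.1 (hS.symm ▸ hb)) a.2 b.2)) hSidx
    haveI hTn : T.Normal := hTS ▸ hSn.comap π
    -- every linear character of `A` is fixed by `T`
    have hfix : ∀ (μ : A →* ℂˣ) (x : P), (x : G) ∈ T → DegreesPrime.act A (x : G) μ = μ := by
      haveI := Fintype.ofFinite S
      have hfixl : ∀ g : G, g ∈ T ↔ DegreesPrime.act A g l = l := fun g => by
        rw [DegreesPrime.act_eq_iff, hT, inv_mem_iff]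
      have hpow : ∀ μ : A →* ℂˣ, μ ^ Nat.card A = 1 := fun μ =>
        MonoidHom.ext fun a => by
          rw [MonoidHom.pow_apply, ← map_pow, pow_card_eq_one', map_one, MonoidHom.one_apply]
      have hScop : (Nat.card S).Coprime (Nat.card A) := by
        refine (hcop.coprime_dvd_right ?_).symm
        rw [hP.symm.index_eq_card]
        exact Subgroup.card_subgroup_dvd_card S
      obtain ⟨j, hj⟩ : ∃ j : ℕ, ∀ (μ : A →* ℂˣ) (a : A), μ a ^ (Nat.card S * j) = μ a := by
        rcases Nat.lt_or_ge 1 (Nat.card A) with h1 | h1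
        · obtain ⟨j, -, hj⟩ := Nat.exists_mul_mod_eq_one_of_coprime hScop h1
          exact ⟨j, fun μ a => by
            rw [← Nat.mod_add_div (Nat.card S * j) (Nat.card A), hj, pow_add, pow_one, pow_mul,
              ← map_pow μ, pow_card_eq_one', map_one, one_pow, mul_one]⟩
        · refine ⟨0, fun μ a => ?_⟩
          haveI : Subsingleton A := (Nat.card_eq_one_iff_unique.1
            (by have := Nat.card_pos (α := A); omega)).1
          rw [Subsingleton.elim a 1, map_one, one_pow]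
      let π0 : (A →* ℂˣ) → (A →* ℂˣ) := fun μ =>
        MonoidHom.mk' (fun a => (∏ s : S, DegreesPrime.act A ((s : P) : G) μ a) ^ j)
          fun a b => by simp only [map_mul, prod_mul_distrib, mul_pow]
      have h0mul : ∀ μ ν, π0 (μ * ν) = π0 μ * π0 ν := fun μ ν => MonoidHom.ext fun a => by
        simp only [π0, MonoidHom.mk'_apply, MonoidHom.mul_apply, DegreesPrime.act_apply,
          prod_mul_distrib, mul_pow]
      have h0P : ∀ (g : P) μ, DegreesPrime.act A (g : G) (π0 μ) =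
          π0 (DegreesPrime.act A (g : G) μ) := fun g μ => MonoidHom.ext fun a => by
        simp only [π0, MonoidHom.mk'_apply, DegreesPrime.act_apply]
        congr 1
        refine Fintype.prod_equiv (MulAut.conjNormal g : MulAut S).toEquiv _ _ fun s => ?_
        refine congrArg μ (Subtype.ext ?_)
        simp [MulAut.conjNormal_apply, mul_assoc]
      have h0S : ∀ (s : S) μ, DegreesPrime.act A ((s : P) : G) (π0 μ) = π0 μ := fun s μ =>
        MonoidHom.ext fun a => by
          simp only [π0, MonoidHom.mk'_apply, DegreesPrime.act_apply]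
          congr 1
          refine Fintype.prod_equiv (Equiv.mulLeft s) _ _ fun x => ?_
          refine congrArg μ (Subtype.ext ?_)
          simp [mul_assoc]
      have h0fix : ∀ μ, (∀ s : S, DegreesPrime.act A ((s : P) : G) μ = μ) → π0 μ = μ :=
        fun μ hμ => MonoidHom.ext fun a => by
          simp only [π0, MonoidHom.mk'_apply, hμ, prod_const, card_univ, ← pow_mul,
            ← Nat.card_eq_fintype_card]
          exact hj μ a
      intro μ x hx
      obtain ⟨ν, hν⟩ : ∃ ν, μ * (π0 μ)⁻¹ = ν := ⟨_, rfl⟩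
      have hxS : x ∈ S := hS ▸ Subgroup.mem_subgroupOf.2 hx
      have hνμ : ν * π0 μ = μ := by
        rw [← hν]
        exact MonoidHom.ext fun a => by simp [MonoidHom.mul_apply]
      have h0ν : ∀ a, π0 ν a = 1 := by
        intro a
        have h1 := congrArg (fun f : A →* ℂˣ => f a) (h0mul ν (π0 μ))
        rw [hνμ, h0fix (π0 μ) fun s => h0S s μ] at h1
        simpa [MonoidHom.mul_apply] using h1
      -- the stabilizer of `l * ν`
      have hstab : ∀ g : P, DegreesPrime.act A (g : G) (l * ν) = l * ν →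
          (g : G) ∈ T ∧ DegreesPrime.act A (g : G) ν = ν := by
        intro g hg
        have hlS : ∀ s : S, DegreesPrime.act A ((s : P) : G) l = l := fun s =>
          (hfixl _).1 (Subgroup.mem_subgroupOf.1 (hS.symm ▸ s.2))
        have h1 : DegreesPrime.act A (g : G) (π0 (l * ν)) = π0 (l * ν) := by
          rw [h0P, hg]
        have hl0 : π0 (l * ν) = l := by
          rw [h0mul, h0fix l hlS]
          exact MonoidHom.ext fun a => by rw [MonoidHom.mul_apply, h0ν, mul_one]
        rw [hl0] at h1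
        refine ⟨(hfixl _).2 h1, MonoidHom.ext fun a => ?_⟩
        have h2 := congrArg (fun f : A →* ℂˣ => f a) hg
        have h3 := congrArg (fun f : A →* ℂˣ => f a) h1
        simp only [DegreesPrime.act_apply, MonoidHom.mul_apply] at h2 h3 ⊢
        rw [h3] at h2
        exact mul_left_cancel h2
      have hνx : DegreesPrime.act A (x : G) ν = ν := by
        by_contra hne
        obtain ⟨I, hI⟩ : ∃ I, inertia (G := G) (fun a : A => ((l * ν : A →* ℂˣ) a : ℂ)) = I :=
          ⟨_, rfl⟩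
        have hAI : A ≤ I := hI ▸ le_inertia
          (IsIrrCharacter.isClassFunction (isIrrCharacter_ofHom (l * ν)))
        have hIle : ∀ g ∈ I, g ∈ T ∧ DegreesPrime.act A ((π g : P) : G) ν = ν := by
          intro g hg
          have h2 : DegreesPrime.act A ((π g : P) : G) (l * ν) = l * ν := by
            rw [DegreesPrime.act_eq_iff, hI, inv_mem_iff]
            have h3 := I.mul_mem (I.inv_mem (hAI (hdec g))) hg
            simpa [mul_assoc] using h3
          obtain ⟨h4, h5⟩ := hstab _ h2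
          exact ⟨(hmemT g).2 h4, h5⟩
        have hlt : I < T := by
          refine lt_of_le_of_ne (fun g hg => (hIle g hg).1) fun h => hne ?_
          have h6 := (hIle (x : G) (h ▸ hx)).2
          rwa [hid] at h6
        have h7 := (inertia_spec hcd A π hker hid (l * ν) (by
          rw [hI]
          exact fun h => not_top_lt (h ▸ hlt))).1
        rw [hI] at h7
        have h8 := Subgroup.index_strictAnti hlt
        omega
      refine MonoidHom.ext fun a => ?_
      have h2 := congrArg (fun f : A →* ℂˣ => f a) hνx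
      have h3 := congrArg (fun f : A →* ℂˣ => f a) (h0S ⟨x, hxS⟩ μ)
      simp only [DegreesPrime.act_apply] at h2 h3 ⊢
      rw [← hνμ, MonoidHom.mul_apply, MonoidHom.mul_apply, h2, h3]
    refine ⟨T, hTn, fun a ha b hb => ?_, hidx⟩
    have hcen : ∀ x : P, (x : G) ∈ T → ∀ r ∈ A, r * x = x * r := fun x hx r hr =>
      Subgroup.mem_centralizer_iff.1 ((DegreesPrime.act_eq_one_iff A hAab _).1
        (MulEquiv.ext fun μ => hfix μ x hx)) r hr
    have key : ∀ g ∈ T, g = (g * (π g : G)⁻¹) * (π g : G) := fun g _ => by group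
    rw [key a ha, key b hb]
    have c1 : Commute (a * (π a : G)⁻¹) (b * (π b : G)⁻¹) := hAab _ (hdec a) _ (hdec b)
    have c2 : Commute (a * (π a : G)⁻¹) (π b : G) := hcen _ ((hmemT b).1 hb) _ (hdec a)
    have c3 : Commute (π a : G) (b * (π b : G)⁻¹) :=
      (hcen _ ((hmemT a).1 ha) _ (hdec b)).symm
    have c4 : Commute (π a : G) (π b : G) :=
      hcommT _ ((hmemT a).1 ha) _ ((hmemT b).1 hb) (π a).2 (π b).2
    exact (c1.mul_right c2).mul_left (c3.mul_right c4)
  -- the complement centralizes `A`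
  push Not at hmov
  right
  have hcen : ∀ g : G, ∀ r ∈ A, r * g = g * r := fun g r hr =>
    Subgroup.mem_centralizer_iff.1 ((DegreesPrime.act_eq_one_iff A hAab _).1
      (MulEquiv.ext fun μ => (DegreesPrime.act_eq_iff A g μ).2 (hmov μ ▸ Subgroup.mem_top _))) r hr
  have hPn : P.Normal := ⟨fun x hx g => by
    have h1 : g = (g * (π g : G)⁻¹) * (π g : G) := by group
    have h2 : (π g : G) * x * (π g : G)⁻¹ ∈ P :=
      P.mul_mem (P.mul_mem (π g).2 hx) (P.inv_mem (π g).2)
    rw [h1]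
    have h3 := hcen ((π g : G) * x * (π g : G)⁻¹) _ (hdec g)
    have h4 : (g * (π g : G)⁻¹) * (π g : G) * x * ((g * (π g : G)⁻¹) * (π g : G))⁻¹ =
        ((g * (π g : G)⁻¹) * ((π g : G) * x * (π g : G)⁻¹)) * (g * (π g : G)⁻¹)⁻¹ := by group
    rw [h4, h3, mul_inv_cancel_right]
    exact h2⟩
  -- `m` is a prime power and `P` is a `p`-group
  obtain ⟨f, hf, hfm⟩ : ∃ f : P → ℂ, Cfsg.IsIrrCharacter P f ∧ f 1 = (m : ℂ) := by
    by_contra! hno
    have hPab : ∀ a b : P, a * b = b * a := abelian_iff_degree_one.2 fun f hf =>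
      (hcdP f hf).resolve_right (hno f hf)
    have hGab : ∀ a b : G, a * b = b * a := fun a b => by
      have c1 : Commute (a * (π a : G)⁻¹) b := hcen b _ (hdec a)
      have c2 : Commute (π a : G) b := by
        have c3 : Commute (π a : G) (b * (π b : G)⁻¹) := (hcen _ _ (hdec b)).symm
        have c4 : Commute (π a : G) (π b : G) := congrArg Subtype.val (hPab (π a) (π b))
        have := c3.mul_right c4
        rwa [inv_mul_cancel_right] at this
      have := c1.mul_left c2
      rwa [inv_mul_cancel_right] at this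
    have h1 := abelian_iff_degree_one.1 hGab χ hχ
    rw [hχm, Nat.cast_eq_one] at h1
    exact hm1 h1
  obtain ⟨p, hp, hpm⟩ := Nat.exists_prime_and_dvd hm1
  haveI := Fact.mk hp
  obtain ⟨R, C, e, hR, hCp, -, -, -⟩ := exists_nilpotent_split (H := P) p
  obtain ⟨α, β, hα, hβ, hfe⟩ := exists_splitChar e hf
  obtain ⟨da, hda0, hda⟩ := IsIrrCharacter.exists_degree hα
  obtain ⟨db, hdb0, hdb⟩ := IsIrrCharacter.exists_degree hβ
  have hprod : da * db = m := by
    rw [hfe, splitChar_one, hda, hdb, ← Nat.cast_mul, Nat.cast_inj] at hfm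
    exact hfm
  have hβ1 : db ≠ m := fun h => hCp
    ((h ▸ hpm : p ∣ db).trans (IsIrrCharacter.degree_dvd_card hβ hdb))
  have hαm : da = m := by
    rcases hcdP _ (isIrr_splitChar e isIrrCharacter_one hβ) with h | h <;>
      rw [splitChar_one, hdb, one_mul] at h
    · rw [Nat.cast_eq_one] at h
      rw [← hprod, h, mul_one]
    · exact absurd (Nat.cast_inj.1 h) hβ1
  obtain ⟨k, hk⟩ := IsPGroup.iff_card.1 hR
  obtain ⟨i, -, hi⟩ := (Nat.dvd_prime_pow hp).1 (hk ▸ IsIrrCharacter.degree_dvd_card hα hda)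
  refine ⟨p, i, hp, hαm ▸ hi, P, A, hPn, hAn, ?_, hAab, ?_, ?_⟩
  · have hPcard : ∀ q : ℕ, q.Prime → q ∣ Nat.card P → q = p := fun q hq hqd => by
      have h1 := hprimes q hq (hP.symm.index_eq_card ▸ hqd)
      rw [← hαm, hi] at h1
      exact (Nat.prime_dvd_prime_iff_eq hq hp).1 (hq.dvd_of_dvd_pow h1)
    exact IsPGroup.of_card (n := (Nat.card P).primeFactorsList.length)
      (Nat.eq_prime_pow_of_unique_prime_dvd Nat.card_pos.ne' fun {d} hd h => hPcard d hd h)
  · rw [inf_comm]; exact disjoint_iff.1 hP.disjoint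
  · rw [sup_comm]; exact hP.sup_eq_top

end CfsgLib.Char.TwoDegreeStructure
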