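import Cfsg.Agent.Char.ZassenhausChars
import Cfsg.Agent.FGSA.ThompsonNil
import Cfsg.Agent.S0740

/-!
# Involutions and the kernel in simple Zassenhaus groups with odd two-point stabilisers
-/

set_option autoImplicit false
set_option linter.style.haveILetI false

namespace CfsgLib.Char

open MulAction

variable {G Ω : Type*} [Group G] [MulAction G Ω] [Fintype Ω]

theorem zass_kernel_conj (hZ : Cfsg.IsZassenhausGroup G Ω) {a : Ω} (H : Subgroup G)
    (hHa : H ≤ stabilizer G a) (hHcard : Nat.card H + 1 = Fintype.card Ω)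
    (hHfix : ∀ u ∈ H, u ≠ 1 → ∀ c : Ω, u • c = c → c = a) {g u : G} (hg : g • a = a)
    (hu : u ∈ H) : g * u * g⁻¹ ∈ H := by
  by_cases h1 : u = 1
  · simp [h1]
  refine zass_mem_kernel hZ H hHa hHcard hHfix ?_ fun c hc => ?_
  · rw [mul_smul, mul_smul, inv_smul_eq_iff.2 hg.symm, show u • a = a from hHa hu, hg]
  · rw [mul_smul, mul_smul] at hc
    have := hHfix u hu h1 _ (eq_inv_smul_iff.2 hc)
    rwa [inv_smul_eq_iff, hg] at this

/-- The Frobenius kernel of a point stabiliser is nilpotent. -/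
theorem zass_kernel_nilpotent [Finite G] (hZ : Cfsg.IsZassenhausGroup G Ω) {a b : Ω} (hab : a ≠ b)
    (H : Subgroup G) (hHa : H ≤ stabilizer G a) (hHcard : Nat.card H + 1 = Fintype.card Ω)
    (hHfix : ∀ u ∈ H, u ≠ 1 → ∀ c : Ω, u • c = c → c = a) : Group.IsNilpotent H := by
  obtain ⟨q, hq, hqd⟩ := Nat.exists_prime_and_dvd (zass_one_lt_card_pair hZ hab).ne'
  haveI : Fact q.Prime := ⟨hq⟩
  obtain ⟨x, hx⟩ := exists_prime_orderOf_dvd_card' (G := ↥(stabilizer G a ⊓ stabilizer G b)) q hqd
  have hxa : (x : G) • a = a := x.2.1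
  have hxb : (x : G) • b = b := x.2.2
  have hxa' : (x : G)⁻¹ • a = a := inv_smul_eq_iff.2 hxa.symm
  let c : MulAut H :=
    { toFun := fun u => ⟨(x : G) * u * (x : G)⁻¹, zass_kernel_conj hZ H hHa hHcard hHfix hxa u.2⟩
      invFun := fun u => ⟨(x : G)⁻¹ * u * x, by
        have := zass_kernel_conj hZ H hHa hHcard hHfix hxa' u.2
        rwa [inv_inv] at this⟩
      left_inv := fun u => Subtype.ext (by simp [mul_assoc])
      right_inv := fun u => Subtype.ext (by simp [mul_assoc])
      map_mul' := fun u v => Subtype.ext (by simp [mul_assoc]) }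
  have hpow : ∀ (i : ℕ) (u : H), (((c ^ i) u : H) : G) = (x : G) ^ i * u * ((x : G) ^ i)⁻¹ := by
    intro i
    induction i with
    | zero => simp
    | succ i ih =>
      intro u
      rw [pow_succ', MulAut.mul_apply]
      show (x : G) * (((c ^ i) u : H) : G) * (x : G)⁻¹ = _
      rw [ih, pow_succ']
      group
  have hxq : (x : G) ^ q = 1 := by
    rw [← SubmonoidClass.coe_pow, ← hx, pow_orderOf_eq_one, OneMemClass.coe_one]
  refine CfsgLib.ThompsonNil.isNilpotent hq c (MulEquiv.ext fun u => Subtype.ext ?_) fun u hu => ?_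
  · rw [hpow, hxq, MulAut.one_apply, inv_one, one_mul, mul_one]
  · by_contra hu1
    have e : (x : G) * u * (x : G)⁻¹ = u := congrArg Subtype.val hu
    have hu1' : (u : G) ≠ 1 := fun h => hu1 (Subtype.ext h)
    have hx1 : (x : G) ≠ 1 := fun h => by
      rw [← Subgroup.orderOf_coe, h, orderOf_one] at hx
      exact hq.one_lt.ne hx
    have hfix : (x : G) • ((u : G) • b) = (u : G) • b := by
      rw [smul_smul, mul_inv_eq_iff_eq_mul.1 e, mul_smul, hxb]
    rcases CfsgLib.Zass.eq_or_eq hZ hab hx1 hxa hxb hfix with h | h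
    · exact hab (smul_left_cancel (u : G) (h.trans (hHa u.2 : (u : G) • a = a).symm)).symm
    · exact hab (hHfix u u.2 hu1' b h).symm

variable [Finite G] [IsSimpleGroup G]

/-- Every element interchanging two points is an involution. -/
theorem zass_swap_orderOf (hZ : Cfsg.IsZassenhausGroup G Ω) {a b : Ω} (hab : a ≠ b)
    (hodd : Odd (Nat.card ↥(stabilizer G a ⊓ stabilizer G b))) {s : G} (hsa : s • a = b)
    (hsb : s • b = a) : orderOf s = 2 := by
  obtain ⟨-, -, hinv⟩ := zass_simple_pair hZ hab hodd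
  have hmem : s * s ∈ stabilizer G a ⊓ stabilizer G b :=
    ⟨show (s * s) • a = a by rw [mul_smul, hsa, hsb], show (s * s) • b = b by rw [mul_smul, hsb, hsa]⟩
  have e := hinv s hsa hsb _ hmem
  rw [show s * (s * s) * s⁻¹ = s * s by group] at e
  have hord : orderOf (⟨_, hmem⟩ : ↥(stabilizer G a ⊓ stabilizer G b)) ∣ 2 :=
    orderOf_dvd_of_pow_eq_one (Subtype.ext (by
      show (s * s) ^ 2 = 1
      rw [sq]
      exact mul_eq_one_iff_eq_inv.2 e))
  have h1 : s * s = 1 := congrArg Subtype.val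
    (orderOf_eq_one_iff.1 (Nat.eq_one_of_dvd_coprimes hodd.coprime_two_left hord (orderOf_dvd_natCard _)))
  exact orderOf_eq_prime (by rw [sq, h1]) fun h => hab (by rw [← hsa, h, one_smul])

/-- Two involutions are conjugate. -/
theorem zass_isConj_involutions (hZ : Cfsg.IsZassenhausGroup G Ω) {a b : Ω} (hab : a ≠ b)
    (hodd : Odd (Nat.card ↥(stabilizer G a ⊓ stabilizer G b))) {x y : G} (hx : orderOf x = 2)
    (hy : orderOf y = 2) : IsConj x y := by
  haveI := hZ.1
  have hmove : ∀ z : G, orderOf z = 2 → ∃ g : G, (g * z * g⁻¹) • a = b ∧ (g * z * g⁻¹) • b = a := by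
    intro z hz
    obtain ⟨c, hc⟩ : ∃ c : Ω, z • c ≠ c := by
      by_contra h
      push Not at h
      have : z = 1 := eq_of_smul_eq_smul (α := Ω) fun c => by rw [h, one_smul]
      rw [this, orderOf_one] at hz
      omega
    obtain ⟨g, hgc, hgd⟩ := CfsgLib.Zass.two_trans hZ hc.symm hab
    have hzz : z • z • c = c := by rw [smul_smul, ← sq, ← hz, pow_orderOf_eq_one, one_smul]
    exact ⟨g, by rw [mul_smul, mul_smul, inv_smul_eq_iff.2 hgc.symm, hgd],
      by rw [mul_smul, mul_smul, inv_smul_eq_iff.2 hgd.symm, hzz, hgc]⟩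
  obtain ⟨g, hg1, hg2⟩ := hmove x hx
  obtain ⟨k, hk1, hk2⟩ := hmove y hy
  refine (isConj_iff.2 ⟨g, rfl⟩).trans (IsConj.trans ?_ (isConj_iff.2 ⟨k, rfl⟩).symm)
  obtain ⟨-, -, hinv⟩ := zass_simple_pair hZ hab hodd
  set u := g * x * g⁻¹
  set v := k * y * k⁻¹
  have hmem : u⁻¹ * v ∈ stabilizer G a ⊓ stabilizer G b :=
    ⟨show (u⁻¹ * v) • a = a by rw [mul_smul, hk1, inv_smul_eq_iff, hg1],
      show (u⁻¹ * v) • b = b by rw [mul_smul, hk2, inv_smul_eq_iff, hg2]⟩
  obtain ⟨r, hr⟩ := hodd
  have hpow : (u⁻¹ * v) ^ (2 * r + 1) = 1 := by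
    rw [← hr]
    exact congrArg Subtype.val
      (pow_card_eq_one' (x := (⟨_, hmem⟩ : ↥(stabilizer G a ⊓ stabilizer G b))))
  set m := (u⁻¹ * v) ^ (r + 1) with hm
  have hkk : m * m = u⁻¹ * v := by
    rw [hm, ← pow_add, show r + 1 + (r + 1) = 2 * r + 1 + 1 by omega, pow_succ, hpow, one_mul]
  have e := hinv u hg1 hg2 m (pow_mem hmem _)
  refine isConj_iff.2 ⟨m⁻¹, ?_⟩
  calc m⁻¹ * u * m⁻¹⁻¹ = u * m * u⁻¹ * u * m := by rw [e, inv_inv]
    _ = u * (m * m) := by group
    _ = v := by rw [hkk, mul_inv_cancel_left]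

/-- The involutions are counted by the pairs they interchange. -/
theorem zass_card_involutions [DecidableEq Ω] (hZ : Cfsg.IsZassenhausGroup G Ω) {a b : Ω} (hab : a ≠ b)
    (hodd : Odd (Nat.card ↥(stabilizer G a ⊓ stabilizer G b))) :
    Nat.card {x : G // orderOf x = 2} *
        (if Odd (Fintype.card Ω) then Fintype.card Ω - 1 else Fintype.card Ω) =
      Fintype.card Ω * (Fintype.card Ω - 1) * Nat.card ↥(stabilizer G a ⊓ stabilizer G b) := by
  classical
  haveI := Fintype.ofFinite G
  haveI := hZ.1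
  set I := Finset.univ.filter fun x : G => orderOf x = 2 with hI
  have hIc : Nat.card {x : G // orderOf x = 2} = I.card := by
    rw [Nat.card_eq_fintype_card, Fintype.card_subtype]
  have hodd' : ∀ c d : Ω, c ≠ d → Odd (Nat.card ↥(stabilizer G c ⊓ stabilizer G d)) := fun c d h => by
    rwa [CfsgLib.Zass.card_pair hZ hab h]
  have hmv : ∀ x ∈ I, (Finset.univ.filter fun c : Ω => x • c ≠ c).card =
      if Odd (Fintype.card Ω) then Fintype.card Ω - 1 else Fintype.card Ω := by
    intro x hx
    simp only [hI, Finset.mem_filter, Finset.mem_univ, true_and] at hx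
    obtain ⟨c, hc⟩ : ∃ c : Ω, x • c ≠ c := by
      by_contra h
      push Not at h
      have : x = 1 := eq_of_smul_eq_smul (α := Ω) fun c => by rw [h, one_smul]
      rw [this, orderOf_one] at hx
      omega
    have hxx : x • x • c = c := by rw [smul_smul, ← sq, ← hx, pow_orderOf_eq_one, one_smul]
    have hfix := (Cfsg.Agent.S0740.result hZ (Ne.symm hc)).2.1 x hx rfl hxx
    have hle1 : Nat.card (fixedBy Ω x) ≤ 1 := by
      by_contra h
      rw [Nat.card_eq_fintype_card, not_le, Fintype.one_lt_card_iff] at h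
      obtain ⟨⟨p, hp⟩, ⟨q, hq⟩, hpq⟩ := h
      have hne : p ≠ q := fun e => hpq (Subtype.ext e)
      obtain ⟨r, hr⟩ := hodd' p q hne
      have hd : orderOf x ∣ Nat.card ↥(stabilizer G p ⊓ stabilizer G q) :=
        Subgroup.orderOf_dvd_natCard _ ⟨hp, hq⟩
      rw [hx, hr] at hd
      omega
    rw [Finset.filter_not, ← Finset.compl_eq_univ_sdiff, Finset.card_compl, ← Fintype.card_subtype,
      ← Nat.card_eq_fintype_card (α := {c : Ω // x • c = c}), show Nat.card {c : Ω // x • c = c} = Nat.card (fixedBy Ω x) from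
        Nat.card_congr (Equiv.refl _)]
    split
    · rename_i ho
      rw [hfix.1 ho]
    · rename_i ho
      rcases hfix.2 (Nat.not_odd_iff_even.1 ho) with h | h
      · rw [h, Nat.sub_zero]
      · omega
  have hfib : ∀ c : Ω, (I.filter fun x => x • c ≠ c).card =
      (Fintype.card Ω - 1) * Nat.card ↥(stabilizer G a ⊓ stabilizer G b) := by
    intro c
    rw [Finset.card_eq_sum_card_fiberwise (f := fun x => x • c) (t := Finset.univ.erase c)
      fun x hx => Finset.mem_erase.2 ⟨(Finset.mem_filter.1 hx).2, Finset.mem_univ _⟩,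
      Finset.sum_congr rfl (g := fun _ => Nat.card ↥(stabilizer G a ⊓ stabilizer G b)),
      Finset.sum_const, Finset.card_erase_of_mem (Finset.mem_univ c), Finset.card_univ, smul_eq_mul]
    intro d hd
    have hdc := Finset.ne_of_mem_erase hd
    rw [← Fintype.card_coe, ← Nat.card_eq_fintype_card, ← CfsgLib.Zass.card_pair hZ hab hdc.symm]
    obtain ⟨s, hs, hsc, hsd⟩ := (Cfsg.Agent.S0740.result hZ hdc.symm).1
    have hmemI : ∀ x : G, x • c = d → x • d = c →
        x ∈ ((I.filter fun x => x • c ≠ c).filter fun x => x • c = d) := fun x h1 h2 => by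
      simp only [hI, Finset.mem_filter, Finset.mem_univ, true_and]
      exact ⟨⟨zass_swap_orderOf hZ hdc.symm (hodd' c d hdc.symm) h1 h2, by rw [h1]; exact hdc⟩, h1⟩
    have hswap : ∀ x ∈ ((I.filter fun x => x • c ≠ c).filter fun x => x • c = d),
        x • c = d ∧ x • d = c := by
      intro x hx
      simp only [hI, Finset.mem_filter, Finset.mem_univ, true_and] at hx
      refine ⟨hx.2, ?_⟩
      rw [← hx.2, smul_smul, ← sq, ← hx.1.1, pow_orderOf_eq_one, one_smul]
    refine Nat.card_congr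
      { toFun := fun x => ⟨s⁻¹ * x.1,
          show (s⁻¹ * x.1) • c = c by rw [mul_smul, (hswap _ x.2).1, inv_smul_eq_iff, hsc],
          show (s⁻¹ * x.1) • d = d by rw [mul_smul, (hswap _ x.2).2, inv_smul_eq_iff, hsd]⟩
        invFun := fun h => ⟨s * (h : G), hmemI _
          (by rw [mul_smul, show (h : G) • c = c from h.2.1, hsc])
          (by rw [mul_smul, show (h : G) • d = d from h.2.2, hsd])⟩
        left_inv := fun x => Subtype.ext (mul_inv_cancel_left _ _)
        right_inv := fun h => Subtype.ext (inv_mul_cancel_left _ _) }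
  have hdc : ∑ x ∈ I, (Finset.univ.filter fun c : Ω => x • c ≠ c).card =
      ∑ c : Ω, (I.filter fun x => x • c ≠ c).card := by
    simp only [Finset.card_filter]
    exact Finset.sum_comm
  rw [Finset.sum_congr rfl hmv, Finset.sum_congr rfl fun c _ => hfib c, Finset.sum_const,
    Finset.sum_const, Finset.card_univ, smul_eq_mul, smul_eq_mul, ← mul_assoc] at hdc
  rw [hIc]
  exact hdc

/-- A non-identity kernel element that is a product of two involutions is an involution. -/
theorem zass_kernel_strongly_real (hZ : Cfsg.IsZassenhausGroup G Ω) {a b : Ω} (hab : a ≠ b)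
    (hodd : Odd (Nat.card ↥(stabilizer G a ⊓ stabilizer G b))) (H : Subgroup G)
    (hHa : H ≤ stabilizer G a) (hHcard : Nat.card H + 1 = Fintype.card Ω)
    (hHfix : ∀ u ∈ H, u ≠ 1 → ∀ c : Ω, u • c = c → c = a) {u x y : G} (hu : u ∈ H) (hu1 : u ≠ 1)
    (hx : orderOf x = 2) (hy : orderOf y = 2) (hxy : x * y = u) : orderOf u = 2 := by
  classical
  have hxi : x⁻¹ = x := inv_eq_of_mul_eq_one_left (by rw [← sq, ← hx, pow_orderOf_eq_one])
  have hyi : y⁻¹ = y := inv_eq_of_mul_eq_one_left (by rw [← sq, ← hy, pow_orderOf_eq_one])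
  have hfixpt : ∀ z : G, orderOf z = 2 → z • a = a → z ∈ H := by
    intro z hz hza
    refine zass_mem_kernel hZ H hHa hHcard hHfix hza fun c hc => ?_
    by_contra hca
    obtain ⟨r, hr⟩ := hodd
    have hd : orderOf z ∣ Nat.card ↥(stabilizer G a ⊓ stabilizer G c) :=
      Subgroup.orderOf_dvd_natCard _ ⟨hza, hc⟩
    rw [hz, CfsgLib.Zass.card_pair hZ hab (Ne.symm hca), hr] at hd
    omega
  have hxa : x • a = a := by
    refine hHfix u hu hu1 (x • a) ?_
    have hinv : x * u⁻¹ * x⁻¹ = u := by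
      rw [← hxy, mul_inv_rev, hyi, hxi]
      rw [show x * (y * x) * x = x * y * (x * x) by group,
        show x * x = 1 by rw [← sq, ← hx, pow_orderOf_eq_one], mul_one]
    conv_lhs => rw [← hinv]
    rw [mul_smul, mul_smul, inv_smul_smul, show u⁻¹ • a = a from hHa (inv_mem hu)]
  have hxH : x ∈ H := hfixpt x hx hxa
  have hyH : y ∈ H := by
    rw [show y = x⁻¹ * u by rw [← hxy, inv_mul_cancel_left]]
    exact mul_mem (inv_mem hxH) hu
  -- the involutions of the kernel are central
  haveI := zass_kernel_nilpotent hZ hab H hHa hHcard hHfix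
  haveI : Fact (Nat.Prime 2) := ⟨Nat.prime_two⟩
  obtain ⟨P⟩ := (inferInstance : Nonempty (Sylow 2 H))
  have hxH' : orderOf (⟨x, hxH⟩ : H) = 2 := by rw [← Subgroup.orderOf_coe]; exact hx
  have hPnt : Nontrivial (P : Subgroup H) := by
    rw [Subgroup.nontrivial_iff_ne_bot]
    refine P.ne_bot_of_dvd_card ?_
    rw [← hxH']
    exact orderOf_dvd_natCard _
  haveI := hPnt
  obtain ⟨z, hz⟩ : ∃ z : Subgroup.center ↥(P : Subgroup H), orderOf z = 2 := by
    have := P.isPGroup'.center_nontrivial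
    obtain ⟨k, hk⟩ := (P.isPGroup'.to_subgroup (Subgroup.center ↥(P : Subgroup H))).exists_card_eq
    have hk0 : k ≠ 0 := by
      rintro rfl
      have := Finite.one_lt_card (α := Subgroup.center ↥(P : Subgroup H))
      rw [hk, pow_zero] at this
      omega
    exact exists_prime_orderOf_dvd_card' 2 (hk ▸ dvd_pow_self 2 hk0)
  set w : H := ((z : ↥(P : Subgroup H)) : H) with hw
  have hwcen : ∀ v : H, Commute w v := by
    haveI hPn : ∀ q : ℕ, ∀ Q : Sylow q H, Fact q.Prime → (Q : Subgroup H).Normal := fun q Q _ =>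
      Sylow.normal_of_normalizerCondition Group.normalizerCondition_of_isNilpotent Q
    intro v
    by_contra hnc
    have htop : Subgroup.centralizer ({w} : Set H) = ⊤ := by
      rw [← Subgroup.index_eq_one]
      by_contra hidx
      obtain ⟨q, hq, hqd⟩ := Nat.exists_prime_and_dvd hidx
      haveI : Fact q.Prime := ⟨hq⟩
      obtain ⟨Q⟩ := (inferInstance : Nonempty (Sylow q H))
      refine Q.not_dvd_index (hqd.trans (Subgroup.index_dvd_of_le fun t ht => ?_))
      rw [Subgroup.mem_centralizer_singleton_iff]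
      by_cases hq2 : q = 2
      · subst hq2
        haveI := hPn 2 P inferInstance
        haveI : Subsingleton (Sylow 2 H) := (Sylow.unique_of_normal P inferInstance).instSubsingleton
        rw [Subsingleton.elim Q P] at ht
        exact congrArg Subtype.val (Subgroup.mem_center_iff.1 z.2 ⟨t, ht⟩)
      · haveI := hPn 2 P inferInstance
        haveI := hPn q Q inferInstance
        have hdis : Disjoint (Q : Subgroup H) (P : Subgroup H) :=
          IsPGroup.disjoint_of_ne q 2 hq2 _ _ Q.isPGroup' P.isPGroup'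
        exact Subgroup.commute_of_normal_of_disjoint _ _ inferInstance inferInstance hdis t w ht
          (z : ↥(P : Subgroup H)).2
    exact hnc (Subgroup.mem_centralizer_singleton_iff.1 (htop ▸ Subgroup.mem_top v)).symm
  have hwG : orderOf (w : G) = 2 := by
    rw [Subgroup.orderOf_coe, hw, Subgroup.orderOf_coe, Subgroup.orderOf_coe, hz]
  obtain ⟨g, hg⟩ := isConj_iff.1 (zass_isConj_involutions hZ hab hodd hwG hx)
  have hga : g • a = a := by
    refine hHfix x hxH (fun h => by rw [h, orderOf_one] at hx; omega) (g • a) ?_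
    rw [← hg, mul_smul, mul_smul, inv_smul_smul, show (w : G) • a = a from hHa w.2]
  have hgy : g⁻¹ * y * g ∈ H := by
    have := zass_kernel_conj hZ H hHa hHcard hHfix (inv_smul_eq_iff.2 hga.symm) hyH
    rwa [inv_inv] at this
  have hc : (w : G) * (g⁻¹ * y * g) = g⁻¹ * y * g * w := congrArg Subtype.val (hwcen ⟨_, hgy⟩).eq
  have hcomm : Commute x y := by
    show x * y = y * x
    rw [← hg]
    calc g * (w : G) * g⁻¹ * y = g * ((w : G) * (g⁻¹ * y * g)) * g⁻¹ := by group
      _ = g * (g⁻¹ * y * g * w) * g⁻¹ := by rw [hc]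
      _ = y * (g * (w : G) * g⁻¹) := by group
  refine orderOf_eq_prime ?_ hu1
  rw [← hxy, hcomm.mul_pow, sq, sq]
  conv_lhs => rw [show x * x = 1 by rw [← sq, ← hx, pow_orderOf_eq_one],
    show y * y = 1 by rw [← sq, ← hy, pow_orderOf_eq_one], one_mul]

end CfsgLib.Char
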